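import Cfsg.Agent.E8A.TwoH.Lie_m3
import Cfsg.Agent.E8A.Two.Wcj
import Cfsg.Agent.ChevalleyStructure.JacAll
import Cfsg.Agent.ChevFast.E8
import Cfsg.Agent.Lib.FinFast
import Cfsg.Agent.H994.TwoGen.Chain
import Cfsg.Agent.Lib.AltCarmichael
import Cfsg.Agent.R2.T1.T2p.Msk
import Cfsg.Agent.R2.T1.N7.Grp_m3
import Cfsg.Agent.Lib.ListFast
import Cfsg.Agent.R2.PX.W.Cl_m3
import Cfsg.Agent.E8A.Fix.Main_m3
import Cfsg.Agent.FastGrp
import Cfsg.Agent.Prune
set_option linter.all false

section
prune_inst 0xfdedfabbbcb1dfdfff7e77ae9adffc39901fffe6dff943ffe061ff0b9f038009c56b8d8be010fe1e77e21410387813f97eefffe86bd87ff3fd1ff41ffbee4fe5f73508519488340f380ffe03e0778e7f3fffffffffdfffffffffffffffffaeffbfffffffff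

-- part: E8A/C63/Iface
section
prune_inst 0x7f0000000000000000000000000000000000000000000000000000000000000000000000000000000000000000000000000000000000000000000000000000000000000000000000000000000000000000000000000020000000000000000000000000000000
set_option linter.all false
open scoped Cfsg.Agent.FastGrp

/-!
# `A₆` in characteristic 3: definitions and boxes (helper13)

The proof and the proofs of the boxes are in `notes/E8A/c63.md`.
-/

set_option autoImplicit false
set_option maxRecDepth 100000

namespace Cfsg.Agent.E8A.C63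

open Cfsg Cfsg.Lie Module
open Cfsg.Agent.H952.F4 (MaxAlt ev)
open Cfsg.Agent.H288.E8L (Q8 wt)
open Cfsg.Agent.Tits.Roots (sr)
open Cfsg.Agent.E8A.Kem (St Ge nrm)
open Cfsg.Agent.E8A.Par (KS Opt)
open Cfsg.Agent.E8A.Reg5.Cls (ex)

universe u

/-! ### the group -/

/-- `(0 1 2)` -/
def uu : Alt 6 := ⟨⟨![1, 2, 0, 3, 4, 5], ![2, 0, 1, 3, 4, 5], by decide, by decide⟩, by
  rw [Equiv.Perm.mem_alternatingGroup]; decide⟩

/-- `(0 3)(1 4 2 5)` -/
def yy : Alt 6 := ⟨⟨![3, 4, 5, 0, 2, 1], ![3, 5, 4, 0, 1, 2], by decide, by decide⟩, by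
  rw [Equiv.Perm.mem_alternatingGroup]; decide⟩

/-- `(0 3)(1 2)` -/
def dd : Alt 6 := ⟨⟨![3, 2, 1, 0, 4, 5], ![3, 2, 1, 0, 4, 5], by decide, by decide⟩, by
  rw [Equiv.Perm.mem_alternatingGroup]; decide⟩

/-- `(0 1)(2 3)` -/
def v1 : Alt 6 := ⟨⟨![1, 0, 3, 2, 4, 5], ![1, 0, 3, 2, 4, 5], by decide, by decide⟩, by
  rw [Equiv.Perm.mem_alternatingGroup]; decide⟩

/-- `(0 2)(1 3)` -/
def v2 : Alt 6 := ⟨⟨![2, 3, 0, 1, 4, 5], ![2, 3, 0, 1, 4, 5], by decide, by decide⟩, by
  rw [Equiv.Perm.mem_alternatingGroup]; decide⟩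

section Mod

variable {K : Type u} [Field K] {V : Type u} [AddCommGroup V] [Module K V]

/-- invariant subspaces -/
def InvR (ρ : Representation K (Alt 6) V) (U : Submodule K V) : Prop := ∀ a, ∀ v ∈ U, ρ a v ∈ U

/-- the three-dimensional modules -/
structure T3 (ρ : Representation K (Alt 6) V) (ι : K) (e h f : V) : Prop where
  sq : ι * ι = -1
  ue : ρ uu e = e
  uh : ρ uu h = h + e
  uf : ρ uu f = f + h - e
  ye : ρ yy e = ι • e
  yh : ρ yy h = h
  yf : ρ yy f = -ι • f
  de : ρ dd e = -f
  dh : ρ dd h = -h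
  df : ρ dd f = -e

/-- the four-dimensional module: `r i j` is the image of `e_i - e_j` -/
structure T4 (ρ : Representation K (Alt 6) V) (r : Fin 6 → Fin 6 → V) : Prop where
  act : ∀ (a : Alt 6) (i j : Fin 6), ρ a (r i j) = r ((a : Equiv.Perm (Fin 6)) i) ((a : Equiv.Perm (Fin 6)) j)
  add : ∀ i j k, r i j + r j k = r i k
  sum : ∀ i, ∑ j, r i j = 0

end Mod

/-- **GEN**: generators -/
def GEN : Prop := Subgroup.closure {uu, yy, dd} = ⊤

/-- **MOD**: the simple modules -/
def MOD : Prop := ∀ (K : Type u) [Field K] [IsAlgClosed K] [CharP K 3] (V : Type u) [AddCommGroup V] [Module K V]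
  [FiniteDimensional K V] (ρ : Representation K (Alt 6) V) (U : Submodule K V), U ≠ ⊥ → InvR ρ U →
  (∃ v ∈ U, v ≠ 0 ∧ ∀ a, ρ a v = v) ∨ (∃ ι e h f, T3 ρ ι e h f ∧ e ≠ 0 ∧ e ∈ U ∧ h ∈ U ∧ f ∈ U) ∨
  (∃ r, T4 ρ r ∧ r 0 1 ≠ 0 ∧ ∀ i j, r i j ∈ U) ∨
  (∃ U' ≤ U, InvR ρ U' ∧ finrank K ↥U' = 9 ∧ ∃ x ∈ U', x ≠ 0 ∧ ρ v1 x = x ∧ ρ v2 x = x)

/-- **T3B**: the three-dimensional modules are simple -/
def T3B : Prop := ∀ (K : Type u) [Field K] [CharP K 3] (V : Type u) [AddCommGroup V] [Module K V]
  (ρ : Representation K (Alt 6) V) (ι : K) (e h f : V), T3 ρ ι e h f → e ≠ 0 →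
  LinearIndependent K ![e, h, f] ∧ InvR ρ (Submodule.span K {e, h, f}) ∧
  ∀ U ≤ Submodule.span K {e, h, f}, U ≠ ⊥ → InvR ρ U → U = Submodule.span K {e, h, f}

/-- **T4B**: the four-dimensional module is simple -/
def T4B : Prop := ∀ (K : Type u) [Field K] [CharP K 3] (V : Type u) [AddCommGroup V] [Module K V]
  (ρ : Representation K (Alt 6) V) (r : Fin 6 → Fin 6 → V), T4 ρ r → r 0 1 ≠ 0 →
  LinearIndependent K ![r 0 1, r 0 2, r 0 3, r 0 4] ∧
  (∀ i j, r i j ∈ Submodule.span K {r 0 1, r 0 2, r 0 3, r 0 4}) ∧ InvR ρ (Submodule.span K {r 0 1, r 0 2, r 0 3, r 0 4}) ∧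
  ∀ U ≤ Submodule.span K {r 0 1, r 0 2, r 0 3, r 0 4}, U ≠ ⊥ → InvR ρ U →
    U = Submodule.span K {r 0 1, r 0 2, r 0 3, r 0 4}

/-- **ALG**: a commutative algebra has an idempotent or an element of square zero -/
def ALG : Prop := ∀ (K : Type u) [Field K] [IsAlgClosed K] (M : Type u) [AddCommGroup M] [Module K M]
  [FiniteDimensional K M] [Nontrivial M] (B : M →ₗ[K] M →ₗ[K] M), ∃ v, v ≠ 0 ∧ (B v v = 0 ∨ B v v = v)

/-! ### the Lie algebra -/

section Lie

variable {K : Type u} [Field K]

/-- the representation on the Lie algebra -/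
noncomputable abbrev rp (ψ : Alt 6 →* G8 K) : Representation K (Alt 6) (L8 K) := (LK K).comp ψ

/-- conjugates -/
def cj (g : G8 K) (ψ : Alt 6 →* G8 K) : Alt 6 →* G8 K := (MulAut.conj g).toMonoidHom.comp ψ

/-- invariant subspaces -/
def Inv (ψ : Alt 6 →* G8 K) (U : Submodule K (L8 K)) : Prop := ∀ a, ∀ v ∈ U, act (ψ a) v ∈ U

/-- cube zero -/
def Cz (x : L8 K) : Prop := adm x ^ 3 = 0

/-- toral -/
def Tor (x : L8 K) : Prop := adm x ^ 3 = adm x

/-- abelian -/
def Ab (U : Submodule K (L8 K)) : Prop := ∀ x ∈ U, ∀ y ∈ U, br x y = 0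

/-- subalgebra -/
def Sa (U : Submodule K (L8 K)) : Prop := ∀ x ∈ U, ∀ y ∈ U, br x y ∈ U

/-- restricted subalgebra -/
def PCl (U : Submodule K (L8 K)) : Prop := Sa U ∧ ∀ x ∈ U, ∀ y, adm y = adm x ^ 3 → y ∈ U

/-- centralizer -/
def cen (S : Set (L8 K)) : Submodule K (L8 K) where
  carrier := {v | ∀ s ∈ S, br s v = 0}
  zero_mem' := fun _ _ => Matrix.mulVec_zero _
  add_mem' := fun {a b} ha hb s hs => by rw [br_add_right, ha s hs, hb s hs, add_zero]
  smul_mem' := fun c a ha s hs => by rw [br_smul_right, ha s hs, smul_zero]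

/-- dimension of the centralizer -/
noncomputable def cd (x : L8 K) : ℕ := finrank K ↥(cen {x})

/-- dimension of the fixed space -/
noncomputable def fd (g : G8 K) : ℕ := ev (LK K g) 1

/-- the relations of `sl₂` -/
structure Sl2 (e h f : L8 K) : Prop where
  he : br h e = (2 : K) • e
  hf : br h f = (-2 : K) • f
  ef : br e f = h

/-- restricted `sl₂` -/
structure RS (e h f : L8 K) : Prop extends Sl2 e h f where
  ce : Cz e
  cf : Cz f
  th : Tor h

/-- the graded pieces -/
def Eq' (lam : Q8 →+ ℝ) (c : ℝ) : Set Q8 := {a | lam a = c}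

/-- the component of degree `c` -/
noncomputable def pr (lam : Q8 →+ ℝ) (c : ℝ) (v : L8 K) : L8 K :=
  fun i => haveI := Classical.propDecidable (lam (wt i) = c); if lam (wt i) = c then v i else 0

/-- the integral cocharacter with labels `y` -/
noncomputable def cl (y : Q8) : Q8 →+ ℝ where
  toFun a := (ex y a : ℝ)
  map_zero' := by rw [Reg5.Cls.ex_zero]; simp
  map_add' a b := by simp [ex, add_mul, Finset.sum_add_distrib]

/-- sixty times the invariant form -/
noncomputable def B2 (l₁ l₂ : Q8 →+ ℝ) : ℝ := ∑ i : chevE8.Idx, l₁ (wt i) * l₂ (wt i)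

/-- the pairs which push `b i` into degree at least `d i` -/
def Dp {ι : Type} (b : ι → L8 K) (d : ι → ℝ) (g : G8 K) (lam : Q8 →+ ℝ) : Prop := ∀ i, act g (b i) ∈ LS K (Ge lam (d i))

/-- the same filtration -/
def SameF (g₁ : G8 K) (l₁ : Q8 →+ ℝ) (g₂ : G8 K) (l₂ : Q8 →+ ℝ) : Prop :=
  ∀ (c : ℝ) (v : L8 K), act g₁ v ∈ LS K (Ge l₁ c) ↔ act g₂ v ∈ LS K (Ge l₂ c)

/-- in no proper parabolic subgroup -/
def NoPar (ψ : Alt 6 →* G8 K) : Prop := ∀ (g : G8 K) (lam : Q8 →+ ℝ), lam ≠ 0 → (∀ a, g * ψ a * g⁻¹ ∈ St K lam) → False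

/-- the standing hypotheses -/
structure Ctx (ψ : Alt 6 →* G8 K) : Prop where
  fx : NoFx ψ
  par : NoPar ψ
  d2 : ∀ a, orderOf a = 2 → fd (ψ a) = 120
  d4 : fd (ψ yy) = 60 ∨ fd (ψ yy) = 64

variable (K) in
/-- the Levi subalgebra of type `D₄` -/
def YD : Submodule K (L8 K) := LS K {a | a 0 = 0 ∧ a 5 = 0 ∧ a 6 = 0 ∧ a 7 = 0}

variable (K) in
/-- the Levi subalgebra of type `A₄` -/
def YA : Submodule K (L8 K) := LS K {a | a 4 = 0 ∧ a 5 = 0 ∧ a 6 = 0 ∧ a 7 = 0}

/-- an invariant subalgebra inside a Levi subalgebra of type `D₄` -/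
def LowEnd (ψ : Alt 6 →* G8 K) : Prop :=
  ∃ (g : G8 K) (C : Submodule K (L8 K)), C ≠ ⊥ ∧ Inv ψ C ∧ Sa C ∧ ∀ x ∈ C, act g x ∈ YD K

/-! ### the eleven classes -/

/-- the simple roots of the classes `A₁, 2A₁, 3A₁, A₂, 4A₁, A₂A₁, A₂2A₁, A₂3A₁, 2A₂, 2A₂A₁, 2A₂2A₁` -/
def SS : Fin 11 → List (Fin 8) :=
  ![[7], [7, 5], [7, 5, 1], [7, 6], [7, 5, 1, 0], [7, 6, 1], [7, 6, 1, 0], [0, 2, 1, 4, 6], [0, 2, 4, 5], [0, 2, 4, 5, 7],
    [0, 2, 4, 5, 7, 1]]

/-- the labels of their cocharacters -/
def lab : Fin 11 → Q8 :=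
  ![![0, 0, 0, 0, 0, 0, -1, 2], ![0, 0, 0, 0, -1, 2, -2, 2], ![0, 2, 0, -1, -1, 2, -2, 2], ![0, 0, 0, 0, 0, -2, 2, 2],
    ![2, 2, -1, -1, -1, 2, -2, 2], ![0, 2, 0, -1, 0, -2, 2, 2], ![2, 2, -1, -1, 0, -2, 2, 2], ![2, 2, 2, -4, 2, -2, 2, -1],
    ![2, 0, 2, -4, 2, 2, -2, 0], ![2, 0, 2, -4, 2, 2, -3, 2], ![2, 2, 2, -5, 2, 2, -3, 2]]

/-- the labels of the exotic cocharacters (classes 9 and 10; norms 24 and 26) -/
def labx (c : Fin 11) : Q8 := lab c + sr 6

/-- the norms -/
def nrc : Fin 11 → ℕ := ![2, 4, 6, 8, 8, 10, 12, 14, 16, 18, 20]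

/-- the dimensions of the centralizers -/
def cdc : Fin 11 → ℕ := ![190, 156, 136, 134, 120, 112, 102, 94, 92, 88, 84]

variable (K) in
/-- the representatives -/
def ec (c : Fin 11) : L8 K := fun j => if wt j ∈ (SS c).map (sr : Fin 8 → Q8) then 1 else 0

/-- `h` is the toral element of the cocharacter with labels `y` -/
def IsH (y : Q8) (h : L8 K) : Prop := InT h ∧ ∀ a, rl h a = ((ex y a : ℤ) : K)

variable (K) in
/-- the part of degree `-1` of the centralizer -/
def KK (c : Fin 11) : Submodule K (L8 K) := cen {ec K c} ⊓ LS K (Eq' (cl (lab c)) (-1))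

end Lie

/-! ### boxes: optimal cocharacters -/

/-- **KSD** -/
def KSD : Prop := ∀ (K : Type u) [Field K] (ι : Type) [Finite ι] (b : ι → L8 K) (d : ι → ℝ), KS (Dp b d)

/-- **NRM** -/
def NRM : Prop := (∃ c : ℝ, 0 < c ∧ ∀ lam, nrm lam = c * B2 lam lam) ∧ ∀ y : Q8, B2 (cl y) (cl y) = 60 * (Two.nm y : ℝ)

/-- **CANF**: the optimal filtration is canonical -/
def CANF : Prop := ∀ (K : Type u) [Field K] (D : G8 K → (Q8 →+ ℝ) → Prop), KS D → ∀ g₁ l₁ g₂ l₂,
  Opt D g₁ l₁ → Opt D g₂ l₂ → SameF g₁ l₁ g₂ l₂

/-- **APT**: common apartments -/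
def APT : Prop := ∀ (K : Type u) [Field K] (g₁ g₂ : G8 K) (l₁ l₂ : Q8 →+ ℝ), ∃ g m₁ m₂, nrm m₁ = nrm l₁ ∧ nrm m₂ = nrm l₂ ∧
  SameF g m₁ g₁ l₁ ∧ SameF g m₂ g₂ l₂

/-- **TRANS**: transfer of a grading -/
def TRANS : Prop := ∀ (K : Type u) [Field K] (g g₁ : G8 K) (ν l : Q8 →+ ℝ), SameF g ν g₁ l → ∃ g' : G8 K,
  ∀ (c : ℝ) (v : L8 K), act g v ∈ LS K (Eq' ν c) → act g' v = pr l c (act g₁ v)

/-- **KB**: an invariant subspace has degree at most zero -/
def KB : Prop := ∀ (K : Type u) [Field K] (ψ : Alt 6 →* G8 K), NoPar ψ → ∀ (ι : Type) [Fintype ι] (b : ι → L8 K) (d : ι → ℝ),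
  LinearIndependent K b → Inv ψ (Submodule.span K (Set.range b)) → ∀ g lam, Dp b d g lam → ∑ i, d i ≤ 0

/-- **GRADE**: two opposite filtrations of an invariant subspace come from a grading -/
def GRADE : Prop := ∀ (K : Type u) [Field K] (ψ : Alt 6 →* G8 K), NoPar ψ → ∀ (ι : Type) [Fintype ι] (b : ι → L8 K)
  (d : ι → ℝ), Inv ψ (Submodule.span K (Set.range b)) → (∃ g lam, Dp b d g lam) → (∃ g lam, Dp b (-d) g lam) →
  ∃ g ν, Opt (Dp b d) g ν ∧ Opt (Dp b (-d)) g (-ν) ∧ (∀ i, act g (b i) ∈ LS K (Eq' ν (d i))) ∧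
    ∀ a : Q8 →+ ℝ, Dp b 0 g a → B2 a ν = 0

/-! ### boxes: toral elements -/

/-- **TORL** -/
def TORL : Prop := ∀ (K : Type u) [Field K] [IsAlgClosed K] [CharP K 3] (S : Set (L8 K)), (∀ x ∈ S, Tor x) →
  (∀ x ∈ S, ∀ y ∈ S, br x y = 0) → ∃ g : G8 K, ∀ x ∈ S, InT (act g x)

/-- **TORV**: inside a Levi subgroup -/
def TORV : Prop := ∀ (K : Type u) [Field K] [IsAlgClosed K] [CharP K 3] (ν : Q8 →+ ℝ) (h : L8 K), Tor h →
  h ∈ LS K (Eq' ν 0) → ∃ l : G8 K, (∀ c v, act l v ∈ LS K (Eq' ν c) ↔ v ∈ LS K (Eq' ν c)) ∧ InT (act l h)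

/-- **NOTOR**: no invariant toral subalgebra -/
def NOTOR : Prop := ∀ (K : Type u) [Field K] [IsAlgClosed K] [CharP K 3] (ψ : Alt 6 →* G8 K), Ctx ψ →
  ∀ (g : G8 K) (U : Submodule K (L8 K)), U ≠ ⊥ → Inv ψ U → (∀ x ∈ U, InT (act g x)) → False

/-! ### boxes: elements of cube zero -/

/-- **STR**: the centralizers of the representatives -/
def STR : Prop := ∀ (K : Type u) [Field K] [CharP K 3] (c : Fin 11), Cz (ec K c) ∧ cd (ec K c) = cdc c ∧
  Two.nm (lab c) = nrc c ∧ ec K c ∈ LS K (Eq' (cl (lab c)) 2) ∧
  cen {ec K c} ≤ LS K (Ge (cl (lab c)) (if c.val ≤ 8 then 0 else -1)) ∧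
  (∀ j : ℝ, 2 ≤ j → ∀ v ∈ LS K (Eq' (cl (lab c)) j), ∃ w ∈ LS K (Eq' (cl (lab c)) (j - 2)), br (ec K c) w = v) ∧
  finrank K ↥(KK K c) = if c.val ≤ 8 then 0 else if c.val = 9 then 2 else 4

/-- **NIL3**: the classes, with the optimality of their cocharacters -/
def NIL3 : Prop := ∀ (K : Type u) [Field K] [IsAlgClosed K] [CharP K 3] (x : L8 K), x ≠ 0 → Cz x →
  ∃ (c : Fin 11) (g : G8 K), act g x = ec K c ∧
    ∀ (g' : G8 K) (lam : Q8 →+ ℝ), act g' x ∈ LS K (Ge lam 2) → nrm (cl (lab c)) ≤ nrm lam

/-- **KRK**: the elements of degree `-1` of the centralizer of the last class lie in smaller classes -/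
def KRK : Prop := ∀ (K : Type u) [Field K] [IsAlgClosed K] [CharP K 3], ∀ z ∈ KK K 10, 84 < cd z

/-- **WIT**: a filtration for a restricted `sl₂` -/
def WIT : Prop := ∀ (K : Type u) [Field K] [IsAlgClosed K] [CharP K 3] (c : Fin 11) (h f : L8 K), RS (ec K c) h f →
  Dp ![ec K c, h, f] ![2, 0, -2] 1 (cl (lab c)) ∨
  (9 ≤ c.val ∧ Two.nm (labx c) = nrc c + 6 ∧ ec K c ∈ LS K (Eq' (cl (labx c)) 2) ∧ ∃ g : G8 K, act g (ec K c) = ec K c ∧
    Dp ![ec K c, h, f] ![2, 0, -2] g (cl (labx c)) ∧
    (c.val = 9 → ∃ h₀ z, IsH (lab c) h₀ ∧ z ∈ KK K c ∧ z ≠ 0 ∧ pr (cl (labx c)) 0 (act g h) = h₀ + z))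

/-- **Z3**: a bound for the centralizer from a grading modulo three -/
def Z3 : Prop := ∀ (K : Type u) [Field K] (y : Q8) (x : L8 K), Cz x → x ∈ LS K (Eq' (cl y) 1) →
  (Two.nm y = 2 → 134 ≤ cd x) ∧ (Two.nm y = 4 → 92 ≤ cd x) ∧ (Two.nm y = 6 → 86 ≤ cd x)

/-- **K9**: no vector of order nine in the dual of a root sublattice -/
def K9 : Prop := ∀ (y : Q8) (S : Set chevE8.Idx), (∀ j ∈ S, (9 : ℤ) ∣ ex y (wt j)) →
  (∀ k : Q8, (∀ j ∈ S, ex k (wt j) = 0) → Two.bw k y = 0) → ∀ i, (3 : ℤ) ∣ y i

/-- **LOW**: the two small Levi subalgebras -/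
def LOW : Prop := ∀ (K : Type u) [Field K] [CharP K 3], PCl (YD K) ∧ PCl (YA K) ∧
  (∀ x ∈ YD K, Cz x → 92 < cd x) ∧ ∀ x ∈ YA K, Cz x → 92 < cd x

/-! ### boxes: the descent -/

/-- **MODL** -/
def MODL : Prop := ∀ (K : Type u) [Field K] [IsAlgClosed K] [CharP K 3] (ψ : Alt 6 →* G8 K), NoFx ψ →
  ∀ C : Submodule K (L8 K), C ≠ ⊥ → Inv ψ C → Sa C →
  (∃ ι e h f, T3 (rp ψ) ι e h f ∧ e ≠ 0 ∧ e ∈ C ∧ h ∈ C ∧ f ∈ C) ∨ ∃ U ≤ C, U ≠ ⊥ ∧ Inv ψ U ∧ Ab U

/-- **DAB**: abelian subspaces -/
def DAB : Prop := ∀ (K : Type u) [Field K] [IsAlgClosed K] [CharP K 3] (ψ : Alt 6 →* G8 K) (Y U : Submodule K (L8 K)),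
  PCl Y → U ≤ Y → U ≠ ⊥ → Inv ψ U → Ab U →
  (∃ U' ≤ Y, U' ≠ ⊥ ∧ Inv ψ U' ∧ Ab U' ∧ ∀ x ∈ U', Cz x) ∨
  ∃ (g : G8 K) (U' : Submodule K (L8 K)), U' ≠ ⊥ ∧ Inv ψ U' ∧ ∀ x ∈ U', InT (act g x)

/-- **DESC** -/
def DESC : Prop := ∀ (K : Type u) [Field K] [IsAlgClosed K] [CharP K 3] (ψ : Alt 6 →* G8 K), NoFx ψ →
  ∀ Y C : Submodule K (L8 K), PCl Y → C ≤ Y → C ≠ ⊥ → Inv ψ C → Sa C →
  (∃ U ≤ Y, U ≠ ⊥ ∧ Inv ψ U ∧ Ab U) ∨
  ∃ ι e h f, T3 (rp ψ) ι e h f ∧ e ≠ 0 ∧ RS e h f ∧ e ∈ C ∧ h ∈ C ∧ f ∈ C

/-! ### boxes: the endings -/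

/-- **EA2** -/
def EA2 : Prop := ∀ (K : Type u) [Field K] [CharP K 3] (ψ : Alt 6 →* G8 K), NoFx ψ → ∀ h f : L8 K, IsH (lab 3) h →
  f ∈ LS K (Eq' (cl (lab 3)) (-2)) → br (ec K 3) f = h → Inv ψ (Submodule.span K {ec K 3, h, f}) → False

/-- **E2A2** -/
def E2A2 : Prop := ∀ (K : Type u) [Field K] [CharP K 3] (ψ : Alt 6 →* G8 K) (h f : L8 K), IsH (lab 8) h →
  f ∈ LS K (Eq' (cl (lab 8)) (-2)) → br (ec K 8) f = h → Inv ψ (Submodule.span K {ec K 8, h, f}) → LowEnd ψ

/-- **EEX** -/
def EEX : Prop := ∀ (K : Type u) [Field K] [IsAlgClosed K] [CharP K 3] (ψ : Alt 6 →* G8 K) (h₀ z f : L8 K) (d : G8 K),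
  IsH (lab 9) h₀ → z ∈ KK K 9 → z ≠ 0 → z ∈ LS K (Eq' (cl (labx 9)) 0) → f ∈ LS K (Eq' (cl (labx 9)) (-2)) →
  br (ec K 9) f = h₀ + z → Inv ψ (Submodule.span K {ec K 9, h₀ + z, f}) →
  act d (ec K 9) = -f → act d (h₀ + z) = -(h₀ + z) → act d f = -ec K 9 →
  (∀ c, ∀ v ∈ LS K (Eq' (cl (labx 9)) c), act d v ∈ LS K (Eq' (cl (labx 9)) (-c))) → LowEnd ψ

/-- **EN3** -/
def EN3 : Prop := ∀ (K : Type u) [Field K] [CharP K 3] (ψ : Alt 6 →* G8 K),
  Inv ψ (Submodule.span K {ec K 9} ⊔ KK K 9) → LowEnd ψ

/-- **G2AB**: abelian subspaces of `G₂` -/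
def G2AB : Prop := ∀ (K : Type u) [Field K] [CharP K 3] (U : Submodule K (L8 K)),
  U ≤ cen ({ec K 9} ∪ (KK K 9 : Set (L8 K))) ⊓ LS K (Eq' (cl (lab 9)) 0) → Ab U → (∀ x ∈ U, Cz x) → finrank K ↥U ≤ 5

/-- **ABC**: abelian subspaces of cube zero -/
def ABC : Prop := ∀ (K : Type u) [Field K] [IsAlgClosed K] [CharP K 3] (ψ : Alt 6 →* G8 K), Ctx ψ →
  ∀ U : Submodule K (L8 K), U ≠ ⊥ → Inv ψ U → Ab U → (∀ x ∈ U, Cz x) → (∃ x ∈ U, x ≠ 0 ∧ cd x ≤ 88) ∧ LowEnd ψ

/-- **SC**: restricted `sl₂` -/
def SC : Prop := ∀ (K : Type u) [Field K] [IsAlgClosed K] [CharP K 3] (ψ : Alt 6 →* G8 K), Ctx ψ →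
  ∀ (ι : K) (e h f : L8 K), T3 (rp ψ) ι e h f → e ≠ 0 → RS e h f →
  (∃ z : G8 K, z ≠ 1 ∧ z ^ 2 = 1 ∧ (∀ a, Commute z (ψ a)) ∧
    ∀ c : G8 K, act c e = e → act c h = h → act c f = f → Commute z c) ∨ (cd e ≤ 92 ∧ LowEnd ψ)

/-! ### boxes: the centralizer -/

/-- no invariant abelian subspace inside a conjugate of the two small Levi subalgebras -/
def NoAb {K : Type u} [Field K] (ψ : Alt 6 →* G8 K) : Prop := ∀ (g : G8 K) (U : Submodule K (L8 K)), U ≠ ⊥ → Inv ψ U → Ab U →
  ((∀ x ∈ U, act g x ∈ YD K) ∨ ∀ x ∈ U, act g x ∈ YA K) → False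

/-- **D44**: no pure four-group of type `D₈` in the centralizer -/
def D44 : Prop := ∀ (F : Type u) [Field F] [Finite F] [CharP F 3] (ψ : Alt 6 →* G8 (Kb F)), Ctx ψ → NoAb ψ →
  ∀ s t : G8 (Kb F), s ^ 2 = 1 → t ^ 2 = 1 → Commute s t → fd s = 120 → fd t = 120 → fd (s * t) = 120 →
  (∀ a, Commute s (ψ a)) → (∀ a, Commute t (ψ a)) → False

/-- **ISO**: the semisimple elements of the centralizer -/
def ISO : Prop := ∀ (F : Type u) [Field F] [Finite F] [CharP F 3] (ψ : Alt 6 →* G8 (Kb F)), Ctx ψ →
  (∀ s : G8 (Kb F), (∀ a, Commute s (ψ a)) → ∀ N : ℕ, N.Coprime 3 → orderOf s = N → N = 1 ∨ N = 2 ∨ N = 4 ∨ N = 5) ∧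
  (∀ s : G8 (Kb F), (∀ a, Commute s (ψ a)) → orderOf s = 5 → ∃ (g : G8 (Kb F)) (C : Submodule (Kb F) (L8 (Kb F))),
    C ≠ ⊥ ∧ Inv ψ C ∧ Sa C ∧ ∀ x ∈ C, act g x ∈ YA (Kb F) ∧ act s x = x) ∧
  ∀ s t : G8 (Kb F), s ^ 2 = 1 → t ^ 2 = 1 → s ≠ 1 → t ≠ 1 → s ≠ t → Commute s t → fd s = fd t →
    (∀ a, Commute s (ψ a)) → (∀ a, Commute t (ψ a)) → fd (s * t) = 120

/-- **CTX** -/
def CTX : Prop := ∀ (F : Type u) [Field F] [Finite F] [CharP F 3] (H : Subgroup (G8 F)) (φ : Alt 6 →* G8 F),
  MaxAlt H 6 φ → NoFx φ → Ctx (emb0.comp φ)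

/-- **CEN**: no involution centralizes the alternating group -/
def CEN : Prop := ∀ (F : Type u) [Field F] [Finite F] [CharP F 3] (H : Subgroup (G8 F)) (φ : Alt 6 →* G8 F),
  MaxAlt H 6 φ → NoFx φ → (∀ s : G8 (Kb F), (∀ a, Commute s (emb0 (φ a))) → orderOf s ≠ 5) → NoAb (emb0.comp φ) →
  ∀ z : G8 (Kb F), z ≠ 1 → z ^ 2 = 1 → (∀ a, Commute z (emb0 (φ a))) → False

end Cfsg.Agent.E8A.C63
end

-- part: E8A/C63/Basic
section
prune_inst 0x7f02100544404e202000018850640001c66ba000002004b8000492003040fc2be62290526419830081800920ccc7038002811000020426000c00e000c000119008088804002a348010c66001f010080000000000000020000000000000000051000000000000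
set_option linter.all false
open scoped Cfsg.Agent.FastGrp

/-!
# `A₆` in characteristic 3: conjugation (helper13)

* `Cz.act`, `Tor.act`, `cd_act`, `RS.act`, `cen_act`; `pb g Y` : the preimage of a subspace, `PCl.pb`;
* `cj_apply`, `act_cj`, `Ctx.cj`, `T3.cj`, `T4.cj`, `Inv.cj`, `LowEnd.of_cj`; `perfect6`, `hom_trivial`, `line_fix`;
* `pr` : `pr_mem`, `pr_of_mem`, `pr_add`, `sub_pr`; `mem_Eq_iff`.
-/

set_option autoImplicit false
set_option maxRecDepth 100000

namespace Cfsg.Agent.E8A.C63

open Cfsg Cfsg.Lie Module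
open scoped commutatorElement
open Cfsg.Agent.H952.F4 (MaxAlt ev)
open Cfsg.Agent.H288.E8L (Q8 wt)
open Cfsg.Agent.E8A.Kem (St Ge nrm mem_Ge)

universe u

variable {K : Type u} [Field K]

theorem adm_act_pow (g : G8 K) (x : L8 K) (n : ℕ) : adm (act g x) ^ n = mx g * adm x ^ n * mx g⁻¹ := by
  induction n with
  | zero => rw [pow_zero, pow_zero, mul_one, mx_mul_inv]
  | succ n ih =>
    rw [pow_succ, ih, adm_act, pow_succ]
    calc mx g * adm x ^ n * mx g⁻¹ * (mx g * adm x * mx g⁻¹)
        = mx g * adm x ^ n * (mx g⁻¹ * mx g) * adm x * mx g⁻¹ := by simp only [mul_assoc]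
      _ = mx g * (adm x ^ n * adm x) * mx g⁻¹ := by rw [mx_inv_mul, mul_one, mul_assoc (mx g)]

theorem Cz.act {x : L8 K} (h : Cz x) (g : G8 K) : Cz (act g x) := by
  unfold Cz at h ⊢
  rw [adm_act_pow, h, mul_zero, zero_mul]

theorem Tor.act {x : L8 K} (h : Tor x) (g : G8 K) : Tor (act g x) := by
  unfold Tor at h ⊢
  rw [adm_act_pow, h, adm_act]

theorem Cz.br3 {x : L8 K} (h : Cz x) (v : L8 K) : br x (br x (br x v)) = 0 := by
  have h1 : adm x ^ 3 = adm x * (adm x * adm x) := by rw [pow_succ', pow_two]
  unfold br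
  rw [Matrix.mulVec_mulVec, Matrix.mulVec_mulVec, mul_assoc, ← h1, h, Matrix.zero_mulVec]

theorem mem_cen {S : Set (L8 K)} {v : L8 K} : v ∈ cen S ↔ ∀ s ∈ S, br s v = 0 := Iff.rfl

theorem mem_cen_one {x v : L8 K} : v ∈ cen {x} ↔ br x v = 0 := ⟨fun h => h x rfl, fun h _ hs => hs ▸ h⟩

theorem cen_act (g : G8 K) {x v : L8 K} : act g v ∈ cen {act g x} ↔ v ∈ cen {x} := by
  rw [mem_cen_one, mem_cen_one, ← act_br]
  exact ⟨act_eq_zero, fun h => by rw [h, act_zero]⟩

/-- the action as a linear equivalence -/
noncomputable def ae (g : G8 K) : L8 K ≃ₗ[K] L8 K :=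
  { LK K g with
    invFun := act g⁻¹
    left_inv := act_inv g
    right_inv := act_inv' g }

/-- the preimage of a subspace -/
noncomputable def pb (g : G8 K) (Y : Submodule K (L8 K)) : Submodule K (L8 K) := Y.comap (LK K g)

theorem mem_pb {g : G8 K} {Y : Submodule K (L8 K)} {v : L8 K} : v ∈ pb g Y ↔ act g v ∈ Y := Iff.rfl

theorem finrank_pb (g : G8 K) (Y : Submodule K (L8 K)) : finrank K ↥(pb g Y) = finrank K ↥Y :=
  (LinearEquiv.ofSubmodule' (ae g) Y).finrank_eq

theorem pb_ne_bot {g : G8 K} {Y : Submodule K (L8 K)} (h : Y ≠ ⊥) : pb g Y ≠ ⊥ := by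
  obtain ⟨v, hv, h0⟩ := (Submodule.ne_bot_iff _).1 h
  refine (Submodule.ne_bot_iff _).2 ⟨act g⁻¹ v, by rwa [mem_pb, act_inv'], fun h1 => h0 (act_eq_zero h1)⟩

theorem cd_act (g : G8 K) (x : L8 K) : cd (act g x) = cd x := by
  have h : cen {x} = pb g (cen {act g x}) := Submodule.ext fun v => (cen_act g).symm
  unfold cd
  rw [h, finrank_pb]

theorem Sa.pb {Y : Submodule K (L8 K)} (h : Sa Y) (g : G8 K) : Sa (pb g Y) := fun x hx y hy => by
  rw [mem_pb, act_br]
  exact h _ hx _ hy

theorem Ab.pb {Y : Submodule K (L8 K)} (h : Ab Y) (g : G8 K) : Ab (pb g Y) := fun x hx y hy =>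
  act_eq_zero (g := g) (by rw [act_br]; exact h _ hx _ hy)

theorem PCl.pb {Y : Submodule K (L8 K)} (h : PCl Y) (g : G8 K) : PCl (pb g Y) :=
  ⟨h.1.pb g, fun x hx y hy => h.2 (act g x) hx (act g y) (by rw [adm_act_pow, ← hy, adm_act])⟩

theorem pcl_top : PCl (⊤ : Submodule K (L8 K)) := ⟨fun _ _ _ _ => trivial, fun _ _ _ _ => trivial⟩

theorem Sl2.act {e h f : L8 K} (H : Sl2 e h f) (g : G8 K) : Sl2 (act g e) (act g h) (act g f) where
  he := by rw [← act_br, H.he, act_smul]
  hf := by rw [← act_br, H.hf, act_smul]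
  ef := by rw [← act_br, H.ef]

theorem RS.act {e h f : L8 K} (H : RS e h f) (g : G8 K) : RS (act g e) (act g h) (act g f) where
  toSl2 := H.toSl2.act g
  ce := H.ce.act g
  cf := H.cf.act g
  th := H.th.act g

/-! ### conjugates of the homomorphism -/

variable {ψ : Alt 6 →* G8 K}

theorem rp_apply (a : Alt 6) (v : L8 K) : rp ψ a v = act (ψ a) v := rfl

theorem cj_apply (g : G8 K) (a : Alt 6) : cj g ψ a = g * ψ a * g⁻¹ := rfl

theorem act_cj (g : G8 K) (a : Alt 6) (v : L8 K) : act (cj g ψ a) (act g v) = act g (act (ψ a) v) := by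
  rw [cj_apply, act_mul, act_mul, act_inv]

/-- the image of an invariant subspace -/
theorem Inv.cj {U : Submodule K (L8 K)} (h : Inv ψ U) (g : G8 K) : Inv (cj g ψ) (pb g⁻¹ U) := fun a v hv => by
  rw [mem_pb, cj_apply, act_mul, act_mul, act_inv]
  exact h a _ hv

theorem Inv.of_cj {g : G8 K} {U : Submodule K (L8 K)} (h : Inv (C63.cj g ψ) U) : Inv ψ (pb g U) := fun a v hv => by
  rw [mem_pb, ← act_cj]
  exact h a _ hv

theorem noFx_cj (h : NoFx ψ) (g : G8 K) : NoFx (cj g ψ) := fun v hv => by
  have h1 := h (act g⁻¹ v) fun a => act_injective g (by rw [← act_cj, act_inv', hv])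
  exact act_eq_zero h1

theorem NoPar.cj (h : NoPar ψ) (g : G8 K) : NoPar (cj g ψ) := fun g' lam h0 hy => h (g' * g) lam h0 fun a => by
  have h1 := hy a
  rwa [cj_apply, show g' * (g * ψ a * g⁻¹) * g'⁻¹ = g' * g * ψ a * (g' * g)⁻¹ by group] at h1

theorem fd_conj (c g : G8 K) : fd (c * g * c⁻¹) = fd g := Inf.ev_conj c g 1

theorem Ctx.cj (h : Ctx ψ) (g : G8 K) : Ctx (cj g ψ) where
  fx := noFx_cj h.fx g
  par := h.par.cj g
  d2 := fun a ha => by rw [cj_apply, fd_conj, h.d2 a ha]
  d4 := by rw [cj_apply, fd_conj]; exact h.d4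

theorem T3.cj {ι : K} {e h f : L8 K} (H : T3 (rp ψ) ι e h f) (g : G8 K) :
    T3 (rp (cj g ψ)) ι (act g e) (act g h) (act g f) where
  sq := H.sq
  ue := by rw [rp_apply, act_cj, ← rp_apply, H.ue]
  uh := by rw [rp_apply, act_cj, ← rp_apply, H.uh, act_add]
  uf := by rw [rp_apply, act_cj, ← rp_apply, H.uf, act_sub, act_add]
  ye := by rw [rp_apply, act_cj, ← rp_apply, H.ye, act_smul]
  yh := by rw [rp_apply, act_cj, ← rp_apply, H.yh]
  yf := by rw [rp_apply, act_cj, ← rp_apply, H.yf, act_smul]
  de := by rw [rp_apply, act_cj, ← rp_apply, H.de, act_neg]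
  dh := by rw [rp_apply, act_cj, ← rp_apply, H.dh, act_neg]
  df := by rw [rp_apply, act_cj, ← rp_apply, H.df, act_neg]

theorem T4.cj {r : Fin 6 → Fin 6 → L8 K} (H : T4 (rp ψ) r) (g : G8 K) : T4 (rp (cj g ψ)) fun i j => E8A.act g (r i j) where
  act := fun a i j => by rw [rp_apply, act_cj, ← rp_apply, H.act]
  add := fun i j k => by rw [← act_add, H.add]
  sum := fun i => by rw [← TwoH.act_sum, H.sum, act_zero]

theorem LowEnd.of_cj {g : G8 K} (h : LowEnd (cj g ψ)) : LowEnd ψ := by
  obtain ⟨g', C, h0, hi, hs, hy⟩ := h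
  exact ⟨g' * g, pb g C, pb_ne_bot h0, hi.of_cj, hs.pb g, fun x hx => by rw [act_mul]; exact hy _ hx⟩

theorem span_act (g : G8 K) (S : Set (L8 K)) : Submodule.span K (act g '' S) = pb g⁻¹ (Submodule.span K S) := by
  have h : pb g⁻¹ (Submodule.span K S) = (Submodule.span K S).map (LK K g) := by
    ext v
    rw [mem_pb, Submodule.mem_map]
    exact ⟨fun h => ⟨_, h, act_inv' g v⟩, fun ⟨w, hw, e⟩ => by rw [← e, LK_apply, act_inv]; exact hw⟩
  rw [h, Submodule.map_span]
  rfl

/-! ### the group is perfect -/

theorem perfect6 : commutator (Alt 6) = ⊤ := by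
  have : IsSimpleGroup (Alt 6) := alternatingGroup.isSimpleGroup (by simp)
  rcases (inferInstance : (commutator (Alt 6)).Normal).eq_bot_or_eq_top with h | h
  · have h1 : ⁅uu, dd⁆ ∈ commutator (Alt 6) :=
      Subgroup.commutator_mem_commutator (Subgroup.mem_top _) (Subgroup.mem_top _)
    rw [h, Subgroup.mem_bot] at h1
    exact absurd h1 (by decide)
  · exact h

theorem hom_trivial {M : Type*} [CommGroup M] (χ : Alt 6 →* M) (a : Alt 6) : χ a = 1 := by
  have h : commutator (Alt 6) ≤ χ.ker := Abelianization.commutator_subset_ker χ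
  rw [perfect6] at h
  exact h (Subgroup.mem_top a)

/-- an invariant line is fixed -/
theorem line_fix {V : Type*} [AddCommGroup V] [Module K V] (ρ : Representation K (Alt 6) V) {v : V}
    (h : ∀ a, ∃ c : K, ρ a v = c • v) (a : Alt 6) : ρ a v = v := by
  by_cases h0 : v = 0
  · rw [h0, map_zero]
  choose c hc using h
  have hm : ∀ a b, c (a * b) = c a * c b := fun a b => smul_left_injective K h0 (by
    show c (a * b) • v = (c a * c b) • v
    rw [← hc, map_mul, Module.End.mul_apply, hc, map_smul, hc, smul_smul, mul_comm])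
  have h1 : c 1 = 1 := smul_left_injective K h0 (by
    show c 1 • v = (1 : K) • v
    rw [← hc, map_one, one_smul, Module.End.one_apply])
  have h2 := hom_trivial (MonoidHom.toHomUnits (⟨⟨c, h1⟩, hm⟩ : Alt 6 →* K)) a
  have h3 : c a = 1 := congrArg Units.val h2
  rw [hc, h3, one_smul]

/-! ### graded pieces -/

theorem mem_Eq {lam : Q8 →+ ℝ} {c : ℝ} {a : Q8} : a ∈ Eq' lam c ↔ lam a = c := Iff.rfl

theorem Eq_le_Ge {lam : Q8 →+ ℝ} {c : ℝ} {v : L8 K} (h : v ∈ LS K (Eq' lam c)) : v ∈ LS K (Ge lam c) :=
  LS_mono (fun _ ha => mem_Ge.2 (mem_Eq.1 ha).ge) h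

theorem Eq_le_Ge_neg {lam : Q8 →+ ℝ} {c : ℝ} {v : L8 K} (h : v ∈ LS K (Eq' lam c)) : v ∈ LS K (Ge (-lam) (-c)) :=
  LS_mono (fun a ha => mem_Ge.2 (by rw [AddMonoidHom.neg_apply, mem_Eq.1 ha])) h

theorem mem_Eq_iff {lam : Q8 →+ ℝ} {c : ℝ} {v : L8 K} :
    v ∈ LS K (Eq' lam c) ↔ v ∈ LS K (Ge lam c) ∧ v ∈ LS K (Ge (-lam) (-c)) :=
  ⟨fun h => ⟨Eq_le_Ge h, Eq_le_Ge_neg h⟩, fun h i hi => le_antisymm
    (by have := mem_Ge.1 (h.2 i hi); rw [AddMonoidHom.neg_apply] at this; linarith) (mem_Ge.1 (h.1 i hi))⟩

theorem pr_pos {lam : Q8 →+ ℝ} {c : ℝ} (v : L8 K) {i : chevE8.Idx} (h : lam (wt i) = c) : pr lam c v i = v i := if_pos h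

theorem pr_neg {lam : Q8 →+ ℝ} {c : ℝ} (v : L8 K) {i : chevE8.Idx} (h : lam (wt i) ≠ c) : pr lam c v i = 0 := if_neg h

theorem pr_mem (lam : Q8 →+ ℝ) (c : ℝ) (v : L8 K) : pr lam c v ∈ LS K (Eq' lam c) := fun i hi => by
  by_contra h
  exact hi (pr_neg v h)

theorem pr_of_mem {lam : Q8 →+ ℝ} {c : ℝ} {v : L8 K} (h : v ∈ LS K (Eq' lam c)) : pr lam c v = v := funext fun i => by
  by_cases hi : lam (wt i) = c
  · exact pr_pos v hi
  · rw [pr_neg v hi, LS_zero h hi]

theorem pr_LS {A : Set Q8} {v : L8 K} (h : v ∈ LS K A) (lam : Q8 →+ ℝ) (c : ℝ) : pr lam c v ∈ LS K A := fun i hi => by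
  by_cases h1 : lam (wt i) = c
  · rw [pr_pos v h1] at hi
    exact h i hi
  · exact absurd (pr_neg v h1) hi

theorem pr_add (lam : Q8 →+ ℝ) (c : ℝ) (v w : L8 K) : pr lam c (v + w) = pr lam c v + pr lam c w := funext fun i => by
  by_cases hi : lam (wt i) = c
  · rw [Pi.add_apply, pr_pos _ hi, pr_pos _ hi, pr_pos _ hi, Pi.add_apply]
  · rw [Pi.add_apply, pr_neg _ hi, pr_neg _ hi, pr_neg _ hi, add_zero]

theorem pr_smul (lam : Q8 →+ ℝ) (c : ℝ) (a : K) (v : L8 K) : pr lam c (a • v) = a • pr lam c v := funext fun i => by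
  by_cases hi : lam (wt i) = c
  · rw [Pi.smul_apply, pr_pos _ hi, pr_pos _ hi, Pi.smul_apply]
  · rw [Pi.smul_apply, pr_neg _ hi, pr_neg _ hi, smul_zero]

theorem cl_apply (y a : Q8) : cl y a = (Reg5.Cls.ex y a : ℝ) := rfl

end Cfsg.Agent.E8A.C63
end

-- part: E8A/C63/AbcA_mg
section
prune_inst 0x7f00020000004c0020000008504400004002200000000400000282003000780006289022040080000000008800400340000000000000040000004000000011801a08000020081480108600019010000000000000000020000000000000000010004000000000
set_option linter.all false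
open scoped Cfsg.Agent.FastGrp

-- part: E8A/C63/AbcA
section
/-!
# `A₆` in characteristic 3, box ABC: linear algebra and gradings (helper30)

`ext_basis`, `ker_third`, `four_group`, `t4_sub`; `pr_br`, `cz_pr0`, `Ge_succ`, `kb_ext`.
-/

set_option autoImplicit false
set_option maxRecDepth 100000
set_option maxHeartbeats 200000

namespace Cfsg.Agent.E8A.C63.Abc

open Cfsg Cfsg.Lie Module Submodule
open Cfsg.Agent.H288.E8L (Q8 wt)
open Cfsg.Agent.E8A.Kem (Ge mem_Ge)

universe u

section Lin

variable {K : Type u} [Field K] {V : Type u} [AddCommGroup V] [Module K V]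

theorem t4_sub (h3 : (3 : K) = 0) {ρ : Representation K (Alt 6) V} {r : Fin 6 → Fin 6 → V} (H : T4 ρ r) {R : Submodule K V}
    (hx : r 4 5 ∈ R) (h1 : ∀ v ∈ R, ρ v1 v ∈ R) (h2 : ∀ v ∈ R, ρ v2 v ∈ R) (hu : ∀ v ∈ R, ρ uu v ∈ R)
    (hR : R ≤ span K {r 0 1, r 0 2, r 0 3, r 0 4}) : R ≤ span K {r 4 5} ∨ span K {r 0 1, r 0 2, r 0 3, r 0 4} ≤ R := by
  have e : ∀ i j, r i j = r 0 j - r 0 i := fun i j => eq_sub_of_add_eq' (H.add 0 i j)
  have e0 : r 0 0 = 0 := (e 0 0).trans (sub_self _)
  have e5 := H.sum 0
  rw [Fin.sum_univ_six, e0] at e5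
  have a1 : ρ v1 (r 0 1) = -r 0 1 := (H.act v1 0 1).trans ((e 1 0).trans (by rw [e0, zero_sub]))
  have b1 : ρ v1 (r 0 2) = r 0 3 - r 0 1 := (H.act v1 0 2).trans (e 1 3)
  have c1 : ρ v1 (r 0 3) = r 0 2 - r 0 1 := (H.act v1 0 3).trans (e 1 2)
  have a2 : ρ v2 (r 0 1) = r 0 3 - r 0 2 := (H.act v2 0 1).trans (e 2 3)
  have b2 : ρ v2 (r 0 2) = -r 0 2 := (H.act v2 0 2).trans ((e 2 0).trans (by rw [e0, zero_sub]))
  have c2 : ρ v2 (r 0 3) = r 0 1 - r 0 2 := (H.act v2 0 3).trans (e 2 1)
  have au : ρ uu (r 0 1) = r 0 2 - r 0 1 := (H.act uu 0 1).trans (e 1 2)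
  have bu : ρ uu (r 0 2) = -r 0 1 := (H.act uu 0 2).trans ((e 1 0).trans (by rw [e0, zero_sub]))
  have cu : ρ uu (r 0 3) = r 0 3 - r 0 1 := (H.act uu 0 3).trans (e 1 3)
  have ed : r 0 4 = r 4 5 + r 0 1 + r 0 2 + r 0 3 := by
    rw [e 4 5]
    linear_combination (norm := module) h3 • r 0 4 - e5
  generalize r 0 1 = a, r 0 2 = b, r 0 3 = c, r 0 4 = d, r 4 5 = x at *
  have p1 : b + c - a ∈ R → a + b - c ∈ R := fun h => by
    convert R.neg_mem (hu _ h) using 1
    rw [map_sub, map_add, au, bu, cu]
    abel
  have p3 : a + b - c ∈ R → a + c - b ∈ R := fun h => by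
    convert R.neg_mem (hu _ h) using 1
    rw [map_sub, map_add, au, bu, cu]
    abel
  have p2 : a + c - b ∈ R → b + c - a ∈ R := fun h => by
    convert hu _ h using 1
    rw [map_sub, map_add, au, bu, cu]
    abel
  by_cases h : b + c - a ∈ R
  · have k3 := p1 h
    have k2 := p3 k3
    have ha : a ∈ R := by
      convert R.neg_mem (add_mem k2 k3) using 1
      linear_combination (norm := module) h3 • a
    have hb : b ∈ R := by
      convert R.neg_mem (add_mem h k3) using 1
      linear_combination (norm := module) h3 • b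
    have hc : c ∈ R := by
      convert R.neg_mem (add_mem h k2) using 1
      linear_combination (norm := module) h3 • c
    refine .inr (span_le.2 ?_)
    rintro _ (rfl | rfl | rfl | rfl)
    exacts [ha, hb, hc, ed ▸ add_mem (add_mem (add_mem hx ha) hb) hc]
  refine .inl fun w hw => ?_
  obtain ⟨α, w1, k1, rfl⟩ := mem_span_insert.1 (hR hw)
  obtain ⟨β, γ, δ, rfl⟩ := mem_span_triple.1 k1
  have k2 : (α + δ) • a + (β + δ) • b + (γ + δ) • c ∈ R := by
    convert sub_mem hw (R.smul_mem δ hx) using 1
    rw [ed]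
    module
  have k3 : ∀ {s : K} {p : V}, p ∉ R → s • p ∈ R → s = 0 := fun {s p} hp hs => by
    by_contra h0
    exact hp ((R.smul_mem_iff h0).1 hs)
  have k4 : β + δ + (γ + δ) = 0 := k3 h (by
    convert add_mem k2 (h1 _ k2) using 1
    simp only [map_add, map_smul, a1, b1, c1]
    module)
  have k5 : α + δ + (γ + δ) = 0 := k3 (mt p2 h) (by
    convert add_mem k2 (h2 _ k2) using 1
    simp only [map_add, map_smul, a2, b2, c2]
    module)
  have k6 : α + δ + (β + δ) = 0 := k3 (mt p3 (mt p2 h)) (by
    convert add_mem k2 (h1 _ (h2 _ k2)) using 1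
    simp only [map_add, map_smul, map_sub, map_neg, a2, b2, c2, a1, b1, c1]
    module)
  refine mem_span_singleton.2 ⟨δ, ?_⟩
  rw [ed]
  linear_combination (norm := module) (k5 + k6 - k4 - (α + δ) * h3) • a + (k4 + k6 - k5 - (β + δ) * h3) • b +
    (k4 + k5 - k6 - (γ + δ) * h3) • c

variable [FiniteDimensional K V]

theorem ext_basis {ι : Type} [Fintype ι] {b : ι → V} (hb : LinearIndependent K b) {B : Submodule K V} (h : ∀ i, b i ∈ B) :
    ∃ (n : ℕ) (b' : Fin n → V), LinearIndependent K (Sum.elim b b') ∧ span K (Set.range (Sum.elim b b')) = B ∧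
      Fintype.card ι + n = finrank K B := by
  obtain ⟨C, hC⟩ := (span K (Set.range b)).exists_isCompl
  have h1 : span K (Set.range (fun i => ((finBasis K ↥(B ⊓ C) i : ↥(B ⊓ C)) : V))) = B ⊓ C := by
    rw [show (fun i => ((finBasis K ↥(B ⊓ C) i : ↥(B ⊓ C)) : V)) = (B ⊓ C).subtype ∘ finBasis K ↥(B ⊓ C) from rfl,
      Set.range_comp, ← map_span, Basis.span_eq, map_subtype_top]
  have h2 : LinearIndependent K (Sum.elim b fun i => ((finBasis K ↥(B ⊓ C) i : ↥(B ⊓ C)) : V)) :=
    hb.sum_type ((finBasis K ↥(B ⊓ C)).linearIndependent.map' _ (ker_subtype _))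
      (hC.disjoint.mono_right (h1.le.trans inf_le_right))
  have h3 : span K (Set.range (Sum.elim b fun i => ((finBasis K ↥(B ⊓ C) i : ↥(B ⊓ C)) : V))) = B := by
    rw [Set.Sum.elim_range, span_union, h1, inf_comm, ← sup_inf_assoc_of_le _ (span_le.2 (Set.range_subset_iff.2 h)),
      hC.sup_eq_top, top_inf_eq]
  exact ⟨_, _, h2, h3, Eq.trans (by rw [finrank_span_eq_card h2, Fintype.card_sum, Fintype.card_fin])
    (congrArg (fun W : Submodule K V => finrank K ↥W) h3)⟩

theorem finrank_map_add (T : V →ₗ[K] V) (W : Submodule K V) :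
    finrank K ↥(W.map T) + finrank K ↥(W ⊓ LinearMap.ker T) = finrank K ↥W := by
  rw [← (T.domRestrict W).finrank_range_add_finrank_ker, LinearMap.range_domRestrict, LinearMap.ker_domRestrict,
    ← map_comap_subtype, finrank_map_subtype_eq]

theorem ker_third {T : V →ₗ[K] V} (hT : ∀ v, T (T (T v)) = 0) {W : Submodule K V} (h : W.map T ≤ W) :
    finrank K ↥W ≤ 3 * finrank K ↥(W ⊓ LinearMap.ker T) := by
  have h1 := finrank_map_add T W
  have h2 := finrank_map_add T (W.map T)
  have h3 := finrank_mono (inf_le_inf_right (LinearMap.ker T) h)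
  have h4 : finrank K ↥((W.map T).map T) ≤ finrank K ↥(W ⊓ LinearMap.ker T) := finrank_mono (le_inf ((map_mono h).trans h) (by
    rintro _ ⟨_, ⟨v, -, rfl⟩, rfl⟩
    exact hT v))
  omega

/-- eigenspaces -/
def Es (s : V →ₗ[K] V) (ε : K) : Submodule K V := LinearMap.ker (s - ε • LinearMap.id)

omit [FiniteDimensional K V] in
theorem mem_Es {s : V →ₗ[K] V} {ε : K} {v : V} : v ∈ Es s ε ↔ s v = ε • v := sub_eq_zero

theorem split_inv (h2 : (2 : K) ≠ 0) {s : V →ₗ[K] V} (hs : ∀ v, s (s v) = v) {W : Submodule K V} (h : ∀ v ∈ W, s v ∈ W) :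
    finrank K ↥(W ⊓ Es s 1) + finrank K ↥(W ⊓ Es s (-1)) = finrank K ↥W := by
  have h1 : (W ⊓ Es s 1) ⊔ (W ⊓ Es s (-1)) = W := le_antisymm (sup_le inf_le_left inf_le_left) fun v hv => by
    rw [← smul_mem_iff _ h2, show (2 : K) • v = (v + s v) + (v - s v) by module]
    exact add_mem_sup ⟨add_mem hv (h v hv), mem_Es.2 (by rw [map_add, hs]; module)⟩
      ⟨sub_mem hv (h v hv), mem_Es.2 (by rw [map_sub, hs]; module)⟩
  have h3 : (W ⊓ Es s 1) ⊓ (W ⊓ Es s (-1)) = ⊥ := eq_bot_iff.2 fun v hv => (smul_eq_zero_iff_right h2).1 (by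
    linear_combination (norm := module) mem_Es.1 hv.2.2 - mem_Es.1 hv.1.2)
  rw [← finrank_sup_add_finrank_inf_eq, h1, h3, finrank_bot, add_zero]

/-- the kernel of an endomorphism of cube zero which commutes with a pure four-group -/
theorem four_group (h2 : (2 : K) ≠ 0) {s t T : V →ₗ[K] V} (hs : ∀ v, s (s v) = v) (ht : ∀ v, t (t v) = v)
    (hst : ∀ v, s (t v) = t (s v)) (hT : ∀ v, T (T (T v)) = 0) (h3 : ∀ v, s (T v) = T (s v)) (h4 : ∀ v, t (T v) = T (t v))
    (d0 : finrank K V = 248) (d1 : finrank K ↥(Es s 1) = 120) (d2 : finrank K ↥(Es t 1) = 120)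
    (d3 : finrank K ↥(Es (s ∘ₗ t) 1) = 120) : 85 ≤ finrank K ↥(LinearMap.ker T) := by
  have c1 : ∀ {a b : V →ₗ[K] V}, (∀ v, a (b v) = b (a v)) → ∀ ε, ∀ v ∈ Es a ε, b v ∈ Es a ε := fun h ε v hv =>
    mem_Es.2 (by rw [h, mem_Es.1 hv, map_smul])
  have c2 : ∀ {a : V →ₗ[K] V}, (∀ v, a (T v) = T (a v)) → ∀ v ∈ LinearMap.ker T, a v ∈ LinearMap.ker T := fun h v hv => by
    rw [LinearMap.mem_ker, ← h, LinearMap.mem_ker.1 hv, map_zero]
  have e0 := split_inv h2 hs (W := ⊤) fun _ _ => trivial
  have e1 := fun ε => split_inv h2 ht (c1 hst ε)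
  have e2 := split_inv h2 hs (c1 (fun v => (hst v).symm) 1)
  have e3 := split_inv h2 hs (c1 (a := s ∘ₗ t) (fun v => congrArg s (hst v).symm) 1)
  have e4 : ∀ ε : K, ε * ε = 1 → Es (s ∘ₗ t) 1 ⊓ Es s ε = Es s ε ⊓ Es t ε := fun ε hε => by
    ext v
    simp only [mem_inf, mem_Es, LinearMap.comp_apply, one_smul]
    constructor
    · rintro ⟨k1, k2⟩
      exact ⟨k2, by rw [← hs (t v), k1, k2]⟩
    · rintro ⟨k1, k2⟩
      exact ⟨by rw [k2, map_smul, k1, smul_smul, hε, one_smul], k1⟩
  have f0 := split_inv h2 hs (c2 h3)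
  have f1 := fun ε => split_inv h2 ht (W := LinearMap.ker T ⊓ Es s ε) fun v hv => ⟨c2 h4 v hv.1, c1 hst ε v hv.2⟩
  have f2 : ∀ ε η, finrank K ↥(Es s ε ⊓ Es t η) ≤ 3 * finrank K ↥(LinearMap.ker T ⊓ Es s ε ⊓ Es t η) := fun ε η => by
    rw [inf_assoc, inf_comm (LinearMap.ker T)]
    refine ker_third hT ?_
    rintro _ ⟨v, hv, rfl⟩
    exact ⟨c1 h3 ε v hv.1, c1 h4 η v hv.2⟩
  rw [top_inf_eq, top_inf_eq, finrank_top] at e0
  rw [inf_comm, inf_comm (Es t 1)] at e2
  rw [e4 1 (one_mul 1), e4 (-1) (by rw [neg_mul_neg, one_mul])] at e3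
  have := e1 1
  have := e1 (-1)
  have := f1 1
  have := f1 (-1)
  have := f2 1 1
  have := f2 1 (-1)
  have := f2 (-1) 1
  have := f2 (-1) (-1)
  omega

end Lin

variable {K : Type u} [Field K] {lam : Q8 →+ ℝ}

theorem br_Ge {i j : ℝ} {a b : L8 K} (ha : a ∈ LS K (Ge lam i)) (hb : b ∈ LS K (Ge lam j)) :
    br a b ∈ LS K (Ge lam (i + j)) :=
  br_LS (fun x hx y hy => mem_Ge.2 (by rw [map_add]; exact add_le_add hx hy)) ha hb

theorem Ge_mono {i j : ℝ} (h : i ≤ j) : LS K (Ge lam j) ≤ LS K (Ge lam i) := LS_mono fun _ ha => h.trans ha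

theorem sub_pr_Gt {i : ℝ} {a : L8 K} (ha : a ∈ LS K (Ge lam i)) : a - pr lam i a ∈ LS K {x | i < lam x} := fun k hk => by
  by_cases h : lam (wt k) = i
  · exact absurd (by rw [Pi.sub_apply, pr_pos a h, sub_self]) hk
  · rw [Pi.sub_apply, pr_neg a h, sub_zero] at hk
    exact lt_of_le_of_ne (ha k hk) (Ne.symm h)

theorem pr_Gt {i : ℝ} {a : L8 K} (ha : a ∈ LS K {x | i < lam x}) : pr lam i a = 0 := funext fun k => by
  by_cases h : lam (wt k) = i
  · rw [pr_pos a h]
    exact LS_zero ha fun h1 => absurd h (ne_of_gt h1)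
  · exact pr_neg a h

/-- leading terms of brackets -/
theorem pr_br {i j c : ℝ} (h : i + j = c) {a b : L8 K} (ha : a ∈ LS K (Ge lam i)) (hb : b ∈ LS K (Ge lam j)) :
    pr lam c (br a b) = br (pr lam i a) (pr lam j b) := by
  have h1 : br a b = br (pr lam i a) (pr lam j b) + (br (pr lam i a) (b - pr lam j b) + br (a - pr lam i a) b) := by
    rw [br_sub_left, br_sub_right]
    abel
  rw [h1, pr_add, pr_of_mem (br_LS (fun x hx y hy => mem_Eq.2 (by rw [map_add, mem_Eq.1 hx, mem_Eq.1 hy, h]))
    (pr_mem lam i a) (pr_mem lam j b)), pr_Gt (add_mem (br_LS (fun x hx y hy => ?_) (pr_mem lam i a) (sub_pr_Gt hb))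
    (br_LS (fun x hx y hy => ?_) (sub_pr_Gt ha) hb)), add_zero]
  · show c < lam (x + y)
    rw [map_add, mem_Eq.1 hx, ← h]
    exact add_lt_add_right hy i
  · show c < lam (x + y)
    rw [map_add, ← h]
    exact add_lt_add_of_lt_of_le hx hy

theorem pr_zero (c : ℝ) : pr lam c (0 : L8 K) = 0 := pr_of_mem (zero_mem _)

theorem cz_pr0 {v : L8 K} (h : Cz v) (hv : v ∈ LS K (Ge lam 0)) : Cz (pr lam 0 v) := by
  refine Matrix.ext fun i j => ?_
  have h1 : ee K j ∈ LS K (Eq' lam (lam (wt j))) := fun k hk => by
    by_contra h2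
    exact hk (Pi.single_eq_of_ne (fun e => h2 (by rw [e]; rfl)) _)
  have h2 := Eq_le_Ge h1
  have h3 := br_Ge hv h2
  have h4 := pr_br (zero_add _) hv (br_Ge hv h3)
  rw [h.br3, pr_zero, pr_br rfl hv h3, pr_br rfl hv h2, pr_of_mem h1] at h4
  have h5 := congrFun h4 i
  unfold br at h5
  rw [Matrix.mulVec_mulVec, Matrix.mulVec_mulVec, mulVec_ee, ← sq, ← pow_succ] at h5
  exact h5.symm

theorem Ge_succ {y : Q8} {n : ℤ} {v : L8 K} (hv : v ∈ LS K (Ge (cl y) n)) (h : pr (cl y) n v = 0) :
    v ∈ LS K (Ge (cl y) (n + 1)) := fun k hk => by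
  have h1 := sub_pr_Gt hv k (by rwa [h, sub_zero])
  have h2 : n < Reg5.Cls.ex y (wt k) := Int.cast_lt.1 (show (n : ℝ) < _ from h1)
  exact mem_Ge.2 (by rw [cl_apply]; exact_mod_cast h2)

variable (K lam) in
/-- the component of degree `c` of `g v` -/
noncomputable def prL (c : ℝ) (g : G8 K) : L8 K →ₗ[K] L8 K where
  toFun v := pr lam c (act g v)
  map_add' v w := by rw [act_add, pr_add]
  map_smul' a v := by rw [act_smul, pr_smul]; rfl

theorem prL_apply (c : ℝ) (g : G8 K) (v : L8 K) : prL K lam c g v = pr lam c (act g v) := rfl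

/-- the use of `KB` for a subspace of degree at least `-1` -/
theorem kb_ext (hK : KB.{u}) {ψ : Alt 6 →* G8 K} (hp : NoPar ψ) {U : Submodule K (L8 K)} (hU : Inv ψ U) {g : G8 K}
    (h : ∀ v ∈ U, act g v ∈ LS K (Ge lam (-1))) {ι : Type} [Fintype ι] {b : ι → L8 K} {d : ι → ℝ}
    (hb : LinearIndependent K b) (h1 : ∀ i, b i ∈ U) (h2 : ∀ i, 0 ≤ d i) (h3 : Dp b d g lam) :
    ∑ i, d i + finrank K ↥(U ⊓ pb g (LS K (Ge lam 0))) ≤ finrank K ↥U := by
  obtain ⟨n, b', k1, k2, k3⟩ := ext_basis hb (B := U ⊓ pb g (LS K (Ge lam 0))) fun i => ⟨h1 i, Ge_mono (h2 i) (h3 i)⟩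
  have k4 : ∀ i, Sum.elim b b' i ∈ U ⊓ pb g (LS K (Ge lam 0)) := fun i => k2 ▸ subset_span ⟨i, rfl⟩
  obtain ⟨m, b'', k5, k6, k7⟩ := ext_basis k1 (B := U) fun i => (k4 i).1
  have k8 := hK K ψ hp _ _ (Sum.elim (Sum.elim d 0) fun _ => -1) k5 (k6 ▸ hU) g lam (by
    rintro ((i | i) | i)
    · exact h3 i
    · exact (k4 (.inr i)).2
    · exact h _ (k6 ▸ subset_span ⟨.inr i, rfl⟩))
  rw [Fintype.card_sum, Fintype.card_fin, k3] at k7
  rw [← k7]
  simpa [Fintype.sum_sum_type, add_comm] using k8

end Cfsg.Agent.E8A.C63.Abc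
end

-- part: E8A/C63/KemA
section
/-!
# The boxes KSD, NRM, CANF, APT, TRANS (helper8)

* `SameF.exists_rep` : two pairs with the same filtration differ by a Weyl element and an element of the parabolic subgroup;
* `apt'` : a common apartment which keeps the second cocharacter.
-/

set_option autoImplicit false
set_option maxRecDepth 100000

namespace Cfsg.Agent.E8A.C63

open CoxeterSystem Cfsg Cfsg.Lie Matrix
open Cfsg.Agent.ChevalleyStructure Cfsg.Agent.ChevalleyStructure.Elts Cfsg.Agent.ChevalleyStructure.CoxeterGeom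
  Cfsg.Agent.ChevalleyStructure.CoxeterGeomTypes
open Cfsg.Agent.Tits.Roots Cfsg.Agent.Nodes.Reps Cfsg.Agent.Nodes.BNOf Cfsg.Agent.Nodes.RGDChev
  Cfsg.Agent.Nodes.NormalForm
open Cfsg.Agent.KFacts.RgdChevCoord
open Cfsg.Agent.H942.E8Tab (e8T)
open Cfsg.Agent.H288.E8L (wt act8)
open Cfsg.Agent.E8A.Kem (cw cw_apply nrm nrm_cw nrm_mid eq_of_nrm mk mk_apply mk_sr mk_eq continuous_mk
  Dm exists_dm Ge mem_Ge SP PL St sp_le_PL PL_le_St)
open Cfsg.Agent.E8A.Par (KS Opt Up up_of_LS up_of_St up_rep up_rep_inv mem_St)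

universe u

namespace KemA

variable {K : Type u} [Field K]

/-! ### the relation `SameF` -/

theorem sf_refl (g : G8 K) (l : Q8 →+ ℝ) : SameF g l g l := fun _ _ => Iff.rfl

theorem sf_symm {g₁ g₂ : G8 K} {l₁ l₂ : Q8 →+ ℝ} (h : SameF g₁ l₁ g₂ l₂) : SameF g₂ l₂ g₁ l₁ := fun c v => (h c v).symm

theorem sf_trans {g₁ g₂ g₃ : G8 K} {l₁ l₂ l₃ : Q8 →+ ℝ} (h : SameF g₁ l₁ g₂ l₂) (h' : SameF g₂ l₂ g₃ l₃) :
    SameF g₁ l₁ g₃ l₃ := fun c v => (h c v).trans (h' c v)

theorem sf_up {g₁ g₂ : G8 K} {l₁ l₂ : Q8 →+ ℝ} (h : SameF g₁ l₁ g₂ l₂) : Up l₁ l₂ (mx (g₂ * g₁⁻¹)) :=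
  up_of_LS fun c v hv => by
    rw [act_mul]
    exact (h c _).1 (by rwa [act_inv'])

theorem sf_of_up {g x : G8 K} {l l' : Q8 →+ ℝ} (h : Up l l' (mx x)) (h' : Up l' l (mx x⁻¹)) : SameF g l (x * g) l' :=
  fun c v => ⟨fun hv => by rw [act_mul]; exact h.LS c hv, fun hv => by
    have h1 := h'.LS c hv
    rwa [act_mul, act_inv] at h1⟩

theorem sf_St {g m : G8 K} {l : Q8 →+ ℝ} (hm : m ∈ St K l) : SameF g l (m * g) l :=
  sf_of_up (up_of_St hm) (up_of_St (inv_mem hm))

theorem sf_sp {g m : G8 K} {l : Q8 →+ ℝ} (hm : m ∈ RGD.Sup (XX chevE8 8 K) (SP l)) : SameF g l (m * g) l :=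
  sf_St (PL_le_St l (sp_le_PL l hm))

theorem sf_rep {g n : G8 K} {w : W8} (l : Q8 →+ ℝ) (hn : RepK w n) : SameF g l (n⁻¹ * g) (cw l w) :=
  sf_of_up (up_rep_inv hn) (by rw [inv_inv]; exact up_rep hn)

theorem cw_mul (l : Q8 →+ ℝ) (v w : W8) : cw (cw l v) w = cw l (v * w) :=
  AddMonoidHom.ext fun a => by rw [cw_apply, cw_apply, cw_apply, act8_mul]

theorem cw_one (l : Q8 →+ ℝ) : cw l 1 = l := AddMonoidHom.ext fun a => by rw [cw_apply, act8_one]

theorem cw_eq_of_up {l l' : Q8 →+ ℝ} {w : W8} {n : G8 K} (hn : RepK w n) (h : Up l l' (mx n)) : cw l' w = l := by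
  have h1 : ∀ a, Rt a → l a ≤ l' (act8 w a) := by
    intro a ha
    obtain ⟨r, rfl⟩ := H288.E8L.exists_idx ha
    obtain ⟨s, hs⟩ := H288.E8L.exists_idx ((H288.E8L.rt_vec r).act w)
    obtain ⟨c, hc, e⟩ := RepK.ee hn hs
    have h2 : mx n (Sum.inr s) (Sum.inr r) ≠ 0 := by
      rw [← act_ee, e, Pi.smul_apply, ee_self, smul_eq_mul, mul_one]
      exact hc
    have h3 := h _ _ h2
    rw [H288.E8L.wt_inr, H288.E8L.wt_inr, hs] at h3
    exact h3
  refine Frm.hom_ext fun i => le_antisymm ?_ (h1 _ (isRoot_sr cs8 e8T.isCartan i))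
  have h2 := h1 _ (isRoot_sr cs8 e8T.isCartan i).neg
  rw [act8_neg, map_neg, map_neg] at h2
  rw [cw_apply]
  linarith

theorem conj_sp {l : Q8 →+ ℝ} {w : W8} {n m : G8 K} (hn : RepK w n) (hm : m ∈ RGD.Sup (XX chevE8 8 K) (SP (cw l w))) :
    n * m * n⁻¹ ∈ RGD.Sup (XX chevE8 8 K) (SP l) :=
  RepK.conj_Sup (S := SP (cw l w)) (S' := SP l) hn (fun _ ha => ha.1) (fun _ ha => ⟨ha.1.act w, ha.2⟩) hm

/-- the relative position of two pairs -/
theorem exists_pos (g₁ g₂ : G8 K) (l₁ l₂ : Q8 →+ ℝ) : ∃ m₁ ∈ RGD.Sup (XX chevE8 8 K) (SP l₁),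
    ∃ m₂ ∈ RGD.Sup (XX chevE8 8 K) (SP l₂), ∃ w n, RepK w n ∧ m₂ * g₂ = n * (m₁ * g₁) := by
  obtain ⟨w₁, hw₁⟩ := exists_dm l₁
  obtain ⟨n₁, hn₁⟩ := exists_rp cs8 (nsysK K) w₁
  obtain ⟨w₂, hw₂⟩ := exists_dm l₂
  obtain ⟨n₂, hn₂⟩ := exists_rp cs8 (nsysK K) w₂
  obtain ⟨u, hu, w, n, hn, u', hu', e⟩ := bruhat (n₂⁻¹ * g₂ * g₁⁻¹ * n₁)
  have hu1 : u ∈ RGD.Sup (XX chevE8 8 K) (SP (cw l₂ w₂)) := hw₂.U_le hu
  have hu2 : u' ∈ RGD.Sup (XX chevE8 8 K) (SP (cw l₁ w₁)) :=
    RGD.Sup_mono (S' := SP _) (fun _ ha => ⟨ha.1, hw₁.nonneg ha.2.1⟩) hu'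
  refine ⟨_, conj_sp hn₁ hu2, _, conj_sp hn₂ (inv_mem hu1), w₂ * w * w₁⁻¹, n₂ * n * n₁⁻¹,
    Rp.mul (Rp.mul hn₂ hn) (Rp.inv hn₁), ?_⟩
  rw [show g₂ = n₂ * (u * n * u') * n₁⁻¹ * g₁ by rw [← e]; group]
  group

/-- **structure of `SameF`** -/
theorem sf_rep_sp {g₁ g₂ : G8 K} {l₁ l₂ : Q8 →+ ℝ} (h : SameF g₁ l₁ g₂ l₂) : ∃ m ∈ RGD.Sup (XX chevE8 8 K) (SP l₁),
    ∃ w n, RepK w n ∧ g₂ = n * (m * g₁) ∧ cw l₂ w = l₁ := by
  obtain ⟨m₁, hm₁, m₂, hm₂, w, n, hn, e⟩ := exists_pos g₁ g₂ l₁ l₂
  have h1 : SameF (m₁ * g₁) l₁ (m₂ * g₂) l₂ := sf_trans (sf_trans (sf_symm (sf_sp hm₁)) h) (sf_sp hm₂)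
  have h2 := sf_up h1
  rw [e, mul_inv_cancel_right] at h2
  have h3 := cw_eq_of_up hn h2
  have h4 : n⁻¹ * m₂⁻¹ * n⁻¹⁻¹ ∈ RGD.Sup (XX chevE8 8 K) (SP l₁) := by
    refine conj_sp (w := w⁻¹) (Rp.inv hn) ?_
    rw [← h3, cw_mul, mul_inv_cancel, cw_one]
    exact inv_mem hm₂
  refine ⟨_, mul_mem h4 hm₁, w, n, hn, ?_, h3⟩
  rw [show g₂ = m₂⁻¹ * (n * (m₁ * g₁)) by rw [← e]; group]
  group

theorem sf_nrm {g₁ g₂ : G8 K} {l₁ l₂ : Q8 →+ ℝ} (h : SameF g₁ l₁ g₂ l₂) : nrm l₁ = nrm l₂ := by
  obtain ⟨m, -, w, n, -, -, e⟩ := sf_rep_sp h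
  rw [← e, nrm_cw]

theorem ks_sf {D : G8 K → (Q8 →+ ℝ) → Prop} (hD : KS D) {g₁ g₂ : G8 K} {l₁ l₂ : Q8 →+ ℝ} (h : SameF g₁ l₁ g₂ l₂)
    (h₁ : D g₁ l₁) : D g₂ l₂ := by
  obtain ⟨m, hm, w, n, hn, e, e'⟩ := sf_rep_sp h
  have h2 := hD.rep _ _ w⁻¹ n⁻¹ (hD.sp _ _ _ h₁ hm) (Rp.inv hn)
  rwa [inv_inv, ← e, ← e', cw_mul, mul_inv_cancel, cw_one] at h2

theorem opt_sf {D : G8 K → (Q8 →+ ℝ) → Prop} (hD : KS D) {g₁ g₂ : G8 K} {l₁ l₂ : Q8 →+ ℝ} (h : SameF g₁ l₁ g₂ l₂)
    (h₁ : Opt D g₁ l₁) : Opt D g₂ l₂ := h₁.of (ks_sf hD h h₁.1) (sf_nrm h).symm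

/-- a common apartment which keeps the first cocharacter -/
theorem apt' (g₁ g₂ : G8 K) (l₁ l₂ : Q8 →+ ℝ) : ∃ g m, SameF g₁ l₁ g l₁ ∧ SameF g₂ l₂ g m := by
  obtain ⟨m₁, hm₁, m₂, hm₂, w, n, hn, e⟩ := exists_pos g₁ g₂ l₁ l₂
  refine ⟨m₁ * g₁, cw l₂ w, sf_sp hm₁, ?_⟩
  have h1 := sf_trans (sf_sp (g := g₂) hm₂) (sf_rep l₂ hn)
  rwa [e, inv_mul_cancel_left] at h1

theorem dp_sf {ι : Type} {b : ι → L8 K} {d : ι → ℝ} {g₁ g₂ : G8 K} {l₁ l₂ : Q8 →+ ℝ} (h : SameF g₁ l₁ g₂ l₂)
    (h₁ : Dp b d g₁ l₁) : Dp b d g₂ l₂ := fun i => (h _ _).1 (h₁ i)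

theorem ks_dp {ι : Type} [Finite ι] (b : ι → L8 K) (d : ι → ℝ) : KS (Dp b d) where
  closed := by
    have e : {x : Fin 8 → ℝ | ∃ g, Dp b d g (mk x)} =
        ⋃ S ∈ {S : Set (ι × chevE8.Idx) | ∃ g : G8 K, ∀ i j, act g (b i) j ≠ 0 → (i, j) ∈ S},
          ⋂ e ∈ S, {x : Fin 8 → ℝ | d e.1 ≤ mk x (wt e.2)} := by
      ext x
      simp only [Set.mem_ofPred_eq, Set.mem_iUnion, Set.mem_iInter]
      constructor
      · rintro ⟨g, hg⟩
        exact ⟨{e | d e.1 ≤ mk x (wt e.2)}, ⟨g, fun i j hj => hg i j hj⟩, fun _ hi => hi⟩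
      · rintro ⟨S, ⟨g, hg⟩, hx⟩
        exact ⟨g, fun i j hj => hx (i, j) (hg i j hj)⟩
    rw [e]
    exact (Set.toFinite _).isClosed_biUnion fun S _ =>
      isClosed_biInter fun i _ => isClosed_le continuous_const (continuous_mk _)
  mid g l₁ l₂ h₁ h₂ := fun i j hj => by
    have e₁ := mem_Ge.1 (h₁ i j hj)
    have e₂ := mem_Ge.1 (h₂ i j hj)
    rw [mem_Ge, AddMonoidHom.smul_apply, AddMonoidHom.add_apply, smul_eq_mul]
    linarith
  sp _ _ _ h hm := dp_sf (sf_sp hm) h
  rep _ lam _ _ h hn := dp_sf (sf_rep lam hn) h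

/-! ### the Levi part -/

theorem pr_apply (l : Q8 →+ ℝ) (c : ℝ) (v : L8 K) (i : chevE8.Idx) [Decidable (l (wt i) = c)] :
    pr l c v i = if l (wt i) = c then v i else 0 := by
  unfold pr
  congr

theorem pr_of_eq {l : Q8 →+ ℝ} {c : ℝ} {v : L8 K} (hv : v ∈ LS K (Eq' l c)) : pr l c v = v := by
  classical
  funext i
  rw [pr_apply]
  split_ifs with h
  · rfl
  · exact (LS_zero hv h).symm

theorem pr_of_gt {l : Q8 →+ ℝ} {c : ℝ} {v : L8 K} (hv : v ∈ LS K {a | c < l a}) : pr l c v = 0 := by
  classical
  funext i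
  rw [pr_apply]
  split_ifs with h
  · exact LS_zero hv fun h' => absurd h (ne_of_gt h')
  · rfl

theorem pr_add (l : Q8 →+ ℝ) (c : ℝ) (v w : L8 K) : pr l c (v + w) = pr l c v + pr l c w := by
  classical
  funext i
  rw [Pi.add_apply, pr_apply, pr_apply, pr_apply]
  split_ifs
  · rfl
  · rw [add_zero]

theorem pr_mem (l : Q8 →+ ℝ) (c : ℝ) (v : L8 K) : pr l c v ∈ LS K (Eq' l c) := by
  classical
  intro i hi
  rw [pr_apply] at hi
  by_contra h
  exact hi (if_neg h)

theorem St_gt {l : Q8 →+ ℝ} {y : G8 K} (hy : y ∈ St K l) (c : ℝ) {v : L8 K} (hv : v ∈ LS K {a | c < l a}) :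
    act y v ∈ LS K {a | c < l a} :=
  mulVec_LS (A := {a | c < l a}) (A' := {a | c < l a}) (fun i j hij hj =>
    show c < l (wt i) from lt_of_lt_of_le (show c < l (wt j) from hj) (up_of_St hy i j hij)) hv

/-- `m₀` is the Levi part of `m` -/
def Lv (l : Q8 →+ ℝ) (m m₀ : G8 K) : Prop :=
  m ∈ St K l ∧ ∀ c, ∀ v ∈ LS K (Eq' l c), act m₀ v ∈ LS K (Eq' l c) ∧ act m v - act m₀ v ∈ LS K {a | c < l a}

theorem Lv.mul {l : Q8 →+ ℝ} {m m₀ n n₀ : G8 K} (h : Lv l m m₀) (h' : Lv l n n₀) : Lv l (m * n) (m₀ * n₀) := by
  refine ⟨mul_mem h.1 h'.1, fun c v hv => ?_⟩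
  obtain ⟨h1, h2⟩ := h'.2 c v hv
  obtain ⟨h3, h4⟩ := h.2 c _ h1
  refine ⟨by rwa [act_mul], ?_⟩
  have e : act (m * n) v - act (m₀ * n₀) v = act m (act n v - act n₀ v) + (act m (act n₀ v) - act m₀ (act n₀ v)) := by
    rw [act_mul, act_mul, act_sub]
    abel
  rw [e]
  exact add_mem (St_gt h.1 c h2) h4

theorem exists_lv {l : Q8 →+ ℝ} {m : G8 K} (hm : m ∈ RGD.Sup (XX chevE8 8 K) (SP l)) : ∃ m₀, Lv l m m₀ := by
  let P : Subgroup (G8 K) :=
    { carrier := {m | (∃ m₀, Lv l m m₀) ∧ ∃ m₀, Lv l m⁻¹ m₀}
      one_mem' := by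
        have h1 : Lv l (1 : G8 K) 1 := ⟨one_mem _, fun c v hv => ⟨by rwa [act_one], by rw [sub_self]; exact zero_mem _⟩⟩
        exact ⟨⟨1, h1⟩, ⟨1, by rwa [inv_one]⟩⟩
      mul_mem' := by
        rintro a b ⟨⟨a₀, ha⟩, a₁, ha'⟩ ⟨⟨b₀, hb⟩, b₁, hb'⟩
        exact ⟨⟨_, ha.mul hb⟩, ⟨_, by rw [_root_.mul_inv_rev]; exact hb'.mul ha'⟩⟩
      inv_mem' := by
        rintro a ⟨ha, ha'⟩
        exact ⟨ha', by rwa [inv_inv]⟩ }
  have h0 : ∀ r : Fin chevE8.nroots, vec chevE8 8 r ∈ SP l → ∀ t : K, ∃ m₀, Lv l (xr r t) m₀ := by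
    intro r hr t
    have h1 : xr r t ∈ St K l := PL_le_St l (sp_le_PL l (xr_mem_Sup hr t))
    rcases (show 0 ≤ l (vec chevE8 8 r) from hr.2).eq_or_lt with h2 | h2
    · refine ⟨xr r t, h1, fun c v hv => ⟨act_xr_LS (fun a ha => ?_) t hv, by rw [sub_self]; exact zero_mem _⟩⟩
      show l (a + vec chevE8 8 r) = c
      rw [map_add, ← h2, add_zero]
      exact ha
    · refine ⟨1, h1, fun c v hv => ⟨by rwa [act_one], ?_⟩⟩
      rw [act_one]
      refine act_xr_sub (fun a ha k hk => ?_) t hv
      show c < l (a + (k : ℤ) • vec chevE8 8 r)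
      have h3 : l a = c := ha
      have h4 : (1 : ℝ) ≤ (k : ℝ) := by exact_mod_cast hk
      rw [map_add, map_zsmul, zsmul_eq_mul, Int.cast_natCast, h3]
      nlinarith
  have h1 : RGD.Sup (XX chevE8 8 K) (SP l) ≤ P :=
    sup_le_of (fun _ ha => ha.1) fun r hr t => ⟨h0 r hr t, by rw [xr_inv]; exact h0 r hr _⟩
  exact (h1 hm).1

/-! ### the invariant form -/

theorem B2_comm (l₁ l₂ : Q8 →+ ℝ) : B2 l₁ l₂ = B2 l₂ l₁ := Finset.sum_congr rfl fun _ _ => mul_comm _ _

theorem B2_add (l₁ l₂ l : Q8 →+ ℝ) : B2 (l₁ + l₂) l = B2 l₁ l + B2 l₂ l := by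
  unfold B2
  rw [← Finset.sum_add_distrib]
  exact Finset.sum_congr rfl fun _ _ => add_mul _ _ _

theorem B2_smul (c : ℝ) (l₁ l : Q8 →+ ℝ) : B2 (c • l₁) l = c * B2 l₁ l := by
  unfold B2
  rw [Finset.mul_sum]
  exact Finset.sum_congr rfl fun _ _ => mul_assoc _ _ _

theorem B2_eq (l₁ l₂ : Q8 →+ ℝ) :
    B2 l₁ l₂ = ∑ r : Fin chevE8.nroots, l₁ (vec chevE8 8 r) * l₂ (vec chevE8 8 r) := by
  unfold B2
  rw [Fintype.sum_sum_type, Finset.sum_eq_zero fun i _ => by rw [H288.E8L.wt_inl, map_zero, zero_mul], zero_add]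
  rfl

theorem sum_act (w : W8) (f : Q8 → ℝ) :
    ∑ r : Fin chevE8.nroots, f (act8 w (vec chevE8 8 r)) = ∑ r : Fin chevE8.nroots, f (vec chevE8 8 r) := by
  choose σ hσ using fun r : Fin chevE8.nroots => H288.E8L.exists_idx ((H288.E8L.rt_vec r).act w)
  have hi : Function.Injective σ := fun r s h => vec_injective (by
    rw [← act8_inv_act w (vec chevE8 8 r), ← act8_inv_act w (vec chevE8 8 s)]
    congr 1
    exact (hσ r).symm.trans ((congrArg (fun x : Fin chevE8.nroots => vec chevE8 8 x) h).trans (hσ s)))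
  rw [← (Equiv.ofBijective σ (Finite.injective_iff_bijective.1 hi)).sum_comp fun r => f (vec chevE8 8 r)]
  exact Finset.sum_congr rfl fun r _ => congrArg f (hσ r).symm

theorem simple_conj : ∀ p ∈ [((0 : Fin 8), (2 : Fin 8)), (2, 3), (3, 1), (3, 4), (4, 5), (5, 6), (6, 7)],
    (sr p.1 - pairing (cartanOf chevE8 8) p.2 (sr p.1) • sr p.2 : Q8) -
      pairing (cartanOf chevE8 8) p.1 (sr p.1 - pairing (cartanOf chevE8 8) p.2 (sr p.1) • sr p.2) • sr p.1 = sr p.2 := by
  (delta Cfsg.Agent.ChevalleyStructure.CoxeterGeomTypes.cartanOf; rewrite [Cfsg.Agent.ChevFast.E8.cartan]; decide +kernel)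

theorem exists_nrm : ∃ c : ℝ, 0 < c ∧ ∀ lam, nrm lam = c * B2 lam lam := by
  let _ : Fintype W8 := Fintype.ofFinite W8
  refine ⟨(Fintype.card W8 : ℝ) / 30, div_pos (Nat.cast_pos.2 Fintype.card_pos) (by norm_num), fun lam => ?_⟩
  let F : Q8 → ℝ := fun a => ∑ w : W8, lam (act8 w a) ^ 2
  have hF : ∀ v a, F (act8 v a) = F a := fun v a => by
    rw [show F a = ∑ w : W8, lam (act8 (w * v) a) ^ 2 from
      (Equiv.sum_comp (Equiv.mulRight v) fun w => lam (act8 w a) ^ 2).symm]
    exact Finset.sum_congr rfl fun w _ => by rw [act8_mul]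
  have h1 : ∀ p ∈ [((0 : Fin 8), (2 : Fin 8)), (2, 3), (3, 1), (3, 4), (4, 5), (5, 6), (6, 7)], F (sr p.2) = F (sr p.1) := by
    intro p hp
    rw [← simple_conj p hp, ← Kem.act8_simple, ← Kem.act8_simple, hF, hF]
  have h2 : ∀ i, F (sr i) = F (sr 0) := by
    have a2 := h1 (0, 2) (by simp)
    have a3 := h1 (2, 3) (by simp)
    have a1 := h1 (3, 1) (by simp)
    have a4 := h1 (3, 4) (by simp)
    have a5 := h1 (4, 5) (by simp)
    have a6 := h1 (5, 6) (by simp)
    have a7 := h1 (6, 7) (by simp)
    intro i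
    fin_cases i
    · rfl
    · exact a1.trans (a3.trans a2)
    · exact a2
    · exact a3.trans a2
    · exact a4.trans (a3.trans a2)
    · exact a5.trans (a4.trans (a3.trans a2))
    · exact a6.trans (a5.trans (a4.trans (a3.trans a2)))
    · exact a7.trans (a6.trans (a5.trans (a4.trans (a3.trans a2))))
  have h3 : ∀ r : Fin chevE8.nroots, F (vec chevE8 8 r) = F (sr 0) := fun r => by
    obtain ⟨w, i, e⟩ := H288.E8L.rt_vec r
    rw [e]
    exact (hF w _).trans (h2 i)
  have h4 : nrm lam = 8 * F (sr 0) := by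
    show ∑ w : W8, ∑ i : Fin 8, lam (act8 w (sr i)) ^ 2 = _
    rw [Finset.sum_comm, Finset.sum_congr rfl fun i _ => h2 i, Finset.sum_const, Finset.card_univ, Fintype.card_fin,
      nsmul_eq_mul, Nat.cast_ofNat]
  have h5 : ∑ r : Fin chevE8.nroots, F (vec chevE8 8 r) = 240 * F (sr 0) := by
    rw [Finset.sum_congr rfl fun r _ => h3 r, Finset.sum_const, Finset.card_univ, Fintype.card_fin, nroots8,
      nsmul_eq_mul, Nat.cast_ofNat]
  have h6 : ∑ r : Fin chevE8.nroots, F (vec chevE8 8 r) = (Fintype.card W8 : ℝ) * B2 lam lam := by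
    rw [show ∑ r : Fin chevE8.nroots, F (vec chevE8 8 r) =
      ∑ w : W8, ∑ r : Fin chevE8.nroots, lam (act8 w (vec chevE8 8 r)) ^ 2 from Finset.sum_comm,
      Finset.sum_congr rfl fun w _ => sum_act w fun a => lam a ^ 2, Finset.sum_const, Finset.card_univ, nsmul_eq_mul,
      B2_eq]
    congr 1
    exact Finset.sum_congr rfl fun r _ => sq _
  rw [h4]
  linarith

private noncomputable def _root_.Cfsg.Agent.LsF.fbfe8f4_0 : {f // @Cfsg.Agent.ChevalleyStructure.RootVecTab.dig = f} := ⟨_, by first | (delta Cfsg.Agent.ChevalleyStructure.RootVecTab.dig; rewrite [Cfsg.Agent.LsF.nmul_pat]; exact rfl) | exact rfl⟩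
private noncomputable def _root_.Cfsg.Agent.LsF.fbfe8f4_1 : {f // @Cfsg.Agent.ChevalleyStructure.RootVecTab.packTab = f} := ⟨_, by first | (delta Cfsg.Agent.ChevalleyStructure.RootVecTab.packTab; rewrite [Cfsg.Agent.LsF.instDecEq_eq, Cfsg.Agent.LsF.ite_eq]; exact rfl) | exact rfl⟩
private noncomputable def _root_.Cfsg.Agent.LsF.fbfe8f4_2 : {f // @Cfsg.Agent.ChevalleyStructure.RootVecTab.code = f} := ⟨_, by first | (delta Cfsg.Agent.ChevalleyStructure.RootVecTab.code; rewrite [Cfsg.Agent.LsF.fbfe8f4_1.2, Cfsg.Agent.LsF.nmul_pat, Cfsg.Agent.LsF.npow_pat]; exact rfl) | exact rfl⟩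
private noncomputable def _root_.Cfsg.Agent.LsF.fbfe8f4_3 : {f // @Cfsg.Agent.ChevalleyStructure.RootVec.rt = f} := ⟨_, by first | (delta Cfsg.Agent.ChevalleyStructure.RootVec.rt; rewrite [Cfsg.Agent.LsF.fbfe8f4_0.2, Cfsg.Agent.LsF.fbfe8f4_2.2, Cfsg.Agent.LsF.nsub_pat, Cfsg.Agent.LsF.isub_pat, Cfsg.Agent.LsF.icast_pat, Cfsg.Agent.LsF.decLt_eq, Cfsg.Agent.LsF.dAnd_eq, Cfsg.Agent.LsF.ite_eq]; exact rfl) | exact rfl⟩
private noncomputable def _root_.Cfsg.Agent.LsF.fbfe8f4_4 : {f // @Cfsg.Agent.Nodes.RGDChev.vec = f} := ⟨_, by first | (delta Cfsg.Agent.Nodes.RGDChev.vec; rewrite [Cfsg.Agent.LsF.fbfe8f4_3.2]; exact rfl) | exact rfl⟩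
private noncomputable def _root_.Cfsg.Agent.LsF.fbfe8f4_5 : {f // @Cfsg.Agent.E8A.B8 = f} := ⟨_, by first | (delta Cfsg.Agent.E8A.B8; rewrite [Cfsg.Agent.LsF.vecCons_eq]; exact rfl) | exact rfl⟩
theorem sum_vec : ∀ j k : Fin 8, ∑ r : Fin 240, vec chevE8 8 r j * vec chevE8 8 r k = 60 * B8 j k := by
  (refine of_decide_eq_true ?_; (try (rewrite [Cfsg.Agent.LsF.fbfe8f4_4.2, Cfsg.Agent.LsF.fbfe8f4_5.2, Cfsg.Agent.LsF.imul_pat, Cfsg.Agent.LsF.finFintype_eq, Cfsg.Agent.LsF.fsum_eq, Cfsg.Agent.LsF.iACM_eq, Cfsg.Agent.LsF.instIDecEq_eq, Cfsg.Agent.LsF.dForallFin_eq, Cfsg.Agent.LsF.decide_eq])); decide +kernel)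

theorem B2_cl (y z : Q8) : B2 (cl y) (cl z) = 60 * (Two.bw y z : ℝ) := by
  rw [B2_eq]
  have h1 : ∑ r : Fin chevE8.nroots, Reg5.Cls.ex y (vec chevE8 8 r) * Reg5.Cls.ex z (vec chevE8 8 r) = 60 * Two.bw y z := by
    show ∑ r : Fin 240, (∑ j, vec chevE8 8 r j * y j) * (∑ k, vec chevE8 8 r k * z k) = 60 * ∑ j, ∑ k, y j * B8 j k * z k
    simp only [Finset.sum_mul_sum]
    rw [Finset.sum_comm, Finset.mul_sum]
    refine Finset.sum_congr rfl fun j _ => ?_
    rw [Finset.sum_comm, Finset.mul_sum]
    refine Finset.sum_congr rfl fun k _ => ?_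
    rw [show 60 * (y j * B8 j k * z k) = 60 * B8 j k * (y j * z k) by ring, ← sum_vec, Finset.sum_mul]
    exact Finset.sum_congr rfl fun r _ => by ring
  have h2 := congrArg (fun x : ℤ => (x : ℝ)) h1
  simp only [Int.cast_sum, Int.cast_mul, Int.cast_ofNat] at h2
  exact h2

end KemA

open KemA

/-- **KSD** -/
theorem ksd : KSD.{u} := fun _ _ _ _ b d => ks_dp b d

/-- **NRM** -/
theorem nrm_box : NRM := ⟨exists_nrm, fun y => B2_cl y y⟩

/-- **CANF** -/
theorem canf : CANF.{u} := by
  intro K _ D hD g₁ l₁ g₂ l₂ h₁ h₂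
  obtain ⟨g, m, s₁, s₂⟩ := apt' g₁ g₂ l₁ l₂
  have e := hD.unique (opt_sf hD s₁ h₁) (opt_sf hD s₂ h₂)
  subst e
  exact sf_trans s₁ (sf_symm s₂)

/-- **APT** -/
theorem apt : APT.{u} := by
  intro K _ g₁ g₂ l₁ l₂
  obtain ⟨g, m, s₁, s₂⟩ := apt' g₁ g₂ l₁ l₂
  exact ⟨g, l₁, m, rfl, (sf_nrm s₂).symm, sf_symm s₁, sf_symm s₂⟩

/-- **TRANS** -/
theorem trans_box : TRANS.{u} := by
  intro K _ g g₁ ν l h
  obtain ⟨m, hm, w, n, hn, e, e'⟩ := sf_rep_sp (sf_symm h)
  obtain ⟨m₀, h₀⟩ := exists_lv (inv_mem hm)
  refine ⟨m₀ * (m * g₁), fun c v hv => ?_⟩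
  have h1 : act (m * g₁) v ∈ LS K (Eq' l c) := by
    rw [show m * g₁ = n⁻¹ * g by rw [e]; group, act_mul]
    refine RepK.LS (w := w⁻¹) (Rp.inv hn) (fun a ha => ?_) hv
    show l (act8 w⁻¹ a) = c
    rw [← e', cw_apply, act8_act_inv]
    exact ha
  obtain ⟨h2, h3⟩ := h₀.2 c _ h1
  have e2 : act g₁ v = act m₀ (act (m * g₁) v) + (act m⁻¹ (act (m * g₁) v) - act m₀ (act (m * g₁) v)) := by
    rw [add_sub_cancel, act_mul, act_inv]
  rw [e2, pr_add, pr_of_eq h2, pr_of_gt h3, add_zero, act_mul]

end Cfsg.Agent.E8A.C63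
end

-- part: E8A/C63/Sv
section
/-!
# Sparse vectors of the Lie algebra of type `E₈`: a kernel tool (helper55)

Keys: the roots `0, …, 239`, the simple coroots `240 + i`.  Python twin: `notes/E8A/c63/lean8.py`.

* `sv K l` : the vector of a list of (key, integer); `eb K k` : the basis vector; `dec n` : packed lists;
* `brS`, `br_sv` : the bracket; `nz` : normal form modulo three; `z3`, `eq3` : tests modulo three;
* `xk r t`, `xS`, `act_xk`; `wG K w`, `wS`, `act_wG` : root elements and words;
* `wk k` : the weight of a key, `dg y k` : its degree; `allK`, `sv_mem`, `sv_mem_Eq`, `wG_Eq`;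
* `exists_tor` : the torus element of a cocharacter.
-/

set_option autoImplicit false
set_option maxRecDepth 100000
set_option exponentiation.threshold 4000

namespace Cfsg.Agent.E8A.C63.Sv

open Cfsg Cfsg.Lie Module Matrix
open Cfsg.Agent.H288.E8L (Q8 wt)
open Cfsg.Agent.ChevalleyStructure Cfsg.Agent.ChevalleyStructure.JacTab Cfsg.Agent.ChevalleyStructure.JacBridge
  Cfsg.Agent.ChevalleyStructure.JacMain
open Cfsg.Agent.ChevalleyStructure.JacDataE8 (rows Rs Hs)
open Cfsg.Agent.E8A.Reg5.Cls (ex)

universe u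

/-- sparse vectors -/
abbrev SV : Type := List (ℕ × ℤ)

/-- the key of an index -/
abbrev ky : chevE8.Idx → ℕ := key chevE8

theorem ky_lt (x : chevE8.Idx) : ky x < 248 := by
  have h := key_lt chevE8 x
  rwa [nroots8, rank8] at h

theorem ky_surj {k : ℕ} (h : k < 248) : ∃ x, ky x = k := key_surj chevE8 k (by rw [nroots8, rank8]; exact h)

theorem ky_inj {x y : chevE8.Idx} (h : ky x = ky y) : x = y := key_injective chevE8 h

theorem ky_inr (r : Fin chevE8.nroots) : ky (Sum.inr r) = r.val := rfl

theorem ky_inl (i : Fin chevE8.rank) : ky (Sum.inl i) = 240 + i.val := by rw [ky, key_inl, nroots8]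

/-! ### the computations -/

/-- evaluate a number first -/
noncomputable def frc {α : Type} (n : ℕ) (f : ℕ → α) : α := Nat.rec (f 0) (fun k _ => f (Nat.succ k)) n

theorem frc_eq {α : Type} (n : ℕ) (f : ℕ → α) : frc n f = f n := by cases n <;> rfl

/-- add `c [e_R, y]` -/
noncomputable def adS (R : Row) (c : ℤ) (y acc : SV) : SV :=
  List.rec (motive := fun _ => SV) acc (fun p _ ih => actE R p.1 (Int.mul c p.2) ih) y

/-- the bracket, not reduced -/
noncomputable def br0 (x y : SV) : SV :=
  List.rec (motive := fun _ => SV) [] (fun p _ ih => adS (rowAt rows p.1) p.2 y ih) x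

/-- the residue modulo three -/
def m3 (m : ℤ) : ℕ := Int.natAbs (Int.emod m 3)

/-- reduction modulo three, with continuation -/
noncomputable def nf (l : SV) : (SV → SV) → SV :=
  List.rec (motive := fun _ => (SV → SV) → SV) (fun k => k [])
    (fun p _ ih k => ih fun t => Nat.rec (motive := fun _ => SV) (k t)
      (fun n _ => frc p.1 fun a => Nat.rec (motive := fun _ => SV) (k ((a, Int.ofNat 1) :: t))
        (fun _ _ => k ((a, Int.negSucc 0) :: t)) n) (m3 p.2)) l

/-- reduction modulo three -/
noncomputable def nz (l : SV) : SV := nf l fun t => t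

/-- the bracket -/
noncomputable def brS (x y : SV) : SV := nz (br0 x y)

/-- all coefficients are divisible by three -/
noncomputable def z3 (l : SV) : Bool :=
  List.rec (motive := fun _ => Bool) true
    (fun p _ ih => Bool.rec (motive := fun _ => Bool) false ih (Nat.beq (m3 p.2) 0)) l

/-- the sum -/
noncomputable def adL (x y : SV) : SV := addH (Int.ofNat 1) x (addH (Int.ofNat 1) y [])

/-- equality modulo three -/
noncomputable def eq3 (x y : SV) : Bool := z3 (addH (Int.negSucc 0) x (addH (Int.ofNat 1) y []))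

/-- a coefficient -/
noncomputable def cf (l : SV) (k : ℕ) : ℤ :=
  List.rec (motive := fun _ => ℤ) (Int.ofNat 0)
    (fun p _ ih => Bool.rec (motive := fun _ => ℤ) ih (Int.add p.2 ih) (Nat.beq k p.1)) l

/-- a root element -/
noncomputable def xS (r : ℕ) (t : ℤ) (l : SV) : SV :=
  Bool.rec (motive := fun _ => SV) l
    (nz (insM r (Int.neg (Int.mul (Int.mul t t) (cf l (Nat.sub 239 r)))) (addH (Int.ofNat 1) l (adS (rowAt rows r) t l []))))
    (Nat.blt r 240)

/-- a word in root elements; the last letter acts first -/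
noncomputable def wS (w : SV) (l : SV) : SV := List.rec (motive := fun _ => SV) l (fun p _ ih => xS p.1 p.2 ih) w

/-- unpacking: digits in base `1024`, `key + 256` for the coefficient `1`, `key + 512` for `-1` -/
noncomputable def decA (f : ℕ) : ℕ → SV :=
  Nat.rec (motive := fun _ => ℕ → SV) (fun _ => [])
    (fun _ ih n => Bool.rec (motive := fun _ => SV)
      ((Nat.land n 255, Bool.rec (motive := fun _ => ℤ) (Int.negSucc 0) (Int.ofNat 1) (Nat.testBit n 8)) ::
        ih (Nat.shiftRight n 10)) [] (Nat.beq n 0)) f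

/-- unpacking -/
noncomputable def dec (n : ℕ) : SV := nz (decA 300 n)

/-- all keys satisfy `p` -/
noncomputable def allK (p : ℕ → Bool) (l : SV) : Bool :=
  List.rec (motive := fun _ => Bool) true (fun q _ ih => Bool.rec (motive := fun _ => Bool) false ih (p q.1)) l

/-- the packed weights -/
def PK : ℕ := 0x8888888888888888888888888888888888888888888888888888888888888888abcdecba9bcdecba9acdecba9abdecba9abcecba9abcdcba9abcdbba9abcdcaa9abcdbaa9abccbaa9abbcbaa9aabcbaa99abcbaa89abcbaa9abcdbb99abcdba99abccba99abbcba99aabcba999abcba989abcba99abccaa99abbcaa99aabcaa999abcaa989abcaa99abbbaa99aabbaa999abbaa989abbaa99aaabaa999aabaa989aabaa9999abaa9899abaa9889abaa99abbba999aabba9999abba9989abba999aaaba9999aaba9989aaba99999aba99899aba99889aba999aaaaa9999aaaa9989aaaa99999aaa99899aaa99889aaa999999aa998999aa998899aa998889aa999aaaa99999aaa99989aaa999999aa999899aa999889aa9999999a9998999a9998899a9998889a9999999999989999999889999998889999988889999999999898999998988999989888999898888998988888989888888899aaaa99899aaa99889aaa998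999aa998899aa998889aa9989999a9988999a9988899a9988889a9989999999889999998889999988889999888889998999998988999989888999898888998988888989888888898999999888999998888999988888999888888998888888988999998888999988888999888888998888888988899998888899988888899888888898888999888888998888888988888998888888988888898888888788888888788888877888888887888888778888877788888888788888877888887778888777788888888788888877888887778888777788877777888888887888888778888877788887777888777778877777788888888788888787888877878887778788777787877777878888877788887777888777778877777787777777888876778887767788777677877776778887667788776677877766778876667787766677876666778888888878888878788887787888777878877778787777787777777878888777788877777887777778777777777777777888767778877677787776777777767778876677787766777777667778766677777666777766667778887667788776677877766777777667788766677877666777776667787666677776666777666667788765677877656777776567787665677776656777666567787655677776556777665567776555677887656678776566777765667876656677766566776665667876556677765566776655667765556678765466777654667766546677655466776544667876545677765456776654567765545677654456776543567765435578765456677654566766545667655456676544566765435667654346676543556765434567654245676532456764324567543245665432456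

/-- a coordinate of a weight, plus eight -/
def wn (k i : ℕ) : ℕ := Nat.land (Nat.shiftRight PK (Nat.add (Nat.mul 32 k) (Nat.mul 4 i))) 15

/-- a coordinate of a weight -/
def wc (k i : ℕ) : ℤ := Int.subNatNat (wn k i) 8

/-- the weight of a key -/
def wk (k : ℕ) : Q8 := fun i => wc k i.val

/-- the degree of a key -/
def dg (y : Q8) (k : ℕ) : ℤ :=
  wc k 0 * y 0 + wc k 1 * y 1 + wc k 2 * y 2 + wc k 3 * y 3 + wc k 4 * y 4 + wc k 5 * y 5 + wc k 6 * y 6 + wc k 7 * y 7

/-- all keys have degree `d` -/
noncomputable def dgE (y : Q8) (d : ℤ) (l : SV) : Bool := allK (fun k => intZ (Int.sub (dg y k) d)) l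

/-! ### the semantics -/

section Sem

variable (K : Type u) [Field K]

/-- the basis vector of a key -/
def eb (k : ℕ) : L8 K := fun x => if ky x = k then 1 else 0

/-- the vector of a list -/
def sv (l : SV) : L8 K := fun x => ((JacTab.ev ky l x : ℤ) : K)

/-- the root element of a key -/
def xk (r : ℕ) (t : K) : G8 K := if h : r < chevE8.nroots then xr ⟨r, h⟩ t else 1

/-- the element of a word -/
def wG (w : SV) : G8 K := (w.map fun p => xk K p.1 (p.2 : K)).prod

variable {K}

theorem eb_ky (x : chevE8.Idx) : eb K (ky x) = ee K x := by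
  funext y
  rw [ee_apply, eb]
  by_cases h : y = x
  · rw [if_pos h, if_pos (by rw [h])]
  · rw [if_neg h, if_neg fun e => h (ky_inj e)]

theorem eb_root {r : ℕ} (h : r < chevE8.nroots) : eb K r = ee K (Sum.inr ⟨r, h⟩) := eb_ky (Sum.inr ⟨r, h⟩)

theorem eb_ge {k : ℕ} (h : 248 ≤ k) : eb K k = 0 := by
  funext y
  have := ky_lt y
  exact if_neg (by omega)

theorem bv_cast (k : ℕ) (x : chevE8.Idx) : ((JacTab.bv ky k x : ℤ) : K) = eb K k x := by
  unfold JacTab.bv eb
  split_ifs <;> simp

theorem sv_nil : sv K [] = 0 := by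
  funext x; simp [sv, JacTab.ev]

theorem sv_cons (p : ℕ × ℤ) (l : SV) : sv K (p :: l) = (p.2 : K) • eb K p.1 + sv K l := by
  funext x
  show ((JacTab.ev ky (p :: l) x : ℤ) : K) = (p.2 : K) * eb K p.1 x + ((JacTab.ev ky l x : ℤ) : K)
  rw [ev_cons, Pi.add_apply, Pi.smul_apply, smul_eq_mul, Int.cast_add, Int.cast_mul, bv_cast]

theorem sv_one (k : ℕ) : sv K [(k, 1)] = eb K k := by
  rw [sv_cons, sv_nil, add_zero, Int.cast_one, one_smul]

theorem sv_append (l l' : SV) : sv K (l ++ l') = sv K l + sv K l' := by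
  induction l with
  | nil => rw [List.nil_append, sv_nil, zero_add]
  | cons p l ih => rw [List.cons_append, sv_cons, sv_cons, ih, add_assoc]

theorem sv_insM (k : ℕ) (m : ℤ) (l : SV) : sv K (insM k m l) = (m : K) • eb K k + sv K l := by
  rw [← sv_cons (k, m)]
  funext x
  unfold sv
  rw [ev_insM, ev_cons]

theorem sv_addH (c : ℤ) (h acc : SV) : sv K (addH c h acc) = (c : K) • sv K h + sv K acc := by
  funext x
  show ((JacTab.ev ky (addH c h acc) x : ℤ) : K) = (c : K) * ((JacTab.ev ky h x : ℤ) : K) + ((JacTab.ev ky acc x : ℤ) : K)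
  rw [ev_addH, Pi.add_apply, Pi.smul_apply, smul_eq_mul, Int.cast_add, Int.cast_mul]

theorem sv_actE (R : Row) (k : ℕ) (c : ℤ) (acc : SV) : sv K (actE R k c acc) = (c : K) • sv K (rbr R k) + sv K acc := by
  funext x
  show ((JacTab.ev ky (actE R k c acc) x : ℤ) : K) =
    (c : K) * ((JacTab.ev ky (rbr R k) x : ℤ) : K) + ((JacTab.ev ky acc x : ℤ) : K)
  rw [ev_actE, Pi.add_apply, Pi.smul_apply, smul_eq_mul, Int.cast_add, Int.cast_mul]

theorem sv_adL (x y : SV) : sv K (adL x y) = sv K x + sv K y := by
  rw [adL, sv_addH, sv_addH, sv_nil, add_zero]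
  simp

theorem rows_lt : rows.all (fun R => Nat.blt R.r (Nat.pow 2 3968)) = true := by decide +kernel

theorem rows_len : rows.length = 248 := by decide +kernel

theorem rbr_zero (R : Row) {k : ℕ} (h : R.r >>> (16 * k) = 0) : rbr R k = [] := by
  have : Nat.land (Nat.shiftRight R.r (Nat.mul 16 k)) 65535 = 0 := by
    show (R.r >>> (16 * k)) &&& 65535 = 0
    rw [h, Nat.zero_and]
  unfold rbr
  rw [this]
  rfl

theorem ad_entry (x y z : chevE8.Idx) : adA chevE8 x y z = JacTab.ev ky (rbr (rowAt rows (ky x)) (ky z)) y := by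
  have hs : ∀ r < chevE8.nroots, Columns.sortedFrom 0 (Columns.row chevE8 r) = true := fun r hr =>
    (Good.goodAt_of_mem chevE8 (by simp) r hr).sorted
  have hn : ∀ r < chevE8.nroots, chevE8.neg r ≠ r := fun r hr => (Good.goodAt_of_mem chevE8 (by simp) r hr).neg_ne
  have B := bridge_sound chevE8 Rs Hs JacE8.bridge_ok hs
  rw [← AX_eq_adA B hn hs]
  rfl

theorem br_eb (a b : ℕ) : br (eb K a) (eb K b) = sv K (rbr (rowAt rows a) b) := by
  by_cases ha : a < 248
  · by_cases hb : b < 248
    · obtain ⟨x, rfl⟩ := ky_surj ha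
      obtain ⟨z, rfl⟩ := ky_surj hb
      rw [eb_ky, eb_ky]
      funext y
      rw [br, mulVec_ee, Par.adm_ee, ad_entry]
      rfl
    · rw [eb_ge (not_lt.1 hb), TwoH.br_zero_right, rbr_zero, sv_nil]
      have h1 : rowAt rows a ∈ rows := by
        rw [rowAt_eq, List.getD_eq_getElem _ _ (by rw [rows_len]; exact ha)]
        exact List.getElem_mem _
      have h2 : (rowAt rows a).r < 2 ^ 3968 := by
        have := List.all_eq_true.1 rows_lt _ h1
        exact Nat.blt_eq.mp this
      exact Nat.shiftRight_eq_zero _ _ (lt_of_lt_of_le h2 (Nat.pow_le_pow_right (by norm_num) (by omega)))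
  · rw [eb_ge (not_lt.1 ha), TwoH.br_zero_left, rbr_zero, sv_nil]
    rw [rowAt_eq, List.getD_eq_default _ _ (by rw [rows_len]; omega)]
    exact Nat.zero_shiftRight _

theorem sv_adS (a : ℕ) (c : ℤ) (y acc : SV) :
    sv K (adS (rowAt rows a) c y acc) = (c : K) • br (eb K a) (sv K y) + sv K acc := by
  induction y with
  | nil => rw [sv_nil, TwoH.br_zero_right, smul_zero, zero_add]; rfl
  | cons p y ih =>
    have : adS (rowAt rows a) c (p :: y) acc = actE (rowAt rows a) p.1 (c * p.2) (adS (rowAt rows a) c y acc) := rfl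
    rw [this, sv_actE, ih, sv_cons, br_add_right, br_smul_right, br_eb, smul_add, smul_smul, Int.cast_mul, add_assoc]

theorem sv_br0 (x y : SV) : sv K (br0 x y) = br (sv K x) (sv K y) := by
  induction x with
  | nil => rw [sv_nil, TwoH.br_zero_left]; exact sv_nil
  | cons p x ih =>
    have : br0 (p :: x) y = adS (rowAt rows p.1) p.2 y (br0 x y) := rfl
    rw [this, sv_adS, ih, sv_cons, br_add_left, br_smul_left]

theorem cf_eq (l : SV) (x : chevE8.Idx) : sv K l x = ((cf l (ky x) : ℤ) : K) := by
  induction l with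
  | nil => rw [sv_nil]; exact (Int.cast_zero).symm
  | cons p l ih =>
    have : cf (p :: l) (ky x) = Bool.rec (motive := fun _ => ℤ) (cf l (ky x)) (p.2 + cf l (ky x)) (Nat.beq (ky x) p.1) := rfl
    rw [this, sv_cons, Pi.add_apply, Pi.smul_apply, smul_eq_mul, ih, eb]
    cases h : Nat.beq (ky x) p.1
    · rw [if_neg (Nat.ne_of_beq_eq_false h), mul_zero, zero_add]
    · rw [if_pos (Nat.eq_of_beq_eq_true h), mul_one, Int.cast_add]

theorem allK_spec {p : ℕ → Bool} {l : SV} (h : allK p l = true) : ∀ q ∈ l, p q.1 = true := by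
  induction l with
  | nil => intro q hq; cases hq
  | cons a l ih =>
    have e : allK p (a :: l) = Bool.rec (motive := fun _ => Bool) false (allK p l) (p a.1) := rfl
    rw [e] at h
    cases h1 : p a.1
    · rw [h1] at h; cases h
    · rw [h1] at h
      intro q hq
      rcases List.mem_cons.1 hq with rfl | hq
      · exact h1
      · exact ih h q hq

private noncomputable def _root_.Cfsg.Agent.LsF.fbfe8f4_6 : {f // @Cfsg.Agent.ChevFast.dz = f} := ⟨_, by first | (delta Cfsg.Agent.ChevFast.dz; rewrite [Cfsg.Agent.LsF.cond_eq]; exact rfl) | exact rfl⟩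
private noncomputable def _root_.Cfsg.Agent.LsF.fbfe8f4_7 : {f // @Cfsg.Agent.ChevFast.gz = f} := ⟨_, by first | (delta Cfsg.Agent.ChevFast.gz; rewrite [Cfsg.Agent.LsF.fbfe8f4_6.2]; exact rfl) | exact rfl⟩
theorem wc_root : ∀ r < 240, ∀ i < 8, wc r i = (chevE8.coroot.getD r #[]).getD i 0 := by (rewrite [Cfsg.Agent.ChevFast.E8.coroot]; (refine of_decide_eq_true ?_; (try (rewrite [Cfsg.Agent.LsF.fbfe8f4_7.2, Cfsg.Agent.LsF.cond_eq, Cfsg.Agent.LsF.agetD_eq, Cfsg.Agent.LsF.instIDecEq_eq, Cfsg.Agent.LsF.dBallLT_eq, Cfsg.Agent.LsF.decide_eq])); decide +kernel))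

theorem wc_tor : ∀ j < 8, ∀ i < 8, wc (240 + j) i = 0 := by decide +kernel

theorem wk_ky (x : chevE8.Idx) : wk (ky x) = wt x := by
  funext i
  rcases x with j | r
  · rw [ky_inl]
    exact wc_tor j.val (rank8 ▸ j.2) i.val i.2
  · have h := TwoH.cor_vec r (xi i)
    rw [ix_xi] at h
    exact (wc_root r.val (nroots8 ▸ r.2) i.val i.2).trans h

theorem wk_root {r : ℕ} (h : r < chevE8.nroots) : wk r = Nodes.RGDChev.vec chevE8 8 r := wk_ky (Sum.inr ⟨r, h⟩)

theorem dg_eq (y : Q8) (k : ℕ) : dg y k = ex y (wk k) := by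
  unfold dg ex
  rw [Fin.sum_univ_eight]
  rfl

theorem eb_mem {A : Set Q8} {k : ℕ} (h : wk k ∈ A) : eb K k ∈ LS K A := by
  by_cases hk : k < 248
  · obtain ⟨x, rfl⟩ := ky_surj hk
    rw [eb_ky]
    exact ee_mem_LS (wk_ky x ▸ h)
  · rw [eb_ge (not_lt.1 hk)]
    exact Submodule.zero_mem _

theorem sv_mem_of {U : Submodule K (L8 K)} {l : SV} (h : ∀ q ∈ l, eb K q.1 ∈ U) : sv K l ∈ U := by
  induction l with
  | nil => rw [sv_nil]; exact U.zero_mem
  | cons p l ih =>
    rw [sv_cons]
    exact U.add_mem (U.smul_mem _ (h p List.mem_cons_self)) (ih fun q hq => h q (List.mem_cons_of_mem _ hq))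

theorem sv_mem {A : Set Q8} {p : ℕ → Bool} (hp : ∀ k, p k = true → wk k ∈ A) {l : SV} (h : allK p l = true) :
    sv K l ∈ LS K A := sv_mem_of fun q hq => eb_mem (hp _ (allK_spec h q hq))

theorem dg_mem {y : Q8} {d : ℤ} {k : ℕ} (h : intZ (Int.sub (dg y k) d) = true) : wk k ∈ Eq' (cl y) (d : ℝ) := by
  have h1 : dg y k - d = 0 := eq_zero_of_intZ _ h
  rw [mem_Eq, cl_apply, ← dg_eq, sub_eq_zero.1 h1]

theorem sv_mem_Eq {y : Q8} {d : ℤ} {l : SV} (h : dgE y d l = true) : sv K l ∈ LS K (Eq' (cl y) (d : ℝ)) :=
  sv_mem (fun _ hk => dg_mem hk) h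

theorem wG_nil : wG K [] = 1 := rfl

theorem wG_cons (p : ℕ × ℤ) (w : SV) : wG K (p :: w) = xk K p.1 (p.2 : K) * wG K w := by
  rw [wG, List.map_cons, List.prod_cons]; rfl

theorem xk_LS {A : Set Q8} {r : ℕ} (h : ∀ a ∈ A, a + wk r ∈ A) (t : K) {v : L8 K} (hv : v ∈ LS K A) :
    act (xk K r t) v ∈ LS K A := by
  unfold xk
  split_ifs with hr
  · exact act_xr_LS (r := ⟨r, hr⟩) (by rw [wk_root hr] at h; exact h) t hv
  · rwa [act_one]

theorem wG_LS {A : Set Q8} {w : SV} (h : ∀ q ∈ w, ∀ a ∈ A, a + wk q.1 ∈ A) {v : L8 K} (hv : v ∈ LS K A) :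
    act (wG K w) v ∈ LS K A := by
  induction w with
  | nil => rwa [wG_nil, act_one]
  | cons p w ih =>
    rw [wG_cons, act_mul]
    exact xk_LS (h p List.mem_cons_self) _ (ih fun q hq => h q (List.mem_cons_of_mem _ hq))

/-- words in roots of degree zero preserve the grading -/
theorem wG_Eq {lam : Q8 →+ ℝ} {w : SV} (h : ∀ q ∈ w, lam (wk q.1) = 0) {c : ℝ} {v : L8 K} (hv : v ∈ LS K (Eq' lam c)) :
    act (wG K w) v ∈ LS K (Eq' lam c) :=
  wG_LS (fun q hq a ha => by rw [mem_Eq] at ha ⊢; rw [map_add, ha, h q hq, add_zero]) hv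

theorem wG_cl {y : Q8} {w : SV} (h : dgE y 0 w = true) {c : ℝ} {v : L8 K} (hv : v ∈ LS K (Eq' (cl y) c)) :
    act (wG K w) v ∈ LS K (Eq' (cl y) c) :=
  wG_Eq (fun q hq => by simpa using mem_Eq.1 (dg_mem (allK_spec h q hq))) hv

/-- the torus element of a cocharacter -/
theorem exists_tor {c : K} (hc : c ≠ 0) (y : Q8) : ∃ t : G8 K, (∀ (A : Set Q8), ∀ v ∈ LS K A, act t v ∈ LS K A) ∧
    ∀ (d : ℤ), ∀ v ∈ LS K (Eq' (cl y) (d : ℝ)), act t v = c ^ d • v := by
  obtain ⟨t, ht, h⟩ := TwoH.exists_tz hc y
  refine ⟨t, fun A v hv => act_TT_LS ht hv, fun d v hv => ?_⟩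
  funext i
  rw [act, h, Reg5.Cls.dz, mulVec_diagonal, Pi.smul_apply, smul_eq_mul]
  by_cases hi : v i = 0
  · rw [hi, mul_zero, mul_zero]
  · have h1 := mem_Eq.1 (mem_LS.1 hv i hi)
    rw [cl_apply, Int.cast_inj] at h1
    rw [h1]

variable [CharP K 3]

theorem cast_m3 (m : ℤ) : (m : K) = ((m3 m : ℕ) : K) := by
  have h1 : ((m3 m : ℕ) : ℤ) = m % 3 := Int.natAbs_of_nonneg (Int.emod_nonneg _ (by norm_num))
  have h2 : ((3 : ℤ) : K) = 0 := by exact_mod_cast CharP.cast_eq_zero K 3
  rw [← Int.cast_natCast, h1]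
  conv_lhs => rw [← Int.emod_add_mul_ediv m 3]
  rw [Int.cast_add, Int.cast_mul, h2, zero_mul, add_zero]

theorem m3_lt (m : ℤ) : m3 m < 3 := by
  have h1 : ((m3 m : ℕ) : ℤ) = m % 3 := Int.natAbs_of_nonneg (Int.emod_nonneg _ (by norm_num))
  omega

theorem two_eq : (2 : K) = -1 := by
  have h2 : (3 : K) = 0 := by exact_mod_cast CharP.cast_eq_zero K 3
  linear_combination h2

theorem nf_spec (l : SV) : ∀ k : SV → SV, ∃ t, nf l k = k t ∧ sv K t = sv K l := by
  induction l with
  | nil => exact fun k => ⟨[], rfl, rfl⟩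
  | cons p l ih =>
    intro k
    obtain ⟨t, h1, h2⟩ := ih fun t => Nat.rec (motive := fun _ => SV) (k t)
      (fun n _ => frc p.1 fun a => Nat.rec (motive := fun _ => SV) (k ((a, Int.ofNat 1) :: t))
        (fun _ _ => k ((a, Int.negSucc 0) :: t)) n) (m3 p.2)
    have h3 := cast_m3 (K := K) p.2
    have h4 := m3_lt p.2
    have h5 : nf (p :: l) k = _ := h1
    rw [h5, sv_cons, h3, ← h2]
    generalize m3 p.2 = n at h4
    interval_cases n
    · exact ⟨t, rfl, by simp⟩
    · exact ⟨(p.1, Int.ofNat 1) :: t, frc_eq _ _, by rw [sv_cons]; simp⟩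
    · refine ⟨(p.1, Int.negSucc 0) :: t, frc_eq _ _, ?_⟩
      rw [sv_cons, Nat.cast_ofNat, two_eq]
      simp

theorem sv_nz (l : SV) : sv K (nz l) = sv K l := by
  obtain ⟨t, h1, h2⟩ := nf_spec (K := K) l fun t => t
  rw [nz, h1, h2]

/-- **the bracket** -/
theorem br_sv (x y : SV) : br (sv K x) (sv K y) = sv K (brS x y) := by rw [brS, sv_nz, sv_br0]

theorem sv_z3 {l : SV} (h : z3 l = true) : sv K l = 0 := by
  induction l with
  | nil => exact sv_nil
  | cons p l ih =>
    have e : z3 (p :: l) = Bool.rec (motive := fun _ => Bool) false (z3 l) (Nat.beq (m3 p.2) 0) := rfl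
    rw [e] at h
    cases h1 : Nat.beq (m3 p.2) 0
    · rw [h1] at h; cases h
    · rw [h1] at h
      rw [sv_cons, ih h, cast_m3, Nat.eq_of_beq_eq_true h1, Nat.cast_zero, zero_smul, add_zero]

theorem sv_eq3 {x y : SV} (h : eq3 x y = true) : sv K x = sv K y := by
  have h1 := sv_z3 (K := K) h
  rw [sv_addH, sv_addH, sv_nil, add_zero] at h1
  have h2 : -sv K x + sv K y = 0 := by simpa using h1
  exact (neg_add_eq_zero.1 h2)

theorem br_of_eq3 {x y z : SV} (h : eq3 (br0 x y) z = true) : br (sv K x) (sv K y) = sv K z := by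
  rw [← sv_br0, sv_eq3 h]

theorem br_of_z3 {x y : SV} (h : z3 (br0 x y) = true) : br (sv K x) (sv K y) = 0 := by
  rw [← sv_br0, sv_z3 h]

/-- a coefficient which is not divisible by three -/
theorem sv_ne_zero {l : SV} {k : ℕ} (hk : k < 248) (h : Nat.beq (m3 (cf l k)) 0 = false) : sv K l ≠ 0 := by
  obtain ⟨x, rfl⟩ := ky_surj hk
  intro h0
  have h1 := congrFun h0 x
  rw [cf_eq, cast_m3, Pi.zero_apply, CharP.cast_eq_zero_iff K 3] at h1
  exact Nat.ne_of_beq_eq_false h (Nat.eq_zero_of_dvd_of_lt h1 (m3_lt _))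

/-- **root elements** -/
theorem act_xk (r : ℕ) (t : ℤ) (l : SV) : act (xk K r (t : K)) (sv K l) = sv K (xS r t l) := by
  unfold xk xS
  cases h : Nat.blt r 240
  · rw [dif_neg (fun h1 => by rw [nroots8, ← Nat.blt_eq, h] at h1; cases h1), act_one]
  · have hr : r < chevE8.nroots := by rw [nroots8]; exact Nat.blt_eq.mp h
    have h1 : ky (Sum.inr (Par.op ⟨r, hr⟩)) = Nat.sub 239 r := by
      rw [ky_inr, Par.op_eq_rv, H597.E8Form.rv_val]; rfl
    rw [dif_pos hr, Par.act_xr, Par.kf_ee, cf_eq, h1, ← eb_root hr]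
    show _ = sv K (nz _)
    rw [sv_nz, sv_insM, sv_addH, sv_adS, sv_nil, add_zero]
    have h2 : ((Int.neg (Int.mul (Int.mul t t) (cf l (Nat.sub 239 r))) : ℤ) : K) =
        -((t : K) ^ 2 * ((cf l (Nat.sub 239 r) : ℤ) : K)) := by
      show ((-(t * t * cf l (Nat.sub 239 r)) : ℤ) : K) = _
      push_cast; ring
    rw [h2, neg_smul, show ((Int.ofNat 1 : ℤ) : K) = 1 by simp, one_smul]
    abel

/-- **words** -/
theorem act_wG (w l : SV) : act (wG K w) (sv K l) = sv K (wS w l) := by
  induction w with
  | nil => rw [wG_nil, act_one]; rfl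
  | cons p w ih => rw [wG_cons, act_mul, ih, act_xk]; rfl

theorem act_of_eq3 {w x y : SV} (h : eq3 (wS w x) y = true) : act (wG K w) (sv K x) = sv K y := by
  rw [act_wG, sv_eq3 h]

end Sem

end Cfsg.Agent.E8A.C63.Sv
end

-- part: E8A/C63/StrA
section
/-!
# String bases (helper55)

* `Sb e b tp` : the vectors `b 0, …, b 247` span, `ad e` kills `b p` if `tp p` (a top) and maps it to `b (p + 1)` otherwise;
  `bot tp p` : bottoms;
* `Sb.ind`, `Sb.br_sum`, `Sb.cen_iff`, `Sb.cd_eq`; `Sp b S` : the span of the `b p`, `p ∈ S`;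
* `Hm b κ d` : `b p` has degree `d p`; `Sb.deg_iff`, `Sb.split` (bottoms span a graded complement of the image),
  `Sb.finrank_cen`;
* `chkSb`, `chkSb_sound`; `chkH`, `chkH_sound` : the kernel checks.
-/

set_option autoImplicit false
set_option maxRecDepth 100000

namespace Cfsg.Agent.E8A.C63.Sv

open Cfsg Cfsg.Lie Module Finset
open Cfsg.Agent.H288.E8L (Q8 wt)
open Cfsg.Agent.Tits.Roots (sr)
open Cfsg.Agent.ChevalleyStructure.JacTab (addH)

universe u

variable {K : Type u} [Field K]

/-- a basis of strings -/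
structure Sb (e : L8 K) (b : ℕ → L8 K) (tp : ℕ → Bool) : Prop where
  top : ∀ p < 248, tp p = true → br e (b p) = 0
  nxt : ∀ p < 248, tp p = false → br e (b p) = b (p + 1)
  last : tp 247 = true
  span : ∀ v, ∃ c : ℕ → K, v = ∑ p ∈ range 248, c p • b p

/-- the bottoms -/
def bot (tp : ℕ → Bool) : ℕ → Bool
  | 0 => true
  | p + 1 => tp p

/-- the span of some of the vectors -/
def Sp (b : ℕ → L8 K) (S : Finset ℕ) : Submodule K (L8 K) := Submodule.span K (b '' (S : Set ℕ))

/-- homogeneous vectors -/
def Hm (b : ℕ → L8 K) (κ : Q8 →+ ℝ) (d : ℕ → ℝ) : Prop := ∀ p < 248, b p ∈ LS K (Eq' κ (d p))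

theorem mem_Sp {b : ℕ → L8 K} {S : Finset ℕ} {p : ℕ} (h : p ∈ S) : b p ∈ Sp b S := Submodule.subset_span ⟨p, h, rfl⟩

theorem Sp_le {b : ℕ → L8 K} {S : Finset ℕ} {U : Submodule K (L8 K)} (h : ∀ p ∈ S, b p ∈ U) : Sp b S ≤ U :=
  Submodule.span_le.2 (by rintro _ ⟨p, hp, rfl⟩; exact h p hp)

theorem sum_mem_Sp {b : ℕ → L8 K} {S : Finset ℕ} {c : ℕ → K} (h : ∀ p < 248, p ∉ S → c p = 0) :
    ∑ p ∈ range 248, c p • b p ∈ Sp b S := by
  refine Submodule.sum_mem _ fun p hp => ?_
  by_cases h1 : p ∈ S
  · exact Submodule.smul_mem _ _ (mem_Sp h1)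
  · rw [h p (mem_range.1 hp) h1, zero_smul]
    exact Submodule.zero_mem _

theorem exists_of_mem_Sp {b : ℕ → L8 K} {S : Finset ℕ} {v : L8 K} (h : v ∈ Sp b S) : ∃ c : ℕ → K, v = ∑ p ∈ S, c p • b p := by
  obtain ⟨c, hc⟩ := (Submodule.mem_span_image_finset_iff_exists_fun' K).1 h
  exact ⟨c, hc.symm⟩

theorem br_sum_right (e : L8 K) {ι : Type*} (s : Finset ι) (f : ι → L8 K) : br e (∑ i ∈ s, f i) = ∑ i ∈ s, br e (f i) :=
  map_sum (TwoH.brL K e) f s

theorem pr_sum (κ : Q8 →+ ℝ) (j : ℝ) {ι : Type*} (s : Finset ι) (f : ι → L8 K) :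
    pr κ j (∑ i ∈ s, f i) = ∑ i ∈ s, pr κ j (f i) := by
  classical
  induction s using Finset.induction_on with
  | empty => rw [sum_empty, sum_empty]; exact pr_of_mem (Submodule.zero_mem _)
  | insert a s ha ih => rw [sum_insert ha, sum_insert ha, pr_add, ih]

theorem pr_zero_of {κ : Q8 →+ ℝ} {j : ℝ} {A : Set Q8} {v : L8 K} (h : v ∈ LS K A) (hA : ∀ a ∈ A, κ a ≠ j) : pr κ j v = 0 :=
  eq_zero_of_LS (pr_LS h κ j) (pr_mem κ j v) fun a ha h1 => hA a ha h1

namespace Sb

variable {e : L8 K} {b : ℕ → L8 K} {tp : ℕ → Bool} (H : Sb e b tp)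
include H

theorem lt {p : ℕ} (hp : p < 248) (h : tp p = false) : p + 1 < 248 := by
  by_contra h1
  have : p = 247 := by omega
  rw [this, H.last] at h
  cases h

theorem li : LinearIndependent K fun p : Fin 248 => b p.val := by
  refine linearIndependent_of_top_le_span_of_card_eq_finrank (fun v _ => ?_) (by rw [Inf.finrank_L8, Fintype.card_fin])
  obtain ⟨c, rfl⟩ := H.span v
  exact Submodule.sum_mem _ fun p hp => Submodule.smul_mem _ _ (Submodule.subset_span ⟨⟨p, mem_range.1 hp⟩, rfl⟩)

theorem ind {c : ℕ → K} (h : ∑ p ∈ range 248, c p • b p = 0) {p : ℕ} (hp : p < 248) : c p = 0 := by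
  rw [Finset.sum_range] at h
  exact Fintype.linearIndependent_iff.1 H.li (fun p => c p.val) h ⟨p, hp⟩

theorem uniq {c c' : ℕ → K} (h : ∑ p ∈ range 248, c p • b p = ∑ p ∈ range 248, c' p • b p) {p : ℕ} (hp : p < 248) :
    c p = c' p := by
  refine sub_eq_zero.1 (H.ind (c := fun p => c p - c' p) ?_ hp)
  simp only [sub_smul, sum_sub_distrib, h, sub_self]

theorem ne_zero {p : ℕ} (hp : p < 248) : b p ≠ 0 := H.li.ne_zero ⟨p, hp⟩

theorem sp_iff {S : Finset ℕ} (hS : ∀ p ∈ S, p < 248) {c : ℕ → K} :
    ∑ p ∈ range 248, c p • b p ∈ Sp b S ↔ ∀ p < 248, p ∉ S → c p = 0 := by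
  refine ⟨fun h p hp hn => ?_, sum_mem_Sp⟩
  obtain ⟨c', hc⟩ := exists_of_mem_Sp h
  have h1 : ∑ q ∈ S, c' q • b q = ∑ q ∈ range 248, (if q ∈ S then c' q else 0) • b q := by
    rw [← sum_subset (s₁ := S) (fun q hq => mem_range.2 (hS q hq)) fun q _ hq => by rw [if_neg hq, zero_smul]]
    exact sum_congr rfl fun q hq => by rw [if_pos hq]
  rw [H.uniq (hc.trans h1) hp, if_neg hn]

theorem finrank_Sp {S : Finset ℕ} (hS : ∀ p ∈ S, p < 248) : finrank K ↥(Sp b S) = S.card := by
  have h1 : LinearIndependent K fun p : ↥S => b p.val :=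
    H.li.comp (fun p : ↥S => (⟨p.val, hS _ p.2⟩ : Fin 248)) fun p q h => Subtype.ext (Fin.mk.inj h)
  have h2 : Set.range (fun p : ↥S => b p.val) = b '' (S : Set ℕ) := by
    ext v
    exact ⟨fun ⟨p, h⟩ => ⟨p.val, p.2, h⟩, fun ⟨p, hp, h⟩ => ⟨⟨p, hp⟩, h⟩⟩
  rw [Sp, ← h2, finrank_span_eq_card h1, Fintype.card_coe]

theorem br_sum (c : ℕ → K) :
    br e (∑ p ∈ range 248, c p • b p) = ∑ p ∈ range 248, (if bot tp p = true then 0 else c (p - 1)) • b p := by
  rw [br_sum_right, sum_range_succ, sum_range_succ' _ 247, br_smul_right, H.top 247 (by norm_num) H.last, smul_zero,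
    if_pos (show bot tp 0 = true from rfl), zero_smul]
  congr 1
  refine sum_congr rfl fun p hp => ?_
  have hp' : p < 248 := by have := mem_range.1 hp; omega
  rw [br_smul_right, show bot tp (p + 1) = tp p from rfl, Nat.add_sub_cancel]
  cases h : tp p
  · rw [H.nxt p hp' h, if_neg (by simp)]
  · rw [H.top p hp' h, if_pos rfl, smul_zero, zero_smul]

theorem cen_iff {c : ℕ → K} : br e (∑ p ∈ range 248, c p • b p) = 0 ↔ ∀ p < 248, tp p = false → c p = 0 := by
  constructor
  · intro h p hp ht
    rw [H.br_sum] at h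
    have h1 := H.ind h (H.lt hp ht)
    rwa [show bot tp (p + 1) = tp p from rfl, ht, if_neg (by simp), Nat.add_sub_cancel] at h1
  · intro h
    rw [br_sum_right]
    refine sum_eq_zero fun p hp => ?_
    rw [br_smul_right]
    cases ht : tp p
    · rw [h p (mem_range.1 hp) ht, zero_smul]
    · rw [H.top p (mem_range.1 hp) ht, smul_zero]

theorem cen_eq : cen {e} = Sp b ((range 248).filter fun p => tp p = true) := by
  ext v
  obtain ⟨c, rfl⟩ := H.span v
  rw [mem_cen_one, H.cen_iff, H.sp_iff fun p hp => mem_range.1 (mem_filter.1 hp).1]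
  refine forall_congr' fun p => forall_congr' fun hp => ?_
  simp [hp]

theorem cd_eq : cd e = ((range 248).filter fun p => tp p = true).card := by
  rw [cd, H.cen_eq, H.finrank_Sp fun p hp => mem_range.1 (mem_filter.1 hp).1]

/-- strings of length at most three -/
theorem cz (h : ∀ p < 248, tp p = true ∨ tp (p + 1) = true ∨ tp (p + 2) = true) : Cz e := by
  have h1 : ∀ p < 248, br e (br e (br e (b p))) = 0 := by
    intro p hp
    cases h0 : tp p
    · have hp1 := H.lt hp h0
      rw [H.nxt p hp h0]
      cases h1 : tp (p + 1)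
      · have h2 : tp (p + 2) = true := by
          rcases h p hp with h | h | h
          · rw [h0] at h; cases h
          · rw [h1] at h; cases h
          · exact h
        rw [H.nxt _ hp1 h1, H.top _ (H.lt hp1 h1) h2]
      · rw [H.top _ hp1 h1, TwoH.br_zero_right]
    · rw [H.top p hp h0, TwoH.br_zero_right, TwoH.br_zero_right]
  have h2 : ∀ v, br e (br e (br e v)) = 0 := by
    intro v
    obtain ⟨c, rfl⟩ := H.span v
    rw [br_sum_right, br_sum_right, br_sum_right]
    exact sum_eq_zero fun p hp => by rw [br_smul_right, br_smul_right, br_smul_right, h1 p (mem_range.1 hp), smul_zero]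
  unfold Cz
  ext i j
  have h3 := congrFun (h2 (ee K j)) i
  rwa [br, br, br, Matrix.mulVec_mulVec, Matrix.mulVec_mulVec, mulVec_ee, ← pow_three'] at h3

variable {κ : Q8 →+ ℝ} {d : ℕ → ℝ}

theorem deg_iff (hm : Hm b κ d) {J : Set ℝ} {c : ℕ → K} :
    ∑ p ∈ range 248, c p • b p ∈ LS K {a | κ a ∈ J} ↔ ∀ p < 248, d p ∉ J → c p = 0 := by
  classical
  constructor
  · intro h p hp hn
    have h1 := pr_zero_of (κ := κ) (j := d p) h fun a ha h2 => hn (h2 ▸ ha)
    rw [pr_sum] at h1
    have h2 : ∑ q ∈ range 248, (if d q = d p then c q else 0) • b q = 0 := by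
      rw [← h1]
      refine sum_congr rfl fun q hq => ?_
      rw [pr_smul]
      by_cases h3 : d q = d p
      · rw [if_pos h3, ← h3, pr_of_mem (hm q (mem_range.1 hq))]
      · rw [if_neg h3, zero_smul, pr_zero_of (hm q (mem_range.1 hq)) fun a ha h4 => h3 ((mem_Eq.1 ha).symm.trans h4),
          smul_zero]
    have h3 := H.ind h2 hp
    rwa [if_pos rfl] at h3
  · intro h
    refine Submodule.sum_mem _ fun p hp => ?_
    by_cases h1 : d p ∈ J
    · exact Submodule.smul_mem _ _ (LS_mono (fun a ha => by rw [Set.mem_ofPred_eq, mem_Eq.1 ha]; exact h1)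
        (hm p (mem_range.1 hp)))
    · rw [h p (mem_range.1 hp) h1, zero_smul]
      exact Submodule.zero_mem _

theorem deg_nxt (hm : Hm b κ d) {δ : ℝ} (he : e ∈ LS K (Eq' κ δ)) {p : ℕ} (hp : p < 248) (h : tp p = false) :
    d (p + 1) = d p + δ := by
  by_contra hn
  refine H.ne_zero (H.lt hp h) (eq_zero_of_LS (hm _ (H.lt hp h)) (A' := Eq' κ (d p + δ)) ?_ fun a ha h1 =>
    hn ((mem_Eq.1 ha).symm.trans (mem_Eq.1 h1)))
  rw [← H.nxt p hp h]
  exact br_LS (fun a ha a' ha' => by rw [mem_Eq, map_add, mem_Eq.1 ha, mem_Eq.1 ha', add_comm]) he (hm p hp)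

open Classical in
/-- the bottoms span a graded complement of the image -/
theorem split (hm : Hm b κ d) {δ : ℝ} (he : e ∈ LS K (Eq' κ δ)) {J : Set ℝ} {v : L8 K} (hv : v ∈ LS K {a | κ a ∈ J}) :
    ∃ s ∈ Sp b ((range 248).filter fun p => bot tp p = true ∧ d p ∈ J), ∃ w ∈ LS K {a | κ a + δ ∈ J}, v = s + br e w := by
  obtain ⟨c, rfl⟩ := H.span v
  have h0 := (H.deg_iff hm).1 hv
  refine ⟨∑ p ∈ range 248, (if bot tp p = true then c p else 0) • b p, sum_mem_Sp fun p hp hn => ?_,
    ∑ p ∈ range 248, (if tp p = true then 0 else c (p + 1)) • b p,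
    (H.deg_iff hm (J := {x | x + δ ∈ J})).2 fun p hp hn => ?_, ?_⟩
  · by_cases h1 : bot tp p = true
    · rw [if_pos h1]
      exact h0 p hp fun h2 => hn (mem_filter.2 ⟨mem_range.2 hp, h1, h2⟩)
    · rw [if_neg h1]
  · cases ht : tp p
    · rw [if_neg (by simp)]
      exact h0 _ (H.lt hp ht) (by rw [H.deg_nxt hm he hp ht]; exact hn)
    · rw [if_pos rfl]
  · rw [H.br_sum, ← sum_add_distrib]
    refine sum_congr rfl fun p _ => ?_
    rw [← add_smul]
    congr 1
    rcases p with _ | p
    · rw [if_pos (show bot tp 0 = true from rfl), if_pos (show bot tp 0 = true from rfl), add_zero]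
    · rw [show bot tp (p + 1) = tp p from rfl, Nat.add_sub_cancel]
      cases ht : tp p <;> simp

open Classical in
theorem cen_deg (hm : Hm b κ d) (J : Set ℝ) :
    cen {e} ⊓ LS K {a | κ a ∈ J} = Sp b ((range 248).filter fun p => tp p = true ∧ d p ∈ J) := by
  ext v
  obtain ⟨c, rfl⟩ := H.span v
  rw [Submodule.mem_inf, mem_cen_one, H.cen_iff, H.deg_iff hm, H.sp_iff fun p hp => mem_range.1 (mem_filter.1 hp).1]
  constructor
  · rintro ⟨h1, h2⟩ p hp hn
    cases ht : tp p
    · exact h1 p hp ht
    · exact h2 p hp fun h3 => hn (mem_filter.2 ⟨mem_range.2 hp, ht, h3⟩)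
  · intro h
    exact ⟨fun p hp ht => h p hp fun h1 => Bool.false_ne_true (ht.symm.trans (mem_filter.1 h1).2.1),
      fun p hp hn => h p hp fun h1 => hn (mem_filter.1 h1).2.2⟩

end Sb

/-! ### the checks -/

/-- all `i < n` -/
noncomputable def allN (n : ℕ) (p : ℕ → Bool) : Bool :=
  Nat.rec (motive := fun _ => Bool) true (fun i ih => Bool.rec (motive := fun _ => Bool) false ih (p i)) n

theorem allN_spec {n : ℕ} {p : ℕ → Bool} (h : allN n p = true) {i : ℕ} (hi : i < n) : p i = true := by
  induction n with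
  | zero => omega
  | succ n ih =>
    have e : allN (n + 1) p = Bool.rec (motive := fun _ => Bool) false (allN n p) (p n) := rfl
    rw [e] at h
    cases h1 : p n
    · rw [h1] at h; cases h
    · rw [h1] at h
      rcases Nat.lt_succ_iff_lt_or_eq.1 hi with h2 | rfl
      · exact ih h h2
      · exact h1

/-- the vector number `p` of a packed table -/
noncomputable def vv (N p : ℕ) : SV := dec (Nat.land (Nat.shiftRight N (Nat.mul 80 p)) 1208925819614629174706175)

/-- a combination of vectors of the table -/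
noncomputable def cmb (N : ℕ) (x : SV) : SV := List.rec (motive := fun _ => SV) [] (fun q _ ih => addH q.2 (vv N q.1) ih) x

/-- the check of a basis of strings -/
noncomputable def chkSb (e : SV) (N M X : ℕ) : Bool :=
  Nat.testBit M 247 && allN 248 (fun p => Bool.rec (motive := fun _ => Bool) (eq3 (br0 e (vv N p)) (vv N (Nat.succ p)))
    (z3 (br0 e (vv N p))) (Nat.testBit M p)) &&
  allN 248 fun k => allK (fun p => Nat.blt p 248) (vv X k) && eq3 (cmb N (vv X k)) [(k, 1)]

theorem sv_cmb (N : ℕ) {x : SV} (h : ∀ q ∈ x, q.1 < 248) :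
    ∃ c : ℕ → K, sv K (cmb N x) = ∑ p ∈ range 248, c p • sv K (vv N p) := by
  induction x with
  | nil => exact ⟨0, (sv_nil (K := K)).trans (by simp)⟩
  | cons q x ih =>
    obtain ⟨c, hc⟩ := ih fun a ha => h a (List.mem_cons_of_mem _ ha)
    refine ⟨fun p => (if p = q.1 then (q.2 : K) else 0) + c p, ?_⟩
    have e : cmb N (q :: x) = addH q.2 (vv N q.1) (cmb N x) := rfl
    rw [e, sv_addH, hc]
    simp only [add_smul, sum_add_distrib, ite_smul, zero_smul, sum_ite_eq', mem_range, h q List.mem_cons_self, if_true]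

theorem chkSb_sound [CharP K 3] {e : SV} {N M X : ℕ} (h : chkSb e N M X = true) :
    Sb (sv K e) (fun p => sv K (vv N p)) (Nat.testBit M) := by
  simp only [chkSb, Bool.and_eq_true] at h
  obtain ⟨⟨h1, h2⟩, h3⟩ := h
  refine ⟨fun p hp ht => ?_, fun p hp ht => ?_, h1, fun v => ?_⟩
  · have h4 := allN_spec h2 hp
    rw [ht] at h4
    exact br_of_z3 h4
  · have h4 := allN_spec h2 hp
    rw [ht] at h4
    exact br_of_eq3 h4
  · have h4 : ∀ x : chevE8.Idx, ∃ c : ℕ → K, ee K x = ∑ p ∈ range 248, c p • sv K (vv N p) := by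
      intro x
      have h5 := allN_spec h3 (ky_lt x)
      rw [Bool.and_eq_true] at h5
      obtain ⟨c, hc⟩ := sv_cmb (K := K) N fun q hq => Nat.blt_eq.mp (allK_spec h5.1 q hq)
      exact ⟨c, by rw [← hc, sv_eq3 h5.2, sv_one, eb_ky]⟩
    choose c hc using h4
    refine ⟨fun p => ∑ x, v x * c x p, ?_⟩
    have h5 : v = ∑ x, v x • ee K x := by
      funext i
      simp [Finset.sum_apply, ee_apply]
    conv_lhs => rw [h5]
    simp only [hc, smul_sum, sum_smul, smul_smul]
    exact sum_comm

/-- the sum of the coordinates in the mask -/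
noncomputable def sm (m k : ℕ) : ℕ :=
  Nat.rec (motive := fun _ => ℕ) 0 (fun i ih => Bool.rec (motive := fun _ => ℕ) ih (Nat.add ih (wn k i)) (Nat.testBit m i)) 8

/-- the same degree for every cocharacter which is constant on the simple roots of the mask -/
noncomputable def twE (m k k' : ℕ) : Bool :=
  allN 8 (fun i => Nat.testBit m i || Nat.beq (wn k i) (wn k' i)) && Nat.beq (sm m k) (sm m k')

/-- the first key -/
noncomputable def hd (l : SV) : ℕ := List.rec (motive := fun _ => ℕ) 0 (fun q _ _ => q.1) l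

/-- the check of homogeneity -/
noncomputable def chkH (m N : ℕ) : Bool := allN 248 fun p => allK (fun k => twE m k (hd (vv N p))) (vv N p)

theorem sm_eq (m k : ℕ) : sm m k = ∑ i ∈ range 8, if m.testBit i = true then wn k i else 0 := by
  unfold sm
  generalize 8 = n
  induction n with
  | zero => rfl
  | succ n ih =>
    rw [sum_range_succ, ← ih]
    show Bool.rec (motive := fun _ => ℕ) _ _ (Nat.testBit m n) = _
    cases m.testBit n <;> simp

theorem wc_eq (k i : ℕ) : wc k i = (wn k i : ℤ) - 8 := by
  unfold wc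
  rw [Int.subNatNat_eq_coe]
  rfl

theorem kap_eq (κ : Q8 →+ ℝ) (a : Q8) : κ a = ∑ i : Fin 8, (a i : ℝ) * κ (sr i) := by
  have h : a = ∑ i : Fin 8, a i • (sr i : Q8) := by
    funext j
    simp [sr, Finset.sum_apply, Pi.single_apply]
  conv_lhs => rw [h, map_sum]
  exact sum_congr rfl fun i _ => by rw [map_zsmul, zsmul_eq_mul]

theorem twE_sound {m k k' : ℕ} (h : twE m k k' = true) {κ : Q8 →+ ℝ} {δ : ℝ}
    (hκ : ∀ i : Fin 8, m.testBit i.val = true → κ (sr i) = δ) : κ (wk k) = κ (wk k') := by
  rw [twE, Bool.and_eq_true] at h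
  have h1 := Nat.eq_of_beq_eq_true h.2
  rw [sm_eq, sm_eq, sum_range, sum_range] at h1
  have h2 : ∑ i : Fin 8, (if m.testBit i.val = true then (wn k i : ℝ) else 0) =
      ∑ i : Fin 8, (if m.testBit i.val = true then (wn k' i : ℝ) else 0) := by exact_mod_cast h1
  rw [← sub_eq_zero, kap_eq, kap_eq κ (wk k'), ← sum_sub_distrib]
  have h3 : ∀ i : Fin 8, ((wk k i : ℤ) : ℝ) * κ (sr i) - ((wk k' i : ℤ) : ℝ) * κ (sr i) =
      ((if m.testBit i.val = true then (wn k i : ℝ) else 0) - (if m.testBit i.val = true then (wn k' i : ℝ) else 0)) * δ := by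
    intro i
    have h4 := allN_spec h.1 i.2
    rw [wk, wk, wc_eq, wc_eq]
    cases ht : m.testBit i.val
    · rw [ht, Bool.false_or] at h4
      rw [Nat.eq_of_beq_eq_true h4]
      simp
    · rw [hκ i ht, if_pos rfl, if_pos rfl]
      push_cast
      ring
  rw [sum_congr rfl fun i _ => h3 i, ← sum_mul, sum_sub_distrib, h2, sub_self, zero_mul]

theorem chkH_sound {m N : ℕ} (h : chkH m N = true) {κ : Q8 →+ ℝ} {δ : ℝ}
    (hκ : ∀ i : Fin 8, m.testBit i.val = true → κ (sr i) = δ) :
    Hm (fun p => sv K (vv N p)) κ fun p => κ (wk (hd (vv N p))) := fun _ hp =>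
  sv_mem (fun _ hk => mem_Eq.2 (twE_sound hk hκ)) (allN_spec h hp)

end Cfsg.Agent.E8A.C63.Sv
end

-- part: E8A/C63/StrD
section
/-!
# String bases of the eleven classes: the data (helper55)

Generated by `notes/E8A/c63/strs.py`, `gen.py`.  `BN c` : the packed vectors (`vv (BN c) p`), `MN c` : the mask of the tops,
`XN c` : the standard basis in terms of the strings; `BK`, `MK`, `XK` : the same for the vector `kx`.
-/

set_option autoImplicit false
set_option maxRecDepth 100000

namespace Cfsg.Agent.E8A.C63.Sv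

/-- the vectors, class 0 -/
def B0n : ℕ := 0x1ef000000000000000001ee000000000000000001ed000000000000000001ec000000000000000001eb000000000000000001ea000000000000000001e9000000000000000001e8000000000000000001e7000000000000000001e6000000000000000001e5000000000000000001e4000000000000000001e3000000000000000001e2000000000000000001e1000000000000000001e0000000000000000001df000000000000000001de000000000000000001dd000000000000000001dc000000000000000001db000000000000000001da000000000000000001d9000000000000000001d8000000000000000001d7000000000000000001d6000000000000000001d5000000000000000001d4000000000000000001d3000000000000000001d2000000000000000001d1000000000000000001d0000000000000000001cf000000000000000001ce000000000000000001cd000000000000000001cc000000000000000001cb000000000000000001ca000000000000000001c9000000000000000001c8000000000000000001c7000000000000000001c6000000000000000001c5000000000000000001c4000000000000000001c3000000000000000001c2000000000000000001c1000000000000000001c0000000000000000001bf0000000000000000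01be000000000000000001bd000000000000000001bc000000000000000001bb000000000000000001ba000000000000000001b9000000000000000001b8000000000000000001b7000000000000000001b6000000000000000001b5000000000000000001b4000000000000000001b3000000000000000001b2000000000000000001b1000000000000000001b0000000000000000001af000000000000000001ae000000000000000001ad000000000000000001ac000000000000000001ab000000000000000001aa000000000000000001a9000000000000000001a8000000000000000001a7000000000000000001a6000000000000000001a5000000000000000001a4000000000000000001a3000000000000000001a2000000000000000001a1000000000000000001a00000000000000000019f0000000000000000019e0000000000000000019d0000000000000000019c0000000000000000019b0000000000000000019a000000000000000001990000000000000000019800000000000000000197000000000000000001960000000000000000019500000000000000000194000000000000000001930000000000000000019200000000000000000191000000000000000001900000000000000000018f0000000000000000018e0000000000000000018d0000000000000000018c0000000000000000018b00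00000000000000018a000000000000000001890000000000000000018800000000000000000187000000000000000001860000000000000000018500000000000000000184000000000000000001830000000000000000018200000000000000000181000000000000000001800000000000000000017f0000000000000000017e0000000000000000017d0000000000000000017c0000000000000000017b0000000000000000017a00000000000000000179000000000000000bddf6000000000000000001f5000000000000000001f4000000000000000001f3000000000000000001f2000000000000000001f1000000000000000001f000000000000000000178000000000000000001f700000000000000000177000000000000000002760000000000000000017500000000000000000174000000000000000002730000000000000000017200000000000000000171000000000000000001700000000000000000026f0000000000000000016e0000000000000000016d0000000000000000016c0000000000000000016b0000000000000000026a0000000000000000016900000000000000000168000000000000000001670000000000000000016600000000000000000165000000000000000002640000000000000000016300000000000000000162000000000000000001610000000000000000016000000000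00000000015f0000000000000000025e0000000000000000015d0000000000000000015c0000000000000000015b0000000000000000015a000000000000000002590000000000000000015800000000000000000157000000000000000001560000000000000000025500000000000000000154000000000000000001530000000000000000025200000000000000000151000000000000000002500000000000000000014f0000000000000000014e0000000000000000014d0000000000000000014c0000000000000000014b0000000000000000014a000000000000000001490000000000000000024800000000000000000147000000000000000001460000000000000000014500000000000000000144000000000000000002430000000000000000014200000000000000000141000000000000000001400000000000000000023f0000000000000000013e0000000000000000013d0000000000000000023c0000000000000000013b0000000000000000023a000000000000000001390000000000000000013800000000000000000137000000000000000001360000000000000000023500000000000000000134000000000000000001330000000000000000023200000000000000000131000000000000000002300000000000000000012f0000000000000000012e0000000000000000012d00000000000000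00022c0000000000000000012b0000000000000000022a000000000000000001290000000000000000012800000000000000000227000000000000000001260000000000000000012500000000000000000124000000000000000001230000000000000000022200000000000000000121000000000000000002200000000000000000011f0000000000000000011e0000000000000000021d0000000000000000011c0000000000000000011b0000000000000000011a000000000000000002190000000000000000011800000000000000000117000000000000000001160000000000000000011500000000000000000214000000000000000001130000000000000000011200000000000000000111000000000000000001100000000000000000010f0000000000000000010e0000000000000000020d0000000000000000010c0000000000000000010b0000000000000000010a00000000000000000109000000000000000001080000000000000000010700000000000000000106000000000000000001050000000000000000010400000000000000000103000000000000000001020000000000000000020100000000000000000100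

/-- the vectors, class 1 -/
def B1n : ℕ := 0x1ef000000000000000001ee000000000000000001ed000000000000000001ec000000000000000001eb000000000000000001ea000000000000000001e9000000000000000001e8000000000000000001e7000000000000000001e6000000000000000001e5000000000000000001e4000000000000000001e3000000000000000001e2000000000000000001e1000000000000000001e0000000000000000001df000000000000000001de000000000000000001dd000000000000000001dc000000000000000001db000000000000000001da000000000000000001d9000000000000000001d8000000000000000001d7000000000000000001d6000000000000000001d5000000000000000001d4000000000000000001d3000000000000000001d2000000000000000001d1000000000000000b3dce000000000000000002d000000000000000073dce000000000000000001cd000000000000000001cc000000000000000001cb000000000000000001ca000000000000000001c9000000000000000001c8000000000000000001c7000000000000000b15c4000000000000000002c6000000000000000715c4000000000000000001c3000000000000000001c2000000000000000001c1000000000000000afdbe000000000000000002c00000000000000006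fdbe000000000000000001bd000000000000000001bc000000000000000001bb000000000000000001ba000000000000000001b9000000000000000001b8000000000000000001b7000000000000000ad5b4000000000000000002b60000000000000006d5b4000000000000000001b3000000000000000001b2000000000000000001b1000000000000000001b0000000000000000001af000000000000000001ae000000000000000001ad000000000000000001ac000000000000000001ab000000000000000001aa000000000000000001a9000000000000000001a8000000000000000001a7000000000000000001a6000000000000000001a5000000000000000001a4000000000000000001a3000000000000000001a2000000000000000001a1000000000000000a7d9e000000000000000002a000000000000000067d9e0000000000000000019d0000000000000000019c0000000000000000019b0000000000000000019a000000000000000001990000000000000000019800000000000000000197000000000000000001960000000000000000019500000000000000000194000000000000000001930000000000000000019200000000000000000191000000000000000001900000000000000000018f0000000000000000018e0000000000000000018d0000000000000000018c0000000000000000018b00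00000000000000018a000000000000000001890000000000000000018800000000000000000187000000000000000001860000000000000000018500000000000000000184000000000000000001830000000000000000018200000000000000000181000000000000000001800000000000000000017f0000000000000000017e0000000000000005f17a0000000000000000017d0000000000000009f17a000000000000000001790000000000001f7bd9f4000000000000000bd5f4000000000000000001f3000000000000000001f2000000000000000001f1000000000000000001f000000000000000000178000000000000000001f7000000000000000001770000000000000000017b000000000000000001f5000000000000000001740000000000000005d573000000000000000001760000000000000005d6730000000000000000017200000000000000000271000000000000000001700000000000000000026f0000000000000000016e0000000000000000016d0000000000000000026c0000000000000000016b0000000000000000026a0000000000000000016900000000000000000168000000000000000001670000000000000000026600000000000000000165000000000000000002640000000000000000016300000000000000000162000000000000000001610000000000000000026000000000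00000000015f0000000000000000025e0000000000000000015d0000000000000000015c0000000000000000025b0000000000000000015a000000000000000002590000000000000000015800000000000000000257000000000000000001560000000000000000025500000000000000000154000000000000000001530000000000000009455000000000000000000252000000000000000946500000000000000000014f0000000000000000014e0000000000000000014d0000000000000000014c0000000000000000014b0000000000000000024a000000000000000001490000000000000000024800000000000000000147000000000000000001460000000000000000024500000000000000000144000000000000000002430000000000000000014200000000000000000241000000000000000001400000000000000000023f0000000000000000013e0000000000000000013d0000000000000008ed3a0000000000000000023c0000000000000008ee3a000000000000000001390000000000000000013800000000000000000237000000000000000001360000000000000000023500000000000000000134000000000000000001330000000000000008c530000000000000000002320000000000000008c6300000000000000000012f0000000000000000012e0000000000000000012d00000000000000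08ad2a0000000000000000022c0000000000000008ae2a000000000000000001290000000000000000012800000000000000000227000000000000000001260000000000000000022500000000000000000124000000000000000001230000000000000008852000000000000000000222000000000000000886200000000000000000011f0000000000000000011e0000000000000000021d0000000000000000011c0000000000000000021b0000000000000000011a000000000000000002190000000000000000011800000000000000000217000000000000000001160000000000000000011500000000000000000214000000000000000001130000000000000000021200000000000000000111000000000000000001100000000000000000010f0000000000000000010e0000000000000000020d0000000000000000010c0000000000000000020b0000000000000000010a00000000000000000109000000000000000001080000000000000000010700000000000000000106000000000000000001050000000000000000010400000000000000000203000000000000000001020000000000000000020100000000000000000100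

/-- the vectors, class 2 -/
def B2n : ℕ := 0x1ef000000000000000001ee000000000000000001ed000000000000000001ec000000000000000001eb000000000000000001ea000000000000000001e8000000000000000001e9000000000000000001e7000000000000000001e6000000000000000001e5000000000000000001e4000000000000000001e3000000000000000001e2000000000000000001e1000000000000000001e0000000000000000001df000000000000000001de000000000000000001dd000000000000000001dc000000000000000001db000000000000000001da000000000000000001d9000000000000000001d8000000000000000001d7000000000000000001d6000000000000000b51cb000000000000000002d5000000000000000751cb000000000000000001ca000000000000000b49c9000000000000000002d3000000000000000749c9000000000000000001c8000000000000000001d1000000000000000001c7000000000000000b3dce000000000000000b15c4000000000000000002d0000000000000000739c6000000000000000001c40000000000002cfb3ac60000000000001cd715c4000000000000000001c3000000000000000001cc000000000000000001c2000000000000000001c1000000000000000afdbe000000000000000002c00000000000000006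fdbe000000000000000001bd000000000000000001bc000000000000000001bb000000000000000001ba000000000000000001b9000000000000000001b8000000000000000001b7000000000000000ad5b4000000000000000002b60000000000000006d5b4000000000000000001b3000000000000000001b2000000000000000001b1000000000000000001b0000000000000000001af000000000000000001ae000000000000000ab1a8000000000000000002ad0000000000000006b1a8000000000000000001a7000000000000000aa9a6000000000000000002ab0000000000000006a9a6000000000000000001a5000000000000000001a9000000000000000001a4000000000000000001a3000000000000000001a2000000000000000001a1000000000000000a7d9e000000000000000002a000000000000000067d9e0000000000000000019d0000000000000000019c0000000000000000019b0000000000000000019a0000000000000000019900000000000000000198000000000000000a598c000000000000000002970000000000000006598c0000000000000000018b000000000000000a518a000000000000000002950000000000000006518a00000000000000000189000000000000000001930000000000000000018800000000000000000187000000000000000645860000000000000000019200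0000000000000a45860000000000000000018500000000000000063d8400000000000000000190000000000000000a3d84000000000000000001830000000000000000028e0000000000000000018200000000000000000181000000000000000001800000000000000000017f0000000000000000017e0000000000000005f17a0000000000000000017d0000000000000009f17a000000000000000001790000000000001f7bd9f4000000000000000bd5f4000000000000000bcdf1000000000000000001f2000000000000000001f000000000000000000178000000000000000001f7000000000000000001770000000000000000017b000000000000000001f5000000000000000001740000000000000000018d000000000000000001f1000000000000000001620000000000000005d573000000000000000001760000000000000005d6730000000000000000017200000000000000000271000000000000000001700000000000000000026f0000000000000000016e0000000000000000016d000000000000000001610000000000000005ad600000000000000000016c0000000000000005ae600000000000000000015f0000000000000005a55e0000000000000000016a0000000000000005a65e0000000000000000015d00000000000000000168000000000000000002670000000000000000015c00000000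00000009955b000000000000000002660000000000000009965b0000000000000000015a00000000000000098d590000000000000000026400000000000000098e590000000000000000015800000000000000000257000000000000000001560000000000000000025500000000000000000154000000000000000001530000000000000009455000000000000000000252000000000000000946500000000000000000014f0000000000000000014e0000000000000000014d0000000000000000014c0000000000000000024b00000000000000000146000000000000000925450000000000000000024a000000000000000926450000000000000000014400000000000000091d430000000000000000024800000000000000091e430000000000000000014200000000000000000241000000000000000001400000000000000000023f0000000000000000013e0000000000000000013d0000000000000008ed3a0000000000000000023c0000000000000008ee3a000000000000000001390000000000000000013800000000000000000237000000000000000001360000000000000000023500000000000000000134000000000000000001330000000000000008c530000000000000000002320000000000000008c6300000000000000000012f0000000000000000012e0000000000000000022d00000000000000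0001230000000000000004ae2a000000000000000885200000000000000000022c0000000000000008aa220000000000000000012000000000000022b8aa22000000000000229886200000000000000000011f000000000000000002280000000000000000011e0000000000000008991d0000000000000000022700000000000000089a1d0000000000000000011c0000000000000008911b000000000000000002250000000000000008921b0000000000000000011a000000000000000002190000000000000000011800000000000000000217000000000000000001160000000000000000011500000000000000000214000000000000000001130000000000000000021200000000000000000111000000000000000001100000000000000000020f0000000000000000010e0000000000000000020d0000000000000000010c0000000000000000020b0000000000000000010a00000000000000000109000000000000000002080000000000000000010600000000000000000207000000000000000001050000000000000000010400000000000000000203000000000000000001020000000000000000020100000000000000000100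

/-- the vectors, class 3 -/
def B3n : ℕ := 0x1ef000000000000000001ee000000000000000001ed000000000000000001ec000000000000000001eb000000000000000001ea000000000000000001e9000000000000000001e8000000000000000001e7000000000000000001e6000000000000000001e5000000000000000001e4000000000000000001e3000000000000000001e2000000000000000001e1000000000000000001e0000000000000000001df000000000000000001de000000000000000001dd000000000000000001dc000000000000000001db000000000000000001da000000000000000001d9000000000000000001d8000000000000000001d7000000000000000001d6000000000000000001d5000000000000000001d4000000000000000001d3000000000000000001d2000000000000000001d1000000000000000001d0000000000000000001cf000000000000000001ce000000000000000001cd000000000000000001cc000000000000000001cb000000000000000001ca000000000000000001c9000000000000000001c8000000000000000001c7000000000000000001c6000000000000000001c5000000000000000001c4000000000000000001c3000000000000000001c2000000000000000001c1000000000000000001c0000000000000000001bf0000000000000000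01be000000000000000001bd000000000000000001bc000000000000000001bb000000000000000001ba000000000000000001b9000000000000000001b8000000000000000001b7000000000000000001b6000000000000000001b5000000000000000001b4000000000000000001b3000000000000000001b2000000000000000001b1000000000000000001b0000000000000000001af000000000000000001ae000000000000000001ad000000000000000001ac000000000000000001ab000000000000000001aa000000000000000001a9000000000000000001a8000000000000000001a7000000000000000001a6000000000000000001a5000000000000000001a4000000000000000001a3000000000000000001a2000000000000000001a1000000000000000001a00000000000000000019f0000000000000000019e0000000000000000019d0000000000000000019c0000000000000000019b0000000000000000019a000000000000000001990000000000000000019800000000000000000197000000000000000001960000000000000000019500000000000000000194000000000000000001930000000000000000019200000000000000000191000000000000000001900000000000000000018f0000000000000000018e0000000000000000018d0000000000000000018c0000000000000000018b00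00000000000000018a000000000000000001890000000000000000018800000000000000000187000000000000000001860000000000000000018500000000000000000184000000000000000001830000000000000000018200000000000000000181000000000000000001800000000000000000017f0000000000000000017e0000000000000000017d0000000000000000017c0000000000000000017b000000000000000001f4000000000000000001f3000000000000000001f2000000000000000001f1000000000000000001f00000000000000000017a00000000000000000179000000000000000001f50000000000000005e578000000000000000001f6000000000000000001760000000000000007def60000000000000005de760000000000000000017500000000000000000174000000000000000002730000000000000000017200000000000000000171000000000000000001700000000000000000026f0000000000000000016e0000000000000000016d0000000000000000016c0000000000000000016b0000000000000000026a0000000000000000016900000000000000000168000000000000000001670000000000000000016600000000000000000165000000000000000002640000000000000000016300000000000000000162000000000000000001610000000000000000016000000000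00000000015f0000000000000000025e0000000000000000015d0000000000000000015c0000000000000000015b0000000000000000015a000000000000000002590000000000000000015800000000000000000157000000000000000001560000000000000000025500000000000000000154000000000000000001530000000000000000025200000000000000000151000000000000000001500000000000000000024f0000000000000000014e0000000000000000014d0000000000000000014c0000000000000000014b0000000000000000014a000000000000000001490000000000000000024800000000000000000147000000000000000001460000000000000000014500000000000000000144000000000000000002430000000000000000014200000000000000000141000000000000000001400000000000000000023f0000000000000000013e0000000000000000013d0000000000000000023c0000000000000000013b0000000000000000013a000000000000000002390000000000000000013800000000000000000137000000000000000001360000000000000000023500000000000000000134000000000000000001330000000000000000023200000000000000000131000000000000000001300000000000000000022f0000000000000000012e0000000000000000012d00000000000000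00022c0000000000000000012b0000000000000000012a000000000000000002290000000000000000012800000000000000000127000000000000000002260000000000000000012500000000000000000124000000000000000001230000000000000000022200000000000000000121000000000000000001200000000000000000021f0000000000000000011e0000000000000000011d0000000000000000021c0000000000000000011b0000000000000000011a000000000000000001190000000000000000021800000000000000000117000000000000000001160000000000000000011500000000000000000114000000000000000002130000000000000000011200000000000000000111000000000000000001100000000000000000010f0000000000000000010e0000000000000000010d0000000000000000020c0000000000000000010b0000000000000000010a00000000000000000109000000000000000001080000000000000000010700000000000000000106000000000000000001050000000000000000010400000000000000000103000000000000000001020000000000000000020100000000000000000100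

/-- the vectors, class 4 -/
def B4n : ℕ := 0x1ef000000000000000001ee000000000000000001ed000000000000000001ec000000000000000001eb000000000000000001ea000000000000000001e8000000000000000b9de1000000000000000002e900000000000000079de1000000000000000001e0000000000000000001e6000000000000000001df000000000000000b91de000000000000000002e5000000000000000791de000000000000000001dd000000000000000b89dc000000000000000002e3000000000000000789dc000000000000000001db000000000000000001da000000000000000001d9000000000000000001d8000000000000000001d7000000000000000001d6000000000000000b51cb000000000000000002d5000000000000000751cb000000000000000001ca000000000000000b49c9000000000000000002d3000000000000000749c9000000000000000001c8000000000000000001d1000000000000000001c7000000000000000b3dce000000000000000b15c4000000000000000002d0000000000000000739c6000000000000000001c40000000000002cfb3ac60000000000001cd715c4000000000000000001c3000000000000000001cc000000000000000001c2000000000000000001c1000000000000000afdbe000000000000000002c00000000000000006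fdbe000000000000000001bd000000000000000001bc000000000000000001bb000000000000000001ba000000000000000001b9000000000000000001b8000000000000000002b7000000000000000001a10000000000000006d6b4000000000000000a7d9e000000000000000001b6000000000000000ad1a00000000000000000019e0000000000001b56d2a00000000000002b367d9e0000000000000000019d000000000000000002b20000000000000000019c0000000000000006c19b000000000000000001b1000000000000000ac19b0000000000000000019a0000000000000006b999000000000000000001af000000000000000ab999000000000000000001980000000000000006b2a8000000000000000a598c000000000000000001ad000000000000000aa1970000000000000000018c0000000000001ac6a2970000000000002a76598c0000000000000000018b0000000000000006aaa6000000000000000a518a000000000000000001ab000000000000000a99950000000000000000018a0000000000001aa69a950000000000002a56518a0000000000000000018900000000000000069193000000000000000001a9000000000000000a919300000000000000000188000000000000000002a3000000000000000001870000000000000006458600000000000000000192000000000000000a458600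00000000000000018500000000000000063d8400000000000000000190000000000000000a3d84000000000000000001830000000000000000028e0000000000000000018200000000000000000181000000000000000001800000000000000000017f0000000000000000017e0000000000000005f17a0000000000000000017d0000000000000009f17a000000000000000001790000000000001f7bd9f4000000000000000bd5f4000000000000000bcdf1000000000000000bc9f000000000000000000178000000000000000001f7000000000000000001770000000000000000017b000000000000000001f5000000000000000001740000000000000000018d000000000000000001f100000000000000000162000000000000000001a2000000000000000001f00000000000000000014d0000000000000005d573000000000000000001760000000000000005d6730000000000000000017200000000000000000271000000000000000001700000000000000000026f0000000000000000016e0000000000000000016d000000000000000001610000000000000005ad600000000000000000016c0000000000000005ae600000000000000000015f0000000000000005a55e0000000000000000016a0000000000000005a65e0000000000000000015d000000000000000001680000000000000000014c00000000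00000005714b000000000000000001670000000000000005724b000000000000000001460000000000000009955b000000000000000925450000000000000000016600000000000000056e4a0000000000000000014500000000000016556e4a00000000000015a926450000000000000000014400000000000000098d5900000000000000091d430000000000000000016400000000000000056648000000000000000001430000000000001635664800000000000015891e4300000000000000000142000000000000000559410000000000000000015700000000000000055a41000000000000000001400000000000000005513f000000000000000001550000000000000005523f0000000000000000013e000000000000000001530000000000000000013d000000000000000945500000000000000008ed3a000000000000000001520000000000000005423c0000000000000000013a0000000000001515423c00000000000014f8ee3a000000000000000001390000000000000000014e0000000000000000013800000000000000000237000000000000000001360000000000000000023500000000000000000134000000000000000001330000000000000008c530000000000000000002320000000000000008c6300000000000000000012f0000000000000000012e0000000000000000022d00000000000000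0001230000000000000004ae2a000000000000000885200000000000000000022c0000000000000008aa220000000000000000012000000000000022b8aa22000000000000229886200000000000000000011f000000000000000002280000000000000000011e0000000000000008991d0000000000000000022700000000000000089a1d0000000000000000011c0000000000000008911b000000000000000002250000000000000008921b0000000000000000011a000000000000000002190000000000000000011800000000000000000217000000000000000001160000000000000000011500000000000000084d0d0000000000000000021400000000000000084e0d0000000000000000010c0000000000000008450b000000000000000002120000000000000008460b0000000000000000010a0000000000000000021000000000000000000109000000000000000839080000000000000000020f00000000000000083a080000000000000000010600000000000000000207000000000000000001050000000000000000010400000000000000000203000000000000000001020000000000000000020100000000000000000100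

/-- the vectors, class 5 -/
def B5n : ℕ := 0x1ef000000000000000001ee000000000000000001ed000000000000000001ec000000000000000001eb000000000000000001ea000000000000000001e8000000000000000001e9000000000000000001e7000000000000000001e6000000000000000001e5000000000000000001e4000000000000000001e3000000000000000001e2000000000000000001e1000000000000000001e0000000000000000001df000000000000000001de000000000000000001dd000000000000000001dc000000000000000001db000000000000000001da000000000000000001d9000000000000000001d8000000000000000001d7000000000000000001d6000000000000000001d5000000000000000001cb000000000000000002d400000000000000074dca000000000000000001c9000000000000000b4dca000000000000000749c9000000000000000001c8000000000000000002d1000000000000000741c7000000000000000001c6000000000000000b41c700000000000000073dc6000000000000000001c5000000000000000002ce000000000000000735c4000000000000000001c3000000000000000b35c4000000000000000731c3000000000000000001c2000000000000000001c1000000000000000001c0000000000000000001bf0000000000000000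01be000000000000000001bd000000000000000001bc000000000000000001bb000000000000000001ba000000000000000001b9000000000000000001b8000000000000000001b7000000000000000001b6000000000000000001b5000000000000000001b4000000000000000001b3000000000000000001b2000000000000000001b1000000000000000001b0000000000000000001af000000000000000001ae000000000000000002ad0000000000000006b1a8000000000000000001a7000000000000000ab1a80000000000000006ada7000000000000000001a6000000000000000001aa000000000000000001a5000000000000000001a9000000000000000001a4000000000000000001a3000000000000000001a2000000000000000001a1000000000000000001a00000000000000000019f0000000000000000019e0000000000000000019d0000000000000000019c0000000000000000019b0000000000000000019a0000000000000000019900000000000000000198000000000000000002970000000000000006598c0000000000000000018b000000000000000a598c0000000000000006558b0000000000000000018a000000000000000001940000000000000000018900000000000000000193000000000000000001880000000000000000018700000000000000000192000000000000000a458600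00000000000000018500000000000000064586000000000000000a4185000000000000000001840000000000000000028f000000000000000001830000000000000000028e0000000000000000018200000000000000000181000000000000000001800000000000000000017f0000000000000000017e0000000000000000017d0000000000000000017c0000000000000000017b000000000000000bcdf1000000000000000001f4000000000000000001f2000000000000000001f00000000000000000017a00000000000000000179000000000000000001f50000000000000005e578000000000000000001f6000000000000000001760000000000000000018d000000000000000001f1000000000000000001620000000000000007def60000000000000005de760000000000000000017500000000000000000174000000000000000002730000000000000000017200000000000000000171000000000000000001700000000000000000026f0000000000000000016e0000000000000000016d000000000000000001610000000000000000016c000000000000000001600000000000000000016b0000000000000005aa5f0000000000000000015e0000000000000005a95f0000000000000005a65e0000000000000000015d00000000000000000168000000000000000002670000000000000000015c00000000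0000000002660000000000000000015b000000000000000002650000000000000009925a000000000000000001590000000000000009915a00000000000000098e590000000000000000015800000000000000000157000000000000000001560000000000000000025500000000000000000154000000000000000001530000000000000000025200000000000000000151000000000000000001500000000000000000024f0000000000000000014e0000000000000000014d0000000000000000014c0000000000000000024b000000000000000001460000000000000000024a000000000000000001450000000000000000024900000000000000092244000000000000000001430000000000000009214400000000000000091e430000000000000000014200000000000000000141000000000000000001400000000000000000023f0000000000000000013e0000000000000000013d0000000000000000023c0000000000000000013b0000000000000000013a000000000000000002390000000000000000013800000000000000000137000000000000000001360000000000000000023500000000000000000134000000000000000001330000000000000000023200000000000000000131000000000000000001300000000000000000022f0000000000000000012e0000000000000000022d00000000000000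08b223000000000000000001220000000000000008b1230000000000000008ae22000000000000000001210000000000000000022a0000000000000008a6200000000000000000011f0000000000000008a5200000000000000008a21f0000000000000000011e0000000000000000022700000000000000089a1d0000000000000000011c0000000000000008991d0000000000000008961c0000000000000000011b000000000000000002240000000000000000011a000000000000000001190000000000000000021800000000000000000117000000000000000001160000000000000000011500000000000000000114000000000000000002130000000000000000011200000000000000000111000000000000000001100000000000000000020f0000000000000000010e0000000000000000010d0000000000000000020c0000000000000000010b0000000000000000010a00000000000000000109000000000000000002080000000000000000010600000000000000000207000000000000000001050000000000000000010400000000000000000103000000000000000001020000000000000000020100000000000000000100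

/-- the vectors, class 6 -/
def B6n : ℕ := 0x1ef000000000000000001ee000000000000000001ed000000000000000001ec000000000000000001eb000000000000000001ea000000000000000001e8000000000000000b9de1000000000000000002e900000000000000079de1000000000000000001e0000000000000000001e6000000000000000001df000000000000000001e5000000000000000001de000000000000000002e400000000000000078ddd000000000000000001dc000000000000000b8ddd000000000000000789dc000000000000000001db000000000000000001da000000000000000001d9000000000000000001d8000000000000000001d7000000000000000001d6000000000000000001d5000000000000000001cb000000000000000002d400000000000000074dca000000000000000001c9000000000000000b4dca000000000000000749c9000000000000000001c8000000000000000002d1000000000000000741c7000000000000000001c6000000000000000b41c700000000000000073dc6000000000000000001c5000000000000000002ce000000000000000735c4000000000000000001c3000000000000000b35c4000000000000000731c3000000000000000001c2000000000000000001c1000000000000000001c0000000000000000001bf0000000000000000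01be000000000000000001bd000000000000000001bc000000000000000001bb000000000000000001ba000000000000000001b9000000000000000001b8000000000000000001b7000000000000000ad9a1000000000000000001a00000000000000006d9a1000000000000000ad5a00000000000000000019f000000000000000001b4000000000000000acd9e0000000000000000019d0000000000000006cd9e000000000000000ac99d0000000000000000019c000000000000000001b1000000000000000ac19b0000000000000000019a0000000000000006c19b000000000000000abd9a00000000000000000199000000000000000002ae00000000000000000198000000000000000001ad000000000000000aa1970000000000000000018c0000000000000006b197000000000000000aad96000000000000000001950000000000001ac6a2970000000000002a76598c0000000000000000018b00000000006ada7a598c0000000000002a66558b0000000000000000018a00000000000000069594000000000000000001aa000000000000000a95940000000000000000018900000000000000069193000000000000000001a9000000000000000a919300000000000000000188000000000000000002a30000000000000000018700000000000000000192000000000000000a45860000000000000000018500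000000000000064586000000000000000a4185000000000000000001840000000000000000028f000000000000000001830000000000000000028e0000000000000000018200000000000000000181000000000000000001800000000000000000017f0000000000000000017e0000000000000000017d0000000000000000017c0000000000000000017b000000000000000bcdf1000000000000000bc9f0000000000000000001f40000000000000000017a00000000000000000179000000000000000001f50000000000000005e578000000000000000001f6000000000000000001760000000000000000018d000000000000000001f100000000000000000162000000000000000001a2000000000000000001f00000000000000000014d0000000000000007def60000000000000005de760000000000000000017500000000000000000174000000000000000002730000000000000000017200000000000000000171000000000000000001700000000000000000026f0000000000000000016e0000000000000000016d000000000000000001610000000000000000016c000000000000000001600000000000000000016b0000000000000005aa5f0000000000000000015e0000000000000005a95f0000000000000005a65e0000000000000000015d000000000000000001680000000000000000014c00000000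00000005714b000000000000000001670000000000000005724b0000000000000000014600000000000000056d4a0000000000000000016600000000000000056e4a000000000000000001450000000000000000016500000000000000056a49000000000000000001440000000000000005914900000000000000058e480000000000000000014700000000000016456a490000000000001599224400000000000000000143000000000058d599214400000000000015891e4300000000000000000142000000000000000001570000000000000000014100000000000000000156000000000000000556400000000000000000013f000000000000000555400000000000000005523f0000000000000000013e0000000000000000015300000000000000054a3d0000000000000000013c0000000000000005493d0000000000000005463c0000000000000000013b0000000000000000015000000000000000053e3a0000000000000000013900000000000000053d3a00000000000000053a390000000000000000013800000000000000000137000000000000000001360000000000000000023500000000000000000134000000000000000001330000000000000000023200000000000000000131000000000000000001300000000000000000022f0000000000000000012e0000000000000000022d00000000000000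08b223000000000000000001220000000000000008b1230000000000000008ae22000000000000000001210000000000000000022a0000000000000008a6200000000000000000011f0000000000000008a5200000000000000008a21f0000000000000000011e0000000000000000022700000000000000089a1d0000000000000000011c0000000000000008991d0000000000000008961c0000000000000000011b000000000000000002240000000000000000011a00000000000000000119000000000000000002180000000000000000011700000000000000000116000000000000000001150000000000000000021400000000000000084e0d0000000000000000010c00000000000000084d0d00000000000000084a0c0000000000000000010b000000000000000002110000000000000000010a0000000000000000021000000000000000000109000000000000000839080000000000000000020f00000000000000083a080000000000000000010600000000000000000207000000000000000001050000000000000000010400000000000000000103000000000000000001020000000000000000020100000000000000000100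

/-- the vectors, class 7 -/
def B7n : ℕ := 0x1ef000000000000000001ee000000000000000001ed000000000000000001ec000000000000000001eb000000000000000001ea000000000000000001e9000000000000000001e1000000000000000ba5e800000000000000079de1000000000000000001e0000000000000000001e6000000000000000001df000000000000000001da000000000000000796df000000000000000779da000000000000000001d9000000000000000001e4000000000000000001dd000000000000000001d800000000000000078edd000000000000000771d8000000000000000001d7000000000000000001e2000000000000000001db000000000000000001d6000000000000000001d5000000000000000001cb000000000000000b4dd1000000000000000b25c7000000000000000002d4000000000000000745ca000000000000000001c70000000000002d3b46ca0000000000001d0725c7000000000000000001c6000000000000000b3dc8000000000000000002d200000000000000073dc8000000000000000001c5000000000000000001ce000000000000000001c4000000000000000b31c3000000000000000002cd000000000000000731c3000000000000000001c2000000000000000002c1000000000000000002b7000000000000000001a1000000000000000b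01b7000000000000000ad9a1000000000000000001a0000000000000000002bf000000000000000002b50000000000000000019f000000000000000002be000000000000000002b40000000000000000019e000000000000000aedb4000000000000000ac59e0000000000000000019b000000000000000002bd000000000000000002b30000000000000000019d000000000000000af1b3000000000000000ac99d0000000000000000019c000000000000000ae9b3000000000000000ac19d0000000000000000019a0000000000ae5b26c29d0000000000002af6719a00000000000000000199000000000000000002b8000000000000000002ae00000000000000000198000000000000000001ad000000000000000aa1970000000000000000018c0000000000000006a197000000000000000a4a8c00000000000000000186000000000000000001ac000000000000000a9d960000000000000000018b0000000000001ab69e960000000000002a66558b0000000000000000018a00000000000000069d96000000000000000a468b000000000000000001850000000000699956458b000000000000290a298500000000000000000184000000000000000001aa000000000000000a9594000000000000000001890000000000001a9696940000000000002a464d89000000000000000001880000000000000006959400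0000000000000a3e890000000000000000018300000000006919363d8900000000000028ea218300000000000000000182000000000000000002810000000000000000017d0000000000000005fd7c000000000000000001800000000000000009fd7c0000000000000000017b0000000000000000027a000000000000000001780000000000001f6bd5f4000000000000000bddf6000000000000000002a300000000000018d61d7e000000000000000001f300000000000000000179000000000000000001f6000000000000000001760000000000000000017e000000000000000001f4000000000000000001710000000000000000018d000000000000000001f10000000000000000016200000000000000068987000000000000000001f00000000000000000014d0000000000000007caf00000000000000005a24d0000000000000000014c00000000000000000177000000000000000001750000000000000005cd70000000000000000001740000000000000005ce700000000000000000016f000000000000000001720000000000000000016e0000000000000000016d000000000000000001670000000000000000014b0000000000000005b16700000000000000059a4b0000000000000000014a00000000000000059e610000000000000005724b00000000000000000146000000000059a605724b00000000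000015b92a46000000000000000001450000000000000000016b00000000000000000165000000000000000001490000000000000005a96500000000000000059249000000000000000001480000000000000005965f00000000000000056a490000000000000000014400000000005925e56a49000000000000159922440000000000000000014300000000000000000169000000000000000001630000000000000000014700000000000000058e5d0000000000000005624700000000000000000142000000000000000002570000000000000000024100000000000000000137000000000000000002560000000000000000024000000000000000000136000000000000000956400000000000000008fe360000000000000000013500000000000000094e400000000000000008f63600000000000000000133000000000094a3f8f63600000000000023c8d63300000000000000000132000000000000000002540000000000000000023e000000000000000001340000000000000009463e0000000000000008ee3400000000000000000131000000000000000002500000000000000000023a000000000000000001300000000000000000024f000000000000000002390000000000000000012f00000000000000093a390000000000000008e22f0000000000000000012e0000000000000008b12300000000000000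00022d0000000000000008b223000000000000000001220000000000000000022b0000000000000000012100000000000000089d200000000000000000022a00000000000000089e200000000000000000011d0000000000000004a2260000000000000008791c0000000000000000022900000000000000089a1f0000000000000000011c00000000000022889a1f00000000000022587a1c0000000000000000011b000000000000000002240000000000000000011a00000000000000000119000000000000000002140000000000000000010d00000000000000000118000000000000000002130000000000000000010c00000000000000045e1300000000000000084a0c0000000000000000010b00000000000000000116000000000000000002110000000000000000010a000000000000000456110000000000000008420a000000000000000001090000000000000000020f00000000000000083a080000000000000000010600000000000000043a0800000000000000081e06000000000000000001050000000000000000020400000000000000000103000000000000000002020000000000000000010100000000000000000100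

/-- the vectors, class 8 -/
def B8n : ℕ := 0x1ef000000000000000001ee000000000000000001ed000000000000000001ec000000000000000001eb000000000000000001ea000000000000000001e9000000000000000001e1000000000000000001e8000000000000000001e7000000000000000001e0000000000000000001e6000000000000000001df000000000000000001da000000000000000796df000000000000000779da000000000000000001d90000000000001e4b79da000000000000000775d9000000000000000001d8000000000000000001e3000000000000000001dc000000000000000001d7000000000000000001e2000000000000000001db000000000000000001d6000000000000000001d5000000000000000001d4000000000000000001d1000000000000000001d3000000000000000001d0000000000000000001ce000000000000000001d2000000000000000001cf000000000000000001cd000000000000000001cc000000000000000001cb000000000000000001ca000000000000000001c7000000000000000001c9000000000000000001c6000000000000000001c4000000000000000001c8000000000000000001c5000000000000000001c3000000000000000001c2000000000000000002c1000000000000000002b7000000000000000001a10000000000000000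02c0000000000000000002b6000000000000000001a0000000000000000af9b6000000000000000ad1a00000000000000000019e0000000000002bb6d1a0000000000000000ac59e0000000000000000019b000000000000000002bf000000000000000002b50000000000000000019f000000000000000af5b5000000000000000acd9f0000000000000000019d0000000000002ba6cd9f000000000000000ac19d0000000000000000019a000000000000000002bc000000000000000002b20000000000000000019c000000000000000ae5b2000000000000000abd9c000000000000000001990000000000002b86bd9c000000000000000ab99900000000000000000198000000000000000002ad0000000000000000019700000000000000000192000000000000000002ac0000000000000000019600000000000000000191000000000000000002ab0000000000000000019500000000000000000190000000000000000aaa95000000000000000651900000000000000000018f0000000000002a9a519000000000000000064d8f0000000000000000018e0000000000000000018d000000000000000001a80000000000000000028c00000000000000000186000000000000000001a70000000000000000028b00000000000000000185000000000000000001a60000000000000000028a0000000000000000018400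00000000000006958a000000000000000a2584000000000000000001830000000000001a462584000000000000000a218300000000000000000182000000000000000001810000000000000000027d0000000000000000017a000000000000000001800000000000000000027c0000000000000000017900000000000000000178000000000000000001f7000000000000000001f10000000000000000027f0000000000000000017b000000000000000001f6000000000000000a8d7f00000000000000061d7e000000000000000001f30000000000000005f97b000000000000000001f40000000000000000017100000000000000068987000000000000000001f00000000000000000014d0000000000000007d6f40000000000000005d271000000000000000001700000000000000007caf00000000000000005a24d0000000000000000014c0000000000000000017700000000000000000176000000000000000001730000000000000000016f00000000000000000175000000000000000001720000000000000000016e0000000000000000016d000000000000000001670000000000000000014b0000000000000005b16700000000000000059a4b0000000000000000014a00000000000016b5994b0000000000000005964a000000000000000001490000000000000000016a0000000000000000016400000000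00000000014800000000000000000169000000000000000001630000000000000000014700000000000000000162000000000000000002610000000000000000015c000000000000000001460000000000000009815c00000000000000056e460000000000000000014500000000000025f56d4600000000000000056a45000000000000000001440000000000000000025e00000000000000000159000000000000000001430000000000000000025d000000000000000001580000000000000000014200000000000000000257000000000000000002410000000000000000013700000000000000095a410000000000000009023700000000000000000136000000000000253901370000000000000008f63600000000000000000133000000000000000002550000000000000000023f0000000000000000013500000000000000094a3f0000000000000008f235000000000000000001320000000000002508f1350000000000000008ea3200000000000000000130000000000000000002540000000000000000023e000000000000000001340000000000000009463e0000000000000008ee340000000000000000013100000000000024f8ed340000000000000008e6310000000000000000012f0000000000000000024e000000000000000002380000000000000000012e0000000000000000012d00000000000000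00012c0000000000000000022a000000000000000001270000000000000000012b00000000000000000229000000000000000001260000000000000000012800000000000000000225000000000000000001240000000000000000012300000000000000000122000000000000000002200000000000000000011d000000000000000001210000000000000000021f0000000000000000011c0000000000000000011e0000000000000000021b0000000000000000011a00000000000000000119000000000000000002140000000000000000010d00000000000000000118000000000000000002130000000000000000010c00000000000000000117000000000000000002120000000000000000010b00000000000000045a120000000000000008460b0000000000000000010a0000000000001158450b0000000000000008420a000000000000000001090000000000000000010f00000000000000000208000000000000000001070000000000000000010e00000000000000000206000000000000000001050000000000000000010400000000000000000203000000000000000001020000000000000000010100000000000000000100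

/-- the vectors, class 9 -/
def B9n : ℕ := 0x1ef000000000000000001ee000000000000000001ed000000000000000001ec000000000000000001eb000000000000000001ea000000000000000001e9000000000000000001e1000000000000000001e8000000000000000001e7000000000000000001e0000000000000000001e6000000000000000001df000000000000000001da000000000000000796df000000000000000779da000000000000000001d90000000000001e4b79da000000000000000775d9000000000000000001d8000000000000000001e3000000000000000001dc000000000000000001d700000000000000078adc00000000000000076dd7000000000000000001d6000000000000000001d5000000000000000001d4000000000000000001d1000000000000000001d3000000000000000001d0000000000000000001ce00000000000000074ad000000000000000073dce000000000000000001cd000000000000000001cc000000000000000001cb000000000000000001ca000000000000000001c7000000000000000001c9000000000000000001c6000000000000000001c4000000000000000722c6000000000000000715c4000000000000000001c3000000000000000001c2000000000000000002c1000000000000000002b7000000000000000001a10000000000000000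02c0000000000000000002b6000000000000000001a0000000000000000afdb6000000000000000ad5a00000000000000000019f000000000000000af9b6000000000000000ad1a00000000000000000019e0000000000af5b56d2a00000000000002b367d9e0000000000000000019d0000000000002bb6d1a0000000000000000ac59e0000000000000000019b00000002ba6cdb167e9e0000000000002b06759b0000000000000000019a000000000000000002bc000000000000000002b20000000000000000019c000000000000000ae5b2000000000000000abd9c000000000000000001990000000000002b86bd9c000000000000000ab99900000000000000000198000000000000000002ad0000000000000000019700000000000000000192000000000000000ab2970000000000000006599200000000000000000191000000000000000002ab0000000000000000019500000000000000000190000000000000000aaa95000000000000000651900000000000000000018f0000000000002a9a519000000000000000064d8f0000000000000000018e0000000000000000018d000000000000000001a80000000000000000028c0000000000000000018600000000000000069d8c000000000000000a2d8600000000000000000185000000000000000001a60000000000000000028a0000000000000000018400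00000000000006958a000000000000000a2584000000000000000001830000000000001a462584000000000000000a218300000000000000000182000000000000000001810000000000000000027d0000000000000000017a0000000000000006017d0000000000000009f17a00000000000000000179000000000000000001f10000000000000000027f0000000000000005ed78000000000000000001f6000000000000000a8d7f00000000000000061d7e000000000000000001f300000000000000000178000000000000000001f7000000000000000001770000000000000005f97b000000000000000001f40000000000000000017100000000000000068987000000000000000001f00000000000000000014d0000000000000007d6f40000000000000005d271000000000000000001700000000000000007caf00000000000000005a24d0000000000000000014c00000000000000000176000000000000000001730000000000000000016f0000000000000005d5730000000000000005ca6f0000000000000000016e0000000000000000016d000000000000000001670000000000000000014b0000000000000005b16700000000000000059a4b0000000000000000014a00000000000016b5994b0000000000000005964a000000000000000001490000000000000000016a0000000000000000016400000000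0000000001480000000000000005a56400000000000000058e480000000000000000014700000000000000000162000000000000000002610000000000000000015c000000000000000001460000000000000009815c00000000000000056e460000000000000000014500000000000025f56d4600000000000000056a45000000000000000001440000000000000000025e000000000000000001590000000000000000014300000000000000097559000000000000000562430000000000000000014200000000000000000257000000000000000002410000000000000000013700000000000000095a410000000000000009023700000000000000000136000000000000253901370000000000000008f63600000000000000000133000000000000000002550000000000000000023f000000000000000001350000000000000009523f0000000000000008fa350000000000000000013400000000000000094a3f0000000000000008f2350000000000000000013200000000009463e8f23500000000000023b8d232000000000000000001310000000000002508f1350000000000000008ea3200000000000000000130000000024f8ee3a4d2320000000000002398c6300000000000000000012f0000000000000000024e000000000000000002380000000000000000012e0000000000000000012d00000000000000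00012c0000000000000000022a000000000000000001270000000000000004ae2a0000000000000008a627000000000000000001260000000000000000012800000000000000000225000000000000000001240000000000000000012300000000000000000122000000000000000002200000000000000000011d0000000000000004862000000000000000087e1d0000000000000000011c0000000000000000011e0000000000000000021b0000000000000000011a00000000000000000119000000000000000002140000000000000000010d0000000000000004621400000000000000084e0d0000000000000000010c00000000000000000117000000000000000002120000000000000000010b00000000000000045a120000000000000008460b0000000000000000010a0000000000001158450b0000000000000008420a000000000000000001090000000000000000010f00000000000000000208000000000000000001070000000000000000010e00000000000000000206000000000000000001050000000000000000010400000000000000000203000000000000000001020000000000000000020100000000000000000100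

/-- the vectors, class 10 -/
def B10n : ℕ := 0x1ef000000000000000001ee000000000000000001ed000000000000000001ec000000000000000001eb000000000000000001ea000000000000000001e9000000000000000001e1000000000000000ba5e800000000000000079de1000000000000000001e0000000000000000001e6000000000000000001df000000000000000001da000000000000000796df000000000000000779da000000000000000001d90000000000001e4b79da000000000000000775d9000000000000000001d8000000000000000001e3000000000000000001dc000000000000000001d700000000000000078adc00000000000000076dd7000000000000000001d6000000000000000002d5000000000000000751cb000000000000000001ca000000000000000b51cb000000000000000745ca000000000000000001c7000000000000000002d3000000000000000741c9000000000000000001c60000000000002d2b42c90000000000001cf721c6000000000000000001c5000000000000000b41c9000000000000000739c6000000000000000001c40000000000b3ece722c60000000000001cd715c4000000000000000001c3000000000000000001cc000000000000000001c2000000000000000002c1000000000000000002b7000000000000000001a100000000000000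0002c0000000000000000002b6000000000000000001a0000000000000000afdb6000000000000000ad5a00000000000000000019f000000000000000af9b6000000000000000ad1a00000000000000000019e0000000000af5b56d2a00000000000002b367d9e0000000000000000019d0000000000002bb6d1a0000000000000000ac59e0000000000000000019b00000002ba6cdb167e9e0000000000002b06759b0000000000000000019a000000000000000002bc000000000000000002b20000000000000000019c000000000000000ae5b2000000000000000abd9c000000000000000001990000000000002b86bd9c000000000000000ab99900000000000000000198000000000000000001ad000000000000000aa1970000000000000000018c0000000000001ac6a2970000000000002a76598c0000000000000000018b0000000000000006a197000000000000000a4a8c00000000000000000186000000000069d966498c000000000000291a2d8600000000000000000185000000000000000001ab000000000000000a99950000000000000000018a0000000000001aa69a950000000000002a56518a0000000000000000018900000000000000069995000000000000000a428a0000000000000000018400000000006a5a5a518a0000000000002a464d89000000000000000001880000000000695946418a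00000000000028fa25840000000000000000018300000001a464d8f6258400000000000028ea218300000000000000000182000000000000000001810000000000000000027d0000000000000000017a0000000000000006017d0000000000000009f17a000000000000000001790000000000000000027f0000000000000005ed78000000000000000001f6000000000000000a8d7f00000000000018d61d7e000000000000000001f300000000000000000178000000000000000001f7000000000000000001770000000000000005f97b000000000000000001f4000000000000000001710000000000000000018d000000000000000001f10000000000000000016200000000000000068987000000000000000001f00000000000000000014d0000000000000007d6f40000000000000005d271000000000000000001700000000000000007caf00000000000000005a24d0000000000000000014c00000000000000000176000000000000000001730000000000000000016f0000000000000005d5730000000000000005ca6f0000000000000000016e0000000000000000016d000000000000000001670000000000000000014b0000000000000005b16700000000000000059a4b0000000000000000014a00000000000000059e610000000000000005724b0000000000000000014600000000000016b5994b000000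0000000005964a00000000000000000149000000000059a605724b00000000000015b92a4600000000000000000145000000016597d5b9294600000000000015a92645000000000000000001440000000000000000016a00000000000000000164000000000000000001480000000000000005a56400000000000000058e48000000000000000001470000000000000005925e0000000000000005664800000000000000000143000000000058e5d5664800000000000015891e430000000000000000014200000000000000000257000000000000000002410000000000000000013700000000000000095a410000000000000009023700000000000000000136000000000000253901370000000000000008f63600000000000000000133000000000000000002550000000000000000023f000000000000000001350000000000000009523f0000000000000008fa350000000000000000013400000000000000094a3f0000000000000008f2350000000000000000013200000000009463e8f23500000000000023b8d232000000000000000001310000000000002508f1350000000000000008ea3200000000000000000130000000024f8ee3a4d2320000000000002398c6300000000000000000012f0000000000000000024e000000000000000002380000000000000000012e0000000000000000022d000000000000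000001230000000000000000022c0000000000000008aa220000000000000000012000000000000022b8aa22000000000000229886200000000000000000011f0000000000000008a92200000000000000089e200000000000000000011d00000000008a6274862000000000000022687e1d0000000000000000011c000000000000000002280000000000000008961e0000000000000000011b0000000000000008951e0000000000000008921b0000000000000000011a00000000000000000119000000000000000002140000000000000000010d0000000000000004621400000000000000084e0d0000000000000000010c00000000000000000117000000000000000002120000000000000000010b00000000000000045a120000000000000008460b0000000000000000010a0000000000001158450b0000000000000008420a000000000000000001090000000000000000020f00000000000000083a080000000000000000010600000000000000043a0800000000000000081e06000000000000000001050000000000000000010400000000000000000203000000000000000001020000000000000000020100000000000000000100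

/-- the vectors -/
def BN : Fin 11 → ℕ := ![B0n, B1n, B2n, B3n, B4n, B5n, B6n, B7n, B8n, B9n, B10n]

/-- the tops, class 0 -/
def M0n : ℕ := 0xbffbf7bb5ed75bd6ef7f5bbdf7deedfe5bbdf7deed7f7bb5ed75bd6ef7effe

/-- the tops, class 1 -/
def M1n : ℕ := 0xafebd6ab9ae79ae6ab5f9aad75d6b3f932b5d75aae7d6ab9ae79ae6ab5ebfa

/-- the tops, class 2 -/
def M2n : ℕ := 0xad6ad6b32a4b9ae6b32f9accb99567e4995666ccae7b32b9ae6a4b32b5ab5a

/-- the tops, class 3 -/
def M3n : ℕ := 0x9ff3e7324c924992673e499cf3ce67e49339e79cc93e7324c924992673e7fc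

/-- the tops, class 4 -/
def M4n : ℕ := 0xad9666b32a4b9aa92cca4a4cb32acf924cab32ca4a4cca92ae6a4b32b9965a

/-- the tops, class 5 -/
def M5n : ℕ := 0x9d72e7292492499264ae4992b254cf92499526a4c93a9324c924924a73a75c

/-- the tops, class 6 -/
def M6n : ℕ := 0x9d95272924924992492924cca4a99e4924ca92cc924a4924c924924a72565c

/-- the tops, class 7 -/
def M7n : ℕ := 0xd492492a4cb2492492492492492cb92492ca4924924924924932ca4a492495

/-- the tops, class 8 -/
def M8n : ℕ := 0xe49249249926492492492499249279249324924c9249249249324c92492493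

/-- the tops, class 9 -/
def M9n : ℕ := 0xa49249249926492492492499249264924924924c9249249249324c92492492

/-- the tops, class 10 -/
def M10n : ℕ := 0xa4924924924a49249249249249249249249249249249249249292492492492

/-- the tops -/
def MN : Fin 11 → ℕ := ![M0n, M1n, M2n, M3n, M4n, M5n, M6n, M7n, M8n, M9n, M10n]

/-- the inverse, class 0 -/
def X0n : ℕ := 0x178000000000000000601780000000000000000017f0000000000000000017e0000000000000000017d0000000000000000017c0000000000000000017b0000000000000000017a000000000000000001f7000000000000000001f6000000000000000001f5000000000000000001f4000000000000000001f3000000000000000001f2000000000000000001f1000000000000000001f0000000000000000001ef000000000000000001ee000000000000000001ed000000000000000001ec000000000000000001eb000000000000000001ea000000000000000001e9000000000000000001e8000000000000000001e7000000000000000001e6000000000000000001e5000000000000000001e4000000000000000001e3000000000000000001e2000000000000000001e1000000000000000001e0000000000000000001df000000000000000001de0000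00000000000001dd000000000000000001dc000000000000000001db000000000000000001da000000000000000001d9000000000000000001d8000000000000000001d7000000000000000001d6000000000000000001d5000000000000000001d4000000000000000001d3000000000000000001d2000000000000000001d1000000000000000001d0000000000000000001cf000000000000000001ce000000000000000001cd000000000000000001cc000000000000000001cb000000000000000001ca000000000000000001c9000000000000000001c8000000000000000001c7000000000000000001c6000000000000000001c5000000000000000001c4000000000000000001c3000000000000000001c2000000000000000001c1000000000000000001c0000000000000000001bf000000000000000001be000000000000000001bd000000000000000001bc000000000000000001bb000000000000000001ba000000000000000001b9000000000000000001b8000000000000000001b7000000000000000001b6000000000000000001b5000000000000000001b4000000000000000001b3000000000000000001b2000000000000000001b1000000000000000001b0000000000000000001af000000000000000001ae000000000000000001ad000000000000000001ac000000000000000001ab0000000000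00000001aa000000000000000001a9000000000000000001a8000000000000000001a7000000000000000001a6000000000000000001a5000000000000000001a4000000000000000001a3000000000000000001a2000000000000000001a1000000000000000001a00000000000000000019f0000000000000000019e0000000000000000019d0000000000000000019c0000000000000000019b0000000000000000019a000000000000000001990000000000000000019800000000000000000197000000000000000001960000000000000000019500000000000000000194000000000000000001930000000000000000019200000000000000000191000000000000000001900000000000000000018f0000000000000000018e0000000000000000018d0000000000000000018c0000000000000000018b0000000000000000018a0000000000000000018900000000000000000188000000000000000001870000000000000000018600000000000000000185000000000000000001840000000000000000018300000000000000000182000000000000000001810000000000000000017900000000000000000177000000000000000002760000000000000000017500000000000000000174000000000000000002730000000000000000017200000000000000000171000000000000000001700000000000000000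026f0000000000000000016e0000000000000000016d0000000000000000016c0000000000000000016b0000000000000000026a000000000000000001690000000000000000016800000000000000000167000000000000000001660000000000000000016500000000000000000264000000000000000001630000000000000000016200000000000000000161000000000000000001600000000000000000015f0000000000000000025e0000000000000000015d0000000000000000015c0000000000000000015b0000000000000000015a000000000000000002590000000000000000015800000000000000000157000000000000000001560000000000000000025500000000000000000154000000000000000001530000000000000000025200000000000000000151000000000000000002500000000000000000014f0000000000000000014e0000000000000000014d0000000000000000014c0000000000000000014b0000000000000000014a000000000000000001490000000000000000024800000000000000000147000000000000000001460000000000000000014500000000000000000144000000000000000002430000000000000000014200000000000000000141000000000000000001400000000000000000023f0000000000000000013e0000000000000000013d0000000000000000023c00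00000000000000013b0000000000000000023a000000000000000001390000000000000000013800000000000000000137000000000000000001360000000000000000023500000000000000000134000000000000000001330000000000000000023200000000000000000131000000000000000002300000000000000000012f0000000000000000012e0000000000000000012d0000000000000000022c0000000000000000012b0000000000000000022a000000000000000001290000000000000000012800000000000000000227000000000000000001260000000000000000012500000000000000000124000000000000000001230000000000000000022200000000000000000121000000000000000002200000000000000000011f0000000000000000011e0000000000000000021d0000000000000000011c0000000000000000011b0000000000000000011a000000000000000002190000000000000000011800000000000000000117000000000000000001160000000000000000011500000000000000000214000000000000000001130000000000000000011200000000000000000111000000000000000001100000000000000000010f0000000000000000010e0000000000000000020d0000000000000000010c0000000000000000010b0000000000000000010a00000000000000000109000000000000000001080000000000000000010700000000000000000106000000000000000001050000000000000000010400000000000000000103000000000000000001020000000000000000020100000000000000000100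

/-- the inverse, class 1 -/
def X1n : ℕ := 0x17a0000000000a05805e97700000000000000000177000000000000000601770000000000000000017f0000000000000000017e0000000000000000017d0000000000000000017c000000000000000001f7000000000000000001f6000000000000000001f5000000000000000001f4000000000000000001f3000000000000000001f2000000000000000001f1000000000000000001f0000000000000000001ef000000000000000001ee000000000000000001ed000000000000000001ec000000000000000001eb000000000000000001ea000000000000000001e9000000000000000001e8000000000000000001e7000000000000000001e6000000000000000001e5000000000000000001e4000000000000000001e3000000000000000001e2000000000000000001e1000000000000000001e0000000000000000001df000000000000000001de000000000000000001dd000000000000000001dc000000000000000001db000000000000000001da000000000000000001d9000000000000000002d7000000000000000762d6000000000000000b62d6000000000000000001d5000000000000000001d4000000000000000001d3000000000000000001d2000000000000000001d1000000000000000001d0000000000000000001cf0000000000000000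02cd00000000000000073acc000000000000000b3acc000000000000000001cb000000000000000001ca000000000000000001c9000000000000000002c7000000000000000722c6000000000000000b22c6000000000000000001c5000000000000000001c4000000000000000001c3000000000000000001c2000000000000000001c1000000000000000001c0000000000000000001bf000000000000000002bd0000000000000006fabc000000000000000afabc000000000000000001bb000000000000000001ba000000000000000001b9000000000000000001b8000000000000000001b7000000000000000001b6000000000000000001b5000000000000000001b4000000000000000001b3000000000000000001b2000000000000000001b1000000000000000001b0000000000000000001af000000000000000001ae000000000000000001ad000000000000000001ac000000000000000001ab000000000000000001aa000000000000000001a9000000000000000002a70000000000000006a2a6000000000000000aa2a6000000000000000001a5000000000000000001a4000000000000000001a3000000000000000001a2000000000000000001a1000000000000000001a00000000000000000019f0000000000000000019e0000000000000000019d0000000000000000019c0000000000000000019b00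00000000000000019a000000000000000001990000000000000000019800000000000000000197000000000000000001960000000000000000019500000000000000000194000000000000000001930000000000000000019200000000000000000191000000000000000001900000000000000000018f0000000000000000018e0000000000000000018d0000000000000000018c0000000000000000018b0000000000000000018a0000000000000000018900000000000000000188000000000000000001870000000000000000018600000000000000000184000000000000000a158300000000000000000178000000000000000a1683000000000000000001820000000000000000017b00000000000000000179000000000000000001740000000000000009d673000000000000000001760000000000000009d5730000000000000000017200000000000000000271000000000000000001700000000000000000026f0000000000000000016e0000000000000000016d0000000000000000026c0000000000000000016b0000000000000000026a0000000000000000016900000000000000000168000000000000000001670000000000000000026600000000000000000165000000000000000002640000000000000000016300000000000000000162000000000000000001610000000000000000026000000000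00000000015f0000000000000000025e0000000000000000015d0000000000000000015c0000000000000000025b0000000000000000015a000000000000000002590000000000000000015800000000000000000257000000000000000001560000000000000000025500000000000000000154000000000000000001530000000000000000025100000000000000054950000000000000000949500000000000000000014f0000000000000000014e0000000000000000014d0000000000000000014c0000000000000000014b0000000000000000024a000000000000000001490000000000000000024800000000000000000147000000000000000001460000000000000000024500000000000000000144000000000000000002430000000000000000014200000000000000000241000000000000000001400000000000000000023f0000000000000000013e0000000000000000013d0000000000000000023b0000000000000004f13a0000000000000008f13a00000000000000000139000000000000000001380000000000000000023700000000000000000136000000000000000002350000000000000000013400000000000000000133000000000000000002310000000000000004c9300000000000000008c9300000000000000000012f0000000000000000012e0000000000000000012d00000000000000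00022b0000000000000004b12a0000000000000008b12a000000000000000001290000000000000000012800000000000000000227000000000000000001260000000000000000022500000000000000000124000000000000000001230000000000000000022100000000000000048920000000000000000889200000000000000000011f0000000000000000011e0000000000000000021d0000000000000000011c0000000000000000021b0000000000000000011a000000000000000002190000000000000000011800000000000000000217000000000000000001160000000000000000011500000000000000000214000000000000000001130000000000000000021200000000000000000111000000000000000001100000000000000000010f0000000000000000010e0000000000000000020d0000000000000000010c0000000000000000020b0000000000000000010a00000000000000000109000000000000000001080000000000000000010700000000000000000106000000000000000001050000000000000000010400000000000000000203000000000000000001020000000000000000020100000000000000000100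

/-- the inverse, class 2 -/
def X2n : ℕ := 0x17c0000000000a09815f1790000000000000000017900000000000000060579000000000000000a01760000000000000000017f000000000000000001760000000000000000017e000000000000000001f7000000000000000001f6000000000000000001f5000000000000000001f4000000000000000001f3000000000000000001f2000000000000000001f0000000000000000001f1000000000000000001ef000000000000000001ee000000000000000001ed000000000000000001ec000000000000000001eb000000000000000001ea000000000000000001e9000000000000000001e8000000000000000001e7000000000000000001e6000000000000000001e5000000000000000001e4000000000000000001e3000000000000000001e2000000000000000001e1000000000000000001e0000000000000000001df000000000000000001de000000000000000002dc000000000000000776db000000000000000002d8000000000000000766d7000000000000000001d5000000000000000002d1000000000000000b42ce0000000000001d3b42ce0000000000001d273dcd000000000000000001cb000000000000000b76db000000000000000001da000000000000000b66d7000000000000000001d6000000000000000001d40000000000002d3b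41ce000000000000000b49cf000000000000000001cf000000000000000001cc000000000000000001ca000000000000000001c9000000000000000002c7000000000000000722c6000000000000000b22c6000000000000000001c5000000000000000001c4000000000000000001c3000000000000000001c2000000000000000001c1000000000000000001c0000000000000000001bf000000000000000002bd0000000000000006fabc000000000000000afabc000000000000000001bb000000000000000001ba000000000000000001b9000000000000000001b8000000000000000001b7000000000000000001b6000000000000000002b40000000000000006d6b3000000000000000002b00000000000000006c6af000000000000000001ad000000000000000ad6b3000000000000000001b2000000000000000ac6af000000000000000001ae000000000000000001ac000000000000000001ab000000000000000001aa000000000000000001a9000000000000000002a70000000000000006a2a6000000000000000aa2a6000000000000000001a5000000000000000001a4000000000000000001a3000000000000000001a2000000000000000001a1000000000000000001a00000000000000000029e00000000000000067e9d0000000000000000029a00000000000000066e990000000000000000019700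000000000000000193000000000000000a51920000000000000000018f000000000000000a418e0000000000000000028c00000000000000000177000000000000000a7e9d0000000000000000019c000000000000000a6e99000000000000000001980000000000000000019600000000000000000195000000000000000a529200000000000000000191000000000000000a428e0000000000000000018d0000000000000000018b0000000000000000018a00000000000000000189000000000000000001880000000000000000018700000000000000000185000000000000000a19840000000000000000017a000000000000000a1a84000000000000000001830000000000000000017d0000000000000000017b000000000000000001730000000000000009d272000000000000000001780000000000000009d17200000000000000000171000000000000000002700000000000000000016f0000000000000000026e0000000000000000016d0000000000000000016c000000000000000001690000000000000009aa680000000000000000016500000000000000099a6400000000000000000162000000000000000002610000000000000000025e00000000000000057d5d0000000000000000025a00000000000000056d59000000000000000001750000000000000000016b0000000000000009a96800000000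00000000016700000000000000099964000000000000000001630000000000000000016000000000000000097d5d0000000000000000015c00000000000000096d590000000000000000015800000000000000000257000000000000000001560000000000000000025500000000000000000154000000000000000001530000000000000000025100000000000000054950000000000000000949500000000000000000014f0000000000000000014e0000000000000000014d0000000000000000014c0000000000000000024b000000000000000002480000000000000005254700000000000000000244000000000000000515430000000000000000014a0000000000000009254700000000000000000146000000000000000915430000000000000000014200000000000000000241000000000000000001400000000000000000023f0000000000000000013e0000000000000000013d0000000000000000023b0000000000000004f13a0000000000000008f13a00000000000000000139000000000000000001380000000000000000023700000000000000000136000000000000000002350000000000000000013400000000000000000133000000000000000002310000000000000004c9300000000000000008c9300000000000000000012f0000000000000000012e0000000000000000022d00000000000000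0002290000000000000004a22600000000000022b4a22600000000000012a49e2500000000000000000223000000000000000002200000000000000004851f0000000000000000021c0000000000000004751b0000000000000000012c00000000000012b4a1260000000000000008a9270000000000000000012700000000000000000124000000000000000001220000000000000008851f0000000000000000011e0000000000000008751b0000000000000000011a000000000000000002190000000000000000011800000000000000000217000000000000000001160000000000000000011500000000000000000214000000000000000001130000000000000000021200000000000000000111000000000000000001100000000000000000020f0000000000000000010e0000000000000000020d0000000000000000010c0000000000000000020b0000000000000000010a00000000000000000109000000000000000002080000000000000000020600000000000000000107000000000000000001050000000000000000010400000000000000000203000000000000000001020000000000000000020100000000000000000100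

/-- the inverse, class 3 -/
def X3n : ℕ := 0x5e577000000000000000001790000000000000000017b0000000000000000018200000000000000000181000000000000000001800000000000000000017f0000000000000000017e000000000000000001f7000000000000000001f6000000000000000001f5000000000000000001f4000000000000000001f3000000000000000001f2000000000000000001f1000000000000000001f0000000000000000001ef000000000000000001ee000000000000000001ed000000000000000001ec000000000000000001eb000000000000000001ea000000000000000001e9000000000000000001e8000000000000000001e7000000000000000001e6000000000000000001e5000000000000000001e4000000000000000001e3000000000000000001e2000000000000000001e1000000000000000001e0000000000000000001df000000000000000001de000000000000000001dd000000000000000001dc000000000000000001db000000000000000001da000000000000000001d9000000000000000001d8000000000000000001d7000000000000000001d6000000000000000001d5000000000000000001d4000000000000000001d3000000000000000001d2000000000000000001d1000000000000000001d0000000000000000001cf00000000000000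0001ce000000000000000001cd000000000000000001cc000000000000000001cb000000000000000001ca000000000000000001c9000000000000000001c8000000000000000001c7000000000000000001c6000000000000000001c5000000000000000001c4000000000000000001c3000000000000000001c2000000000000000001c1000000000000000001c0000000000000000001bf000000000000000001be000000000000000001bd000000000000000001bc000000000000000001bb000000000000000001ba000000000000000001b9000000000000000001b8000000000000000001b7000000000000000001b6000000000000000001b5000000000000000001b4000000000000000001b3000000000000000001b2000000000000000001b1000000000000000001b0000000000000000001af000000000000000001ae000000000000000001ad000000000000000001ac000000000000000001ab000000000000000001aa000000000000000001a9000000000000000001a8000000000000000001a7000000000000000001a6000000000000000001a5000000000000000001a4000000000000000001a3000000000000000001a2000000000000000001a1000000000000000001a00000000000000000019f0000000000000000019e0000000000000000019d0000000000000000019c0000000000000000019b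0000000000000000019a000000000000000001990000000000000000019800000000000000000197000000000000000001960000000000000000019500000000000000000194000000000000000001930000000000000000019200000000000000000191000000000000000001900000000000000000018f0000000000000000018e0000000000000000018d0000000000000000018c0000000000000000018b0000000000000000018a000000000000000001890000000000000000018800000000000000000187000000000000000001860000000000000000018500000000000000000184000000000000000001830000000000000000017d0000000000000000017c0000000000000009f17a0000000000000005e176000000000000000001780000000000000000017500000000000000000174000000000000000002730000000000000000017200000000000000000171000000000000000001700000000000000000026f0000000000000000016e0000000000000000016d0000000000000000016c0000000000000000016b0000000000000000026a00000000000000000169000000000000000001680000000000000000016700000000000000000166000000000000000001650000000000000000026400000000000000000163000000000000000001620000000000000000016100000000000000000160000000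0000000000015f0000000000000000025e0000000000000000015d0000000000000000015c0000000000000000015b0000000000000000015a000000000000000002590000000000000000015800000000000000000157000000000000000001560000000000000000025500000000000000000154000000000000000001530000000000000000025200000000000000000151000000000000000001500000000000000000024f0000000000000000014e0000000000000000014d0000000000000000014c0000000000000000014b0000000000000000014a000000000000000001490000000000000000024800000000000000000147000000000000000001460000000000000000014500000000000000000144000000000000000002430000000000000000014200000000000000000141000000000000000001400000000000000000023f0000000000000000013e0000000000000000013d0000000000000000023c0000000000000000013b0000000000000000013a000000000000000002390000000000000000013800000000000000000137000000000000000001360000000000000000023500000000000000000134000000000000000001330000000000000000023200000000000000000131000000000000000001300000000000000000022f0000000000000000012e0000000000000000012d000000000000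0000022c0000000000000000012b0000000000000000012a000000000000000002290000000000000000012800000000000000000127000000000000000002260000000000000000012500000000000000000124000000000000000001230000000000000000022200000000000000000121000000000000000001200000000000000000021f0000000000000000011e0000000000000000011d0000000000000000021c0000000000000000011b0000000000000000011a000000000000000001190000000000000000021800000000000000000117000000000000000001160000000000000000011500000000000000000114000000000000000002130000000000000000011200000000000000000111000000000000000001100000000000000000010f0000000000000000010e0000000000000000010d0000000000000000020c0000000000000000010b0000000000000000010a00000000000000000109000000000000000001080000000000000000010700000000000000000106000000000000000001050000000000000000010400000000000000000103000000000000000001020000000000000000020100000000000000000100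

/-- the inverse, class 4 -/
def X4n : ℕ := 0x17e0000000000a0d825f97b0000000000000000017b0000000000000006097b000000000000000a0578000000000000000a01750000000000000000017800000000000000000175000000000000000001f7000000000000000001f6000000000000000001f5000000000000000001f4000000000000000001f3000000000000000001f2000000000000000002ef000000000000000001f10000000000000007c2ee000000000000000001ec000000000000000002e90000000000000007aae8000000000000000002e500000000000000079ae4000000000000000bc2ee000000000000000001ed000000000000000001eb000000000000000baae8000000000000000001e7000000000000000b9ae4000000000000000001e3000000000000000001e2000000000000000001e1000000000000000001e0000000000000000001df000000000000000001de000000000000000002dc000000000000000776db000000000000000002d8000000000000000766d7000000000000000001d5000000000000000002d1000000000000000b42ce0000000000001d3b42ce0000000000001d273dcd000000000000000001cb000000000000000b76db000000000000000001da000000000000000b66d7000000000000000001d6000000000000000001d40000000000002d3b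41ce000000000000000b49cf000000000000000001cf000000000000000001cc000000000000000001ca000000000000000001c9000000000000000002c7000000000000000722c6000000000000000b22c6000000000000000001c5000000000000000001c4000000000000000001c3000000000000000001c2000000000000000001c1000000000000000001c0000000000000000002bf000000000000000001bb0000000000000006e9b80000000000002bd6e9b80000000000002bcae6b7000000000000000002b5000000000000000001b2000000000000000acdb1000000000000000001ae000000000000000abdad000000000000000001a90000000000000006a1a6000000000000000001a10000000000000006819e0000000000000000019a0000000000002ab6a1a60000000000002aaa9ea50000000000002a36819e0000000000002a2a7e9d000000000000000a6d990000000000000000029700000000000000000176000000000000000001be0000000000002bdae9b8000000000000000af1b9000000000000000001b9000000000000000001b6000000000000000001b4000000000000000aceb1000000000000000001b0000000000000000abead000000000000000001ac0000000000002abaa1a6000000000000000aa9a70000000000002a3a819e000000000000000a899f000000000000000a6e9900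000000000000000194000000000000000a559300000000000000000190000000000000000a458f0000000000000000028d00000000000000000179000000000000000001a7000000000000000001a40000000000000000019f0000000000000000019c0000000000000000019800000000000000000196000000000000000a569300000000000000000192000000000000000a468f0000000000000000018e0000000000000000018c0000000000000000018b0000000000000000018a000000000000000001890000000000000000018800000000000000000186000000000000000a1d850000000000000000017c000000000000000a1e85000000000000000001840000000000000000017f0000000000000000017d000000000000000001720000000000000009ce710000000000000000017a0000000000000009cd71000000000000000001700000000000000000026f0000000000000000016e0000000000000000026d0000000000000000016c0000000000000000016b000000000000000001680000000000000009a6670000000000000000016400000000000000099663000000000000000001610000000000000000015e0000000000000000015900000000000000096156000000000000000001510000000000000009414e000000000000000001770000000000000000016a0000000000000009a56700000000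000000000166000000000000000995630000000000000000016200000000000000097e5d00000000000015b9615600000000000025a95d550000000000001539414e00000000000025293d4d0000000000000000014a00000000000000092e490000000000000000014600000000000000091e45000000000000000001430000000000000000013f0000000000000008f93c0000000000001418f93c0000000000002408f53b00000000000000000139000000000000000001740000000000000000016000000000000000097d5d00000000000015b56156000000000000000969570000000000001535414e0000000000000009494f0000000000000000015c00000000000000000157000000000000000001540000000000000000014f0000000000000000014c00000000000000092d490000000000000000014800000000000000091d4500000000000000000144000000000000000001420000000000001414f93c0000000000000009013d0000000000000000013d0000000000000000013a000000000000000001380000000000000000023700000000000000000136000000000000000002350000000000000000013400000000000000000133000000000000000002310000000000000004c9300000000000000008c9300000000000000000012f0000000000000000012e0000000000000000022d00000000000000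0002290000000000000004a22600000000000022b4a22600000000000012a49e2500000000000000000223000000000000000002200000000000000004851f0000000000000000021c0000000000000004751b0000000000000000012c00000000000012b4a1260000000000000008a9270000000000000000012700000000000000000124000000000000000001220000000000000008851f0000000000000000011e0000000000000008751b0000000000000000011a000000000000000002190000000000000000011800000000000000000217000000000000000001160000000000000000011500000000000000000213000000000000000451120000000000000000020f0000000000000004410e0000000000000000020c000000000000000002090000000000000004290800000000000000085112000000000000000001110000000000000008410e0000000000000000010d0000000000000000010b000000000000000829080000000000000000020600000000000000000107000000000000000001050000000000000000010400000000000000000203000000000000000001020000000000000000020100000000000000000100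

/-- the inverse, class 5 -/
def X5n : ℕ := 0x5ed760000000000000000017b0000000000000000017d00000000000000000182000000000000000a0d78000000000000000001810000000000000000017800000000000000000180000000000000000001f7000000000000000001f6000000000000000001f5000000000000000001f4000000000000000001f3000000000000000001f2000000000000000001f0000000000000000001f1000000000000000001ef000000000000000001ee000000000000000001ed000000000000000001ec000000000000000001eb000000000000000001ea000000000000000001e9000000000000000001e8000000000000000001e7000000000000000001e6000000000000000001e5000000000000000001e4000000000000000001e3000000000000000001e2000000000000000001e1000000000000000001e0000000000000000001df000000000000000001de000000000000000001dd000000000000000002db000000000000000b69d8000000000000000b65d7000000000000000002d5000000000000000b51d2000000000000000b4dd1000000000000000002cf000000000000000b39cc000000000000000b35cb000000000000000001dc000000000000000b6ad8000000000000000001d9000000000000000001d6000000000000000b52d200000000000000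0001d3000000000000000001d0000000000000000b3acc000000000000000001cd000000000000000001ca000000000000000001c9000000000000000001c8000000000000000001c7000000000000000001c6000000000000000001c5000000000000000001c4000000000000000001c3000000000000000001c2000000000000000001c1000000000000000001c0000000000000000001bf000000000000000001be000000000000000001bd000000000000000001bc000000000000000001bb000000000000000001ba000000000000000001b9000000000000000001b8000000000000000001b7000000000000000001b6000000000000000002b5000000000000000ad1b2000000000000000acdb1000000000000000001af000000000000000001ad000000000000000ad2b2000000000000000001b3000000000000000001b0000000000000000001ae000000000000000001ac000000000000000001ab000000000000000001aa000000000000000001a9000000000000000001a8000000000000000001a7000000000000000001a6000000000000000001a5000000000000000001a4000000000000000001a3000000000000000001a2000000000000000001a1000000000000000001a00000000000000000029f000000000000000a799c000000000000000a759b0000000000000000019900000000000000000197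0000000000000000019400000000000000064e9100000000000000064a900000000000000000028e0000000000000000028c00000000000000000179000000000000000a7a9c0000000000000000019d0000000000000000019a000000000000000001980000000000000000019600000000000000000195000000000000000a4e91000000000000000001920000000000000000018f0000000000000000018d0000000000000000018b0000000000000000018a0000000000000000018900000000000000000188000000000000000001870000000000000000018600000000000000000185000000000000000001840000000000000000017f0000000000000000017e0000000000000009f97c0000000000000005e9750000000000000000017a00000000000000000174000000000000000001730000000000000000027200000000000000000171000000000000000001700000000000000000016f0000000000000000026e0000000000000000016d0000000000000000016c0000000000000000016a0000000000000000016800000000000000099e650000000000000005996400000000000000000162000000000000000002610000000000000000025f0000000000000000025d0000000000000005715a00000000000000096e59000000000000000001770000000000000000016b00000000000000000169000000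00000000059e650000000000000000016600000000000000000163000000000000000001600000000000000000015e0000000000000005725a0000000000000000015b0000000000000000015800000000000000000157000000000000000001560000000000000000025500000000000000000154000000000000000001530000000000000000025200000000000000000151000000000000000001500000000000000000024f0000000000000000014e0000000000000000014d0000000000000000014c0000000000000000024b000000000000000002490000000000000000024700000000000000051944000000000000000916430000000000000000014a0000000000000000014800000000000000051a44000000000000000001450000000000000000014200000000000000000141000000000000000001400000000000000000023f0000000000000000013e0000000000000000013d0000000000000000023c0000000000000000013b0000000000000000013a000000000000000002390000000000000000013800000000000000000137000000000000000001360000000000000000023500000000000000000134000000000000000001330000000000000000023200000000000000000131000000000000000001300000000000000000022f0000000000000000012e0000000000000000022d000000000000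0004b12a0000000000000008ae29000000000000000002270000000000000004992400000000000000089623000000000000000002210000000000000004811e00000000000000087e1d0000000000000000021b0000000000000004b22a0000000000000000012b0000000000000000012800000000000000049a2400000000000000000125000000000000000001220000000000000004821e0000000000000000011f0000000000000000011c0000000000000000011a000000000000000001190000000000000000021800000000000000000117000000000000000001160000000000000000011500000000000000000114000000000000000002130000000000000000011200000000000000000111000000000000000001100000000000000000020f0000000000000000010e0000000000000000010d0000000000000000020c0000000000000000010b0000000000000000010a00000000000000000109000000000000000002080000000000000000020600000000000000000107000000000000000001050000000000000000010400000000000000000103000000000000000001020000000000000000020100000000000000000100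

/-- the inverse, class 6 -/
def X6n : ℕ := 0x5f5750000000000000000017d0000000000000000017f00000000000000000182000000000000000a117a000000000000000a0d770000000000000000017a00000000000000000177000000000000000001f7000000000000000001f6000000000000000001f5000000000000000001f4000000000000000001f3000000000000000001f2000000000000000002ef000000000000000001f10000000000000007c2ee000000000000000001ec000000000000000001ea000000000000000002e8000000000000000b9de5000000000000000b99e4000000000000000bc2ee000000000000000001ed000000000000000001eb000000000000000001e9000000000000000b9ee5000000000000000001e6000000000000000001e3000000000000000001e2000000000000000001e1000000000000000001e0000000000000000001df000000000000000001de000000000000000001dd000000000000000002db000000000000000b69d8000000000000000b65d7000000000000000002d5000000000000000b51d2000000000000000b4dd1000000000000000002cf000000000000000b39cc000000000000000b35cb000000000000000001dc000000000000000b6ad8000000000000000001d9000000000000000001d6000000000000000b52d200000000000000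0001d3000000000000000001d0000000000000000b3acc000000000000000001cd000000000000000001ca000000000000000001c9000000000000000001c8000000000000000001c7000000000000000001c6000000000000000001c5000000000000000001c4000000000000000001c3000000000000000001c2000000000000000001c1000000000000000001c0000000000000000001bf0000000000000006fabc0000000000000006f6bb000000000000000001b90000000000000006e2b60000000000000006deb5000000000000000001b30000000000000006cab00000000000000006c6af000000000000000002ad000000000000000001ab0000000000000006a9a50000000000001a9691a20000000000000000019e0000000000000000019a0000000000001aa6a2a50000000000002a969da20000000000001a668ea1000000000000000a7d9d000000000000000a6d990000000000000000029700000000000000000178000000000000000afabc000000000000000001bd000000000000000001ba000000000000000ae2b6000000000000000001b7000000000000000001b4000000000000000acab0000000000000000001b1000000000000000001ae000000000000000001ac0000000000002aa6a2a500000000006a5a7691a2000000000000000001a6000000000000000a7e9d000000000000000a6e99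000000000000000001950000000000000006529200000000000000064e910000000000000000028f0000000000000000028d0000000000000000017b000000000000000001a9000000000000000001a3000000000000000001a00000000000000000019c0000000000000000019800000000000000000196000000000000000a529200000000000000000193000000000000000001900000000000000000018e0000000000000000018c0000000000000000018b0000000000000000018a00000000000000000189000000000000000001880000000000000000018700000000000000000186000000000000000001850000000000000000018100000000000000000180000000000000000a017e0000000000000005f1740000000000000000017c000000000000000001730000000000000000017200000000000000000271000000000000000001700000000000000000016f0000000000000000016e0000000000000000026d0000000000000000016c0000000000000000016b000000000000000001690000000000000000016700000000000000099a6400000000000000059563000000000000000001610000000000000000015e0000000000000000015a00000000000000000157000000000000000959510000000000001559414e000000000000000001790000000000000000016a00000000000000000168000000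00000000059a64000000000000000001650000000000000000016200000000000000097e5d00000000000000096e590000000000002565525100000000000025594d4e00000000000015253d4d0000000000000000014b000000000000000001490000000000000009224600000000000000051d450000000000000000014300000000000000090a400000000000000005053f0000000000000000013d0000000000000008f23a0000000000000004ed39000000000000000001760000000000000000016000000000000000097d5d00000000000000096d59000000000000156552510000000000556539414e000000000000000001520000000000000000015c00000000000000000158000000000000000001550000000000000000014f0000000000000000014c0000000000000000014a00000000000000052246000000000000000001470000000000000000014400000000000000050a40000000000000000001410000000000000000013e0000000000000004f23a0000000000000000013b0000000000000000013800000000000000000137000000000000000001360000000000000000023500000000000000000134000000000000000001330000000000000000023200000000000000000131000000000000000001300000000000000000022f0000000000000000012e0000000000000000022d000000000000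0004b12a0000000000000008ae29000000000000000002270000000000000004992400000000000000089623000000000000000002210000000000000004811e00000000000000087e1d0000000000000000021b0000000000000004b22a0000000000000000012b0000000000000000012800000000000000049a2400000000000000000125000000000000000001220000000000000004821e0000000000000000011f0000000000000000011c0000000000000000011a00000000000000000119000000000000000002180000000000000000011700000000000000000116000000000000000001150000000000000000021400000000000000044d1100000000000000084a100000000000000000020e0000000000000000020c000000000000000002090000000000000004290800000000000000044e11000000000000000001120000000000000000010f0000000000000000010d0000000000000000010b000000000000000829080000000000000000020600000000000000000107000000000000000001050000000000000000010400000000000000000103000000000000000001020000000000000000020100000000000000000100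

/-- the inverse, class 7 -/
def X7n : ℕ := 0xa117f0000000000000000017f0000000000002855fd7c0000000000000000017c000000000000000001810000000000000005d9740000000000000000017900000000000000000176000000000000000001f7000000000000000001f6000000000000000001f5000000000000000001f4000000000000000001f3000000000000000001f2000000000000000001f10000000000000007c5ef000000000000000bc1ee000000000000000001ec0000000000000007ade9000000000000000001e6000000000000000795e3000000000000000001e0000000000000000001f0000000000000000001ed000000000000000001eb000000000000000ba9e8000000000000000001e5000000000000000b91e2000000000000000001df000000000000000001ea000000000000000001e7000000000000000001e4000000000000000001e1000000000000000001de000000000000000001dd000000000000000002d9000000000000000b62d6000000000000000002d20000000000001dbb62d60000000000001da75dd500000000000000074ed1000000000000000001cf000000000000000002cc000000000000000736cb000000000000000001dc0000000000002dbb61d6000000000000000b69d7000000000000000b4ed1000000000000000001d700000000000000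0001d4000000000000000001d0000000000000000001ce000000000000000b36cb000000000000000001ca000000000000000002c9000000000000000b22c6000000000000000002c3000000000000000002c0000000000000000002ba000000000000000ae6b7000000000000000afebd000000000000000ae6b400000000006e2b6aceb1000000000000000002ae000000000000000002c800000000000000071ec5000000000000000002c2000000000000000002bf000000000000000002b90000000000000006e2b60000000000000006fabc0000000000000006e2b30000000000001b56cab0000000000000000002ad000000000000000001ab000000000000000001a5000000000000000691a200000000000000000199000000000000000661960000000000000006aaa80000000000000006929f0000000000a8da1a7a9c000000000000000662930000000000a5d95a4a90000000000000000002830000000000a097d5e977000000000000000001c7000000000000000001c4000000000000000001c1000000000000000001be000000000000000001b8000000000000000001b5000000000000000001bb000000000000000001b2000000000000000001af000000000000000001ac000000000000000aaaa8000000000000000a929f000000000068ea1a7a9c000000000000000a6293000000000065e95a4a90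000000000000000aa6a7000000000000000a8e9e0000000000002a06769b000000000000000a5e920000000000002946468f0000000000000000017a000000000000000001a9000000000000000001a3000000000000000001a000000000000000000197000000000000000001940000000000001829f67a000000000000000001a60000000000000000019d0000000000000000019a000000000000000001910000000000000000018e0000000000000000028d0000000000000000018a000000000000000a2d890000000000000000017d0000000000000000018c000000000000000a2e8900000000000000000188000000000000000002870000000000000000018000000000000000000186000000000000000001710000000000000000017e000000000000000001700000000000000000016e0000000000000009be6d0000000000000000016b0000000000000000017b0000000000000009bd6d0000000000000000016c0000000000000000016a000000000000000001690000000000000009a1660000000000000000015d0000000000000009715a000000000000000001510000000000000005d5730000000000000000016800000000000000059d650000000000000000015c00000000000000056d5900000000000000000150000000000000000001780000000000000005a263000000000059d6558a60000000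00000000057257000000000056d5955a540000000000000005424e00000000000000059d620000000000001645855f00000000000000056d560000000000001585555300000000000000053d4d0000000000000000024b0000000000000000024800000000000000051e450000000000000000023c00000000000000051e420000000000519445063f0000000000000004ee3900000000000000000236000000000000000002330000000000000004ca30000000000000000001750000000000000000017200000000000000000167000000000000000001640000000000000000015b000000000000000001580000000000000000014f000000000000000001610000000000000000015e00000000000000000155000000000000000001520000000000000000014c0000000000000000024a0000000000000000024700000000000000091a440000000000000000023b00000000000000091a410000000000002439023e0000000000000008ea3800000000000000000235000000000000000002320000000000000008c62f0000000000000000014900000000000000000146000000000000000001430000000000000000013a000000000000000001400000000000000000013d0000000000000000013700000000000000000134000000000000000001310000000000000000012e0000000000000000022c000000000000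0004b52b0000000000000000022900000000000000000226000000000000000002210000000000000004821e00000000000000049d250000000000002234821e00000000000012247e1d0000000000000000021b0000000000000008b52b0000000000000000012a0000000000000000012800000000000000089d250000000000001234811e0000000000000008891f000000000000000001240000000000000000011f0000000000000000011c0000000000000000011a0000000000000000011900000000000000000116000000000000000855130000000000000000011000000000000000083d0d0000000000000000021800000000000000000215000000000000000852120000000000000000020f00000000000000083a0c0000000000000000020a000000000000000426070000000000000000011700000000000000000114000000000000000001110000000000000000010e0000000000000000010b000000000000000425070000000000000008220600000000000000000108000000000000000001050000000000000000020400000000000000000103000000000000000002020000000000000000010100000000000000000100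

/-- the inverse, class 8 -/
def X8n : ℕ := 0x185000000000000000001810000000000000005f1770000000000000000017c0000000000000000017e0000000000000005e5740000000000000000018400000000000000000179000000000000000001f7000000000000000001f6000000000000000001f5000000000000000001f4000000000000000001f3000000000000000001f2000000000000000001f1000000000000000001ef000000000000000001ee000000000000000001ec0000000000000007ade90000000000001ea7a1e6000000000000000001e3000000000000000001e0000000000000000001f0000000000000000001ed000000000000000001eb000000000000000ba9e8000000000000000b9de5000000000000000001e2000000000000000001df000000000000000001ea000000000000000001e7000000000000000001e4000000000000000001e1000000000000000001de000000000000000001dd000000000000000001dc000000000000000001da000000000000000001d7000000000000000001db000000000000000001d9000000000000000001d6000000000000000001d8000000000000000001d5000000000000000001d4000000000000000001d3000000000000000001d2000000000000000001d0000000000000000001cd000000000000000001d10000000000000000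01cf000000000000000001cc000000000000000001ce000000000000000001cb000000000000000001ca000000000000000002c9000000000000000002c6000000000000000002bd000000000000000b16c3000000000000000af2ba000000000000000002b40000000000002c4b0ac00000000000002bbae6b7000000000000000aceb10000000000002b2ac2ae000000000000000002c8000000000000000002c5000000000000000002bc000000000000000712c20000000000000006eeb9000000000000000002b3000000000000000706bf0000000000000006e2b60000000000000006cab00000000000000006bead000000000000000002ab000000000000000002a8000000000000000002a5000000000000000a92a20000000000002a3a869f0000000000000000019b0000000000000000019800000000000000000195000000000000000651920000000000001936458f000000000000000a0e800000000000a0a7f5f57a000000000000000001c7000000000000000001c4000000000000000001bb000000000000000001c1000000000000000001b8000000000000000001b2000000000000000001be000000000000000001b5000000000000000001af000000000000000001ac000000000000000001aa000000000000000001a7000000000000000001a4000000000000000a8da1000000000000000a819e00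0000000000000001a9000000000000000001a6000000000000000001a3000000000000000001a00000000000000000019d0000000000000000019c0000000000000000029a000000000000000002970000000000000000029400000000000000064e910000000000000006428e0000000000001825fe7d000000000000000001990000000000000000019600000000000000000193000000000000000001900000000000000000018d0000000000000000018c0000000000000000018900000000000000000283000000000000000a097d0000000000000000028b00000000000000000288000000000000000001820000000000000000018a000000000000000001870000000000000000018600000000000000000171000000000000000001700000000000000000016d0000000000000005ed760000000000000000016f0000000000000000016c0000000000000000017b000000000000000001750000000000000000016e0000000000000000016b0000000000000000016a0000000000000009a56700000000000016899964000000000000000001610000000000000000015e0000000000000005e173000000000000000001690000000000000005a16600000000000000059563000000000000000001600000000000000000015d0000000000000000015b0000000000000000025a0000000000000005665700000000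000025855a54000000000000000002510000000000000000024e000000000000000001590000000000000005615600000000000000055553000000000000000001500000000000000000014d0000000000000000024b00000000000000052a48000000000000000002420000000000000000023900000000000024951e450000000000000005063f0000000000000004e2360000000000002404fa3c0000000000002374d6330000000000000000023000000000000000000178000000000000000001720000000000000000016800000000000000000165000000000000000001620000000000000000015f0000000000000000015c0000000000000000015800000000000000000155000000000000000001520000000000000000014f0000000000000000014c0000000000000000024a00000000000000092647000000000000000002410000000000000000023800000000000000091a440000000000000009023e0000000000000008de350000000000000008f63b0000000000000008d2320000000000000000022f00000000000000000149000000000000000001460000000000000000014000000000000000000137000000000000000001430000000000000000013d000000000000000001340000000000000000013a000000000000000001310000000000000000012e0000000000000000012d00000000000000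00012c000000000000000001290000000000000000022b00000000000000000228000000000000000001260000000000000000012a00000000000000000127000000000000000002250000000000000000012400000000000000000123000000000000000001220000000000000000011f000000000000000002210000000000000000021e0000000000000000011c000000000000000001200000000000000000011d0000000000000000021b0000000000000000011a0000000000000000011900000000000000000116000000000000000001130000000000000008491000000000000011183d0d0000000000000000021800000000000000000215000000000000000002120000000000000008460f00000000000000083a0c0000000000000000010a000000000000000001070000000000000000011700000000000000000114000000000000000001110000000000000000010e0000000000000000010b000000000000000002090000000000000000010800000000000000000206000000000000000001050000000000000000010400000000000000000203000000000000000001020000000000000000010100000000000000000100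

/-- the inverse, class 9 -/
def X9n : ℕ := 0x17e000000000000000001830000000000000005ed760000000000000000017b000000000000000001800000000000000005e1730000000000000000018600000000000000000178000000000000000001f7000000000000000001f6000000000000000001f5000000000000000001f4000000000000000001f3000000000000000001f2000000000000000001f1000000000000000001ef000000000000000001ee000000000000000001ec0000000000000007ade90000000000001ea7a1e6000000000000000001e3000000000000000789e0000000000000000001f0000000000000000001ed000000000000000001eb000000000000000ba9e8000000000000000b9de5000000000000000001e2000000000000000b85df000000000000000001ea000000000000000001e7000000000000000001e4000000000000000001e1000000000000000001de000000000000000001dd000000000000000001dc000000000000000001da000000000000000765d7000000000000000001db000000000000000001d9000000000000000b61d6000000000000000001d8000000000000000001d5000000000000000001d4000000000000000001d3000000000000000001d2000000000000000001d000000000000000073dcd000000000000000001d10000000000000000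01cf000000000000000b39cc000000000000000001ce000000000000000001cb000000000000000001ca000000000000000002c9000000000000000002c6000000000000000b16c3000000000000000b16c00000000000712c2afebd000000000000000002b40000000000002c4afeba00000002c16fabcae6b7000000000000000aceb10000000000002b2ac2ae000000000000000002c8000000000000000002c5000000000000000712c2000000000000000712bf0000000000001c16fabc000000000000000002b30000000000000006fab90000000000001bb6e2b60000000000000006cab00000000000000006bead000000000000000002ab000000000000000aaaa8000000000000000002a5000000000000000a92a20000000000002a3a869f0000000000000000019b0000000000000006699800000000000000000195000000000000000651920000000000001936458f000000000000000a16820000000284a057f5f179000000000000000001c7000000000000000001c4000000000000000001c1000000000000000001be000000000000000001bb000000000000000001b2000000000000000001b8000000000000000001b5000000000000000001af000000000000000001ac000000000000000001aa000000000000000aa5a7000000000000000001a4000000000000000a8da1000000000000000a819e00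0000000000000001a9000000000000000001a6000000000000000001a3000000000000000001a00000000000000000019d0000000000000000019c0000000000000000029a000000000000000666970000000000000000029400000000000000064e910000000000000006428e0000000000611819fe7c000000000000000001990000000000000000019600000000000000000193000000000000000001900000000000000000018d0000000000000000018c00000000000000062d89000000000000000002850000000000002845fd7c0000000000000000028b00000000000000062a880000000000000006127f0000000000000000018a000000000000000001870000000000000000017f0000000000000000017d000000000000000001700000000000000009bd6d0000000000000005e9750000000000000000016f0000000000000005b96c0000000000000000017a000000000000000001740000000000000000016e0000000000000000016b0000000000000000016a0000000000000009a56700000000000016899964000000000000000001610000000000000009815e0000000000000005dd72000000000000000001690000000000000005a166000000000000000595630000000000000000016000000000000000057d5d0000000000000000015b0000000000000000025a0000000000000005665700000000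000025855a54000000000000000002510000000000000005424e0000000000000000015900000000000000056156000000000000000555530000000000000000015000000000000000053d4d0000000000000000024b00000000000000052a48000000000000000002420000000000000005063f00000000000024951e450000000000000005063c00000000005013e4ee390000000000002404ee36000000023d4e9384d6330000000000000000023000000000000000000177000000000000000001710000000000000000016800000000000000000165000000000000000001620000000000000000015f0000000000000000015c0000000000000000015800000000000000000155000000000000000001520000000000000000014f0000000000000000014c0000000000000000024a00000000000000092647000000000000000002410000000000000009023e00000000000000091a440000000000000009023b00000000000023d8ea380000000000000008ea350000000000002378d2320000000000000000022f0000000000000000014900000000000000000146000000000000000001400000000000000000013d000000000000000001430000000000000000013a0000000000000000013700000000000000000134000000000000000001310000000000000000012e0000000000000000012d00000000000000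00012c0000000000000008ad290000000000000000022b0000000000000008aa28000000000000000001260000000000000000012a00000000000000000127000000000000000002250000000000000000012400000000000000000123000000000000000001220000000000000008851f000000000000000002210000000000000008821e0000000000000000011c000000000000000001200000000000000000011d0000000000000000021b0000000000000000011a0000000000000000011900000000000000086116000000000000000001130000000000000008491000000000000011183d0d0000000000000000021800000000000000085e15000000000000000002120000000000000008460f00000000000000083a0c0000000000000000010a000000000000000001070000000000000000011700000000000000000114000000000000000001110000000000000000010e0000000000000000010b000000000000000002090000000000000000010800000000000000000206000000000000000001050000000000000000010400000000000000000203000000000000000001020000000000000000020100000000000000000100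

/-- the inverse, class 10 -/
def X10n : ℕ := 0x180000000000000000001850000000000000005f5750000000000000000017d000000000000000001820000000000000005dd720000000000000000017a00000000000000000177000000000000000001f7000000000000000001f6000000000000000001f5000000000000000001f4000000000000000001f3000000000000000001f2000000000000000001f10000000000000007c5ef000000000000000bc1ee000000000000000001ec0000000000000007ade90000000000001ea7a1e6000000000000000001e3000000000000000789e0000000000000000001f0000000000000000001ed000000000000000001eb000000000000000ba9e8000000000000000b9de5000000000000000001e2000000000000000b85df000000000000000001ea000000000000000001e7000000000000000001e4000000000000000001e1000000000000000001de000000000000000002dd000000000000000b71da000000000000000002d7000000000000000b5ad4000000000000000b6dd9000000000000000b59d10000000000756d3741ce000000000000000b55d00000000000002d2b3dcd000000000000000001cb000000000000000b72da000000000000000001db000000000000000b5ad10000000000756d3b42ce000000000000000001d800000000000000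0001d5000000000000000001d2000000000000000001cf000000000000000001cc000000000000000001ca000000000000000002c9000000000000000002c6000000000000000b16c3000000000000000b16c00000000000712c2afebd000000000000000002b40000000000002c4afeba00000002c16fabcae6b7000000000000000aceb10000000000002b2ac2ae000000000000000002c8000000000000000002c5000000000000000712c2000000000000000712bf0000000000001c16fabc000000000000000002b30000000000000006fab90000000000001bb6e2b60000000000000006cab00000000000000006bead000000000000000001ab0000000000000006a9a80000000000000000019f0000000000000006799c00000000000019d66d960000000000000006aaa50000000000aa5a7a92a200000000000000067a990000000000a759ba6293000000029aa5d95a4a90000000000000000a1e8400000a1a836057e5ed78000000000000000001c7000000000000000001c4000000000000000001c1000000000000000001be000000000000000001bb000000000000000001b2000000000000000001b8000000000000000001b5000000000000000001af000000000000000001ac000000000000000aaaa500000000006a6a7a92a2000000000000000a7a9900000000006769ba6293000000019aa5e95a4a90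000000000000000aa6a40000000000002a668ea1000000000000000a769800000000000029a65e920000000000002946468f0000000000000000017b000000000000000001a9000000000000000001a60000000000000000019d0000000000000000019a00000000000000000194000000018660e819fa7b000000000000000001a3000000000000000001a000000000000000000197000000000000000001910000000000000000018e0000000000000000018d0000000000000006318a000000000000000002870000000000002866057e0000000000000000028c00000000000000062e8900000000000000061a810000000000000000018b00000000000000000188000000000000000001810000000000000000017f0000000000000000016f0000000000000009b96c0000000000000005f1740000000000000000016e0000000000000005b56b0000000000000000017c000000000000000001730000000000000000016d0000000000000000016a000000000000000001690000000000000009a1660000000000001679956000000000000000000157000000000000000959540000000000000005d9710000000000000000016800000000000000059d650000000000000005915f0000000000000000015600000000000000055553000000000000000001790000000000000005a263000000000059d6558a5d000000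01649855f5725a00000000000000055a510000000000555535424e00000000000000059d620000000000001645855c00000000000015e56d590000000000000005555000000000000015253d4d0000000000000000024b00000000000000052a48000000000000000002420000000000000005063f00000000000024951e450000000000000005063c00000000005013e4ee390000000000002404ee36000000023d4e9384d63300000000000000000230000000000000000001760000000000000000017000000000000000000167000000000000000001640000000000000000015e0000000000000000015500000000000000000152000000000000000001610000000000000000015b000000000000000001580000000000000000014f0000000000000000014c0000000000000000024a00000000000000092647000000000000000002410000000000000009023e00000000000000091a440000000000000009023b00000000000023d8ea380000000000000008ea350000000000002378d2320000000000000000022f0000000000000000014900000000000000000146000000000000000001400000000000000000013d000000000000000001430000000000000000013a0000000000000000013700000000000000000134000000000000000001310000000000000000012e0000000000000000022d000000000000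0000022b0000000000000004aa280000000000000004a92500000000004a527891220000000000000000021f0000000000000008a62400000000000022688e210000000000000004791c0000000000000008761b0000000000000000012c0000000000000004aa2500000000004a52749222000000000000000001290000000000000000012600000000000000047a1c00000000000000000123000000000000000001200000000000000000011d0000000000000000011a0000000000000000011900000000000000086116000000000000000001130000000000000008491000000000000011183d0d0000000000000000021800000000000000085e15000000000000000002120000000000000008460f00000000000000083a0c0000000000000000020a000000000000000426070000000000000000011700000000000000000114000000000000000001110000000000000000010e0000000000000000010b000000000000000425070000000000000008220600000000000000000108000000000000000001050000000000000000010400000000000000000203000000000000000001020000000000000000020100000000000000000100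

/-- the inverse -/
def XN : Fin 11 → ℕ := ![X0n, X1n, X2n, X3n, X4n, X5n, X6n, X7n, X8n, X9n, X10n]

/-- the representatives -/
def eS : Fin 11 → SV :=
  ![[(120, 1)],
    [(120, 1), (123, 1)],
    [(120, 1), (123, 1), (141, 1)],
    [(120, 1), (121, 1)],
    [(120, 1), (123, 1), (141, 1), (162, 1)],
    [(120, 1), (121, 1), (141, 1)],
    [(120, 1), (121, 1), (141, 1), (162, 1)],
    [(162, 1), (135, 1), (141, 1), (126, 1), (121, 1)],
    [(162, 1), (135, 1), (126, 1), (123, 1)],
    [(162, 1), (135, 1), (126, 1), (123, 1), (120, 1)],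
    [(162, 1), (135, 1), (126, 1), (123, 1), (120, 1), (141, 1)]]

/-- the masks of the supports -/
def mS : Fin 11 → ℕ := ![128, 160, 162, 192, 163, 194, 195, 87, 53, 181, 183]

/-- the vector of degree `-1` and of exotic degree `0` -/
def kx : SV := [(158, -1), (159, 1), (177, 1), (179, 1), (186, -1)]

/-- the strings of `kx` -/
def BK : ℕ := 0x2ed000000000000000002e3000000000000000001bc000000000000000001e6000000000000000001c0000000000000000001ea000000000000000001d3000000000000000001ab000000000000000001e8000000000000000001c9000000000000000001a6000000000000000002ec000000000000000002e2000000000000000001b2000000000000000b89dc0000000000000006e6b200000000000000000176000000000000000001cc000000000000000001c2000000000000000001ef000000000000000001e5000000000000000001b6000000000000000796df0000000000000006feb60000000000000000017f0000000000002bfafab600000000000000068d7f00000000000000000155000000000000000002e9000000000000000749d000000000000000000195000000000000000b49d00000000000000006a9950000000000000000016a0000000000000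00002e7000000000000000721c60000000000000000018a000000000000000b21c60000000000000006958a0000000000000000015e000000000000000001eb00000000000000076ed70000000000000000019c000000000000000b6ed70000000000000006e19c000000000000000001730000000000002b86bd9c0000000000000009d6730000000000000000014e000000000000000002d5000000000000000002ad0000000000000000016d000000000000000002cb000000000000000002a800000000000000000161000000000000000002ee000000000000000b79da000000000000000001a0000000000000000b7ada000000000000000ad5a00000000000000000017b0000000000001e4b79da0000000000001bbad2a0000000000000000001780000000000aedb5ad2a00000000000002a25ee78000000000000000001520000000000af6bb6d2a00000000000002875f9780000000000000000013f00000001a261d7e5ed7800000000000015454a3f00000000000000000117000000000000000002e1000000000000000001cf00000000000000000190000000000000000b3ece0000000000000006a590000000000000000001640000000000001a9652900000000000000009a66400000000000000000128000000000000000001e0000000000000000002c500000000000000000184000000000000000715c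4000000000000000a9184000000000000000001590000000000002a4a2684000000000000000576590000000000000000011e000000000000000002c10000000000000000018100000000000000000157000000000000000002d60000000000000006b9990000000000000000016f000000000000000ab9990000000000000009c96f00000000000000000138000000000000000002d4000000000000000002ac000000000000000001670000000000000006b1970000000000000005b1670000000000000000012c000000000000000001ca000000000000000001a70000000000000000015c000000000000000a9e8c0000000000000009815c000000000000000001220000000000000000018d000000000000000001f1000000000000000002d9000000000000000002b1000000000000000001f3000000000000000775d90000000000aceb167e9e000000000000000001f00000000000000006c59f7ddf67d5f4bcdf27c5f00000000000000000013e000000000000000001b3001f67d6f4bcdf27c5f00000000000000000013c0000000000000006e99e002f6bd6f47cdf2bc6f0000000000000000001350000000000bddf57d2f00000000000000005423e000000000000000001160000000000bdef47c9f0000000000000000546350000000000000000011200000000000000000162000000000000000002cd00000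0000000000a4d8f0000000000000000014800000000000000064d8f00000000000000058e4800000000000000000125000000000000000001c30000000000000006218300000000000000000143000000000000000a2183000000000000000562430000000000000000011b000000000000000002b7000000000000000a017d00000000000000000141000000000000000a027d00000000000000095a4100000000000000000119000000000000000002980000000000000000016e0000000000000000012e000000000000000002d100000000000000065a920000000000000000014b000000000000000659920000000000000005ae4b0000000000000000012a00000000000016b5994b0000000000000008ad2a0000000000000000010f000000000000000001c7000000000000000a2e8600000000000000000146000000000000000a2d8600000000000000097e460000000000000000012000000000000025f56d46000000000000000885200000000000000000010e000000000000000001d80000000000000006759b0000000000000000014d000000000000000ac29d0000000000000009dd6800000000000000000134000000000000000ac29b0000000000000009c568000000000000000001320000000000002779d26800000000000000053e340000000000000000011100000000005dd719a24d00000000000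023b4d1320000000000000000010b000000024f8ee3a4d2320000000000002154460b000000000000000001010000000000000000028e000000000000000002470000000000000000012400000000000000000282000000000000000002420000000000000000011a000000000000000002a10000000000000000027c000000000000000001370000000000000009f17a00000000000000094e3700000000000000000114000000000000153502370000000000000008611400000000000000000104000000000000000002910000000000000009964a000000000000000001270000000000000009954a0000000000000008a627000000000000000001080000000000000000028500000000000000096a450000000000000000011d0000000000000009694500000000000000087e1d000000000000000001060000000000000000029a0000000000000009c24c000000000000000001300000000000000005c24c0000000000000008e5300000000000000000010a0000000000001394c5300000000000000008420a000000000000000001000000000000000000012d00000000000000000123000000000000000002790000000000000004f6360000000000000000010d0000000000000008f63600000000000000084e0d00000000000000000103000000000000000001490000000000000000022600000000000000000107000000000000000001440000000000000000021c000000000000000001050000000000000000022f00000000000000000109000000000000000002330000000000000000020c00000000000000000102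

/-- the strings of `kx` -/
def MK : ℕ := 0x9492724924924924924924924924e492499249249249249249249249272494

/-- the strings of `kx` -/
def XK : ℕ := 0x6027b9e27300000a19836027e5e27600000000006017e9ed7600000000006027e9e2730000000000000000018300000001809fa7b5e2730000000000000000018600000000000000000180000000000000000001e4000000000000000002c0000000000000000002f7000000000000000002ec000000000000000001cf000000000000000001f2000000000000000002db000000000000000001ef000000000000000002d5000000000000000001f4000000000000000001e3000000000000000afdba000000000000000002f6000000000000000002eb000000000000000002ae000000000000000001a500000000000000078ee10000000000000006fdbd00000000000000061582000000000000000bade9000000000000000b39cc000000000000000afdbd0000000000000000028500000000000000000148000000000000000739cc00000000000000000299000000000000000002c600000000000000000293000000000000000001f1000000000000000b69d80000000000000000025a000000000000000b6ad8000000000000000001ad000000000000000ab6ab0000000000000000026f000000000000000001e60000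00000000000002c30000000000000000018d000000000000000001ee000000000000000b51d200000000000000000151000000000000000b52d2000000000000000002a4000000000000000691a200000000000000000169000000000000000001e50000000000000000029c000000000000000001f3000000000000000789e00000000000001e2b82de0000000000001beae6b4000000000000000001f50000000000af9bcae5b700000001846067f5f1790000000000000007a9e8000000000000000b35cb00000000000000000263000000000000000001e20000000000000006fabc00000000006f9bc6e5b70000000000000000017c000000000000000001ea00000000000000000284000000000000147515420000000000001cd72dc9000000000000000a6196000000000000000002c500000000000000000292000000000000000001f0000000000000000b65d7000000000000000ab1aa000000000000000002c20000000000000000018c000000000000000001ed000000000000000b4dd100000000000000068ea1000000000000000b7ddd0000000000001bbae2b600000000000000000230000000000000000001be0000000000000006117f0000000000a12815fe7c00000000000024751642000000000000000001cd000000000000247915420000000000000000021b000000000000000a62960000000000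000000025d0000000000000006499000000000000000096657000000000000000001d90000000000002acaa9a80000000000000005ba6c0000000000000005665700000000000000000227000000000000000001ac0000000000000009ba6c0000000000000000023600000000000000000187000000000000000a328a0000000000000005414e000000000000000001d30000000000001a36869f0000000000000009a16600000002bbae2b66ceb10000000000000005424e00000000000000000221000000000000000001a30000000000000009a266000000000000000002330000000000000000019b00000000000000058960000000000000000001df00000002bb6e2b6aceb1000000000000000989600000000000000000022f000000000000000001bb0000000000000008bd2d00000000000000000210000000000000000001b80000000000001465053c000000000000000001e7000000000000000b2ac80000000146911418fd3c000000000000000001ca00000000000000065e950000000000001465113c00000000000000046a18000000000000000001970000000000000000015c000000000000000001c4000000000000000a458f00000000000000056156000000000000000001d6000000000000000aa6a70000000000519445053c00000000000000000191000000000000158959540000000000000004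9924000000000000000001a90000000000000005b56b00000000000000000170000000000000000001c100000000000000062e8900000000000000093e4d000000000000000001d00000000000000006819e0000000000000000018b00000000000014f9354b0000000000000004811e000000000000000001a000000000000000059d650000000000000000019a0000000000000009865f000000000000000001dc0000000000002b56c9b00000000000000008ba2c000000000000000001b50000000000000005dd720000000000000005f57500000000000000050d3e000000000000000001c700000000000000000146000000000000000469180000000000000000015800000000000000049a240000000000000000010a0000000000000000016d000000000000000002350000000000000000014f0000000000000004821e0000000000000000010700000000000000000167000000000000000002320000000000000000016100000000000022e4b12a000000000000000001b20000000000000000017d00000000000000083d0d0000000000000000017a0000000000001435023b00000002435023e4ee3900000000000000046617000000000000000001940000000000000000012e00000000000000043d0d0000000000000000017700000000000000000143000000000000000002020000000000000000014000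000000000011945d1500000000000000000119000000000000000002040000000000000000015b000000000000000001120000000000000000018e000000000000000556530000000000000000015500000000000000089623000000000000000001a600000000000000000125000000000000000002090000000000000000016a0000000000000000013400000000000000000111000000000000000001880000000000000005324a0000000000000000014c00000000000000087e1d0000000000000000019d0000000000000000011f0000000000000000020600000000000000000164000000000000000001310000000000000000015e0000000000000004ae29000000000000000001af0000000000000000017400000000000013d8ea380000000000000000012b00000000000000083a0c000000000000000001710000000000000000013d00000000000000085a1400000000000000000152000000000000000001490000000000000000010e000000000000000002010000000000000000013a000000000000000001160000000000000000010300000000000000000122000000000000000001080000000000000000011c00000000000000000105000000000000000001280000000000000000010b000000000000000001000000000000000000013700000000000000000113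

theorem chk0 : chkSb (eS 0) B0n M0n X0n = true := by decide +kernel

theorem hom0 : chkH (mS 0) B0n = true := by decide +kernel

theorem chk1 : chkSb (eS 1) B1n M1n X1n = true := by decide +kernel

theorem hom1 : chkH (mS 1) B1n = true := by decide +kernel

private noncomputable def _root_.Cfsg.Agent.LsF.fbfe8f4_8 : {f // @Cfsg.Agent.E8A.C63.Sv.m3 = f} := ⟨_, by first | (delta Cfsg.Agent.E8A.C63.Sv.m3; rewrite [Cfsg.Agent.LsF.natAbs_eq, Cfsg.Agent.LsF.emod_eq]; exact rfl) | exact rfl⟩
private noncomputable def _root_.Cfsg.Agent.LsF.fbfe8f4_9 : {f // @Cfsg.Agent.E8A.C63.Sv.z3 = f} := ⟨_, by first | (delta Cfsg.Agent.E8A.C63.Sv.z3; rewrite [Cfsg.Agent.LsF.fbfe8f4_8.2]; exact rfl) | exact rfl⟩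
private noncomputable def _root_.Cfsg.Agent.LsF.fbfe8f4_10 : {f // @Cfsg.Agent.ChevalleyStructure.JacTab.insM = f} := ⟨_, by first | (delta Cfsg.Agent.ChevalleyStructure.JacTab.insM; rewrite [Cfsg.Agent.LsF.iadd_eq]; exact rfl) | exact rfl⟩
private noncomputable def _root_.Cfsg.Agent.LsF.fbfe8f4_11 : {f // @Cfsg.Agent.ChevalleyStructure.JacTab.addH = f} := ⟨_, by first | (delta Cfsg.Agent.ChevalleyStructure.JacTab.addH; rewrite [Cfsg.Agent.LsF.fbfe8f4_10.2, Cfsg.Agent.LsF.imul_eq]; exact rfl) | exact rfl⟩
private noncomputable def _root_.Cfsg.Agent.LsF.fbfe8f4_12 : {f // @Cfsg.Agent.E8A.C63.Sv.eq3 = f} := ⟨_, by first | (delta Cfsg.Agent.E8A.C63.Sv.eq3; rewrite [Cfsg.Agent.LsF.fbfe8f4_9.2, Cfsg.Agent.LsF.fbfe8f4_11.2]; exact rfl) | exact rfl⟩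
private noncomputable def _root_.Cfsg.Agent.LsF.fbfe8f4_13 : {f // @Cfsg.Agent.ChevalleyStructure.JacTab.actE = f} := ⟨_, by first | (delta Cfsg.Agent.ChevalleyStructure.JacTab.actE; rewrite [Cfsg.Agent.LsF.fbfe8f4_10.2, Cfsg.Agent.LsF.fbfe8f4_11.2, Cfsg.Agent.LsF.imul_eq]; exact rfl) | exact rfl⟩
private noncomputable def _root_.Cfsg.Agent.LsF.fbfe8f4_14 : {f // @Cfsg.Agent.E8A.C63.Sv.adS = f} := ⟨_, by first | (delta Cfsg.Agent.E8A.C63.Sv.adS; rewrite [Cfsg.Agent.LsF.fbfe8f4_13.2, Cfsg.Agent.LsF.imul_eq]; exact rfl) | exact rfl⟩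
private noncomputable def _root_.Cfsg.Agent.LsF.fbfe8f4_15 : {f // @Cfsg.Agent.ChevalleyStructure.JacDataE8.rows = f} := ⟨_, by first | (delta Cfsg.Agent.ChevalleyStructure.JacDataE8.rows; rewrite [Cfsg.Agent.LsF.lappend_pat]; exact rfl) | exact rfl⟩
private noncomputable def _root_.Cfsg.Agent.LsF.fbfe8f4_16 : {f // @Cfsg.Agent.E8A.C63.Sv.br0 = f} := ⟨_, by first | (delta Cfsg.Agent.E8A.C63.Sv.br0; rewrite [Cfsg.Agent.LsF.fbfe8f4_14.2, Cfsg.Agent.LsF.fbfe8f4_15.2]; exact rfl) | exact rfl⟩
private noncomputable def _root_.Cfsg.Agent.LsF.fbfe8f4_17 : {f // @Cfsg.Agent.E8A.C63.Sv.nf = f} := ⟨_, by first | (delta Cfsg.Agent.E8A.C63.Sv.nf; rewrite [Cfsg.Agent.LsF.fbfe8f4_8.2]; exact rfl) | exact rfl⟩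
private noncomputable def _root_.Cfsg.Agent.LsF.fbfe8f4_18 : {f // @Cfsg.Agent.E8A.C63.Sv.nz = f} := ⟨_, by first | (delta Cfsg.Agent.E8A.C63.Sv.nz; rewrite [Cfsg.Agent.LsF.fbfe8f4_17.2]; exact rfl) | exact rfl⟩
private noncomputable def _root_.Cfsg.Agent.LsF.fbfe8f4_19 : {f // @Cfsg.Agent.E8A.C63.Sv.decA = f} := ⟨_, by first | (delta Cfsg.Agent.E8A.C63.Sv.decA; rewrite [Cfsg.Agent.LsF.testBit_eq]; exact rfl) | exact rfl⟩
private noncomputable def _root_.Cfsg.Agent.LsF.fbfe8f4_20 : {f // @Cfsg.Agent.E8A.C63.Sv.dec = f} := ⟨_, by first | (delta Cfsg.Agent.E8A.C63.Sv.dec; rewrite [Cfsg.Agent.LsF.fbfe8f4_18.2, Cfsg.Agent.LsF.fbfe8f4_19.2]; exact rfl) | exact rfl⟩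
private noncomputable def _root_.Cfsg.Agent.LsF.fbfe8f4_21 : {f // @Cfsg.Agent.E8A.C63.Sv.vv = f} := ⟨_, by first | (delta Cfsg.Agent.E8A.C63.Sv.vv; rewrite [Cfsg.Agent.LsF.fbfe8f4_20.2]; exact rfl) | exact rfl⟩
private noncomputable def _root_.Cfsg.Agent.LsF.fbfe8f4_22 : {f // @Cfsg.Agent.E8A.C63.Sv.cmb = f} := ⟨_, by first | (delta Cfsg.Agent.E8A.C63.Sv.cmb; rewrite [Cfsg.Agent.LsF.fbfe8f4_11.2, Cfsg.Agent.LsF.fbfe8f4_21.2]; exact rfl) | exact rfl⟩
private noncomputable def _root_.Cfsg.Agent.LsF.fbfe8f4_23 : {f // @Cfsg.Agent.E8A.C63.Sv.chkSb = f} := ⟨_, by first | (delta Cfsg.Agent.E8A.C63.Sv.chkSb; rewrite [Cfsg.Agent.LsF.fbfe8f4_12.2, Cfsg.Agent.LsF.fbfe8f4_16.2, Cfsg.Agent.LsF.fbfe8f4_21.2, Cfsg.Agent.LsF.fbfe8f4_9.2, Cfsg.Agent.LsF.fbfe8f4_22.2, Cfsg.Agent.LsF.and_eq, Cfsg.Agent.LsF.testBit_eq]; exact rfl) | exact rfl⟩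
private noncomputable def _root_.Cfsg.Agent.LsF.fbfe8f4_24 : {f // @Cfsg.Agent.E8A.C63.Sv.eS = f} := ⟨_, by first | (delta Cfsg.Agent.E8A.C63.Sv.eS; rewrite [Cfsg.Agent.LsF.vecCons_eq]; exact rfl) | exact rfl⟩
theorem chk2 : chkSb (eS 2) B2n M2n X2n = true := by ((try (rewrite [Cfsg.Agent.LsF.fbfe8f4_23.2, Cfsg.Agent.LsF.fbfe8f4_24.2])); decide +kernel)

theorem hom2 : chkH (mS 2) B2n = true := by decide +kernel

theorem chk3 : chkSb (eS 3) B3n M3n X3n = true := by decide +kernel

theorem hom3 : chkH (mS 3) B3n = true := by decide +kernel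

theorem chk4 : chkSb (eS 4) B4n M4n X4n = true := by decide +kernel

theorem hom4 : chkH (mS 4) B4n = true := by decide +kernel

theorem chk5 : chkSb (eS 5) B5n M5n X5n = true := by ((try (rewrite [Cfsg.Agent.LsF.fbfe8f4_23.2, Cfsg.Agent.LsF.fbfe8f4_24.2])); decide +kernel)

theorem hom5 : chkH (mS 5) B5n = true := by decide +kernel

theorem chk6 : chkSb (eS 6) B6n M6n X6n = true := by ((try (rewrite [Cfsg.Agent.LsF.fbfe8f4_23.2, Cfsg.Agent.LsF.fbfe8f4_24.2])); decide +kernel)

theorem hom6 : chkH (mS 6) B6n = true := by decide +kernel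

theorem chk7 : chkSb (eS 7) B7n M7n X7n = true := by ((try (rewrite [Cfsg.Agent.LsF.fbfe8f4_23.2, Cfsg.Agent.LsF.fbfe8f4_24.2])); decide +kernel)

theorem hom7 : chkH (mS 7) B7n = true := by decide +kernel

theorem chk8 : chkSb (eS 8) B8n M8n X8n = true := by ((try (rewrite [Cfsg.Agent.LsF.fbfe8f4_23.2, Cfsg.Agent.LsF.fbfe8f4_24.2])); decide +kernel)

theorem hom8 : chkH (mS 8) B8n = true := by decide +kernel

theorem chk9 : chkSb (eS 9) B9n M9n X9n = true := by decide +kernel

theorem hom9 : chkH (mS 9) B9n = true := by decide +kernel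

theorem chk10 : chkSb (eS 10) B10n M10n X10n = true := by ((try (rewrite [Cfsg.Agent.LsF.fbfe8f4_23.2, Cfsg.Agent.LsF.fbfe8f4_24.2])); decide +kernel)

theorem hom10 : chkH (mS 10) B10n = true := by decide +kernel

theorem chkK : chkSb kx BK MK XK = true := by ((try (rewrite [Cfsg.Agent.LsF.fbfe8f4_23.2])); decide +kernel)

theorem chk_all (c : Fin 11) : chkSb (eS c) (BN c) (MN c) (XN c) = true := by
  fin_cases c
  exacts [chk0, chk1, chk2, chk3, chk4, chk5, chk6, chk7, chk8, chk9, chk10]

theorem hom_all (c : Fin 11) : chkH (mS c) (BN c) = true := by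
  fin_cases c
  exacts [hom0, hom1, hom2, hom3, hom4, hom5, hom6, hom7, hom8, hom9, hom10]

end Cfsg.Agent.E8A.C63.Sv
end

-- part: E8A/C63/Str
section
/-!
# The box STR (helper55)

* `ec_eq : ec K c = sv K (eS c)`;
* `sb K c p` (`p < 248`) : the basis of strings of the class `c`, `tp c p` : the tops, `bot (tp c) p` : the bottoms,
  `sw c p` : a weight of `sb K c p`; `sbc`, `hmc` (homogeneous for every cocharacter which is constant on `SS c`), `splitc`;
* `KK9`, `KK10`, `KK_bot` : the spaces `KK`; `C63.str`.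
-/

set_option autoImplicit false
set_option maxRecDepth 100000

namespace Cfsg.Agent.E8A.C63.Sv

open Cfsg Cfsg.Lie Module Finset
open Cfsg.Agent.H288.E8L (Q8 wt)
open Cfsg.Agent.Tits.Roots (sr)
open Cfsg.Agent.ChevalleyStructure.JacTab (intZ eq_zero_of_intZ)
open Cfsg.Agent.E8A.Kem (Ge)
open Cfsg.Agent.E8A.Reg5.Cls (ex)

universe u

/-- the keys of the simple roots -/
def sk : Fin 8 → ℕ := ![162, 141, 135, 130, 126, 123, 121, 120]

theorem wk_sk : ∀ i : Fin 8, wk (sk i) = sr i := by decide +kernel

theorem sk_lt : ∀ i : Fin 8, sk i < 248 := by decide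

theorem sr_ne : ∀ i : Fin 8, (sr i : Q8) ≠ 0 := by decide +kernel

private noncomputable def _root_.Cfsg.Agent.LsF.fbfe8f4_25 : {f // @Cfsg.Agent.E8A.C63.Sv.cf = f} := ⟨_, by first | (delta Cfsg.Agent.E8A.C63.Sv.cf; rewrite [Cfsg.Agent.LsF.iadd_eq]; exact rfl) | exact rfl⟩
private noncomputable def _root_.Cfsg.Agent.LsF.fbfe8f4_26 : {f // @Cfsg.Agent.E8A.C63.Sv.sk = f} := ⟨_, by first | (delta Cfsg.Agent.E8A.C63.Sv.sk; rewrite [Cfsg.Agent.LsF.vecCons_eq]; exact rfl) | exact rfl⟩
private noncomputable def _root_.Cfsg.Agent.LsF.fbfe8f4_27 : {f // @Cfsg.Agent.E8A.C63.SS = f} := ⟨_, by first | (delta Cfsg.Agent.E8A.C63.SS; rewrite [Cfsg.Agent.LsF.vecCons_eq]; exact rfl) | exact rfl⟩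
theorem cf_eS : ∀ c : Fin 11, ∀ k < 248, cf (eS c) k = if k ∈ (SS c).map sk then 1 else 0 := by (refine of_decide_eq_true ?_; (try (rewrite [Cfsg.Agent.LsF.fbfe8f4_25.2, Cfsg.Agent.LsF.fbfe8f4_24.2, Cfsg.Agent.LsF.fbfe8f4_26.2, Cfsg.Agent.LsF.fbfe8f4_27.2, Cfsg.Agent.LsF.map_eq, Cfsg.Agent.LsF.instIDecEq_eq, Cfsg.Agent.LsF.dMem_eq, Cfsg.Agent.LsF.dBallLT_eq, Cfsg.Agent.LsF.dForallFin_eq, Cfsg.Agent.LsF.ite_eq, Cfsg.Agent.LsF.decide_eq])); decide +kernel)

theorem mS_spec : ∀ (c : Fin 11) (i : Fin 8), (mS c).testBit i.val = true → i ∈ SS c := by decide +kernel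

theorem lab_SS : ∀ c : Fin 11, ∀ i ∈ SS c, ex (lab c) (sr i) = 2 := by decide +kernel

theorem nm_lab : ∀ c : Fin 11, Two.nm (lab c) = nrc c := by decide +kernel

/-- the tops -/
def tp (c : Fin 11) : ℕ → Bool := Nat.testBit (MN c)

/-- the key of the first entry -/
noncomputable def hk (c : Fin 11) (p : ℕ) : ℕ := hd (vv (BN c) p)

/-- a weight of the vector -/
noncomputable def sw (c : Fin 11) (p : ℕ) : Q8 := wk (hk c p)

/-- the degree of the vector -/
noncomputable def ld (c : Fin 11) (p : ℕ) : ℤ := dg (lab c) (hk c p)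

private noncomputable def _root_.Cfsg.Agent.LsF.fbfe8f4_28 : {f // @Cfsg.Agent.E8A.C63.Sv.MN = f} := ⟨_, by first | (delta Cfsg.Agent.E8A.C63.Sv.MN; rewrite [Cfsg.Agent.LsF.vecCons_eq]; exact rfl) | exact rfl⟩
private noncomputable def _root_.Cfsg.Agent.LsF.fbfe8f4_29 : {f // @Cfsg.Agent.E8A.C63.Sv.tp = f} := ⟨_, by first | (delta Cfsg.Agent.E8A.C63.Sv.tp; rewrite [Cfsg.Agent.LsF.fbfe8f4_28.2, Cfsg.Agent.LsF.testBit_eq]; exact rfl) | exact rfl⟩
theorem len_le : ∀ c : Fin 11, ∀ p < 248, tp c p = true ∨ tp c (p + 1) = true ∨ tp c (p + 2) = true := by (refine of_decide_eq_true ?_; (try (rewrite [Cfsg.Agent.LsF.fbfe8f4_29.2, Cfsg.Agent.LsF.nadd_pat, Cfsg.Agent.LsF.dOr_eq, Cfsg.Agent.LsF.dBoolEq_eq, Cfsg.Agent.LsF.dBallLT_eq, Cfsg.Agent.LsF.dForallFin_eq, Cfsg.Agent.LsF.decide_eq])); decide +kernel)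

private noncomputable def _root_.Cfsg.Agent.LsF.fbfe8f4_30 : {f // @Cfsg.Agent.E8A.C63.cdc = f} := ⟨_, by first | (delta Cfsg.Agent.E8A.C63.cdc; rewrite [Cfsg.Agent.LsF.vecCons_eq]; exact rfl) | exact rfl⟩
theorem card_tp : ∀ c : Fin 11, ((range 248).filter fun p => tp c p = true).card = cdc c := by (refine of_decide_eq_true ?_; (try (rewrite [Cfsg.Agent.LsF.fbfe8f4_29.2, Cfsg.Agent.LsF.fbfe8f4_30.2, Cfsg.Agent.LsF.fcard_eq, Cfsg.Agent.LsF.ffilter_eq, Cfsg.Agent.LsF.frange_eq, Cfsg.Agent.LsF.instDecEq_eq, Cfsg.Agent.LsF.dBoolEq_eq, Cfsg.Agent.LsF.dForallFin_eq, Cfsg.Agent.LsF.decide_eq])); decide +kernel)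

private noncomputable def _root_.Cfsg.Agent.LsF.fbfe8f4_31 : {f // @Cfsg.Agent.E8A.C63.Sv.dg = f} := ⟨_, by first | (delta Cfsg.Agent.E8A.C63.Sv.dg; rewrite [Cfsg.Agent.LsF.iadd_pat, Cfsg.Agent.LsF.imul_pat]; exact rfl) | exact rfl⟩
private noncomputable def _root_.Cfsg.Agent.LsF.fbfe8f4_32 : {f // @Cfsg.Agent.E8A.C63.lab = f} := ⟨_, by first | (delta Cfsg.Agent.E8A.C63.lab; rewrite [Cfsg.Agent.LsF.ineg_pat, Cfsg.Agent.LsF.vecCons_eq]; exact rfl) | exact rfl⟩
private noncomputable def _root_.Cfsg.Agent.LsF.fbfe8f4_33 : {f // @Cfsg.Agent.E8A.C63.Sv.BN = f} := ⟨_, by first | (delta Cfsg.Agent.E8A.C63.Sv.BN; rewrite [Cfsg.Agent.LsF.vecCons_eq]; exact rfl) | exact rfl⟩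
private noncomputable def _root_.Cfsg.Agent.LsF.fbfe8f4_34 : {f // @Cfsg.Agent.E8A.C63.Sv.hk = f} := ⟨_, by first | (delta Cfsg.Agent.E8A.C63.Sv.hk; rewrite [Cfsg.Agent.LsF.fbfe8f4_21.2, Cfsg.Agent.LsF.fbfe8f4_33.2]; exact rfl) | exact rfl⟩
private noncomputable def _root_.Cfsg.Agent.LsF.fbfe8f4_35 : {f // @Cfsg.Agent.E8A.C63.Sv.ld = f} := ⟨_, by first | (delta Cfsg.Agent.E8A.C63.Sv.ld; rewrite [Cfsg.Agent.LsF.fbfe8f4_31.2, Cfsg.Agent.LsF.fbfe8f4_32.2, Cfsg.Agent.LsF.fbfe8f4_34.2]; exact rfl) | exact rfl⟩
theorem ld_top : ∀ c : Fin 11, ∀ p < 248, tp c p = true → (if c.val ≤ 8 then 0 else -1) ≤ ld c p := by (refine of_decide_eq_true ?_; (try (rewrite [Cfsg.Agent.LsF.fbfe8f4_29.2, Cfsg.Agent.LsF.fbfe8f4_35.2, Cfsg.Agent.LsF.ineg_pat, Cfsg.Agent.LsF.decLe_eq, Cfsg.Agent.LsF.idecLe_eq, Cfsg.Agent.LsF.dBoolEq_eq, Cfsg.Agent.LsF.dBallLT_eq, Cfsg.Agent.LsF.dForallFin_eq, Cfsg.Agent.LsF.ite_eq, Cfsg.Agent.LsF.decide_eq])); decide +kernel)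

theorem ld_bot : ∀ c : Fin 11, ∀ p < 248, bot (tp c) p = true → ld c p ≤ (if c.val ≤ 8 then 0 else 1) := by (refine of_decide_eq_true ?_; (try (rewrite [Cfsg.Agent.LsF.fbfe8f4_29.2, Cfsg.Agent.LsF.fbfe8f4_35.2, Cfsg.Agent.LsF.decLe_eq, Cfsg.Agent.LsF.idecLe_eq, Cfsg.Agent.LsF.dBoolEq_eq, Cfsg.Agent.LsF.dBallLT_eq, Cfsg.Agent.LsF.dForallFin_eq, Cfsg.Agent.LsF.ite_eq, Cfsg.Agent.LsF.decide_eq])); decide +kernel)

theorem filt_K : ∀ c : Fin 11, ((range 248).filter fun p => tp c p = true ∧ ld c p = -1) =
    if c.val ≤ 8 then ∅ else if c.val = 9 then {51, 183} else {51, 90, 144, 183} := by (refine of_decide_eq_true ?_; (try (rewrite [Cfsg.Agent.LsF.fbfe8f4_29.2, Cfsg.Agent.LsF.fbfe8f4_35.2, Cfsg.Agent.LsF.ineg_pat, Cfsg.Agent.LsF.ffilter_eq, Cfsg.Agent.LsF.frange_eq, Cfsg.Agent.LsF.instDecEq_eq, Cfsg.Agent.LsF.decLe_eq, Cfsg.Agent.LsF.instIDecEq_eq, Cfsg.Agent.LsF.dAnd_eq, Cfsg.Agent.LsF.dBoolEq_eq, Cfsg.Agent.LsF.dForallFin_eq, Cfsg.Agent.LsF.ite_eq, Cfsg.Agent.LsF.decide_eq])); decide +kernel)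

/-- the basis of `KK` -/
def k0 : SV := [(50, -1), (52, 1), (58, -1), (59, -1), (79, -1)]

/-- the basis of `KK` -/
def k1 : SV := [(70, 1), (74, -1), (91, 1), (95, -1), (101, 1)]

/-- the basis of `KK` -/
def k2 : SV := [(132, 1), (137, 1), (143, 1), (147, 1), (164, 1)]

variable {K : Type u} [Field K]

variable (K) in
/-- the basis of strings -/
noncomputable def sb (c : Fin 11) (p : ℕ) : L8 K := sv K (vv (BN c) p)

theorem ec_eq (c : Fin 11) : ec K c = sv K (eS c) := by
  funext x
  have h : wt x ∈ (SS c).map (sr : Fin 8 → Q8) ↔ ky x ∈ (SS c).map sk := by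
    simp only [List.mem_map]
    refine exists_congr fun i => and_congr_right fun _ => ⟨fun h => ?_, fun h => by rw [← wk_ky, ← h, wk_sk]⟩
    obtain ⟨z, hz⟩ := ky_surj (sk_lt i)
    have h1 : wt z = sr i := by rw [← wk_ky, hz, wk_sk]
    rw [← hz, H288.E8L.wt_inj (h1.trans h) (h1 ▸ sr_ne i)]
  rw [cf_eq, cf_eS c _ (ky_lt x), ec]
  by_cases h1 : ky x ∈ (SS c).map sk
  · rw [if_pos h1, if_pos (h.2 h1), Int.cast_one]
  · rw [if_neg h1, if_neg fun h2 => h1 (h.1 h2), Int.cast_zero]

theorem ec_mem {c : Fin 11} {κ : Q8 →+ ℝ} {δ : ℝ} (hκ : ∀ i ∈ SS c, κ (sr i) = δ) : ec K c ∈ LS K (Eq' κ δ) := by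
  refine mem_LS.2 fun x hx => ?_
  have h : wt x ∈ (SS c).map (sr : Fin 8 → Q8) := by
    by_contra h
    exact hx (if_neg h)
  obtain ⟨i, hi, h1⟩ := List.mem_map.1 h
  rw [mem_Eq, ← h1, hκ i hi]

theorem hmc (c : Fin 11) {κ : Q8 →+ ℝ} {δ : ℝ} (hκ : ∀ i ∈ SS c, κ (sr i) = δ) : Hm (sb K c) κ fun p => κ (sw c p) :=
  chkH_sound (hom_all c) fun i hi => hκ i (mS_spec c i hi)

theorem cl_lab (c : Fin 11) : ∀ i ∈ SS c, cl (lab c) (sr i) = 2 := fun i hi => by
  rw [cl_apply, lab_SS c i hi]; norm_num

theorem cl_sw (y : Q8) (c : Fin 11) (p : ℕ) : cl y (sw c p) = (dg y (hk c p) : ℝ) := by rw [cl_apply, dg_eq]; rfl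

theorem cl_ld (c : Fin 11) (p : ℕ) : cl (lab c) (sw c p) = (ld c p : ℝ) := cl_sw _ c p

theorem hml (c : Fin 11) : Hm (sb K c) (cl (lab c)) fun p => (ld c p : ℝ) := fun p hp => by
  have h := hmc (K := K) c (cl_lab c) p hp
  beta_reduce at h ⊢
  rwa [cl_ld] at h

variable [CharP K 3]

theorem sbc (c : Fin 11) : Sb (ec K c) (sb K c) (tp c) := by
  rw [ec_eq]
  exact chkSb_sound (chk_all c)

open Classical in
/-- the bottoms span a graded complement of the image -/
theorem splitc (c : Fin 11) {κ : Q8 →+ ℝ} {δ : ℝ} (hκ : ∀ i ∈ SS c, κ (sr i) = δ) {J : Set ℝ} {v : L8 K}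
    (hv : v ∈ LS K {a | κ a ∈ J}) :
    ∃ s ∈ Sp (sb K c) ((range 248).filter fun p => bot (tp c) p = true ∧ κ (sw c p) ∈ J),
      ∃ w ∈ LS K {a | κ a + δ ∈ J}, v = s + br (ec K c) w :=
  (sbc c).split (hmc c hκ) (ec_mem hκ) hv

theorem KK_eq (c : Fin 11) :
    KK K c = Sp (sb K c) (if c.val ≤ 8 then ∅ else if c.val = 9 then {51, 183} else {51, 90, 144, 183}) := by
  have h := (sbc (K := K) c).cen_deg (hml c) {-1}
  rw [← filt_K c]
  refine h.trans ?_
  congr 1
  refine filter_congr fun p _ => and_congr_right fun _ => ?_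
  rw [Set.mem_singleton_iff]
  exact_mod_cast Iff.rfl

theorem KK9 {z : L8 K} : z ∈ KK K 9 ↔ ∃ a b : K, z = a • sv K k0 + b • sv K kx := by
  have h1 : sb K 9 51 = sv K k0 := sv_eq3 (by decide +kernel)
  have h2 : sb K 9 183 = sv K kx := sv_eq3 (by decide +kernel)
  rw [KK_eq, if_neg (by decide), if_pos (by decide)]
  constructor
  · intro h
    obtain ⟨c, hc⟩ := exists_of_mem_Sp h
    rw [sum_pair (by decide), h1, h2] at hc
    exact ⟨_, _, hc⟩
  · rintro ⟨a, b, rfl⟩
    rw [← h1, ← h2]
    exact Submodule.add_mem _ (Submodule.smul_mem _ _ (mem_Sp (by decide))) (Submodule.smul_mem _ _ (mem_Sp (by decide)))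

theorem KK10 {z : L8 K} : z ∈ KK K 10 ↔ ∃ a b c d : K, z = a • sv K k0 + b • sv K k1 + c • sv K k2 + d • sv K kx := by
  have h1 : sb K 10 51 = sv K k0 := sv_eq3 (by decide +kernel)
  have h2 : sb K 10 90 = sv K k1 := sv_eq3 (by decide +kernel)
  have h3 : sb K 10 144 = sv K k2 := sv_eq3 (by decide +kernel)
  have h4 : sb K 10 183 = sv K kx := sv_eq3 (by decide +kernel)
  rw [KK_eq, if_neg (by decide), if_neg (by decide)]
  constructor
  · intro h
    obtain ⟨c, hc⟩ := exists_of_mem_Sp h
    rw [sum_insert (by decide), sum_insert (by decide), sum_pair (by decide), h1, h2, h3, h4, ← add_assoc, ← add_assoc] at hc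
    exact ⟨_, _, _, _, hc⟩
  · rintro ⟨a, b, c, d, rfl⟩
    rw [← h1, ← h2, ← h3, ← h4]
    exact Submodule.add_mem _ (Submodule.add_mem _ (Submodule.add_mem _ (Submodule.smul_mem _ _ (mem_Sp (by decide)))
      (Submodule.smul_mem _ _ (mem_Sp (by decide)))) (Submodule.smul_mem _ _ (mem_Sp (by decide))))
      (Submodule.smul_mem _ _ (mem_Sp (by decide)))

end Cfsg.Agent.E8A.C63.Sv

namespace Cfsg.Agent.E8A.C63

open Cfsg Cfsg.Lie Module Finset Sv
open Cfsg.Agent.E8A.Kem (Ge mem_Ge)

universe u

/-- **STR** -/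
theorem str : STR.{u} := by
  intro K _ _ c
  have H := sbc (K := K) c
  refine ⟨H.cz (len_le c), H.cd_eq.trans (card_tp c), nm_lab c, ec_mem (cl_lab c), ?_, fun j hj v hv => ?_, ?_⟩
  · rw [H.cen_eq]
    refine Sp_le fun p hp => ?_
    obtain ⟨h1, h2⟩ := mem_filter.1 hp
    refine LS_mono (fun a ha => ?_) (hml c p (mem_range.1 h1))
    have h3 := ld_top c p (mem_range.1 h1) h2
    rw [mem_Ge, mem_Eq.1 ha]
    beta_reduce
    split_ifs at h3 ⊢ <;> exact_mod_cast h3
  · obtain ⟨s, hs, w, hw, h⟩ := splitc c (cl_lab c) (J := {j}) hv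
    have h0 : s = 0 := by
      refine (Submodule.mem_bot K).1 (Sp_le (fun p hp => ?_) hs)
      obtain ⟨h1, h2, h3⟩ := mem_filter.1 hp
      have h4 := ld_bot c p (mem_range.1 h1) h2
      rw [Set.mem_singleton_iff, cl_ld] at h3
      have h5 : (2 : ℤ) ≤ ld c p := by exact_mod_cast h3 ▸ hj
      split_ifs at h4 <;> omega
    refine ⟨w, LS_mono (fun a ha => ?_) hw, by rw [h, h0, zero_add]⟩
    exact mem_Eq.2 (eq_sub_of_add_eq ha)
  · rw [KK_eq, H.finrank_Sp]
    · split_ifs <;> rfl
    · split_ifs <;> decide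

end Cfsg.Agent.E8A.C63
end

private theorem dce_409f0af789ef : _root_.True := by
  try have : _root_.True := by simp only [_root_.Cfsg.Agent.E8A.C63.Sv.eb.eq_1]
  try have : _root_.True := by simp only [_root_.Cfsg.Agent.E8A.C63.Sv.wG.eq_1]
  try have : _root_.True := by simp only [_root_.Cfsg.Agent.E8A.C63.Sv.wk.eq_1]
  try have : _root_.True := by simp only [_root_.Cfsg.Agent.E8A.C63.Sv.ky.eq_1]
  try have : _root_.True := by simp only [_root_.Cfsg.Agent.E8A.C63.Sv.sv.eq_1]
  try have : _root_.True := by simp only [_root_.Cfsg.Agent.E8A.C63.Sv.chkSb.eq_1]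
  try have : _root_.True := by simp only [_root_.Cfsg.Agent.E8A.C63.Sv.Sp.eq_1]
  try have : _root_.True := by simp only [_root_.Cfsg.Agent.E8A.C63.Sv.brS.eq_1]
  try have : _root_.True := by simp only [_root_.Cfsg.Agent.E8A.C63.Sv.adL.eq_1]
  try have : _root_.True := by simp only [_root_.Cfsg.Agent.E8A.C63.ec.eq_1]
  try have : _root_.True := by simp only [_root_.Cfsg.Agent.E8A.C63.cd.eq_1]
  try have : _root_.True := by simp only [_root_.Cfsg.Agent.E8A.C63.Sv.nz.eq_1]
  try have : _root_.True := by simp only [_root_.Cfsg.Agent.E8A.C63.Sv.twE.eq_1]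
  exact _root_.True.intro
end

-- part: E8A/C63/WitA
section
prune_inst 0x20000000000000000010000000000000
set_option linter.all false
open scoped Cfsg.Agent.FastGrp

/-!
# WIT, part A: bigraded pieces, unipotent moves, the toral equation (helper5)

* `LB K y P` : vectors whose weights have bidegree `(ex y a, a 6)` in `P`; `pj` : projection; `br_pj`;
* `Ex y S S2 u c` : `u` acts as `1 + ad c` modulo higher terms; `exists_ex`, `kill`, `cu`, `move`;
* `mem_of_br`, `tor_eq` : the equation `(ad h)³ = ad h` in low degrees.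
-/

set_option autoImplicit false
set_option maxRecDepth 100000

namespace Cfsg.Agent.E8A.C63.Wt

open Cfsg Cfsg.Lie Module Matrix
open Cfsg.Agent.H288.E8L (Q8 wt wt_inl wt_inr)
open Cfsg.Agent.E8A.Reg5.Cls (ex ex_zero)
open Cfsg.Agent.E8A.TwoH (br_anti br_jac br_der br_zero_left br_zero_right)
open Cfsg.Agent.E8A.Par (op vec_op kf_ee act_xr)

universe u

variable {K : Type u} [Field K]

theorem exa (y a b : Q8) : ex y (a + b) = ex y a + ex y b := by simp [ex, add_mul, Finset.sum_add_distrib]

theorem exn (y a : Q8) : ex y (-a) = -ex y a := by simp [ex]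

theorem br_negl (x y : L8 K) : br (-x) y = -br x y := by rw [← neg_one_smul K x, br_smul_left, neg_one_smul]

theorem br_negr (x y : L8 K) : br x (-y) = -br x y := by rw [← neg_one_smul K y, br_smul_right, neg_one_smul]

theorem LS_ind {S : Set Q8} {P : L8 K → Prop} (h0 : P 0) (ha : ∀ x y, P x → P y → P (x + y))
    (he : ∀ (i : chevE8.Idx) (t : K), wt i ∈ S → P (t • ee K i)) {v : L8 K} (hv : v ∈ LS K S) : P v := by
  classical
  have h1 : v = ∑ i, v i • ee K i := by
    funext j
    rw [Finset.sum_apply, Finset.sum_eq_single j]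
    · rw [Pi.smul_apply, ee_self, smul_eq_mul, mul_one]
    · intro b _ hb
      rw [Pi.smul_apply, ee_ne (Ne.symm hb), smul_zero]
    · intro h
      exact absurd (Finset.mem_univ j) h
  rw [h1]
  refine Finset.sum_induction _ P ha h0 fun i _ => ?_
  by_cases h : v i = 0
  · rw [h, zero_smul]; exact h0
  · exact he i _ (hv i h)

variable (K) in
/-- vectors whose weights have bidegree in `P` -/
def LB (y : Q8) (P : ℤ → ℤ → Prop) : Submodule K (L8 K) := LS K {a | P (ex y a) (a 6)}

/-- `A + S ⊆ B` -/
def Ad (A S B : ℤ → ℤ → Prop) : Prop := ∀ l m l' m', A l m → S l' m' → B (l + l') (m + m')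

variable {y : Q8} {P Q R A S B : ℤ → ℤ → Prop}

theorem LB_mono {v : L8 K} (hv : v ∈ LB K y P) (h : ∀ l m, P l m → Q l m) : v ∈ LB K y Q := fun i hi => h _ _ (hv i hi)

theorem LB_and {v : L8 K} (hv : v ∈ LB K y P) (hw : v ∈ LB K y Q) (h : ∀ l m, P l m → Q l m → R l m) : v ∈ LB K y R :=
  fun i hi => h _ _ (hv i hi) (hw i hi)

theorem LB_zero {v : L8 K} (hv : v ∈ LB K y P) (hw : v ∈ LB K y Q) (h : ∀ l m, P l m → Q l m → False) : v = 0 :=
  funext fun i => by
    by_contra hi
    exact h _ _ (hv i hi) (hw i hi)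

theorem LB_br {x z : L8 K} (hx : x ∈ LB K y P) (hz : z ∈ LB K y Q) (h : Ad P Q R) : br x z ∈ LB K y R :=
  br_LS (fun a ha b hb => by
    have h1 := h _ _ _ _ ha hb
    rwa [← exa, ← Pi.add_apply a b] at h1) hx hz

theorem LB_ind {M : L8 K → Prop} (h0 : M 0) (ha : ∀ x y, M x → M y → M (x + y))
    (he : ∀ (i : chevE8.Idx) (t : K), P (ex y (wt i)) (wt i 6) → M (t • ee K i)) {v : L8 K} (hv : v ∈ LB K y P) : M v :=
  LS_ind h0 ha he hv

theorem ee_LB {i : chevE8.Idx} (h : P (ex y (wt i)) (wt i 6)) : ee K i ∈ LB K y P := ee_mem_LS h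

theorem inT_LB {h : L8 K} (hh : InT h) (h0 : P 0 0) : h ∈ LB K y P := fun i hi => by
  rcases i with i | r
  · show P (ex y (wt (Sum.inl i))) (wt (Sum.inl i) 6)
    rw [wt_inl, ex_zero]; exact h0
  · exact absurd (hh r) hi

variable (y P) in
/-- the projection -/
noncomputable def pj (v : L8 K) : L8 K :=
  fun i => haveI := Classical.propDecidable (P (ex y (wt i)) (wt i 6)); if P (ex y (wt i)) (wt i 6) then v i else 0

theorem pj_pos (v : L8 K) {i : chevE8.Idx} (h : P (ex y (wt i)) (wt i 6)) : pj y P v i = v i := if_pos h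

theorem pj_neg (v : L8 K) {i : chevE8.Idx} (h : ¬P (ex y (wt i)) (wt i 6)) : pj y P v i = 0 := if_neg h

theorem pj_mem {v : L8 K} (hv : v ∈ LB K y A) (h : ∀ l m, A l m → P l m → Q l m) : pj y P v ∈ LB K y Q := fun i hi => by
  by_cases h1 : P (ex y (wt i)) (wt i 6)
  · rw [pj_pos v h1] at hi
    exact h _ _ (hv i hi) h1
  · exact absurd (pj_neg v h1) hi

theorem mem_top (v : L8 K) : v ∈ LB K y fun _ _ => True := fun _ _ => trivial

theorem pj_mem' (v : L8 K) : pj y P v ∈ LB K y P := pj_mem (mem_top v) fun _ _ _ h => h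

theorem sub_pj {v : L8 K} (hv : v ∈ LB K y A) (h : ∀ l m, A l m → ¬P l m → Q l m) : v - pj y P v ∈ LB K y Q :=
  fun i hi => by
    by_cases h1 : P (ex y (wt i)) (wt i 6)
    · rw [Pi.sub_apply, pj_pos v h1, sub_self] at hi
      exact absurd rfl hi
    · rw [Pi.sub_apply, pj_neg v h1, sub_zero] at hi
      exact h _ _ (hv i hi) h1

theorem pj_eq {v x : L8 K} (hx : x ∈ LB K y P) (hv : v - x ∈ LB K y Q) (h : ∀ l m, P l m → Q l m → False) :
    pj y P v = x := funext fun i => by
  by_cases h1 : P (ex y (wt i)) (wt i 6)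
  · rw [pj_pos v h1]
    by_contra h2
    exact h _ _ h1 (hv i (sub_ne_zero.2 h2))
  · rw [pj_neg v h1]
    by_contra h2
    exact h1 (hx i (Ne.symm h2))

theorem mem_of_pj {v : L8 K} (hv : v ∈ LB K y A) (h0 : pj y P v = 0) (h : ∀ l m, A l m → ¬P l m → Q l m) :
    v ∈ LB K y Q := by
  have h1 := sub_pj hv h
  rwa [h0, sub_zero] at h1

theorem br_pj {E : ℤ → ℤ → Prop} {e : L8 K} (he : e ∈ LB K y E) (h : Ad E P Q)
    (h' : Ad E (fun l m => ¬P l m) fun l m => ¬Q l m) (w : L8 K) : br e (pj y P w) = pj y Q (br e w) := by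
  refine (pj_eq (LB_br he (pj_mem' w) h) (Q := fun l m => ¬Q l m) ?_ fun _ _ h1 h2 => h2 h1).symm
  rw [← br_sub_right]
  exact LB_br he (sub_pj (mem_top w) fun _ _ _ h => h) h'

/-- the components of an element of the centralizer -/
theorem cen_pj {e w : L8 K} (he : e ∈ LB K y fun l m => l = 2 ∧ m = 0) (hw : br e w = 0) : br e (pj y P w) = 0 := by
  rw [br_pj he (Q := fun l m => P (l - 2) m), hw]
  · funext i
    by_cases h1 : P (ex y (wt i) - 2) (wt i 6)
    · exact pj_pos (P := fun l m => P (l - 2) m) _ h1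
    · exact pj_neg (P := fun l m => P (l - 2) m) _ h1
  · rintro l m l' m' ⟨rfl, rfl⟩ h
    rwa [add_sub_cancel_left, zero_add]
  · rintro l m l' m' ⟨rfl, rfl⟩ h
    rwa [add_sub_cancel_left, zero_add]

/-! ### unipotent elements -/

variable (y) in
/-- `u` acts as `1 + ad c` modulo terms of higher order -/
def Ex (S S2 : ℤ → ℤ → Prop) (u : G8 K) (c : L8 K) : Prop :=
  ∀ A A2 : ℤ → ℤ → Prop, Ad A S2 A2 → Ad A2 S A2 → ∀ v ∈ LB K y A, act u v - v - br c v ∈ LB K y A2

variable {S2 : ℤ → ℤ → Prop}

theorem Ex.one : Ex y S S2 (1 : G8 K) 0 := fun _ _ _ _ v _ => by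
  rw [act_one, br_zero_left, sub_self, sub_zero]
  exact zero_mem _

theorem Ex.mul (h2 : Ad S S S2) (h1 : ∀ l m, S2 l m → S l m) {u u' : G8 K} {c c' : L8 K} (hc : c ∈ LB K y S)
    (hc' : c' ∈ LB K y S) (H : Ex y S S2 u c) (H' : Ex y S S2 u' c') : Ex y S S2 (u' * u) (c + c') := by
  intro A A2 hA hA2 v hv
  have r1 := H A A2 hA hA2 v hv
  have r2 := H' A A2 hA hA2 v hv
  have m1 : br c v ∈ LB K y fun l m => ∃ l1 m1 l2 m2, A l1 m1 ∧ S l2 m2 ∧ l = l1 + l2 ∧ m = m1 + m2 :=
    LB_br hc hv fun l m l' m' h h' => ⟨l', m', l, m, h', h, add_comm _ _, add_comm _ _⟩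
  have r3 := H' _ A2 (by
    rintro _ _ l' m' ⟨l1, m1, l2, m2, h, h', rfl, rfl⟩ h''
    rw [add_right_comm l1, add_right_comm m1]
    exact hA2 _ _ _ _ (hA _ _ _ _ h h'') h') hA2 _ m1
  have r4 : br c' (br c v) ∈ LB K y A2 := LB_br hc' m1 (by
    rintro l m _ _ h'' ⟨l1, m1, l2, m2, h, h', rfl, rfl⟩
    rw [add_left_comm l, add_left_comm m]
    exact hA _ _ _ _ h (h2 _ _ _ _ h'' h'))
  have r5 := H' A2 A2 (fun _ _ _ _ h h' => hA2 _ _ _ _ h (h1 _ _ h')) hA2 _ r1
  have r6 : br c' (act u v - v - br c v) ∈ LB K y A2 := LB_br hc' r1 fun l m l' m' h h' => by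
    rw [add_comm l, add_comm m]
    exact hA2 _ _ _ _ h' h
  have e : act (u' * u) v - v - br (c + c') v = (act u v - v - br c v) + (act u' v - v - br c' v) +
      (act u' (br c v) - br c v - br c' (br c v)) + br c' (br c v) +
      (act u' (act u v - v - br c v) - (act u v - v - br c v) - br c' (act u v - v - br c v)) +
      br c' (act u v - v - br c v) := by
    rw [act_mul, br_add_left, act_sub, act_sub]
    abel
  rw [e]
  exact add_mem (add_mem (add_mem (add_mem (add_mem r1 r2) r3) r4) r5) r6

theorem Ex.xr (h2 : Ad S S S2) {r : Fin chevE8.nroots} (hr : S (ex y (wt (Sum.inr r))) (wt (Sum.inr r) 6)) (t : K) :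
    Ex y S S2 (xr r t) (t • ee K (Sum.inr r)) := by
  intro A A2 hA _ v hv
  have e : act (E8A.xr r t) v - v - br (t • ee K (Sum.inr r)) v =
      (-(t ^ 2 * v (Sum.inr (op r)))) • ee K (Sum.inr r) := by
    rw [act_xr, kf_ee, br_smul_left, neg_smul]
    abel
  rw [e]
  by_cases h : v (Sum.inr (op r)) = 0
  · rw [h, mul_zero, neg_zero, zero_smul]
    exact zero_mem _
  · refine Submodule.smul_mem _ _ (ee_LB ?_)
    have h3 := hA _ _ _ _ (hv _ h) (h2 _ _ _ _ hr hr)
    rw [wt_inr, wt_inr, vec_op, exn, Pi.neg_apply, neg_add_cancel_left, neg_add_cancel_left] at h3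
    rwa [wt_inr]

theorem exists_ex (h2 : Ad S S S2) (h1 : ∀ l m, S2 l m → S l m) (h0 : ¬S 0 0) {c : L8 K} (hc : c ∈ LB K y S) :
    ∃ u : G8 K, Ex y S S2 u c := by
  refine (LB_ind (M := fun c => c ∈ LB K y S ∧ ∃ u : G8 K, Ex y S S2 u c) ⟨zero_mem _, 1, Ex.one⟩ ?_ ?_ hc).2
  · rintro a b ⟨ha, u, hu⟩ ⟨hb, u', hu'⟩
    exact ⟨add_mem ha hb, u' * u, Ex.mul h2 h1 ha hb hu hu'⟩
  · intro i t hi
    refine ⟨Submodule.smul_mem _ _ (ee_LB hi), ?_⟩
    rcases i with i | r
    · rw [wt_inl, ex_zero] at hi
      exact absurd hi h0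
    · exact ⟨_, Ex.xr h2 hi t⟩

theorem Ex.mono {S' S2' : ℤ → ℤ → Prop} {u : G8 K} {c : L8 K} (H : Ex y S S2 u c) (h : ∀ l m, S l m → S' l m)
    (h' : ∀ l m, S2 l m → S2' l m) : Ex y S' S2' u c := fun A A2 hA hA2 =>
  H A A2 (fun _ _ _ _ a b => hA _ _ _ _ a (h' _ _ b)) fun _ _ _ _ a b => hA2 _ _ _ _ a (h _ _ b)

theorem Ex.weak {u : G8 K} {c : L8 K} (H : Ex y S S2 u c) (hc : c ∈ LB K y S) (h1 : ∀ l m, S2 l m → S l m) :
    Ex y S S u 0 := fun A A2 hA hA2 v hv => by
  have r1 := H A A2 (fun _ _ _ _ a b => hA _ _ _ _ a (h1 _ _ b)) hA2 v hv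
  have r2 : br c v ∈ LB K y A2 := LB_br hc hv fun l m l' m' h h' => by
    rw [add_comm l, add_comm m]
    exact hA _ _ _ _ h' h
  rw [br_zero_left, sub_zero, ← sub_add_cancel (act u v - v) (br c v)]
  exact add_mem r1 r2

variable (y) in
/-- the nilpotent element: bidegree `(2, 0)`, and `ad e` is onto the degrees `≥ 2` -/
structure Nl (e : L8 K) : Prop where
  mem : e ∈ LB K y fun l m => l = 2 ∧ m = 0
  onto : ∀ d ∈ LB K y fun l _ => 2 ≤ l, ∃ w, br e w = d

/-- a closed set of bidegrees with a filtration -/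
structure Fl (S : ℤ → ℤ → Prop) (α β : ℤ) : Prop where
  add : Ad S S S
  ge : ∀ l m, S l m → 0 ≤ l

/-- the steps of the filtration -/
def Sk (S : ℤ → ℤ → Prop) (α β k : ℤ) : ℤ → ℤ → Prop := fun l m => S l m ∧ k ≤ α * l + β * m

variable {α β : ℤ}

theorem Fl.ad (F : Fl S α β) {k k' n : ℤ} (h : n ≤ k + k') : Ad (Sk S α β k) (Sk S α β k') (Sk S α β n) :=
  fun l m l' m' a b => ⟨F.add _ _ _ _ a.1 b.1, by have := a.2; have := b.2; linarith⟩

theorem Sk_mono {k k' : ℤ} (h : k' ≤ k) (l m : ℤ) (a : Sk S α β k l m) : Sk S α β k' l m := ⟨a.1, h.trans a.2⟩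

theorem kill {e : L8 K} (N : Nl y e) (F : Fl S α β) {k : ℤ} (hk : 1 ≤ k) {x : L8 K}
    (hx : x - e ∈ LB K y fun l m => Sk S α β k (l - 2) m) :
    ∃ u : G8 K, act u x = e ∧ Ex y (Sk S α β k) (Sk S α β k) u 0 := by
  obtain ⟨M, hM⟩ := Finite.exists_le fun i : chevE8.Idx => α * (ex y (wt i) - 2) + β * wt i 6
  have key : ∀ n : ℕ, ∀ k : ℤ, 1 ≤ k → M + 1 - n ≤ k → ∀ x : L8 K, x - e ∈ LB K y (fun l m => Sk S α β k (l - 2) m) →
      ∃ u : G8 K, act u x = e ∧ Ex y (Sk S α β k) (Sk S α β k) u 0 := by
    intro n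
    induction n with
    | zero =>
      intro k _ h x hx
      refine ⟨1, ?_, Ex.one⟩
      rw [act_one, ← sub_eq_zero]
      funext i
      by_contra hi
      have h1 := (hx i hi).2
      have h2 := hM i
      simp only [Nat.cast_zero, sub_zero] at h h2
      omega
    | succ n ih =>
      intro k hk h x hx
      obtain ⟨w', hw'⟩ := N.onto (x - e) (LB_mono hx fun l m a => by have := F.ge _ _ a.1; omega)
      have hw : br e (pj y (Sk S α β k) w') = x - e := by
        rw [br_pj N.mem (Q := fun l m => Sk S α β k (l - 2) m), hw']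
        · exact pj_eq hx (Q := fun _ _ => False) (by rw [sub_self]; exact zero_mem _) fun _ _ _ h => h
        · rintro l m l' m' ⟨rfl, rfl⟩ h
          rwa [add_sub_cancel_left, zero_add]
        · rintro l m l' m' ⟨rfl, rfl⟩ h
          rwa [add_sub_cancel_left, zero_add]
      have hm : pj y (Sk S α β k) w' ∈ LB K y (Sk S α β k) := pj_mem' w'
      generalize pj y (Sk S α β k) w' = w at hw hm
      have h0 : ¬Sk S α β k 0 0 := fun a => by have := a.2; omega
      obtain ⟨u, hu⟩ := exists_ex (S2 := Sk S α β (k + 1)) (F.ad (by omega)) (Sk_mono (by omega)) h0 hm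
      have a2 : Ad (fun l m => Sk S α β (k + 1) (l - 2) m) (Sk S α β k) fun l m => Sk S α β (k + 1) (l - 2) m :=
        fun l m l' m' a b => by
          beta_reduce
          rw [add_sub_right_comm]
          exact F.ad (by omega) _ _ _ _ a b
      have r1 := hu (fun l m => l = 2 ∧ m = 0) _ (by
        rintro l m l' m' ⟨rfl, rfl⟩ b
        rwa [add_sub_cancel_left, zero_add]) a2 e N.mem
      have r2 := hu (fun l m => Sk S α β k (l - 2) m) _ (fun l m l' m' a b => by
        rw [add_sub_right_comm]
        exact F.ad (by omega) _ _ _ _ a b) a2 _ hx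
      have r3 : br w (x - e) ∈ LB K y fun l m => Sk S α β (k + 1) (l - 2) m := LB_br hm hx fun l m l' m' a b => by
        rw [add_sub_assoc]
        exact F.ad (by omega) _ _ _ _ a b
      have e1 : act u x - e = (act u e - e - br w e) + (act u (x - e) - (x - e) - br w (x - e)) + br w (x - e) := by
        rw [act_sub, br_anti w e, hw]
        abel
      obtain ⟨u', h1, h2⟩ := ih (k + 1) (by omega) (by push_cast at h; omega) (act u x)
        (by rw [e1]; exact add_mem (add_mem r1 r2) r3)
      refine ⟨u' * u, by rw [act_mul, h1], ?_⟩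
      have h3 := Ex.mul (F.ad (by omega)) (fun _ _ a => a) (zero_mem _) (zero_mem _) (hu.weak hm (Sk_mono (by omega)))
        (h2.mono (Sk_mono (by omega)) (Sk_mono (by omega)))
      rwa [add_zero] at h3
  exact key (M + 1 - k).toNat k hk (by omega) x hx

/-- an element of the centralizer gives an element of the stabilizer -/
theorem cu {e : L8 K} (N : Nl y e) (F : Fl S α β) {k : ℤ} (hk : 1 ≤ k) {c : L8 K} (hc : c ∈ LB K y (Sk S α β k))
    (h0 : br e c = 0) : ∃ u : G8 K, act u e = e ∧ Ex y (Sk S α β k) (Sk S α β (2 * k)) u c := by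
  obtain ⟨u, hu⟩ := exists_ex (S2 := Sk S α β (2 * k)) (F.ad (by omega)) (Sk_mono (by omega))
    (fun a => by have := a.2; omega) hc
  have r1 := hu (fun l m => l = 2 ∧ m = 0) (fun l m => Sk S α β (2 * k) (l - 2) m) (by
    rintro l m l' m' ⟨rfl, rfl⟩ b
    rwa [add_sub_cancel_left, zero_add]) (fun l m l' m' a b => by
    beta_reduce
    rw [add_sub_right_comm]
    exact F.ad (by omega) _ _ _ _ a b) e N.mem
  rw [br_anti c e, h0, neg_zero, sub_zero] at r1
  obtain ⟨u', h1, h2⟩ := kill N F (k := 2 * k) (by omega) r1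
  refine ⟨u' * u, by rw [act_mul, h1], ?_⟩
  have h3 := Ex.mul (F.ad (by omega)) (Sk_mono (by omega)) hc (zero_mem _) hu
    (h2.mono (Sk_mono (by omega)) fun _ _ a => a)
  rwa [add_zero] at h3

/-- one step: `x` is kept, the remainder is moved from `A` into `A'` -/
theorem move {e : L8 K} (N : Nl y e) (F : Fl S α β) {k : ℤ} (hk : 1 ≤ k) {c : L8 K} (hc : c ∈ LB K y (Sk S α β k))
    (h0 : br e c = 0) {X A' : ℤ → ℤ → Prop} {x h : L8 K} (hx : x ∈ LB K y X) (hr : h - x ∈ LB K y A)
    (hw : h - x + br c x ∈ LB K y A') (a1 : Ad (Sk S α β k) A A') (a2 : Ad X (Sk S α β (2 * k)) A')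
    (a3 : Ad A (Sk S α β (2 * k)) A') (a4 : Ad A' (Sk S α β k) A') :
    ∃ u : G8 K, act u e = e ∧ act u h - x ∈ LB K y A' := by
  obtain ⟨u, h1, hu⟩ := cu N F hk hc h0
  refine ⟨u, h1, ?_⟩
  have e1 : act u h - x = (act u x - x - br c x) + (act u (h - x) - (h - x) - br c (h - x)) + (h - x + br c x) +
      br c (h - x) := by
    rw [act_sub]
    abel
  rw [e1]
  exact add_mem (add_mem (add_mem (hu _ _ a2 a4 _ hx) (hu _ _ a3 a4 _ hr)) hw) (LB_br hc hr a1)

/-! ### the toral equation -/

theorem mem_of_br {v : L8 K} (h : ∀ j, br v (ee K j) ∈ LB K y fun l m => B (l - ex y (wt j)) (m - wt j 6)) :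
    v ∈ LB K y B := by
  have h1 : v - pj y B v = 0 := by
    refine eq_zero_of_adm (Matrix.ext fun i j => ?_)
    have hj : ee K j ∈ LB K y fun l m => l = ex y (wt j) ∧ m = wt j 6 := ee_LB ⟨rfl, rfl⟩
    have h2 : br (v - pj y B v) (ee K j) = 0 := by
      refine LB_zero (y := y) (P := fun l m => B (l - ex y (wt j)) (m - wt j 6))
        (Q := fun l m => ¬B (l - ex y (wt j)) (m - wt j 6)) ?_ ?_ fun _ _ a b => b a
      · rw [br_sub_left]
        refine sub_mem (h j) (LB_br (pj_mem' v) hj ?_)
        rintro l m _ _ a ⟨rfl, rfl⟩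
        rwa [add_sub_cancel_right, add_sub_cancel_right]
      · refine LB_br (P := fun l m => ¬B l m) (sub_pj (mem_top v) fun _ _ _ a => a) hj ?_
        rintro l m _ _ a ⟨rfl, rfl⟩
        rwa [add_sub_cancel_right, add_sub_cancel_right]
    exact (mulVec_ee _ j i).symm.trans (congrFun h2 i)
  rw [sub_eq_zero.1 h1]
  exact pj_mem' v

theorem cube_add {M : Type*} [Ring M] (h3 : (3 : M) = 0) (X Y : M) : (X + Y) ^ 3 = X ^ 3 + Y ^ 3 +
    (X * (X * Y - Y * X) - (X * Y - Y * X) * X) + (Y * (Y * X - X * Y) - (Y * X - X * Y) * Y) := by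
  have h : (X + Y) ^ 3 = X ^ 3 + Y ^ 3 + (X * (X * Y - Y * X) - (X * Y - Y * X) * X) +
      (Y * (Y * X - X * Y) - (Y * X - X * Y) * Y) + 3 * (X * Y * X + Y * X * Y) := by noncomm_ring
  rw [h, h3, zero_mul, add_zero]

theorem br3 (x v : L8 K) : adm x ^ 3 *ᵥ v = br x (br x (br x v)) := by
  unfold br
  rw [Matrix.mulVec_mulVec, Matrix.mulVec_mulVec, pow_succ, pow_two]

theorem Tor.cube {h : L8 K} (hh : InT h) (ht : Tor h) (j : chevE8.Idx) : rl h (wt j) ^ 3 = rl h (wt j) := by
  have h1 : (adm h ^ 3) j j = adm h j j := by rw [show adm h ^ 3 = adm h from ht]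
  rwa [adm_T hh, Matrix.diagonal_pow, Matrix.diagonal_apply_eq, Matrix.diagonal_apply_eq, Pi.pow_apply] at h1

theorem tor_eq [CharP K 3] {X : ℤ → ℤ → Prop} {x h r : L8 K} (ht : Tor (x + (h + r))) (hh : InT h)
    (hh' : ∀ j, rl h (wt j) ^ 3 = rl h (wt j))
    (hx : x ∈ LB K y X) (hr : r ∈ LB K y A) (hA : Ad A A A) (h1 : ∀ l m, A l m → B l m)
    (h2 : ∀ l m l' m' l'' m'', X l m → X l' m' → X l'' m'' → B (l + l' + l'') (m + m' + m'')) :
    x - br x (br x (h + r)) - br (h + r) (br (h + r) x) ∈ LB K y B := by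
  have h3 : (3 : Matrix chevE8.Idx chevE8.Idx K) = 0 := by
    rw [← Nat.cast_ofNat, ← map_natCast (algebraMap K (Matrix chevE8.Idx chevE8.Idx K)), CharP.cast_eq_zero, map_zero]
  have e1 : adm (x - br x (br x (h + r)) - br (h + r) (br (h + r) x)) =
      adm x ^ 3 + (adm (h + r) ^ 3 - adm (h + r)) := by
    have h4 : adm (x + (h + r)) ^ 3 = adm (x + (h + r)) := ht
    rw [adm_add x, cube_add h3] at h4
    rw [adm_sub, adm_sub, adm_br, adm_br, adm_br, adm_br, ← sub_eq_zero, ← sub_eq_zero.2 h4.symm]
    abel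
  refine mem_of_br fun j => ?_
  have hj : ee K j ∈ LB K y fun l m => l = ex y (wt j) ∧ m = wt j 6 := ee_LB ⟨rfl, rfl⟩
  have e2 : br (x - br x (br x (h + r)) - br (h + r) (br (h + r) x)) (ee K j) =
      br x (br x (br x (ee K j))) + (br (h + r) (br (h + r) (br (h + r) (ee K j))) - br (h + r) (ee K j)) := by
    rw [← br3, ← br3]
    unfold br
    rw [← Matrix.sub_mulVec, ← Matrix.add_mulVec]
    exact congrArg (· *ᵥ ee K j) e1
  rw [e2]
  refine add_mem ?_ ?_
  · have b1 : br x (ee K j) ∈ LB K y fun l m => X (l - ex y (wt j)) (m - wt j 6) := LB_br hx hj (by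
      rintro l m _ _ a ⟨rfl, rfl⟩
      rwa [add_sub_cancel_right, add_sub_cancel_right])
    have b2 : br x (br x (ee K j)) ∈ LB K y fun l m => ∃ l' m', X l' m' ∧ X (l - l' - ex y (wt j)) (m - m' - wt j 6) :=
      LB_br hx b1 fun l m l' m' a b => ⟨l, m, a, by rwa [add_sub_cancel_left, add_sub_cancel_left]⟩
    refine LB_br hx b2 ?_
    rintro l m l1 m1 a ⟨l', m', b, c⟩
    have h5 := h2 _ _ _ _ _ _ a b c
    have e3 : l + l' + (l1 - l' - ex y (wt j)) = l + l1 - ex y (wt j) := by ring
    have e4 : m + m' + (m1 - m' - wt j 6) = m + m1 - wt j 6 := by ring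
    rwa [e3, e4] at h5
  · refine LB_mono (P := fun l m => A (l - ex y (wt j)) (m - wt j 6)) ?_ fun _ _ => h1 _ _
    have b0 : br h (ee K j) = rl h (wt j) • ee K j := funext fun i => by
      rw [br_T hh, Pi.smul_apply, smul_eq_mul]
      by_cases hi : i = j
      · rw [hi]
      · rw [ee_ne hi, mul_zero, mul_zero]
    have b1 : br r (ee K j) ∈ LB K y fun l m => A (l - ex y (wt j)) (m - wt j 6) := LB_br hr hj (by
      rintro l m _ _ a ⟨rfl, rfl⟩
      rwa [add_sub_cancel_right, add_sub_cancel_right])
    have b2 : ∀ w ∈ LB K y fun l m => A (l - ex y (wt j)) (m - wt j 6),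
        br (h + r) w ∈ LB K y fun l m => A (l - ex y (wt j)) (m - wt j 6) := fun w hw => by
      rw [br_add_left]
      refine add_mem (LB_br (P := fun l m => l = 0 ∧ m = 0) (inT_LB hh ⟨rfl, rfl⟩) hw ?_) (LB_br hr hw ?_)
      · rintro _ _ l m ⟨rfl, rfl⟩ a
        rwa [zero_add, zero_add]
      · intro l m l' m' a b
        rw [add_sub_assoc, add_sub_assoc]
        exact hA _ _ _ _ a b
    have b3 : br (h + r) (ee K j) = rl h (wt j) • ee K j + br r (ee K j) := by rw [br_add_left, b0]
    have hc := hh' j
    generalize rl h (wt j) = a at b3 hc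
    generalize br r (ee K j) = t at b1 b3
    generalize h + r = ρ at b2 b3
    have e5 : br ρ (br ρ (br ρ (ee K j))) - br ρ (ee K j) = (a ^ 2 - 1) • t + a • br ρ t + br ρ (br ρ t) := by
      have e6 : a ^ 3 • ee K j = a • ee K j := by rw [hc]
      rw [b3, br_add_right, br_smul_right, b3, br_add_right, br_smul_right, br_add_right, br_smul_right, b3,
        ← sub_eq_zero, ← sub_eq_zero.2 e6]
      module
    rw [e5]
    exact add_mem (add_mem (Submodule.smul_mem _ _ b1) (Submodule.smul_mem _ _ (b2 _ b1))) (b2 _ (b2 _ b1))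

end Cfsg.Agent.E8A.C63.Wt
end

-- part: E8A/C63/WitB
section
prune_inst 0x7f0000000000000000000000000000000000000000000000000000000000000000000000000000000000000000000000000000000000000000000000000000000000000000000000000000000000000000000000000000000000000000000010000000000000
set_option linter.all false
open scoped Cfsg.Agent.FastGrp

/-!
# WIT, part B: the normalisation of `h` in the two bad classes (helper5)

`Fa`, `Fb` : the finite facts; `goal` : the exotic filtration from them.
-/

set_option autoImplicit false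
set_option maxRecDepth 100000

namespace Cfsg.Agent.E8A.C63.Wt

open Cfsg Cfsg.Lie Module Matrix
open Cfsg.Agent.H288.E8L (Q8 wt wt_inl wt_inr)
open Cfsg.Agent.E8A.Reg5.Cls (ex ex_zero)
open Cfsg.Agent.E8A.TwoH (br_anti br_jac br_der br_zero_left br_zero_right)

universe u

variable {K : Type u} [Field K]

/-- the facts for both bad classes -/
structure Fa (y : Q8) (e z : L8 K) : Prop where
  nl : Nl y e
  tt : ∀ v : L8 K, v ∈ LB K y fun l m => -3 ≤ m ∧ (m = -3 → l = 1 ∨ l = -1) ∧ (3 ≤ l → l + m ≠ 0)
  cn : ∀ v, br e v = 0 → v ∈ LB K y fun l _ => -1 ≤ l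
  zc : br e z = 0
  zm : z ∈ LB K y fun l m => l = -1 ∧ m = 1
  k1 : ∀ v ∈ LB K y fun l m => l = -1 ∧ 1 ≤ m, br e v = 0 → ∃ a : K, v = a • z
  k2 : ∀ v ∈ LB K y fun l m => l = -1 ∧ m ≤ -2, br e v = 0 → v = 0
  dn : ∀ k : ℤ, k = 1 ∨ k = 2 → ∀ v ∈ LB K y fun l m => l = -1 ∧ m = 1 - k, br e v = 0 →
    ∃ w ∈ LB K y fun l m => l = 0 ∧ m = -k, br e w = 0 ∧ br w z = v
  up : ∀ k : ℤ, k = 1 ∨ k = 2 → ∀ v ∈ LB K y fun l m => l = -1 ∧ m = 1 - k, br e v = 0 → v ≠ 0 →
    ∃ w ∈ LB K y fun l m => l = 0 ∧ m = k, br e w = 0 ∧ br w v ≠ 0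
  c0 : ∀ v ∈ LB K y fun l m => l = 0 ∧ m < 0, br e v = 0 →
    ∃ w ∈ LB K y fun l m => l = 1 ∧ m ≤ -2, br e w = 0 ∧ br w z = v
  c1 : ∀ v ∈ LB K y fun l m => l = 1 ∧ m ≤ -2, br e v = 0 → br z (br z v) = 0 → v = 0

/-- the facts for the class `2A₂A₁` -/
structure Fb (y : Q8) (e z h0 : L8 K) : Prop where
  i0 : ∀ w ∈ LB K y fun l m => l = -2 ∧ m = 0, br e (br e w - h0) = 0 →
    ∃ v ∈ LB K y fun l m => l = 1 ∧ m = -1, br e v = 0 ∧ br v z = br e w - h0
  c11 : ∀ v ∈ LB K y fun l m => l = 1 ∧ m = -1, br e v = 0 → br z v = 0 → v = 0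

/-- the conclusion -/
def Goal (y : Q8) (e z h0 : L8 K) (b : Prop) (h f : L8 K) : Prop :=
  ∃ g : G8 K, act g e = e ∧ act g h ∈ LB K y (fun l m => 0 ≤ l + m) ∧ act g f ∈ LB K y (fun l m => -2 ≤ l + m) ∧
    (b → ∃ a : K, a • z ≠ 0 ∧ act g h - (a • z + h0) ∈ LB K y fun l m => 1 ≤ l + m)

variable {y : Q8} {e z h0 h f : L8 K} {b : Prop}

theorem via {Q : L8 K → Prop} (R : RS e h f) (h1 : ∃ u : G8 K, act u e = e ∧ Q (act u h))
    (h2 : ∀ h' f', RS e h' f' → Q h' → Goal y e z h0 b h' f') : Goal y e z h0 b h f := by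
  obtain ⟨u, hu, hq⟩ := h1
  have R' := R.act u
  rw [hu] at R'
  obtain ⟨g, g1, g2, g3, g4⟩ := h2 _ _ R' hq
  exact ⟨g * u, by rw [act_mul, hu, g1], by rwa [act_mul], by rwa [act_mul], by rwa [act_mul]⟩

theorem isH_br (H : IsH y h0) {v : L8 K} {n : ℤ} (hv : v ∈ LB K y fun l _ => l = n) : br h0 v = (n : K) • v :=
  funext fun i => by
    rw [br_T H.1, H.2, Pi.smul_apply, smul_eq_mul]
    by_cases hi : v i = 0
    · rw [hi, mul_zero, mul_zero]
    · rw [show ex y (wt i) = n from hv i hi]

theorem cen0 (H : IsH y h0) (he : e ∈ LB K y fun l _ => l = 2) (S : Sl2 e h f) : br e (h - h0) = 0 := by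
  rw [br_sub_right, br_anti e h, br_anti e h0, S.he, isH_br H he, Int.cast_ofNat, sub_self]

theorem cenp (H : IsH y h0) (he : e ∈ LB K y fun l m => l = 2 ∧ m = 0) {w : L8 K} (hw : br e (w - h0) = 0)
    {P : ℤ → ℤ → Prop} (hP : ¬P 0 0) : br e (pj y P w) = 0 := by
  have h1 : pj y P w = pj y P (w - h0) := by
    refine pj_eq (pj_mem' _) (Q := fun l m => ¬P l m) ?_ fun _ _ a b => b a
    rw [show w - pj y P (w - h0) = (w - h0 - pj y P (w - h0)) + h0 by abel]
    exact add_mem (sub_pj (mem_top _) fun _ _ _ a => a) (inT_LB H.1 hP)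
  rw [h1]
  exact cen_pj he hw

theorem Fa.c00 (F : Fa y e z) (H : IsH y h0) (R : RS e h f) (a : K) : br e (h - a • z - h0) = 0 := by
  rw [sub_right_comm, br_sub_right, cen0 H (LB_mono F.nl.mem fun _ _ a => a.1) R.toSl2, br_smul_right, F.zc, smul_zero,
    sub_zero]

theorem Fa.base (F : Fa y e z) (H : IsH y h0) (R : RS e h f) :
    h ∈ LB K y fun l m => 0 ≤ l ∨ (l = -1 ∧ -1 ≤ m ∧ m ≤ 1) := by
  have h1 := cen0 H (LB_mono F.nl.mem fun _ _ a => a.1) R.toSl2
  have h2 : h ∈ LB K y fun l _ => -1 ≤ l := by
    rw [← sub_add_cancel h h0]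
    exact add_mem (F.cn _ h1) (inT_LB H.1 (by omega))
  have h3 : pj y (fun l m => l = -1 ∧ m ≤ -2) h = 0 := F.k2 _ (pj_mem' _) (cenp H F.nl.mem h1 (by omega))
  have h4 : pj y (fun l m => l = -1 ∧ 2 ≤ m) h = 0 := by
    obtain ⟨a, ha⟩ := F.k1 (pj y (fun l m => l = -1 ∧ 2 ≤ m) h) (LB_mono (pj_mem' _) fun _ _ a => by omega)
      (cenp H F.nl.mem h1 (by omega))
    refine LB_zero (y := y) (P := fun l m => l = -1 ∧ 2 ≤ m) (Q := fun l m => l = -1 ∧ m = 1) (pj_mem' _) ?_
      fun _ _ a b => by omega
    rw [ha]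
    exact Submodule.smul_mem _ _ F.zm
  exact LB_and (mem_of_pj h2 h3 (Q := fun l m => 0 ≤ l ∨ (l = -1 ∧ -1 ≤ m)) fun _ _ a b => by omega)
    (mem_of_pj h2 h4 (Q := fun l m => 0 ≤ l ∨ (l = -1 ∧ m ≤ 1)) fun _ _ a b => by omega) fun _ _ a b => by omega

theorem Fa.fin (F : Fa y e z) (R : RS e h f) (hh : h ∈ LB K y fun l m => 0 ≤ l + m) :
    f ∈ LB K y fun l m => -2 ≤ l + m := by
  have h1 : br e (pj y (fun l m => l + m < -2) f) = 0 := by
    rw [br_pj F.nl.mem (Q := fun l m => l + m < 0) (fun _ _ _ _ a b => by omega) (fun _ _ _ _ a b => by omega), R.ef]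
    exact pj_eq (zero_mem _) (by rwa [sub_zero]) fun _ _ a b => by omega
  refine mem_of_pj (mem_top f) (F.k2 _ ?_ h1) fun _ _ _ a => by omega
  exact LB_and (LB_and (F.cn _ h1) (F.tt _) (R := fun l m => -1 ≤ l ∧ -3 ≤ m ∧ (m = -3 → l = 1 ∨ l = -1))
    fun _ _ a b => by omega) (pj_mem' f) fun _ _ a b => by omega

theorem br_inv {a : K} (ha : a ≠ 0) (w z : L8 K) : br (-a⁻¹ • w) (a • z) = -br w z := by
  rw [br_smul_left, br_smul_right, smul_smul, neg_mul, inv_mul_cancel₀ ha, neg_one_smul]

variable [CharP K 3]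

theorem cast_two : ((2 : ℤ) : K) = -1 := by
  have h2 : (3 : K) = 0 := by exact_mod_cast CharP.cast_eq_zero K 3
  push_cast
  linear_combination h2

theorem IsH.cube (H : IsH y h0) (j : chevE8.Idx) : rl h0 (wt j) ^ 3 = rl h0 (wt j) := by
  rw [H.2]
  generalize ex y (wt j) = n
  have h3 : ((3 : ℤ) : K) = 0 := by exact_mod_cast CharP.cast_eq_zero K 3
  obtain ⟨k, hk⟩ : (3 : ℤ) ∣ n ^ 3 - n := by
    have h : n % 3 = 0 ∨ n % 3 = 1 ∨ n % 3 = 2 := by omega
    refine Int.dvd_of_emod_eq_zero ?_
    rcases h with h | h | h <;> simp [pow_succ, Int.sub_emod, Int.mul_emod, h]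
  rw [← sub_eq_zero, ← Int.cast_pow, ← Int.cast_sub, hk, Int.cast_mul, h3, zero_mul]

theorem stepG (F : Fa y e z) (G : Fb y e z h0) (H : IsH y h0) (R : RS e h f) {a : K} (ha : a • z ≠ 0)
    (hr : h - (a • z + h0) ∈ LB K y fun l m => (l + m = 0 ∧ 1 ≤ l ∧ l ≠ 2) ∨ 1 ≤ l + m) : Goal y e z h0 b h f := by
  have hc : br e (h - (a • z + h0)) = 0 := by rw [← sub_sub]; exact F.c00 H R a
  have ht : Tor (a • z + (h0 + (h - (a • z + h0)))) := by
    rw [show a • z + (h0 + (h - (a • z + h0))) = h by abel]
    exact R.th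
  have hx : a • z ∈ LB K y fun l m => l = -1 ∧ m = 1 := Submodule.smul_mem _ _ F.zm
  have h00 : h0 ∈ LB K y fun l m => l = 0 ∧ m = 0 := inT_LB H.1 ⟨rfl, rfl⟩
  have key : h - (a • z + h0) ∈ LB K y fun l m => 1 ≤ l + m := by
    have hr' : h - (a • z + h0) ∈ LB K y fun l m => (l = 1 ∧ m = -1) ∨ 1 ≤ l + m :=
      LB_and hr (F.tt _) fun _ _ a b => by omega
    generalize h - (a • z + h0) = r at hr' hc ht
    have hs : pj y (fun l m => l = 1 ∧ m = -1) r ∈ LB K y fun l m => l = 1 ∧ m = -1 := pj_mem' r
    have hu : r - pj y (fun l m => l = 1 ∧ m = -1) r ∈ LB K y fun l m => 1 ≤ l + m :=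
      sub_pj hr' fun _ _ a b => by omega
    have hs0 : br e (pj y (fun l m => l = 1 ∧ m = -1) r) = 0 := cen_pj F.nl.mem hc
    suffices h1 : pj y (fun l m => l = 1 ∧ m = -1) r = 0 by rwa [h1, sub_zero] at hu
    generalize pj y (fun l m => l = 1 ∧ m = -1) r = s at hs hu hs0
    obtain ⟨t, rfl⟩ : ∃ t, r = s + t := ⟨r - s, by abel⟩
    rw [add_sub_cancel_left] at hu
    have hY := tor_eq ht H.1 (IsH.cube H) hx (A := fun l m => (l + m = 0 ∧ 1 ≤ l) ∨ 1 ≤ l + m)
      (B := fun l m => ¬(l = 0 ∧ m = 0)) (LB_mono hr' fun _ _ a => by omega) (fun _ _ _ _ a b => by omega)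
      (fun _ _ a => by omega) fun _ _ _ _ _ _ a b c => by omega
    have b1 : br h0 (a • z) = -(a • z) := by
      rw [isH_br H (n := -1) (LB_mono hx fun _ _ a => a.1), Int.cast_neg, Int.cast_one, neg_one_smul]
    have hz : br z s = 0 → s = 0 := G.c11 s hs hs0
    have ha0 : a ≠ 0 := left_ne_zero_of_smul ha
    have hsx : br s (a • z) = 0 → s = 0 := fun h1 => hz (by
      rw [br_smul_right, smul_eq_zero] at h1
      rw [br_anti, h1.resolve_left ha0, neg_zero])
    generalize a • z = x at hx hY b1 hsx
    have m1 : br s x ∈ LB K y fun l m => l = 0 ∧ m = 0 := LB_br hs hx fun _ _ _ _ a b => by omega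
    have m2 : br t x ∈ LB K y fun l m => 1 ≤ l + m := LB_br hu hx fun _ _ _ _ a b => by omega
    have b2 : br h0 (br s x) = 0 := by
      rw [isH_br H (n := 0) (LB_mono m1 fun _ _ a => a.1), Int.cast_zero, zero_smul]
    have m3 : br x (br x (h0 + (s + t))) ∈ LB K y fun l m => ¬(l = 0 ∧ m = 0) :=
      LB_br hx (Q := fun l m => (l = -1 ∧ m = 1) ∨ (l = 0 ∧ m = 0) ∨ 1 ≤ l + m)
        (LB_br hx (Q := fun l m => (l = 0 ∧ m = 0) ∨ (l = 1 ∧ m = -1) ∨ 1 ≤ l + m)
          (add_mem (LB_mono h00 fun _ _ a => by omega) (LB_mono hr' fun _ _ a => by omega))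
          fun _ _ _ _ a b => by omega) fun _ _ _ _ a b => by omega
    have m4 : br h0 (br t x) ∈ LB K y fun l m => ¬(l = 0 ∧ m = 0) := LB_br h00 m2 fun _ _ _ _ a b => by omega
    have m5 : br (s + t) (br s x + br t x) ∈ LB K y fun l m => ¬(l = 0 ∧ m = 0) :=
      LB_br hr' (Q := fun l m => (l = 0 ∧ m = 0) ∨ 1 ≤ l + m)
        (add_mem (LB_mono m1 fun _ _ a => by omega) (LB_mono m2 fun _ _ a => by omega)) fun _ _ _ _ a b => by omega
    have e1 : br (h0 + (s + t)) x = -x + (br s x + br t x) := by rw [br_add_left, br_add_left, b1]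
    have e2 : br s x = (x - br x (br x (h0 + (s + t))) - br (h0 + (s + t)) (br (h0 + (s + t)) x)) +
        br x (br x (h0 + (s + t))) - br t x + br h0 (br t x) + br (s + t) (br s x + br t x) := by
      rw [e1, br_add_right (h0 + (s + t)), br_negr, e1, br_add_left h0 (s + t) (br s x + br t x),
        br_add_right h0 (br s x), b2]
      abel
    refine hsx (LB_zero m1 (Q := fun l m => ¬(l = 0 ∧ m = 0)) ?_ fun _ _ a b => b a)
    rw [e2]
    exact add_mem (add_mem (sub_mem (add_mem hY m3) (LB_mono m2 fun _ _ a => by omega)) m4) m5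
  have hh : h ∈ LB K y fun l m => 0 ≤ l + m := by
    rw [← sub_add_cancel h (a • z + h0)]
    exact add_mem (LB_mono key fun _ _ a => by omega)
      (add_mem (LB_mono hx fun _ _ a => by omega) (LB_mono h00 fun _ _ a => by omega))
  exact ⟨1, act_one _, by rwa [act_one], by rw [act_one]; exact F.fin R hh, fun _ => ⟨a, ha, by rwa [act_one]⟩⟩

omit [CharP K 3] in
theorem flN : Fl (fun l m => 1 ≤ l ∧ l + m = 0) 1 0 := ⟨fun _ _ _ _ a b => by omega, fun _ _ a => by omega⟩

theorem stepF (F : Fa y e z) (G : Fb y e z h0) (H : IsH y h0) (R : RS e h f) {a : K} (ha : a • z ≠ 0)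
    (hr : h - (a • z + h0) ∈ LB K y fun l m => (l + m = 0 ∧ 1 ≤ l) ∨ 1 ≤ l + m) : Goal y e z h0 b h f := by
  refine via R (Q := fun h => h - (a • z + h0) ∈ LB K y fun l m => (l + m = 0 ∧ 1 ≤ l ∧ l ≠ 2) ∨ 1 ≤ l + m) ?_
    fun _ _ R' q => stepG F G H R' ha q
  have hc : br e (h - (a • z + h0)) = 0 := by rw [← sub_sub]; exact F.c00 H R a
  have hx : a • z ∈ LB K y fun l m => l = -1 ∧ m = 1 := Submodule.smul_mem _ _ F.zm
  have hs : pj y (fun l m => l = 2 ∧ m = -2) (h - (a • z + h0)) ∈ LB K y fun l m => l = 2 ∧ m = -2 := pj_mem' _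
  have hu : h - (a • z + h0) - pj y (fun l m => l = 2 ∧ m = -2) (h - (a • z + h0)) ∈
      LB K y fun l m => (l + m = 0 ∧ 1 ≤ l ∧ l ≠ 2) ∨ 1 ≤ l + m := sub_pj hr fun _ _ a b => by omega
  have hs0 : br e (pj y (fun l m => l = 2 ∧ m = -2) (h - (a • z + h0))) = 0 := cen_pj F.nl.mem hc
  generalize pj y (fun l m => l = 2 ∧ m = -2) (h - (a • z + h0)) = s at hs hu hs0
  refine move F.nl flN (k := 2) (by omega) (c := -s) (neg_mem (LB_mono hs fun _ _ a => by unfold Sk; omega))
    (by rw [br_negr, hs0, neg_zero]) (X := fun l m => l + m = 0 ∧ -1 ≤ l)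
    (add_mem (LB_mono hx fun _ _ a => by omega) (inT_LB H.1 (by omega))) hr ?_ (fun _ _ _ _ a b => by unfold Sk at a; omega)
    (fun _ _ _ _ a b => by unfold Sk at b; omega) (fun _ _ _ _ a b => by unfold Sk at b; omega)
    fun _ _ _ _ a b => by unfold Sk at b; omega
  have e1 : h - (a • z + h0) + br (-s) (a • z + h0) = (h - (a • z + h0) - s) - br s (a • z) := by
    rw [br_negl, br_add_right, br_anti s h0, isH_br H (n := 2) (LB_mono hs fun _ _ a => a.1), cast_two, neg_one_smul]
    abel
  rw [e1]
  exact sub_mem hu (LB_br hs hx fun _ _ _ _ a b => by omega)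

theorem stepE (F : Fa y e z) (G : Fb y e z h0) (H : IsH y h0) (R : RS e h f) {a : K} (ha : a • z ≠ 0)
    (hr : h - a • z ∈ LB K y fun l m => 0 ≤ l ∧ 0 ≤ l + m) : Goal y e z h0 b h f := by
  refine via R (Q := fun h => h - (a • z + h0) ∈ LB K y fun l m => (l + m = 0 ∧ 1 ≤ l) ∨ 1 ≤ l + m) ?_
    fun _ _ R' q => stepF F G H R' ha q
  have hc : br e (h - (a • z + h0)) = 0 := by rw [← sub_sub]; exact F.c00 H R a
  have hx : a • z ∈ LB K y fun l m => l = -1 ∧ m = 1 := Submodule.smul_mem _ _ F.zm
  have h00 : h0 ∈ LB K y fun l m => l = 0 ∧ m = 0 := inT_LB H.1 ⟨rfl, rfl⟩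
  have hr' : h - (a • z + h0) ∈ LB K y fun l m => 0 ≤ l ∧ 0 ≤ l + m := by
    rw [← sub_sub]
    exact sub_mem hr (LB_mono h00 fun _ _ a => by omega)
  have hs : pj y (fun l m => l = 0 ∧ m = 0) (h - (a • z + h0)) ∈ LB K y fun l m => l = 0 ∧ m = 0 := pj_mem' _
  have hu : h - (a • z + h0) - pj y (fun l m => l = 0 ∧ m = 0) (h - (a • z + h0)) ∈
      LB K y fun l m => (l + m = 0 ∧ 1 ≤ l) ∨ 1 ≤ l + m := sub_pj hr' fun _ _ a b => by omega
  have hs0 : br e (pj y (fun l m => l = 0 ∧ m = 0) (h - (a • z + h0))) = 0 := cen_pj F.nl.mem hc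
  generalize pj y (fun l m => l = 0 ∧ m = 0) (h - (a • z + h0)) = s at hs hu hs0
  have e0 : br e (pj y (fun l m => l = -2 ∧ m = 0) f) - h0 = s := by
    rw [br_pj F.nl.mem (Q := fun l m => l = 0 ∧ m = 0) (fun _ _ _ _ a b => by omega) (fun _ _ _ _ a b => by omega),
      R.ef, sub_eq_iff_eq_add]
    refine pj_eq (add_mem hs h00) (Q := fun l m => ¬(l = 0 ∧ m = 0)) ?_ fun _ _ a b => b a
    rw [show h - (s + h0) = (h - (a • z + h0) - s) + a • z by abel]
    exact add_mem (LB_mono hu fun _ _ a => by omega) (LB_mono hx fun _ _ a => by omega)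
  obtain ⟨w, hw, w0, w1⟩ := G.i0 _ (pj_mem' f) (by rw [e0, hs0])
  rw [e0] at w1
  have hw' : -a⁻¹ • w ∈ LB K y fun l m => l = 1 ∧ m = -1 := Submodule.smul_mem _ _ hw
  refine move F.nl flN (k := 1) le_rfl (c := -a⁻¹ • w) (LB_mono hw' fun _ _ a => by unfold Sk; omega)
    (by rw [br_smul_right, w0, smul_zero]) (X := fun l m => l + m = 0 ∧ -1 ≤ l)
    (add_mem (LB_mono hx fun _ _ a => by omega) (inT_LB H.1 (by omega))) hr' ?_ (fun _ _ _ _ a b => by unfold Sk at a; omega)
    (fun _ _ _ _ a b => by unfold Sk at b; omega) (fun _ _ _ _ a b => by unfold Sk at b; omega)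
    fun _ _ _ _ a b => by unfold Sk at b; omega
  have e1 : h - (a • z + h0) + br (-a⁻¹ • w) (a • z + h0) = (h - (a • z + h0) - s) + br (-a⁻¹ • w) h0 := by
    rw [br_add_right, br_inv (left_ne_zero_of_smul ha), w1]
    abel
  rw [e1]
  exact add_mem hu (LB_br hw' h00 fun _ _ _ _ a b => by omega)

theorem stepD (F : Fa y e z) (G : b → Fb y e z h0) (H : IsH y h0) (R : RS e h f) {a : K} (ha : a • z ≠ 0)
    (hr : h - a • z ∈ LB K y fun l m => (l = 0 ∧ 0 ≤ m) ∨ 1 ≤ l) : Goal y e z h0 b h f := by
  have hx : a • z ∈ LB K y fun l m => l = -1 ∧ m = 1 := Submodule.smul_mem _ _ F.zm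
  have key : h - a • z ∈ LB K y fun l m => 0 ≤ l ∧ 0 ≤ l + m := by
    have hc := F.c00 H R a
    have ht : Tor (a • z + (0 + (h - a • z))) := by
      rw [show a • z + (0 + (h - a • z)) = h by abel]
      exact R.th
    generalize h - a • z = r at hr hc ht
    have hs : pj y (fun l m => l = 1 ∧ m ≤ -2) r ∈ LB K y fun l m => l = 1 ∧ m ≤ -2 := pj_mem' r
    have hu : r - pj y (fun l m => l = 1 ∧ m ≤ -2) r ∈ LB K y fun l m => 0 ≤ l ∧ 0 ≤ l + m :=
      LB_and (sub_pj hr (Q := fun l m => ((l = 0 ∧ 0 ≤ m) ∨ 1 ≤ l) ∧ ¬(l = 1 ∧ m ≤ -2)) fun _ _ a b => ⟨a, b⟩) (F.tt _)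
        fun _ _ a b => by omega
    have hs0 : br e (pj y (fun l m => l = 1 ∧ m ≤ -2) r) = 0 := cenp H F.nl.mem hc (by omega)
    suffices h1 : pj y (fun l m => l = 1 ∧ m ≤ -2) r = 0 by rwa [h1, sub_zero] at hu
    generalize pj y (fun l m => l = 1 ∧ m ≤ -2) r = s at hs hu hs0
    have hY := tor_eq ht (fun _ => rfl) (fun j => by rw [TwoH.rl_zero]; simp) hx hr
      (B := fun l m => ¬(l = -1 ∧ m ≤ 0)) (fun _ _ _ _ a b => by omega)
      (fun _ _ a => by omega) fun _ _ _ _ _ _ a b c => by omega
    rw [zero_add] at hY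
    have ha0 : a ≠ 0 := left_ne_zero_of_smul ha
    have hsx : br (a • z) (br (a • z) s) = 0 → s = 0 := fun h1 => F.c1 s hs hs0 (by
      rw [br_smul_left, br_smul_left, br_smul_right, smul_eq_zero, smul_eq_zero] at h1
      exact (h1.resolve_left ha0).resolve_left ha0)
    generalize a • z = x at hx hY hsx
    have m1 : br x (br x s) ∈ LB K y fun l m => l = -1 ∧ m ≤ 0 :=
      LB_br hx (Q := fun l m => l = 0 ∧ m ≤ -1) (LB_br hx hs fun _ _ _ _ a b => by omega) fun _ _ _ _ a b => by omega
    have m2 : br x (br x (r - s)) ∈ LB K y fun l m => ¬(l = -1 ∧ m ≤ 0) :=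
      LB_br hx (Q := fun l m => 0 ≤ l + m) (LB_br hx hu fun _ _ _ _ a b => by omega) fun _ _ _ _ a b => by omega
    have m3 : br r (br r x) ∈ LB K y fun l m => ¬(l = -1 ∧ m ≤ 0) :=
      LB_br hr (Q := fun l m => (l = -1 ∧ 1 ≤ m) ∨ 0 ≤ l) (LB_br hr hx fun _ _ _ _ a b => by omega)
        fun _ _ _ _ a b => by omega
    have e2 : br x (br x s) = x - br x (br x (r - s)) - br r (br r x) - (x - br x (br x r) - br r (br r x)) := by
      rw [br_sub_right, br_sub_right]
      abel
    refine hsx (LB_zero m1 (Q := fun l m => ¬(l = -1 ∧ m ≤ 0)) ?_ fun _ _ a b => b a)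
    rw [e2]
    exact sub_mem (sub_mem (sub_mem (LB_mono hx fun _ _ a => by omega) m2) m3) hY
  by_cases hb : b
  · exact stepE F (G hb) H R ha key
  · have hh : h ∈ LB K y fun l m => 0 ≤ l + m := by
      rw [← sub_add_cancel h (a • z)]
      exact add_mem (LB_mono key fun _ _ a => a.2) (LB_mono hx fun _ _ a => by omega)
    exact ⟨1, act_one _, by rwa [act_one], by rw [act_one]; exact F.fin R hh, fun h => absurd h hb⟩

theorem stepC (F : Fa y e z) (G : b → Fb y e z h0) (H : IsH y h0) (R : RS e h f) {a : K} (ha : a • z ≠ 0)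
    (hr : h - a • z ∈ LB K y fun l _ => 0 ≤ l) : Goal y e z h0 b h f := by
  refine via R (Q := fun h => h - a • z ∈ LB K y fun l m => (l = 0 ∧ 0 ≤ m) ∨ 1 ≤ l) ?_
    fun _ _ R' q => stepD F G H R' ha q
  have hu : h - a • z - pj y (fun l m => l = 0 ∧ m < 0) (h - a • z) ∈ LB K y fun l m => (l = 0 ∧ 0 ≤ m) ∨ 1 ≤ l :=
    sub_pj hr fun _ _ a b => by omega
  obtain ⟨w, hw, w0, w1⟩ := F.c0 _ (pj_mem' (h - a • z)) (cenp H F.nl.mem (F.c00 H R a) (by omega))
  refine move F.nl (S := fun l _ => 1 ≤ l) (α := 1) (β := 0) ⟨fun _ _ _ _ a b => by omega, fun _ _ a => by omega⟩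
    (k := 1) le_rfl (c := -a⁻¹ • w) (Submodule.smul_mem _ _ (LB_mono hw fun _ _ a => by unfold Sk; omega))
    (by rw [br_smul_right, w0, smul_zero]) (Submodule.smul_mem _ _ F.zm) hr ?_
    (fun _ _ _ _ a b => by unfold Sk at a; omega)
    (fun _ _ _ _ a b => by unfold Sk at b; omega) (fun _ _ _ _ a b => by unfold Sk at b; omega)
    fun _ _ _ _ a b => by unfold Sk at b; omega
  rwa [br_inv (left_ne_zero_of_smul ha), w1, ← sub_eq_add_neg]

omit [CharP K 3] in
theorem stepB1 (F : Fa y e z) (H : IsH y h0) (R : RS e h f) {a : K} (ha : a • z ≠ 0) {k : ℤ} (hk : k = 1 ∨ k = 2)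
    (hr : h - a • z ∈ LB K y fun l m => 0 ≤ l ∨ (l = -1 ∧ m ≤ 1 - k)) :
    ∃ u : G8 K, act u e = e ∧ act u h - a • z ∈ LB K y fun l m => 0 ≤ l ∨ (l = -1 ∧ m ≤ -k) := by
  have hu : h - a • z - pj y (fun l m => l = -1 ∧ m = 1 - k) (h - a • z) ∈
      LB K y fun l m => 0 ≤ l ∨ (l = -1 ∧ m ≤ -k) := sub_pj hr fun _ _ a b => by omega
  obtain ⟨w, hw, w0, w1⟩ := F.dn k hk _ (pj_mem' (h - a • z)) (cenp H F.nl.mem (F.c00 H R a) (by omega))
  refine move F.nl (S := fun l m => l = 0 ∧ m ≤ -1) (α := 0) (β := -1)
    ⟨fun _ _ _ _ a b => by omega, fun _ _ a => by omega⟩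
    (k := k) (by omega) (c := -a⁻¹ • w) (Submodule.smul_mem _ _ (LB_mono hw fun _ _ a => by unfold Sk; omega))
    (by rw [br_smul_right, w0, smul_zero]) (Submodule.smul_mem _ _ F.zm) hr ?_
    (fun _ _ _ _ a b => by unfold Sk at a; omega)
    (fun _ _ _ _ a b => by unfold Sk at b; omega) (fun _ _ _ _ a b => by unfold Sk at b; omega)
    fun _ _ _ _ a b => by unfold Sk at b; omega
  rwa [br_inv (left_ne_zero_of_smul ha), w1, ← sub_eq_add_neg]

theorem stepB (F : Fa y e z) (G : b → Fb y e z h0) (H : IsH y h0) (R : RS e h f) {x : L8 K} (x0 : x ≠ 0)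
    (hx : x ∈ LB K y fun l m => l = -1 ∧ m = 1) (hr : h - x ∈ LB K y fun l m => ¬(l = -1 ∧ m = 1)) :
    Goal y e z h0 b h f := by
  have h1 : pj y (fun l m => l = -1 ∧ m = 1) h = x := pj_eq hx hr fun _ _ a b => b a
  obtain ⟨a, rfl⟩ := F.k1 x (LB_mono hx fun _ _ a => by omega) (by
    rw [← h1]
    exact cenp H F.nl.mem (cen0 H (LB_mono F.nl.mem fun _ _ a => a.1) R.toSl2) (by omega))
  have hb : ∀ h f, RS e h f → h - a • z ∈ LB K y fun l m => 0 ≤ l ∨ (l = -1 ∧ -1 ≤ m ∧ m ≤ 1) := fun h f R =>
    sub_mem (F.base H R) (LB_mono hx fun _ _ a => by omega)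
  refine via R (Q := fun h => h - a • z ∈ LB K y fun l m => 0 ≤ l ∨ (l = -1 ∧ m ≤ -1))
    (stepB1 F H R x0 (Or.inl rfl) (LB_and hr (hb _ _ R) fun _ _ a b => by omega)) fun h f R q => ?_
  refine via R (Q := fun h => h - a • z ∈ LB K y fun l m => 0 ≤ l ∨ (l = -1 ∧ m ≤ -2))
    (stepB1 F H R x0 (Or.inr rfl) (LB_mono q fun _ _ a => by omega)) fun h f R q => ?_
  exact stepC F G H R x0 (LB_and q (hb _ _ R) fun _ _ a b => by omega)

theorem stepA (F : Fa y e z) (G : b → Fb y e z h0) (H : IsH y h0) (R : RS e h f) {k : ℤ} (hk : k = 1 ∨ k = 2)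
    (hh : h ∈ LB K y fun l m => 0 ≤ l ∨ (l = -1 ∧ 1 - k ≤ m ∧ m ≤ 0))
    (h1 : pj y (fun l m => l = -1 ∧ m = 1 - k) h ≠ 0) : Goal y e z h0 b h f := by
  have hs : pj y (fun l m => l = -1 ∧ m = 1 - k) h ∈ LB K y fun l m => l = -1 ∧ m = 1 - k := pj_mem' _
  have hu : h - pj y (fun l m => l = -1 ∧ m = 1 - k) h ∈ LB K y fun l m => 0 ≤ l ∨ (l = -1 ∧ 1 - k < m) :=
    sub_pj hh fun _ _ a b => by omega
  obtain ⟨w, hw, w0, w1⟩ := F.up k hk _ hs
    (cenp H F.nl.mem (cen0 H (LB_mono F.nl.mem fun _ _ a => a.1) R.toSl2) (by omega)) h1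
  generalize pj y (fun l m => l = -1 ∧ m = 1 - k) h = s at hs hu w1
  refine via R (Q := fun h => h - br w s ∈ LB K y fun l m => ¬(l = -1 ∧ m = 1)) ?_
    fun _ _ R' q => stepB F G H R' w1 (LB_br hw hs fun _ _ _ _ a b => by omega) q
  obtain ⟨u, u1, u2⟩ := cu F.nl (S := fun l m => l = 0 ∧ 1 ≤ m) (α := 0) (β := 1)
    ⟨fun _ _ _ _ a b => by omega, fun _ _ a => by omega⟩ (k := k) (by omega)
    (LB_mono hw fun _ _ a => by unfold Sk; omega) w0
  refine ⟨u, u1, ?_⟩
  have r1 := u2 _ (fun l m => 0 ≤ l ∨ (l = -1 ∧ 2 ≤ m)) (fun _ _ _ _ a b => by unfold Sk at b; omega)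
    (fun _ _ _ _ a b => by unfold Sk at b; omega) h hh
  have e1 : act u h - br w s = (act u h - h - br w h) + h + br w (h - s) := by
    rw [br_sub_right]
    abel
  show act u h - br w s ∈ _
  rw [e1]
  exact add_mem (add_mem (LB_mono r1 fun _ _ a => by omega) (LB_mono hh fun _ _ a => by omega))
    (LB_br hw hu fun _ _ _ _ a b => by omega)

/-- the alternative -/
theorem goal (F : Fa y e z) (G : b → Fb y e z h0) (H : IsH y h0) (R : RS e h f) :
    (h ∈ LB K y fun l _ => 0 ≤ l) ∨ Goal y e z h0 b h f := by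
  have hb := F.base H R
  by_cases h1 : pj y (fun l m => l = -1 ∧ m = 1) h = 0
  · by_cases h2 : pj y (fun l m => l = -1 ∧ m = 1 - 2) h = 0
    · have h3 : h ∈ LB K y fun l m => 0 ≤ l ∨ (l = -1 ∧ 1 - 1 ≤ m ∧ m ≤ 0) :=
        LB_and (mem_of_pj hb h1 (Q := fun l m => 0 ≤ l ∨ (l = -1 ∧ m ≤ 0)) fun _ _ a b => by omega)
          (mem_of_pj hb h2 (Q := fun l m => 0 ≤ l ∨ (l = -1 ∧ 0 ≤ m)) fun _ _ a b => by omega) fun _ _ a b => by omega
      by_cases h4 : pj y (fun l m => l = -1 ∧ m = 1 - 1) h = 0
      · exact Or.inl (mem_of_pj h3 h4 fun _ _ a b => by omega)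
      · exact Or.inr (stepA F G H R (Or.inl rfl) h3 h4)
    · exact Or.inr (stepA F G H R (Or.inr rfl) (mem_of_pj hb h1 fun _ _ a b => by omega) h2)
  · exact Or.inr (stepB F G H R h1 (pj_mem' h) (sub_pj (mem_top h) fun _ _ _ a => a))

end Cfsg.Agent.E8A.C63.Wt
end

-- part: E8A/C63/ModC
section
prune_inst 0x7f021205444208002000018801440001c669a0000000048800008a0080405c1ae0220060041a6200018009a844c2034006811000030426000c00e000800011901a088005204a248a10c460019010080000000000000020000000000000000010004000000000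
set_option linter.all false
open scoped Cfsg.Agent.FastGrp

-- part: E8A/C63/ModA
section
/-!
# `A₆` in characteristic 3: generators and the small simple modules (helper42)

* `gen : GEN`, `Md.ind` (induction over the generators), `Md.invR_of`;
* `t3b : T3B`, `t4b : T4B`; `T3.zero`, `T4.self`, `T4.neg`, `T4.all_mem`, `T4.zero`; `Md.fix2`.
-/

set_option autoImplicit false
set_option maxRecDepth 100000

namespace Cfsg.Agent.E8A.C63

open Cfsg Cfsg.Lie Module

universe u

theorem gen : GEN := by
  have h := H994.TwoGen.Chain.closure_eq (x := ((uu * dd : Alt 6) : Equiv.Perm (Fin 6)))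
    (y := ((yy : Alt 6) : Equiv.Perm (Fin 6))) (K := alternatingGroup (Fin 6)) (uu * dd).2 yy.2
    [(1, [[], [0], [1], [2], [3], [1, 1]]), (2, [[], [0, 1, 0], [0, 3, 0], [0, 1, 1, 2], [2, 1, 1, 0]]),
      (4, [[], [1, 0, 3], [1, 2, 3], [3, 0, 1, 1, 2, 3]]), (0, [[], [3, 0, 1], [3, 2, 1]])] (by decide +kernel)
    (by rw [nat_card_alternatingGroup, Nat.card_eq_fintype_card, Fintype.card_fin]; decide)
  refine eq_top_iff.2 fun a _ => ?_
  have h1 : Subgroup.closure ({((uu * dd : Alt 6) : Equiv.Perm (Fin 6)), ((yy : Alt 6) : Equiv.Perm (Fin 6))} :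
      Set (Equiv.Perm (Fin 6))) ≤ (Subgroup.closure ({uu, yy, dd} : Set (Alt 6))).map (alternatingGroup (Fin 6)).subtype := by
    rw [Subgroup.closure_le]
    rintro z (rfl | rfl)
    · exact ⟨uu * dd, Subgroup.mul_mem _ (Subgroup.subset_closure (by simp)) (Subgroup.subset_closure (by simp)), rfl⟩
    · exact ⟨yy, Subgroup.subset_closure (by simp), rfl⟩
  rw [h] at h1
  obtain ⟨b, hb, e⟩ := h1 a.2
  rwa [← Subtype.ext e]

namespace Md

/-- induction over the generators -/
theorem ind {p : Alt 6 → Prop} (h1 : p 1) (hm : ∀ a b, p a → p b → p (a * b)) (hu : p uu) (hy : p yy) (hd : p dd)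
    (a : Alt 6) : p a := by
  have ha : a ∈ Subgroup.closure ({uu, yy, dd} : Set (Alt 6)) := by rw [gen]; trivial
  have hp : ∀ b, p b → ∀ n : ℕ, p (b ^ n) := fun b hb n => by
    induction n with
    | zero => rwa [pow_zero]
    | succ n ih => rw [pow_succ]; exact hm _ _ ih hb
  induction ha using Subgroup.closure_induction with
  | mem x hx =>
    rcases hx with rfl | rfl | rfl
    · exact hu
    · exact hy
    · exact hd
  | one => exact h1
  | mul x y _ _ hx hy => exact hm _ _ hx hy
  | inv x _ hx =>
    have h2 : x⁻¹ = x ^ (orderOf x - 1) := by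
      rw [inv_eq_iff_mul_eq_one, ← pow_succ', Nat.sub_add_cancel (orderOf_pos x), pow_orderOf_eq_one]
    rw [h2]
    exact hp x hx _

variable {K : Type u} [Field K] {V : Type u} [AddCommGroup V] [Module K V] {ρ : Representation K (Alt 6) V}

theorem rho_mul (a b : Alt 6) (v : V) : ρ (a * b) v = ρ a (ρ b v) := by rw [map_mul]; rfl

theorem rho_one (v : V) : ρ 1 v = v := by rw [map_one]; rfl

theorem invR_of {U : Submodule K V} (hu : ∀ v ∈ U, ρ uu v ∈ U) (hy : ∀ v ∈ U, ρ yy v ∈ U) (hd : ∀ v ∈ U, ρ dd v ∈ U) :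
    InvR ρ U :=
  ind (p := fun a => ∀ v ∈ U, ρ a v ∈ U) (fun v hv => by rwa [rho_one])
    (fun a b ha hb v hv => by rw [rho_mul]; exact ha _ (hb v hv)) hu hy hd

theorem fix_of {v : V} (hu : ρ uu v = v) (hy : ρ yy v = v) (hd : ρ dd v = v) (a : Alt 6) : ρ a v = v :=
  ind (p := fun a => ρ a v = v) (rho_one v) (fun a b ha hb => by rw [rho_mul, hb, ha]) hu hy hd a

theorem span_inv {S : Set V} {f : V →ₗ[K] V} (h : ∀ x ∈ S, f x ∈ Submodule.span K S) :
    ∀ v ∈ Submodule.span K S, f v ∈ Submodule.span K S :=
  fun _ hv => (Submodule.span_le (p := (Submodule.span K S).comap f)).2 h hv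

theorem three [CharP K 3] (v : V) : v + v + v = 0 := by
  have h : (3 : K) = 0 := CharP.cast_eq_zero K 3
  calc v + v + v = (3 : K) • v := by module
    _ = 0 := by rw [h, zero_smul]

/-- an endomorphism of order three has a fixed vector -/
theorem fix1 [CharP K 3] {a : V →ₗ[K] V} (ha : ∀ v, a (a (a v)) = v) {N : Submodule K V} (hN : N ≠ ⊥)
    (hi : ∀ v ∈ N, a v ∈ N) : ∃ v ∈ N, v ≠ 0 ∧ a v = v := by
  obtain ⟨v, hv, h0⟩ := (Submodule.ne_bot_iff _).1 hN
  by_cases h1 : a v - v = 0
  · exact ⟨v, hv, h0, sub_eq_zero.1 h1⟩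
  have m1 : a v - v ∈ N := N.sub_mem (hi v hv) hv
  by_cases h2 : a (a v - v) - (a v - v) = 0
  · exact ⟨_, m1, h1, sub_eq_zero.1 h2⟩
  refine ⟨_, N.sub_mem (hi _ m1) m1, h2, ?_⟩
  simp only [map_sub, ha]
  linear_combination (norm := abel1) three (K := K) (a v) - three (K := K) (a (a v))

/-- two commuting endomorphisms of order three have a common fixed vector -/
theorem fix2 [CharP K 3] {a b : V →ₗ[K] V} (ha : ∀ v, a (a (a v)) = v) (hb : ∀ v, b (b (b v)) = v)
    (hab : ∀ v, a (b v) = b (a v)) {N : Submodule K V} (hN : N ≠ ⊥) (hi : ∀ v ∈ N, a v ∈ N) (hj : ∀ v ∈ N, b v ∈ N) :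
    ∃ v ∈ N, v ≠ 0 ∧ a v = v ∧ b v = v := by
  obtain ⟨v, hv, h0, h1⟩ := fix1 ha hN hi
  obtain ⟨w, hw, h2, h3⟩ := fix1 hb (N := N ⊓ LinearMap.eqLocus a LinearMap.id)
    ((Submodule.ne_bot_iff _).2 ⟨v, ⟨hv, h1⟩, h0⟩) fun x hx => ⟨hj x hx.1, by
      have h4 : a x = x := hx.2
      show a (b x) = b x
      rw [hab, h4]⟩
  exact ⟨w, hw.1, h2, hw.2, h3⟩

theorem two_trans {i j k l : Fin 6} (h : i ≠ j) (h' : k ≠ l) :
    ∃ a : Alt 6, (a : Equiv.Perm (Fin 6)) i = k ∧ (a : Equiv.Perm (Fin 6)) j = l := by
  have h1 := alternatingGroup.isMultiplyPretransitive (Fin 6)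
  have h2 : MulAction.IsMultiplyPretransitive (alternatingGroup (Fin 6)) (Fin 6) 2 :=
    MulAction.isMultiplyPretransitive_of_le (n := Nat.card (Fin 6) - 2) (by simp) (Nat.sub_le _ _)
  exact MulAction.is_two_pretransitive_iff.1 h2 h h'

end Md

open Md

variable {K : Type u} [Field K] {V : Type u} [AddCommGroup V] [Module K V] {ρ : Representation K (Alt 6) V}

/-! ### the three-dimensional modules -/

theorem T3.all_mem {ι : K} {e h f : V} (H : T3 ρ ι e h f) {U : Submodule K V} (hU : InvR ρ U) (he : e ∈ U) :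
    h ∈ U ∧ f ∈ U := by
  have hf : f ∈ U := by
    have h1 := U.neg_mem (hU dd e he)
    rwa [H.de, neg_neg] at h1
  refine ⟨?_, hf⟩
  have h2 := U.add_mem (U.sub_mem (hU uu f hf) hf) he
  rwa [H.uf, show f + h - e - f + e = h by abel] at h2

theorem Md.invR_bot : InvR ρ ⊥ := fun a v hv => by rw [(Submodule.mem_bot K).1 hv, map_zero]; exact Submodule.zero_mem _

theorem T3.zero {ι : K} {e h f : V} (H : T3 ρ ι e h f) (he : e = 0) : h = 0 ∧ f = 0 := H.all_mem invR_bot he

theorem T3.key {ι : K} {e h f : V} (H : T3 ρ ι e h f) {U : Submodule K V} (hU : InvR ρ U) {a b c : K}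
    (hw : a • e + b • h + c • f ∈ U) : e ∈ U ∨ (a = 0 ∧ b = 0 ∧ c = 0) := by
  have h1 := U.sub_mem (hU uu _ hw) hw
  have e1 : ρ uu (a • e + b • h + c • f) - (a • e + b • h + c • f) = (b - c) • e + c • h := by
    simp only [map_add, map_smul, H.ue, H.uh, H.uf]; module
  rw [e1] at h1
  have h2 := U.sub_mem (hU uu _ h1) h1
  have e2 : ρ uu ((b - c) • e + c • h) - ((b - c) • e + c • h) = c • e := by
    simp only [map_add, map_smul, H.ue, H.uh]; module
  rw [e2] at h2
  by_cases hc : c = 0
  · subst hc
    rw [zero_smul, add_zero, sub_zero] at h1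
    by_cases hb : b = 0
    · subst hb
      rw [zero_smul, zero_smul, add_zero, add_zero] at hw
      by_cases ha : a = 0
      · exact Or.inr ⟨ha, rfl, rfl⟩
      · exact Or.inl ((U.smul_mem_iff ha).1 hw)
    · exact Or.inl ((U.smul_mem_iff hb).1 h1)
  · exact Or.inl ((U.smul_mem_iff hc).1 h2)

theorem t3b : T3B.{u} := by
  intro K _ _ V _ _ ρ ι e h f H h0
  have me : e ∈ Submodule.span K ({e, h, f} : Set V) := Submodule.subset_span (by simp)
  have mh : h ∈ Submodule.span K ({e, h, f} : Set V) := Submodule.subset_span (by simp)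
  have mf : f ∈ Submodule.span K ({e, h, f} : Set V) := Submodule.subset_span (by simp)
  refine ⟨?_, invR_of (span_inv ?_) (span_inv ?_) (span_inv ?_), fun U hle hU hi => le_antisymm hle ?_⟩
  · rw [Fintype.linearIndependent_iff]
    intro c hc
    rw [Fin.sum_univ_three] at hc
    rcases H.key invR_bot (a := c 0) (b := c 1) (c := c 2) hc with h1 | h1
    · exact absurd h1 h0
    · intro i
      fin_cases i
      · exact h1.1
      · exact h1.2.1
      · exact h1.2.2
  · rintro x (rfl | rfl | rfl)
    · rwa [H.ue]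
    · rw [H.uh]; exact Submodule.add_mem _ mh me
    · rw [H.uf]; exact Submodule.sub_mem _ (Submodule.add_mem _ mf mh) me
  · rintro x (rfl | rfl | rfl)
    · rw [H.ye]; exact Submodule.smul_mem _ _ me
    · rwa [H.yh]
    · rw [H.yf]; exact Submodule.smul_mem _ _ mf
  · rintro x (rfl | rfl | rfl)
    · rw [H.de]; exact Submodule.neg_mem _ mf
    · rw [H.dh]; exact Submodule.neg_mem _ mh
    · rw [H.df]; exact Submodule.neg_mem _ me
  · obtain ⟨w, hw, hw0⟩ := (Submodule.ne_bot_iff _).1 hU
    obtain ⟨a, b, c, rfl⟩ := Submodule.mem_span_triple.1 (hle hw)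
    rcases H.key hi hw with h1 | ⟨rfl, rfl, rfl⟩
    · rw [Submodule.span_le]
      rintro x (rfl | rfl | rfl)
      · exact h1
      · exact (H.all_mem hi h1).1
      · exact (H.all_mem hi h1).2
    · exact absurd (by simp) hw0

/-! ### the four-dimensional module -/

variable {r : Fin 6 → Fin 6 → V}

theorem T4.self (H : T4 ρ r) (i : Fin 6) : r i i = 0 := by
  have h := H.add i i i
  exact add_eq_left.1 h

theorem T4.sub (H : T4 ρ r) (i j : Fin 6) : r i j = r 0 j - r 0 i := by rw [← H.add 0 i j]; abel

theorem T4.five (H : T4 ρ r) : r 0 5 = -(r 0 1 + r 0 2 + r 0 3 + r 0 4) := by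
  have h := H.sum 0
  rw [Fin.sum_univ_six, H.self, zero_add] at h
  exact eq_neg_of_add_eq_zero_right h

theorem T4.all_mem (H : T4 ρ r) {U : Submodule K V} (hU : InvR ρ U) {i j : Fin 6} (hij : i ≠ j) (h : r i j ∈ U)
    (k l : Fin 6) : r k l ∈ U := by
  by_cases hk : k = l
  · rw [hk, H.self]; exact U.zero_mem
  obtain ⟨a, h1, h2⟩ := two_trans hij hk
  have h3 := hU a _ h
  rwa [H.act, h1, h2] at h3

theorem T4.zero (H : T4 ρ r) {i j : Fin 6} (hij : i ≠ j) (h : r i j = 0) (k l : Fin 6) : r k l = 0 :=
  H.all_mem invR_bot hij h k l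

theorem T4.step (H : T4 ρ r) {U : Submodule K V} (hU : InvR ρ U) (g g' : Alt 6) {i j l m : Fin 6}
    (hg : (g : Equiv.Perm (Fin 6)) 0 = 0 ∧ (g : Equiv.Perm (Fin 6)) i = j ∧ (g : Equiv.Perm (Fin 6)) j = 5 ∧
      (g : Equiv.Perm (Fin 6)) l = l ∧ (g : Equiv.Perm (Fin 6)) m = m ∧ (g' : Equiv.Perm (Fin 6)) 0 = 0 ∧
      (g' : Equiv.Perm (Fin 6)) i = l ∧ (g' : Equiv.Perm (Fin 6)) j = j ∧ (g' : Equiv.Perm (Fin 6)) 5 = 5 ∧ l ≠ i)
    {a b c d : K} (ha : a ≠ 0) (hw : a • r 0 i + b • r 0 j + c • r 0 l + d • r 0 m ∈ U) (k k' : Fin 6) : r k k' ∈ U := by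
  obtain ⟨g0, gi, gj, gl, gm, k0, ki, kj, k5, hli⟩ := hg
  have h1 := U.sub_mem (hU g _ hw) hw
  have e1 : ρ g (a • r 0 i + b • r 0 j + c • r 0 l + d • r 0 m) - (a • r 0 i + b • r 0 j + c • r 0 l + d • r 0 m) =
      (a - b) • r 0 j + b • r 0 5 - a • r 0 i := by
    simp only [map_add, map_smul, H.act, g0, gi, gj, gl, gm]; module
  rw [e1] at h1
  have h2 := U.sub_mem (hU g' _ h1) h1
  have e2 : ρ g' ((a - b) • r 0 j + b • r 0 5 - a • r 0 i) - ((a - b) • r 0 j + b • r 0 5 - a • r 0 i) = a • r l i := by
    simp only [map_add, map_sub, map_smul, H.act, k0, ki, kj, k5]; rw [H.sub l i]; module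
  rw [e2] at h2
  exact H.all_mem hU hli ((U.smul_mem_iff ha).1 h2) k k'

/-- a three-cycle -/
def Md.c3 (i j k : Fin 6) (h : i ≠ j ∧ j ≠ k) : Alt 6 := ⟨Equiv.swap i j * Equiv.swap j k, by
  rw [Equiv.Perm.mem_alternatingGroup, map_mul, Equiv.Perm.sign_swap h.1, Equiv.Perm.sign_swap h.2]; decide⟩

theorem T4.key (H : T4 ρ r) {U : Submodule K V} (hU : InvR ρ U) {a b c d : K}
    (hw : a • r 0 1 + b • r 0 2 + c • r 0 3 + d • r 0 4 ∈ U) : (∀ k l, r k l ∈ U) ∨ (a = 0 ∧ b = 0 ∧ c = 0 ∧ d = 0) := by
  by_cases ha : a = 0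
  · by_cases hb : b = 0
    · by_cases hc : c = 0
      · by_cases hd : d = 0
        · exact Or.inr ⟨ha, hb, hc, hd⟩
        · exact Or.inl (H.step hU (c3 4 1 5 (by decide)) (c3 4 2 3 (by decide)) (i := 4) (j := 1) (l := 2) (m := 3)
            (by decide) (b := a) (c := b) (d := c) hd (by convert hw using 1; abel))
      · exact Or.inl (H.step hU (c3 3 1 5 (by decide)) (c3 3 2 4 (by decide)) (i := 3) (j := 1) (l := 2) (m := 4)
          (by decide) (b := a) (c := b) (d := d) hc (by convert hw using 1; abel))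
    · exact Or.inl (H.step hU (c3 2 1 5 (by decide)) (c3 2 3 4 (by decide)) (i := 2) (j := 1) (l := 3) (m := 4)
        (by decide) (b := a) (c := c) (d := d) hb (by convert hw using 1; abel))
  · exact Or.inl (H.step hU (c3 1 2 5 (by decide)) (c3 1 3 4 (by decide)) (i := 1) (j := 2) (l := 3) (m := 4)
      (by decide) ha hw)

theorem T4.mem_span (H : T4 ρ r) (i j : Fin 6) : r i j ∈ Submodule.span K ({r 0 1, r 0 2, r 0 3, r 0 4} : Set V) := by
  have m1 : r 0 1 ∈ Submodule.span K ({r 0 1, r 0 2, r 0 3, r 0 4} : Set V) := Submodule.subset_span (by simp)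
  have m2 : r 0 2 ∈ Submodule.span K ({r 0 1, r 0 2, r 0 3, r 0 4} : Set V) := Submodule.subset_span (by simp)
  have m3 : r 0 3 ∈ Submodule.span K ({r 0 1, r 0 2, r 0 3, r 0 4} : Set V) := Submodule.subset_span (by simp)
  have m4 : r 0 4 ∈ Submodule.span K ({r 0 1, r 0 2, r 0 3, r 0 4} : Set V) := Submodule.subset_span (by simp)
  have h : ∀ k, r 0 k ∈ Submodule.span K ({r 0 1, r 0 2, r 0 3, r 0 4} : Set V) := fun k => by
    fin_cases k
    · exact H.self 0 ▸ Submodule.zero_mem _
    · exact m1
    · exact m2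
    · exact m3
    · exact m4
    · exact H.five ▸ Submodule.neg_mem _ (Submodule.add_mem _ (Submodule.add_mem _ (Submodule.add_mem _ m1 m2) m3) m4)
  rw [H.sub i j]
  exact Submodule.sub_mem _ (h j) (h i)

theorem T4.invR (H : T4 ρ r) : InvR ρ (Submodule.span K ({r 0 1, r 0 2, r 0 3, r 0 4} : Set V)) := fun a =>
  span_inv (by rintro x (rfl | rfl | rfl | rfl) <;> (rw [H.act]; exact H.mem_span _ _))

theorem Md.mem_span4 {x y z t w : V} (h : w ∈ Submodule.span K ({x, y, z, t} : Set V)) :
    ∃ a b c d : K, a • x + b • y + c • z + d • t = w := by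
  obtain ⟨a, w', hw', rfl⟩ := Submodule.mem_span_insert.1 h
  obtain ⟨b, c, d, rfl⟩ := Submodule.mem_span_triple.1 hw'
  exact ⟨a, b, c, d, by abel⟩

theorem t4b : T4B.{u} := by
  intro K _ _ V _ _ ρ r H h0
  refine ⟨?_, H.mem_span, H.invR, fun U hle hU hi => le_antisymm hle ?_⟩
  · rw [Fintype.linearIndependent_iff]
    intro c hc
    rw [Fin.sum_univ_four] at hc
    rcases H.key invR_bot (a := c 0) (b := c 1) (c := c 2) (d := c 3) hc with h1 | h1
    · exact absurd (h1 0 1) h0
    · intro i
      fin_cases i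
      · exact h1.1
      · exact h1.2.1
      · exact h1.2.2.1
      · exact h1.2.2.2
  · obtain ⟨w, hw, hw0⟩ := (Submodule.ne_bot_iff _).1 hU
    obtain ⟨a, b, c, d, rfl⟩ := mem_span4 (hle hw)
    rcases H.key hi hw with h1 | ⟨rfl, rfl, rfl, rfl⟩
    · rw [Submodule.span_le]
      rintro x (rfl | rfl | rfl | rfl) <;> exact h1 _ _
    · exact absurd (by simp) hw0

end Cfsg.Agent.E8A.C63
end

-- part: E8A/C63/ModB
section
/-!
# `A₆` in characteristic 3: the modules induced from the Borel subgroup (helper42)

* `Md.Hw ρ η v` : a highest weight vector; `Md.rr ρ v i` : its ten translates; `Md.exists_hw`;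
* `Md.H9 ρ v` : the generator of a nine-dimensional module;
* `Md.modS` : a nonzero invariant subspace contains a fixed vector, a `T3`, a `T4` or an `H9`.
-/

set_option autoImplicit false
set_option maxRecDepth 100000

namespace Cfsg.Agent.E8A.C63.Md

open Cfsg Cfsg.Lie Module

universe u

/-- `(3 4 5)` -/
def u2 : Alt 6 := ⟨⟨![0, 1, 2, 4, 5, 3], ![0, 1, 2, 5, 3, 4], by decide, by decide⟩, by
  rw [Equiv.Perm.mem_alternatingGroup]; decide⟩

/-- representatives of the cosets of the Borel subgroup -/
def gg : Fin 10 → Alt 6 :=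
  ![1, dd, u2 * dd, u2 * u2 * dd, uu * dd, uu * u2 * dd, uu * u2 * u2 * dd, uu * uu * dd, uu * uu * u2 * dd,
    uu * uu * u2 * u2 * dd]

/-- the generators -/
def gs : Fin 3 → Alt 6 := ![uu, yy, dd]

/-- the inverse permutations of the cosets -/
def sg : Fin 3 → Fin 10 → Fin 10 :=
  ![![0, 7, 8, 9, 1, 2, 3, 4, 5, 6], ![0, 1, 4, 7, 3, 6, 9, 2, 5, 8], ![1, 0, 2, 3, 7, 6, 5, 4, 9, 8]]

/-- the exponents -/
def tx : Fin 3 → Fin 10 → ℕ :=
  ![![1, 0, 0, 0, 0, 0, 0, 0, 0, 0], ![0, 0, 0, 0, 0, 0, 0, 0, 0, 0], ![0, 0, 0, 0, 1, 2, 2, 2, 1, 1]]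

/-- the exponents -/
def ty : Fin 3 → Fin 10 → ℕ :=
  ![![0, 0, 0, 0, 0, 0, 0, 0, 0, 0], ![0, 0, 0, 0, 0, 0, 0, 0, 0, 0], ![0, 0, 2, 1, 0, 1, 2, 0, 1, 2]]

/-- the exponents -/
def tk : Fin 3 → Fin 10 → ℕ :=
  ![![0, 0, 0, 0, 0, 0, 0, 0, 0, 0], ![1, 3, 3, 3, 3, 3, 3, 3, 3, 3], ![0, 0, 2, 2, 0, 1, 3, 0, 3, 1]]

theorem tab : ∀ s j, gs s * gg (sg s j) = gg j * (uu ^ tx s j * u2 ^ ty s j * yy ^ tk s j) := by decide +kernel

theorem sg_bij : ∀ s, Function.Bijective (sg s) := by decide +kernel

variable {K : Type u} [Field K] {V : Type u} [AddCommGroup V] [Module K V] {ρ : Representation K (Alt 6) V}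

/-- highest weight vectors -/
structure Hw (ρ : Representation K (Alt 6) V) (η : K) (v : V) : Prop where
  hu : ρ uu v = v
  hv : ρ u2 v = v
  hy : ρ yy v = η • v

/-- the translates -/
def rr (ρ : Representation K (Alt 6) V) (v : V) (i : Fin 10) : V := ρ (gg i) v

theorem rr_zero (v : V) : rr ρ v 0 = v := rho_one v

theorem rr_mem {U : Submodule K V} (hU : InvR ρ U) {v : V} (hv : v ∈ U) (i : Fin 10) : rr ρ v i ∈ U := hU _ _ hv

theorem pow_eig {a : Alt 6} {η : K} {v : V} (h : ρ a v = η • v) (n : ℕ) : ρ (a ^ n) v = η ^ n • v := by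
  induction n with
  | zero => rw [pow_zero, pow_zero, one_smul, rho_one]
  | succ n ih => rw [pow_succ, rho_mul, h, map_smul, ih, smul_smul, pow_succ']

theorem pow_fix {a : Alt 6} {v : V} (h : ρ a v = v) (n : ℕ) : ρ (a ^ n) v = v := by
  rw [pow_eig (η := 1) (by rw [h, one_smul]), one_pow, one_smul]

theorem Hw.act {η : K} {v : V} (H : Hw ρ η v) {s : Alt 6} {i j : Fin 10} {x y k : ℕ}
    (h : s * gg i = gg j * (uu ^ x * u2 ^ y * yy ^ k)) : ρ s (rr ρ v i) = η ^ k • rr ρ v j := by
  unfold rr
  rw [← rho_mul, h, rho_mul, rho_mul, rho_mul, pow_eig H.hy, map_smul, map_smul, pow_fix H.hv, pow_fix H.hu, map_smul]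

/-- every nonzero invariant subspace has a highest weight vector -/
theorem exists_hw [CharP K 3] {ι : K} (hι : ι * ι = -1) {U : Submodule K V} (h0 : U ≠ ⊥) (hU : InvR ρ U) :
    ∃ v ∈ U, v ≠ 0 ∧ (Hw ρ 1 v ∨ Hw ρ (-1) v ∨ Hw ρ ι v ∨ Hw ρ (-ι) v) := by
  obtain ⟨v, hv, hv0, h1, h2⟩ := fix2 (a := ρ uu) (b := ρ u2)
    (fun v => by rw [← rho_mul, ← rho_mul, show uu * uu * uu = 1 by decide +kernel, rho_one])
    (fun v => by rw [← rho_mul, ← rho_mul, show u2 * u2 * u2 = 1 by decide +kernel, rho_one])
    (fun v => by rw [← rho_mul, ← rho_mul, show uu * u2 = u2 * uu by decide +kernel]) h0 (hU uu) (hU u2)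
  have hy : ∀ w : V, ρ uu w = w ∧ ρ u2 w = w → ρ uu (ρ yy w) = ρ yy w ∧ ρ u2 (ρ yy w) = ρ yy w := fun w hw =>
    ⟨by rw [← rho_mul, show uu * yy = yy * (u2 * u2) by decide +kernel, rho_mul, rho_mul, hw.2, hw.2],
      by rw [← rho_mul, show u2 * yy = yy * uu by decide +kernel, rho_mul, hw.1]⟩
  have h4 : ρ yy (ρ yy (ρ yy (ρ yy v))) = v := by
    rw [← rho_mul, ← rho_mul, ← rho_mul, show yy * yy * yy * yy = 1 by decide +kernel, rho_one]
  obtain ⟨a1, b1⟩ := hy v ⟨h1, h2⟩
  obtain ⟨a2, b2⟩ := hy _ ⟨a1, b1⟩
  obtain ⟨a3, b3⟩ := hy _ ⟨a2, b2⟩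
  have m1 := hU yy v hv
  have m2 := hU yy _ m1
  have m3 := hU yy _ m2
  by_cases c1 : v + ρ yy (ρ yy v) = 0
  · have e2 : ρ yy (ρ yy v) = -v := eq_neg_of_add_eq_zero_right c1
    by_cases c2 : v - ι • ρ yy v = 0
    · refine ⟨v, hv, hv0, Or.inr (Or.inr (Or.inr ⟨h1, h2, ?_⟩))⟩
      have e3 : v = ι • ρ yy v := sub_eq_zero.1 c2
      calc ρ yy v = (-(ι * ι)) • ρ yy v := by rw [hι, neg_neg, one_smul]
        _ = -ι • (ι • ρ yy v) := by module
        _ = -ι • v := by rw [← e3]
    · refine ⟨_, U.sub_mem hv (U.smul_mem _ m1), c2, Or.inr (Or.inr (Or.inl ⟨?_, ?_, ?_⟩))⟩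
      · rw [map_sub, map_smul, h1, a1]
      · rw [map_sub, map_smul, h2, b1]
      · rw [map_sub, map_smul, e2, smul_sub, smul_smul, hι]; module
  · by_cases c2 : v + ρ yy (ρ yy v) + ρ yy (v + ρ yy (ρ yy v)) = 0
    · refine ⟨_, U.add_mem hv m2, c1, Or.inr (Or.inl ⟨?_, ?_, ?_⟩)⟩
      · rw [map_add, h1, a2]
      · rw [map_add, h2, b2]
      · rw [neg_one_smul]; exact eq_neg_of_add_eq_zero_right c2
    · refine ⟨_, U.add_mem (U.add_mem hv m2) (hU yy _ (U.add_mem hv m2)), c2, Or.inl ⟨?_, ?_, ?_⟩⟩
      · simp only [map_add, h1, a1, a2, a3]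
      · simp only [map_add, h2, b1, b2, b3]
      · simp only [map_add, h4, one_smul]; abel

/-! ### the model -/

/-- the coefficients -/
abbrev R : Type := Zsqrtd (-1)

/-- the vectors -/
abbrev C : Type := Fin 10 → R

/-- the action on the model -/
def mv (w : R) (s : Fin 3) (c : C) : C := fun j => w ^ tk s j * c (sg s j)

/-- zero modulo three -/
def Z3 (c : C) : Prop := ∀ i, (c i).re % 3 = 0 ∧ (c i).im % 3 = 0

/-- a combination of the `z j` modulo three -/
def Rel {n : ℕ} (z D : Fin n → C) (d : C) : Prop := Z3 (d - ∑ j, (∑ i, D j i * d i) • z j)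

/-- the value of a vector of the model -/
def ph (ψ : R →+* K) (ρ : Representation K (Alt 6) V) (v : V) : C →ₛₗ[ψ] V where
  toFun c := ∑ i, ψ (c i) • rr ρ v i
  map_add' a b := by simp only [Pi.add_apply, map_add, add_smul, Finset.sum_add_distrib]
  map_smul' a b := by simp only [Pi.smul_apply, smul_eq_mul, map_mul, Finset.smul_sum, smul_smul]

variable {ψ : R →+* K} {v : V} {w : R}

theorem ph_apply (c : C) : ph ψ ρ v c = ∑ i, ψ (c i) • rr ρ v i := rfl

theorem ph_mem {U : Submodule K V} (hU : InvR ρ U) (hv : v ∈ U) (c : C) : ph ψ ρ v c ∈ U := by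
  rw [ph_apply]
  exact U.sum_mem fun i _ => U.smul_mem _ (rr_mem hU hv i)

theorem ph_act (H : Hw ρ (ψ w) v) (s : Fin 3) (c : C) : ρ (gs s) (ph ψ ρ v c) = ph ψ ρ v (mv w s c) := by
  rw [ph_apply, ph_apply, map_sum, ← (sg_bij s).sum_comp]
  refine Finset.sum_congr rfl fun j _ => ?_
  rw [map_smul, H.act (tab s j), smul_smul, mul_comm, ← map_pow, ← map_mul]
  rfl

theorem psi_zero [CharP K 3] {z : R} (h : z.re % 3 = 0 ∧ z.im % 3 = 0) : ψ z = 0 := by
  have h1 : ((z.re : ℤ) : K) = 0 := (CharP.intCast_eq_zero_iff K 3 _).2 (Int.dvd_of_emod_eq_zero h.1)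
  have h2 : ((z.im : ℤ) : K) = 0 := (CharP.intCast_eq_zero_iff K 3 _).2 (Int.dvd_of_emod_eq_zero h.2)
  have h3 : z = (z.re : R) + Zsqrtd.sqrtd * (z.im : R) := Zsqrtd.decompose
  rw [h3, map_add, map_mul, map_intCast, map_intCast, h1, h2, mul_zero, add_zero]

theorem ph_rel [CharP K 3] {n : ℕ} {z D : Fin n → C} (hz : ∀ j, ph ψ ρ v (z j) = 0) {c c' : C} (h : Rel z D (c - c')) :
    ph ψ ρ v c = ph ψ ρ v c' := by
  have h1 : ph ψ ρ v (c - c' - ∑ j, (∑ i, D j i * (c - c') i) • z j) = 0 := by
    rw [ph_apply]
    exact Finset.sum_eq_zero fun i _ => by rw [psi_zero (h i), zero_smul]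
  rw [map_sub, map_sub, map_sum, Finset.sum_eq_zero fun j _ => by rw [map_smulₛₗ, hz, smul_zero], sub_zero] at h1
  exact sub_eq_zero.1 h1

/-- the unit vector -/
def d0 : C := ![1, 0, 0, 0, 0, 0, 0, 0, 0, 0]

theorem ph_d0 : ph ψ ρ v d0 = v := by
  rw [ph_apply, Finset.sum_eq_single 0, show d0 0 = 1 from rfl, map_one, one_smul, rr_zero]
  · intro i _ hi
    rw [(by decide : ∀ i : Fin 10, i ≠ 0 → d0 i = 0) i hi, map_zero, zero_smul]
  · exact fun h => absurd (Finset.mem_univ _) h

/-- the check of a fixed vector -/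
def C1 (w : R) {n : ℕ} (z D : Fin n → C) (m : C) : Prop := ∀ s, Rel z D (mv w s m - m)

/-- the check of a three-dimensional module -/
def C3 (w : R) {n : ℕ} (z D : Fin n → C) (j : R) (e h f : C) : Prop :=
  j * j = -1 ∧ Rel z D (mv w 0 e - e) ∧ Rel z D (mv w 0 h - (h + e)) ∧ Rel z D (mv w 0 f - (f + h - e)) ∧
    Rel z D (mv w 1 e - j • e) ∧ Rel z D (mv w 1 h - h) ∧ Rel z D (mv w 1 f - -j • f) ∧
    Rel z D (mv w 2 e - -f) ∧ Rel z D (mv w 2 h - -h) ∧ Rel z D (mv w 2 f - -e)

/-- the check of a four-dimensional module -/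
def C4 (w : R) {n : ℕ} (z D : Fin n → C) (B : Fin 6 → C) : Prop :=
  (∀ s i, Rel z D (mv w s (B i - B 0) - (B ((gs s : Equiv.Perm (Fin 6)) i) - B ((gs s : Equiv.Perm (Fin 6)) 0)))) ∧
    Rel z D (∑ i, B i - 0)

section Mk

variable [CharP K 3] {n : ℕ} {z D : Fin n → C}

theorem mk1 (H : Hw ρ (ψ w) v) (hz : ∀ j, ph ψ ρ v (z j) = 0) {m : C} (h : C1 w z D m) (a : Alt 6) :
    ρ a (ph ψ ρ v m) = ph ψ ρ v m :=
  fix_of ((ph_act H 0 m).trans (ph_rel hz (h 0))) ((ph_act H 1 m).trans (ph_rel hz (h 1)))
    ((ph_act H 2 m).trans (ph_rel hz (h 2))) a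

theorem mk3 (H : Hw ρ (ψ w) v) (hz : ∀ j, ph ψ ρ v (z j) = 0) {j : R} {e h f : C} (hc : C3 w z D j e h f) :
    T3 ρ (ψ j) (ph ψ ρ v e) (ph ψ ρ v h) (ph ψ ρ v f) := by
  obtain ⟨h0, h1, h2, h3, h4, h5, h6, h7, h8, h9⟩ := hc
  refine ⟨by rw [← map_mul, h0, map_neg, map_one], (ph_act H 0 _).trans (ph_rel hz h1),
    (ph_act H 0 _).trans ((ph_rel hz h2).trans (map_add _ _ _)),
    (ph_act H 0 _).trans ((ph_rel hz h3).trans (by rw [map_sub, map_add])),
    (ph_act H 1 _).trans ((ph_rel hz h4).trans (map_smulₛₗ _ _ _)), (ph_act H 1 _).trans (ph_rel hz h5),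
    (ph_act H 1 _).trans ((ph_rel hz h6).trans (by rw [map_smulₛₗ, map_neg])),
    (ph_act H 2 _).trans ((ph_rel hz h7).trans (map_neg _ _)), (ph_act H 2 _).trans ((ph_rel hz h8).trans (map_neg _ _)),
    (ph_act H 2 _).trans ((ph_rel hz h9).trans (map_neg _ _))⟩

theorem mk4 (H : Hw ρ (ψ w) v) (hz : ∀ j, ph ψ ρ v (z j) = 0) {B : Fin 6 → C} (hc : C4 w z D B) :
    T4 ρ fun i j => ph ψ ρ v (B i - B j) := by
  have hs : ∀ s i j, ρ (gs s) (ph ψ ρ v (B i - B j)) =
      ph ψ ρ v (B ((gs s : Equiv.Perm (Fin 6)) i) - B ((gs s : Equiv.Perm (Fin 6)) j)) := fun s i j => by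
    rw [← sub_sub_sub_cancel_right (B i) (B j) (B 0), map_sub, map_sub, ph_act H, ph_act H, ph_rel hz (hc.1 s i),
      ph_rel hz (hc.1 s j), ← map_sub, sub_sub_sub_cancel_right]
  refine ⟨ind (p := fun a => ∀ i j, ρ a (ph ψ ρ v (B i - B j)) =
      ph ψ ρ v (B ((a : Equiv.Perm (Fin 6)) i) - B ((a : Equiv.Perm (Fin 6)) j))) (fun i j => rho_one _)
    (fun a b ha hb i j => by rw [rho_mul, hb, ha]; rfl) (hs 0) (hs 1) (hs 2),
    fun i j k => by rw [← map_add, sub_add_sub_cancel], fun i => ?_⟩
  have h1 := ph_rel hz hc.2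
  rw [map_zero, map_sum, Fin.sum_univ_six] at h1
  simp only [Fin.sum_univ_six, map_sub]
  linear_combination (norm := abel1) three (K := K) (ph ψ ρ v (B i)) + three (K := K) (ph ψ ρ v (B i)) - h1

end Mk

/-! ### the layers -/

/-- tables -/
def e1 : C := ![0, 1, 1, 1, 1, 1, 1, 1, 1, 1]
/-- tables -/
def h1 : C := ![0, 0, ⟨0, 1⟩, ⟨0, -1⟩, -1, ⟨-1, 1⟩, ⟨-1, -1⟩, 1, ⟨1, 1⟩, ⟨1, -1⟩]
/-- tables -/
def f1 : C := ![-1, 0, 1, 1, -1, ⟨0, -1⟩, ⟨0, 1⟩, -1, ⟨0, 1⟩, ⟨0, -1⟩]
/-- tables -/
def D1 : Fin 3 → C := ![![0, 1, 0, 0, 0, 0, 0, 0, 0, 0],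
    ![⟨0, -1⟩, ⟨0, 1⟩, ⟨0, -1⟩, 0, 0, 0, 0, 0, 0, 0],
    ![-1, 0, 0, 0, 0, 0, 0, 0, 0, 0]]
/-- tables -/
def B1 : Fin 6 → C := ![![0, 0, 0, 0, 0, 0, 0, 0, 0, 0],
    ![0, 1, -1, -1, 0, ⟨1, -1⟩, ⟨1, 1⟩, -1, ⟨0, 1⟩, ⟨0, -1⟩],
    ![0, 0, -1, -1, -1, ⟨1, 1⟩, ⟨1, -1⟩, 1, ⟨0, -1⟩, ⟨0, 1⟩],
    ![1, -1, 1, 1, 1, ⟨1, -1⟩, ⟨1, 1⟩, -1, 0, 0],
    ![1, 1, -1, 1, ⟨1, 1⟩, 1, ⟨1, -1⟩, 0, -1, 0],
    ![1, -1, -1, 0, ⟨-1, -1⟩, ⟨-1, 1⟩, -1, 1, 1, 0]]
/-- tables -/
def E1 : Fin 7 → C := ![![-1, ⟨1, -1⟩, 1, ⟨0, 1⟩, ⟨1, -1⟩, 0, ⟨1, 1⟩, 0, 0, 0],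
    ![0, 1, 1, 1, 1, ⟨1, 1⟩, ⟨1, -1⟩, 0, 0, 0],
    ![-1, 1, 1, 1, -1, -1, -1, 0, 0, 0],
    ![-1, ⟨-1, 1⟩, ⟨-1, -1⟩, 0, ⟨-1, 1⟩, ⟨-1, -1⟩, 1, 0, 0, 0],
    ![0, ⟨1, 1⟩, ⟨1, -1⟩, -1, ⟨-1, 1⟩, ⟨-1, -1⟩, 1, 0, 0, 0],
    ![0, ⟨-1, 1⟩, ⟨0, 1⟩, ⟨1, 1⟩, ⟨1, 1⟩, ⟨0, 1⟩, ⟨-1, 1⟩, 0, 0, 0],
    ![0, ⟨0, -1⟩, ⟨-1, -1⟩, ⟨1, -1⟩, ⟨0, -1⟩, ⟨1, -1⟩, ⟨-1, -1⟩, 0, 0, 0]]
/-- tables -/
def k1 : C := ![1, 1, 0, 0, -1, 0, 0, 0, 0, 0]
/-- tables -/
def l1 : C := ![0, -1, 0, 0, 0, 0, 0, 0, 0, 0]
/-- tables -/
def B2 : Fin 6 → C := ![![0, 0, 0, 0, 0, 0, 0, 0, 0, 0],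
    ![0, 1, 1, 1, -1, -1, -1, 0, 0, 0],
    ![0, 1, 1, 1, 0, 0, 0, -1, -1, -1],
    ![-1, 1, 0, 0, 0, -1, -1, 0, -1, -1],
    ![-1, 0, 1, 0, -1, 0, -1, -1, 0, -1],
    ![-1, 0, 0, 1, -1, -1, 0, -1, -1, 0]]
/-- tables -/
def D2 : Fin 4 → C := ![![1, 1, -1, 0, 1, 0, 0, 0, 0, 0],
    ![0, 0, -1, 0, -1, 0, 0, 0, 0, 0],
    ![-1, 1, -1, 0, 0, 0, 0, 0, 0, 0],
    ![-1, -1, 1, 0, 0, 0, 0, 0, 0, 0]]
/-- tables -/
def m2 : C := ![1, 1, 1, 1, 0, 0, 0, 0, 0, 0]
/-- tables -/
def n2 : C := ![0, 1, -1, 0, -1, 1, 0, 0, 0, 0]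
/-- tables -/
def E2 : Fin 6 → C := ![![0, -1, -1, -1, -1, -1, 0, 0, 0, 0],
    ![1, -1, -1, 1, 1, 1, 0, 0, 0, 0],
    ![0, 0, -1, 1, -1, 1, 0, 0, 0, 0],
    ![0, -1, 0, 1, 1, -1, 0, 0, 0, 0],
    ![1, 1, 1, 1, 0, 0, 0, 0, 0, 0],
    ![0, 1, -1, 0, -1, 1, 0, 0, 0, 0]]
/-- tables -/
def G2 : Fin 6 → C := ![![0, 0, 0, 0, 0, 0, 0, 0, 0, 0],
    ![0, -1, 0, 0, 1, 0, 0, 0, 0, 0],
    ![-1, 1, 0, 0, -1, 0, 0, 0, 0, 0],
    ![1, -1, 0, 0, 0, 0, 0, 0, 0, 0],
    ![1, 0, -1, 0, 0, 0, 0, 0, 0, 0],
    ![-1, 1, 1, 0, 0, 0, 0, 0, 0, 0]]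
/-- tables -/
def y1 : Fin 3 → C := ![e1, h1, f1]
/-- tables -/
def z1 : Fin 7 → C := ![e1, h1, f1, B1 0 - B1 1, B1 0 - B1 2, B1 0 - B1 3, B1 0 - B1 4]
/-- tables -/
def y2 : Fin 4 → C := ![B2 0 - B2 1, B2 0 - B2 2, B2 0 - B2 3, B2 0 - B2 4]
/-- tables -/
def z2 : Fin 6 → C := ![B2 0 - B2 1, B2 0 - B2 2, B2 0 - B2 3, B2 0 - B2 4, m2, n2]

theorem c1a : C3 ⟨0, 1⟩ ![] ![] ⟨0, -1⟩ e1 h1 f1 := by unfold C3 Rel Z3; decide +kernel
theorem c1b : C4 ⟨0, 1⟩ y1 D1 B1 := by unfold C4 Rel Z3; decide +kernel
theorem c1c : C3 ⟨0, 1⟩ z1 E1 ⟨0, 1⟩ d0 k1 l1 := by unfold C3 Rel Z3; decide +kernel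
theorem c2a : C4 (-1) ![] ![] B2 := by unfold C4 Rel Z3; decide +kernel
theorem c2b : C1 (-1) y2 D2 m2 := by unfold C1 Rel Z3; decide +kernel
theorem c2c : C1 (-1) y2 D2 n2 := by unfold C1 Rel Z3; decide +kernel
theorem c2d : C4 (-1) z2 E2 G2 := by unfold C4 Rel Z3; decide +kernel
theorem c2e : Rel z2 E2 (d0 - (G2 0 - G2 3 + (G2 1 - G2 4) + (G2 2 - G2 5))) := by unfold Rel Z3; decide +kernel

/-- the generator of a nine-dimensional module -/
structure H9 (ρ : Representation K (Alt 6) V) (v : V) : Prop where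
  hw : Hw ρ 1 v
  ne : v ≠ 0
  sum : ∑ i, rr ρ v i = 0

/-- a fixed vector, a `T3` or a `T4` -/
def Sm (ρ : Representation K (Alt 6) V) (U : Submodule K V) : Prop :=
  (∃ v ∈ U, v ≠ 0 ∧ ∀ a, ρ a v = v) ∨ (∃ ι e h f, T3 ρ ι e h f ∧ e ≠ 0 ∧ e ∈ U ∧ h ∈ U ∧ f ∈ U) ∨
    ∃ r, T4 ρ r ∧ r 0 1 ≠ 0 ∧ ∀ i j, r i j ∈ U

variable [CharP K 3] {U : Submodule K V}

theorem case_i (hU : InvR ρ U) {ι : K} (hι : ι * ι = -1) (H : Hw ρ ι v) (hv : v ∈ U) (h0 : v ≠ 0) : Sm ρ U := by
  let ψ : R →+* K := Zsqrtd.lift ⟨ι, by rw [hι]; simp⟩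
  have hψ : ψ ⟨0, 1⟩ = ι := by simp [ψ]
  rw [← hψ] at H
  have m := fun c => ph_mem (ψ := ψ) hU hv c
  have A := mk3 H (fun j => j.elim0) c1a
  by_cases a0 : ph ψ ρ v e1 = 0
  swap
  · exact Or.inr (Or.inl ⟨_, _, _, _, A, a0, m _, m _, m _⟩)
  have B := mk4 H (z := y1) (fun j => by
    fin_cases j
    · exact a0
    · exact (A.zero a0).1
    · exact (A.zero a0).2) c1b
  by_cases b0 : ph ψ ρ v (B1 0 - B1 1) = 0
  swap
  · exact Or.inr (Or.inr ⟨_, B, b0, fun _ _ => m _⟩)
  have b1 := B.zero (by decide) b0
  have D := mk3 H (z := z1) (fun j => by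
    fin_cases j
    · exact a0
    · exact (A.zero a0).1
    · exact (A.zero a0).2
    · exact b1 0 1
    · exact b1 0 2
    · exact b1 0 3
    · exact b1 0 4) c1c
  exact Or.inr (Or.inl ⟨_, _, _, _, D, by rwa [ph_d0], m _, m _, m _⟩)

theorem case_m (hU : InvR ρ U) {ι : K} (hι : ι * ι = -1) (H : Hw ρ (-1) v) (hv : v ∈ U) (h0 : v ≠ 0) : Sm ρ U := by
  let ψ : R →+* K := Zsqrtd.lift ⟨ι, by rw [hι]; simp⟩
  have hψ : ψ (-1) = -1 := by rw [map_neg, map_one]
  rw [← hψ] at H
  have m := fun c => ph_mem (ψ := ψ) hU hv c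
  have A := mk4 H (fun j => j.elim0) c2a
  by_cases a0 : ph ψ ρ v (B2 0 - B2 1) = 0
  swap
  · exact Or.inr (Or.inr ⟨_, A, a0, fun _ _ => m _⟩)
  have a1 := A.zero (by decide) a0
  have hy : ∀ j, ph ψ ρ v (y2 j) = 0 := fun j => by
    fin_cases j
    · exact a1 0 1
    · exact a1 0 2
    · exact a1 0 3
    · exact a1 0 4
  by_cases b0 : ph ψ ρ v m2 = 0
  swap
  · exact Or.inl ⟨_, m _, b0, mk1 H hy c2b⟩
  by_cases b1 : ph ψ ρ v n2 = 0
  swap
  · exact Or.inl ⟨_, m _, b1, mk1 H hy c2c⟩
  have hz : ∀ j, ph ψ ρ v (z2 j) = 0 := fun j => by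
    fin_cases j
    · exact a1 0 1
    · exact a1 0 2
    · exact a1 0 3
    · exact a1 0 4
    · exact b0
    · exact b1
  have D := mk4 H hz c2d
  refine Or.inr (Or.inr ⟨_, D, fun d1 => h0 ?_, fun _ _ => m _⟩)
  have d2 := D.zero (by decide) d1
  have d3 := ph_rel hz c2e
  rw [ph_d0, map_add, map_add, d2 0 3, d2 1 4, d2 2 5, add_zero, add_zero] at d3
  exact d3

omit [CharP K 3] in
theorem Hw.act1 (H : Hw ρ 1 v) (s : Fin 3) (j : Fin 10) : ρ (gs s) (rr ρ v (sg s j)) = rr ρ v j := by
  rw [H.act (tab s j), one_pow, one_smul]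

omit [CharP K 3] in
theorem case_1 (hU : InvR ρ U) (H : Hw ρ 1 v) (hv : v ∈ U) (h0 : v ≠ 0) : Sm ρ U ∨ H9 ρ v := by
  by_cases h : ∑ i, rr ρ v i = 0
  · exact Or.inr ⟨H, h0, h⟩
  have hs : ∀ s, ρ (gs s) (∑ i, rr ρ v i) = ∑ i, rr ρ v i := fun s => by
    rw [map_sum, ← (sg_bij s).sum_comp]
    exact Finset.sum_congr rfl fun j _ => H.act1 s j
  exact Or.inl (Or.inl ⟨_, U.sum_mem fun i _ => rr_mem hU hv i, h, fix_of (hs 0) (hs 1) (hs 2)⟩)

/-- the simple modules -/
theorem modS [IsAlgClosed K] (h0 : U ≠ ⊥) (hU : InvR ρ U) : Sm ρ U ∨ ∃ v ∈ U, H9 ρ v := by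
  obtain ⟨ι, hι⟩ := IsAlgClosed.exists_eq_mul_self (-1 : K)
  obtain ⟨v, hv, hv0, H | H | H | H⟩ := exists_hw hι.symm h0 hU
  · exact (case_1 hU H hv hv0).imp id fun h => ⟨v, hv, h⟩
  · exact Or.inl (case_m hU hι.symm H hv hv0)
  · exact Or.inl (case_i hU hι.symm H hv hv0)
  · exact Or.inl (case_i hU (by rw [neg_mul_neg, ← hι]) H hv hv0)

end Cfsg.Agent.E8A.C63.Md
end

-- part: E8A/C63/ModC
section
/-!
# `A₆` in characteristic 3: `MOD` and `MODL` (helper42)

* `Md.H9.li`, `Md.H9.invR`, `Md.H9.finrank` : the nine-dimensional module; `mod : MOD`;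
* `Md.modL` : invariant subalgebras for an invariant alternating product; `modl : MODL`.
-/

set_option autoImplicit false
set_option maxRecDepth 100000

namespace Cfsg.Agent.E8A.C63

open Cfsg Cfsg.Lie Module

universe u

namespace Md

variable {K : Type u} [Field K] {V : Type u} [AddCommGroup V] [Module K V] {ρ : Representation K (Alt 6) V} {v : V}

/-- the nine translates -/
def r9 (ρ : Representation K (Alt 6) V) (v : V) (i : Fin 9) : V := rr ρ v i.succ

/-- the nine-dimensional module -/
def U9 (ρ : Representation K (Alt 6) V) (v : V) : Submodule K V := Submodule.span K (Set.range (r9 ρ v))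

theorem H9.sum9 (H : H9 ρ v) : ∑ i, r9 ρ v i = -v := by
  have h := H.sum
  rw [Fin.sum_univ_succ, rr_zero] at h
  exact eq_neg_of_add_eq_zero_right h

theorem H9.mem (H : H9 ρ v) (j : Fin 10) : rr ρ v j ∈ U9 ρ v := by
  refine Fin.cases ?_ (fun i => Submodule.subset_span ⟨i, rfl⟩) j
  have h : ∑ i, r9 ρ v i ∈ U9 ρ v := Submodule.sum_mem _ fun i _ => Submodule.subset_span ⟨i, rfl⟩
  rw [H.sum9, Submodule.neg_mem_iff] at h
  rwa [rr_zero]

theorem H9.invR (H : H9 ρ v) : InvR ρ (U9 ρ v) := by
  have h : ∀ s, ∀ x ∈ U9 ρ v, ρ (gs s) x ∈ U9 ρ v := fun s => span_inv (by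
    rintro _ ⟨i, rfl⟩
    obtain ⟨j, hj⟩ := (sg_bij s).2 i.succ
    show ρ (gs s) (rr ρ v i.succ) ∈ _
    rw [← hj, H.hw.act1]
    exact H.mem j)
  exact invR_of (h 0) (h 1) (h 2)

theorem U9_le {U : Submodule K V} (hU : InvR ρ U) (hv : v ∈ U) : U9 ρ v ≤ U :=
  Submodule.span_le.2 (by rintro _ ⟨i, rfl⟩; exact rr_mem hU hv _)

theorem H9.ne_bot (H : H9 ρ v) : U9 ρ v ≠ ⊥ :=
  (Submodule.ne_bot_iff _).2 ⟨v, by have h := H.mem 0; rwa [rr_zero] at h, H.ne⟩

/-- shifts -/
def s1 : Fin 9 → Fin 9 := ![6, 7, 8, 0, 1, 2, 3, 4, 5]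

/-- shifts -/
def s2 : Fin 9 → Fin 9 := ![2, 0, 1, 5, 3, 4, 8, 6, 7]

theorem tab1 : ∀ j : Fin 9, uu * gg (s1 j).succ = gg j.succ * (uu ^ 0 * u2 ^ 0 * yy ^ 0) := by decide +kernel

theorem tab2 : ∀ j : Fin 9, u2 * gg (s2 j).succ = gg j.succ * (uu ^ 0 * u2 ^ 0 * yy ^ 0) := by decide +kernel

theorem H9.li [CharP K 3] (H : H9 ρ v) : LinearIndependent K (r9 ρ v) := by
  rw [Fintype.linearIndependent_iff]
  by_contra hc
  push Not at hc
  obtain ⟨c, hc, i, hi⟩ := hc
  have hN : LinearMap.ker (Fintype.linearCombination K (r9 ρ v)) ≠ ⊥ :=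
    (Submodule.ne_bot_iff _).2 ⟨c, hc, fun h => hi (congrFun h i)⟩
  have key : ∀ (a : Alt 6) (s : Fin 9 → Fin 9), Function.Bijective s →
      (∀ j : Fin 9, a * gg (s j).succ = gg j.succ * (uu ^ 0 * u2 ^ 0 * yy ^ 0)) →
      ∀ x ∈ LinearMap.ker (Fintype.linearCombination K (r9 ρ v)),
        LinearMap.funLeft K K s x ∈ LinearMap.ker (Fintype.linearCombination K (r9 ρ v)) := fun a s hs ht x hx => by
    have h1 := congrArg (ρ a) (LinearMap.mem_ker.1 hx)
    rw [map_zero, Fintype.linearCombination_apply, map_sum, ← hs.sum_comp] at h1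
    rw [LinearMap.mem_ker, Fintype.linearCombination_apply, ← h1]
    refine Finset.sum_congr rfl fun j _ => ?_
    rw [map_smul]
    show x (s j) • rr ρ v j.succ = x (s j) • ρ a (rr ρ v (s j).succ)
    rw [H.hw.act (ht j), pow_zero, one_smul]
  obtain ⟨x, hx, hx0, h1, h2⟩ := fix2 (a := LinearMap.funLeft K K s1) (b := LinearMap.funLeft K K s2)
    (fun x => funext fun j => congrArg x ((by decide : ∀ j, s1 (s1 (s1 j)) = j) j))
    (fun x => funext fun j => congrArg x ((by decide : ∀ j, s2 (s2 (s2 j)) = j) j))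
    (fun x => funext fun j => congrArg x ((by decide : ∀ j, s2 (s1 j) = s1 (s2 j)) j)) hN
    (key uu s1 (by decide) tab1) (key u2 s2 (by decide) tab2)
  have a : ∀ j, x (s1 j) = x j := congrFun h1
  have b : ∀ j, x (s2 j) = x j := congrFun h2
  have e1 : x 1 = x 0 := (b 1).symm
  have e2 : x 2 = x 0 := b 0
  have hx1 : ∀ j, x j = x 0 := fun j => by
    fin_cases j
    · rfl
    · exact e1
    · exact e2
    · exact (a 3).symm
    · exact (a 4).symm.trans e1
    · exact (a 5).symm.trans e2
    · exact a 0
    · exact (a 1).trans e1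
    · exact (a 2).trans e2
  rw [LinearMap.mem_ker, Fintype.linearCombination_apply, Finset.sum_congr rfl fun j _ => by rw [hx1 j],
    ← Finset.smul_sum, H.sum9, smul_neg, neg_eq_zero, smul_eq_zero] at hx
  rcases hx with hx | hx
  · exact hx0 (funext fun j => (hx1 j).trans hx)
  · exact H.ne hx

theorem H9.finrank [CharP K 3] (H : H9 ρ v) : finrank K ↥(U9 ρ v) = 9 := by
  have h := finrank_span_eq_card H.li
  rwa [Fintype.card_fin] at h

theorem H9.fix [CharP K 3] (H : H9 ρ v) : ∃ x ∈ U9 ρ v, x ≠ 0 ∧ ρ v1 x = x ∧ ρ v2 x = x := by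
  refine ⟨rr ρ v 2 + rr ρ v 3, Submodule.add_mem _ (H.mem 2) (H.mem 3), fun h => ?_, ?_, ?_⟩
  · have h1 := Fintype.linearIndependent_iff.1 H.li ![0, 1, 1, 0, 0, 0, 0, 0, 0] (by
      simp only [Fin.sum_univ_succ, Fin.sum_univ_zero, Matrix.cons_val_zero, Matrix.cons_val_succ, zero_smul, one_smul,
        zero_add, add_zero]
      exact h) 1
    exact one_ne_zero h1
  · rw [map_add, H.hw.act (j := 3) (x := 2) (y := 2) (k := 3) (by decide +kernel),
      H.hw.act (j := 2) (x := 2) (y := 1) (k := 1) (by decide +kernel), one_pow, one_pow, one_smul, one_smul, add_comm]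
  · rw [map_add, H.hw.act (j := 3) (x := 1) (y := 2) (k := 1) (by decide +kernel),
      H.hw.act (j := 2) (x := 1) (y := 1) (k := 3) (by decide +kernel), one_pow, one_pow, one_smul, one_smul, add_comm]

/-! ### invariant alternating products -/

/-- the norm of an element of order three -/
def op (ρ : Representation K (Alt 6) V) (a : Alt 6) : V →ₗ[K] V := LinearMap.id + ρ a + ρ a ∘ₗ ρ a

theorem op_apply (a : Alt 6) (w : V) : op ρ a w = w + ρ a w + ρ a (ρ a w) := rfl

theorem op_self {a : Alt 6} (h : a * a * a = 1) (w : V) : op ρ a (ρ a w) = op ρ a w := by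
  rw [op_apply, op_apply, ← rho_mul a a (ρ a w), ← rho_mul (a * a), h, rho_one]; abel

theorem op_comm {a b : Alt 6} (h : a * b = b * a) (w : V) : op ρ a (ρ b w) = ρ b (op ρ a w) := by
  have h1 : ∀ w, ρ a (ρ b w) = ρ b (ρ a w) := fun w => by rw [← rho_mul, h, rho_mul]
  rw [op_apply, op_apply, map_add, map_add, h1, h1]

theorem op_inv {a b : Alt 6} (h : a * b = b * (a * a)) (h' : a * (a * b) = b * a) (w : V) :
    op ρ a (ρ b w) = ρ b (op ρ a w) := by
  have h1 : ρ a (ρ b w) = ρ b (ρ a (ρ a w)) := by rw [← rho_mul, h, rho_mul, rho_mul]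
  have h2 : ρ a (ρ a (ρ b w)) = ρ b (ρ a w) := by rw [← rho_mul a b, ← rho_mul, h', rho_mul]
  rw [op_apply, op_apply, map_add, map_add, h2, h1]; abel

theorem op_op [CharP K 3] {a : Alt 6} (h : a * a * a = 1) (w : V) : op ρ a (op ρ a w) = 0 := by
  rw [op_apply a w, map_add, map_add, op_self h (ρ a w), op_self h w]
  exact three (K := K) (op ρ a w)

theorem uu3 : uu * uu * uu = 1 := by decide +kernel

theorem u23 : u2 * u2 * u2 = 1 := by decide +kernel

theorem H9.opP (H : H9 ρ v) : op ρ uu (op ρ u2 (ρ dd v)) = -v := by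
  rw [← H.sum9]
  simp only [Fin.sum_univ_succ, Fin.sum_univ_zero]
  show _ = ρ dd v + (ρ (u2 * dd) v + (ρ (u2 * u2 * dd) v + (ρ (uu * dd) v + (ρ (uu * u2 * dd) v + (ρ (uu * u2 * u2 * dd) v +
    (ρ (uu * uu * dd) v + (ρ (uu * uu * u2 * dd) v + (ρ (uu * uu * u2 * u2 * dd) v + 0))))))))
  simp only [op_apply, map_add, rho_mul]
  abel

/-- the first operator -/
def oT (ρ : Representation K (Alt 6) V) : V →ₗ[K] V := op ρ uu + op ρ u2

/-- the second operator -/
def oS (ρ : Representation K (Alt 6) V) : V →ₗ[K] V := (LinearMap.id + ρ (yy ^ 2)) ∘ₗ op ρ uu ∘ₗ op ρ u2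

theorem oT_apply (w : V) : oT ρ w = op ρ uu w + op ρ u2 w := rfl

theorem oS_apply (w : V) : oS ρ w = op ρ uu (op ρ u2 w) + ρ (yy ^ 2) (op ρ uu (op ρ u2 w)) := rfl

theorem oS_inv (x y : ℕ) (w : V) : oS ρ (ρ (uu ^ x * u2 ^ y * yy ^ 2) w) = oS ρ w := by
  have h1 : ∀ w, oS ρ (ρ uu w) = oS ρ w := fun w => by
    rw [oS_apply, oS_apply, op_comm (show u2 * uu = uu * u2 by decide +kernel), op_self uu3]
  have h2 : ∀ w, oS ρ (ρ u2 w) = oS ρ w := fun w => by rw [oS_apply, oS_apply, op_self u23]
  have h3 : ∀ w, oS ρ (ρ (yy ^ 2) w) = oS ρ w := fun w => by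
    rw [oS_apply, oS_apply, op_inv (a := u2) (by decide +kernel) (by decide +kernel),
      op_inv (a := uu) (by decide +kernel) (by decide +kernel), ← rho_mul (yy ^ 2) (yy ^ 2),
      show yy ^ 2 * yy ^ 2 = 1 by decide +kernel, rho_one, add_comm]
  have h4 : ∀ a : Alt 6, (∀ w, oS ρ (ρ a w) = oS ρ w) → ∀ (n : ℕ) w, oS ρ (ρ (a ^ n) w) = oS ρ w := fun a ha n => by
    induction n with
    | zero => intro w; rw [pow_zero, rho_one]
    | succ n ih => intro w; rw [pow_succ, rho_mul, ih, ha]
  rw [rho_mul, rho_mul, h4 _ h1, h4 _ h2, h3]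

theorem tab3 : ∀ i j : Fin 9, ∃ x y : Fin 3,
    uu ^ x.val * u2 ^ y.val * yy ^ 2 * gg i.succ = gg j.succ * (uu ^ 0 * u2 ^ 0 * yy ^ 2) ∧
    uu ^ x.val * u2 ^ y.val * yy ^ 2 * gg j.succ = gg i.succ * (uu ^ 0 * u2 ^ 0 * yy ^ 2) := by decide +kernel

theorem H9.oT_ne [CharP K 3] (H : H9 ρ v) : oT ρ (ρ dd v) ≠ 0 := fun h => by
  have h1 := congrArg (op ρ uu) h
  rw [oT_apply, map_add, op_op uu3, zero_add, H.opP, map_zero, neg_eq_zero] at h1
  exact H.ne h1

theorem H9.oS_ne [CharP K 3] (H : H9 ρ v) : oS ρ (ρ dd v) ≠ 0 := fun h => by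
  rw [oS_apply, H.opP, map_neg, pow_eig H.hw.hy, one_pow, one_smul] at h
  refine H.ne ?_
  linear_combination (norm := abel1) three (K := K) v + h

theorem T4.oT_ne [CharP K 3] {r : Fin 6 → Fin 6 → V} (H : T4 ρ r) (h0 : r 0 1 ≠ 0) : oT ρ (r 0 3) ≠ 0 := fun h => by
  rw [oT_apply, op_apply, op_apply, H.act, H.act, H.act, H.act] at h
  have h1 : r 0 3 + r 1 3 + r 2 3 + (r 0 3 + r 0 4 + r 0 5) = 0 := h
  rw [H.sub 1 3, H.sub 2 3, H.five] at h1
  have h2 : (1 : K) • r 0 1 + (1 : K) • r 0 2 + (0 : K) • r 0 3 + (0 : K) • r 0 4 ∈ (⊥ : Submodule K V) := by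
    rw [one_smul, one_smul, zero_smul, zero_smul, add_zero, add_zero, Submodule.mem_bot]
    linear_combination (norm := abel1) h1 + three (K := K) (r 0 1) + three (K := K) (r 0 2) - three (K := K) (r 0 3)
  rcases H.key invR_bot h2 with h3 | h3
  · exact h0 (h3 0 1)
  · exact one_ne_zero h3.1

/-- an invariant alternating product -/
structure Al (ρ : Representation K (Alt 6) V) (β : V →ₗ[K] V →ₗ[K] V) : Prop where
  self : ∀ x, β x x = 0
  act : ∀ a x y, ρ a (β x y) = β (ρ a x) (ρ a y)

variable {β : V →ₗ[K] V →ₗ[K] V}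

theorem Al.anti (A : Al ρ β) (x y : V) : β x y = -β y x := by
  have h := A.self (x + y)
  rw [map_add, map_add, LinearMap.add_apply, LinearMap.add_apply, A.self, A.self, zero_add, add_zero] at h
  exact eq_neg_of_add_eq_zero_right h

theorem Al.invR (A : Al ρ β) {U : Submodule K V} (hU : InvR ρ U) : InvR ρ (Submodule.map₂ β U U) := fun a w hw =>
  (Submodule.map₂_le.2 fun x hx y hy => by
    show ρ a (β x y) ∈ Submodule.map₂ β U U
    rw [A.act]
    exact Submodule.apply_mem_map₂ β (hU a x hx) (hU a y hy) :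
      Submodule.map₂ β U U ≤ (Submodule.map₂ β U U).comap (ρ a)) hw

theorem kill {S : Set V} {f : V →ₗ[K] V} (h : ∀ x ∈ S, ∀ y ∈ S, f (β x y) = 0) {w : V}
    (hw : w ∈ Submodule.map₂ β (Submodule.span K S) (Submodule.span K S)) : f w = 0 := by
  rw [Submodule.map₂_span_span] at hw
  exact (Submodule.span_le (p := LinearMap.ker f)).2 (by rintro _ ⟨x, hx, y, hy, rfl⟩; exact h x hx y hy) hw

theorem Al.oS_kill [CharP K 3] (A : Al ρ β) (H : H9 ρ v) {w : V} (hw : w ∈ Submodule.map₂ β (U9 ρ v) (U9 ρ v)) :
    oS ρ w = 0 := by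
  refine kill ?_ hw
  rintro _ ⟨i, rfl⟩ _ ⟨j, rfl⟩
  obtain ⟨x, y, h1, h2⟩ := tab3 i j
  have h3 := oS_inv (ρ := ρ) x y (β (rr ρ v i.succ) (rr ρ v j.succ))
  rw [A.act, H.hw.act h1, H.hw.act h2, one_pow, one_smul, one_smul, A.anti, map_neg] at h3
  show oS ρ (β (rr ρ v i.succ) (rr ρ v j.succ)) = 0
  linear_combination (norm := abel1) three (K := K) (oS ρ (β (rr ρ v i.succ) (rr ρ v j.succ))) + h3

theorem Al.oT_kill [CharP K 3] (A : Al ρ β) {r : Fin 6 → Fin 6 → V} (H : T4 ρ r) {w : V}
    (hw : w ∈ Submodule.map₂ β (Submodule.span K {r 0 1, r 0 2, r 0 3, r 0 4})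
      (Submodule.span K {r 0 1, r 0 2, r 0 3, r 0 4})) : oT ρ w = 0 := by
  have a1 : ρ uu (r 0 1) = r 0 2 - r 0 1 := (H.act _ _ _).trans (H.sub 1 2)
  have a2 : ρ uu (r 0 2) = -r 0 1 := (H.act _ _ _).trans ((H.sub 1 0).trans (by rw [H.self, zero_sub]))
  have a3 : ρ uu (r 0 3) = r 0 3 - r 0 1 := (H.act _ _ _).trans (H.sub 1 3)
  have a4 : ρ uu (r 0 4) = r 0 4 - r 0 1 := (H.act _ _ _).trans (H.sub 1 4)
  have b1 : ρ u2 (r 0 1) = r 0 1 := H.act _ _ _
  have b2 : ρ u2 (r 0 2) = r 0 2 := H.act _ _ _
  have b3 : ρ u2 (r 0 3) = r 0 4 := H.act _ _ _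
  have b4 : ρ u2 (r 0 4) = -(r 0 1 + r 0 2 + r 0 3 + r 0 4) := (H.act _ _ _).trans H.five
  generalize r 0 1 = x1 at *
  generalize r 0 2 = x2 at *
  generalize r 0 3 = x3 at *
  generalize r 0 4 = x4 at *
  have h3 : (3 : K) = 0 := CharP.cast_eq_zero K 3
  have key : ∀ x y, oT ρ (β x y) = 0 → oT ρ (β y x) = 0 := fun x y h => by rw [A.anti, map_neg, h, neg_zero]
  have k0 : ∀ x, oT ρ (β x x) = 0 := fun x => by rw [A.self, map_zero]
  have k : (1 : K) • oT ρ (β x1 x2) = 0 ∧ (1 : K) • oT ρ (β x1 x3) = 0 ∧ (1 : K) • oT ρ (β x1 x4) = 0 ∧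
      (1 : K) • oT ρ (β x2 x3) = 0 ∧ (1 : K) • oT ρ (β x2 x4) = 0 ∧ (1 : K) • oT ρ (β x3 x4) = 0 := by
    refine ⟨?_, ?_, ?_, ?_, ?_, ?_⟩ <;>
    · simp only [oT_apply, op_apply, A.act, a1, a2, a3, a4, b1, b2, b3, b4, map_add, map_sub, map_neg, map_zero,
        LinearMap.add_apply, LinearMap.sub_apply, LinearMap.neg_apply, A.self, A.anti x2 x1, A.anti x3 x1, A.anti x4 x1,
        A.anti x3 x2, A.anti x4 x2, A.anti x4 x3]
      match_scalars <;> first | ring1 | linear_combination h3 | linear_combination -h3 | linear_combination 2 * h3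
  simp only [one_smul] at k
  obtain ⟨k12, k13, k14, k23, k24, k34⟩ := k
  refine kill ?_ hw
  rintro x (rfl | rfl | rfl | rfl) y (rfl | rfl | rfl | rfl) <;>
    with_reducible first | exact k0 _ | assumption | exact key _ _ ‹_›

variable [CharP K 3] [IsAlgClosed K] {C : Submodule K V}

/-- the conclusion -/
def End (ρ : Representation K (Alt 6) V) (β : V →ₗ[K] V →ₗ[K] V) (C : Submodule K V) : Prop :=
  (∃ ι e h f, T3 ρ ι e h f ∧ e ≠ 0 ∧ e ∈ C ∧ h ∈ C ∧ f ∈ C) ∨
    ∃ U ≤ C, U ≠ ⊥ ∧ InvR ρ U ∧ ∀ x ∈ U, ∀ y ∈ U, β x y = 0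

theorem Al.step (A : Al ρ β) (hfx : ∀ w, (∀ a, ρ a w = w) → w = 0) (hC : ∀ x ∈ C, ∀ y ∈ C, β x y ∈ C)
    {U : Submodule K V} (hle : U ≤ C) (h0 : U ≠ ⊥) (hU : InvR ρ U) : End ρ β C ∨ Submodule.map₂ β U U ≤ C ∧
      ((∃ r, T4 ρ r ∧ r 0 1 ≠ 0 ∧ ∀ i j, r i j ∈ Submodule.map₂ β U U) ∨ ∃ w ∈ Submodule.map₂ β U U, H9 ρ w) := by
  by_cases hW : Submodule.map₂ β U U = ⊥
  · exact Or.inl (Or.inr ⟨U, hle, h0, hU, fun x hx y hy => by
      have h := Submodule.apply_mem_map₂ β hx hy
      rwa [hW] at h⟩)
  have h1 : Submodule.map₂ β U U ≤ C := Submodule.map₂_le.2 fun x hx y hy => hC x (hle hx) y (hle hy)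
  rcases modS hW (A.invR hU) with (⟨w, -, h2, h3⟩ | ⟨ι, e, h, f, H, h2, h3, h4, h5⟩ | h2) | h2
  · exact absurd (hfx w h3) h2
  · exact Or.inl (Or.inl ⟨ι, e, h, f, H, h2, h1 h3, h1 h4, h1 h5⟩)
  · exact Or.inr ⟨h1, Or.inl h2⟩
  · exact Or.inr ⟨h1, Or.inr h2⟩

theorem Al.four (A : Al ρ β) (hfx : ∀ w, (∀ a, ρ a w = w) → w = 0) (hC : ∀ x ∈ C, ∀ y ∈ C, β x y ∈ C)
    {r : Fin 6 → Fin 6 → V} (H : T4 ρ r) (h0 : r 0 1 ≠ 0) (hr : ∀ i j, r i j ∈ C) : End ρ β C := by
  rcases A.step hfx hC (U := Submodule.span K {r 0 1, r 0 2, r 0 3, r 0 4})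
    (Submodule.span_le.2 (by rintro _ (rfl | rfl | rfl | rfl) <;> exact hr _ _))
    ((Submodule.ne_bot_iff _).2 ⟨_, H.mem_span 0 1, h0⟩) H.invR with h | ⟨-, ⟨r', H', h1, h2⟩ | ⟨w, h1, H'⟩⟩
  · exact h
  · exact absurd (A.oT_kill H (h2 0 3)) (T4.oT_ne H' h1)
  · exact absurd (A.oT_kill H (A.invR H.invR dd w h1)) H'.oT_ne

theorem modL (A : Al ρ β) (hfx : ∀ w, (∀ a, ρ a w = w) → w = 0) (hC : ∀ x ∈ C, ∀ y ∈ C, β x y ∈ C) (h0 : C ≠ ⊥)
    (hi : InvR ρ C) : End ρ β C := by
  rcases modS h0 hi with (⟨w, -, h2, h3⟩ | h2 | ⟨r, H, h2, h3⟩) | ⟨w, hw, H⟩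
  · exact absurd (hfx w h3) h2
  · exact Or.inl h2
  · exact A.four hfx hC H h2 h3
  · rcases A.step hfx hC (U9_le hi hw) H.ne_bot H.invR with h | ⟨h1, ⟨r', H', h2, h3⟩ | ⟨w', h2, H'⟩⟩
    · exact h
    · exact A.four hfx hC H' h2 fun i j => h1 (h3 i j)
    · exact absurd (A.oS_kill H (A.invR H.invR dd w' h2)) H'.oS_ne

end Md

theorem mod : MOD.{u} := by
  intro K _ _ _ V _ _ _ ρ U h0 hU
  rcases Md.modS h0 hU with (h | h | h) | ⟨v, hv, H⟩
  · exact Or.inl h
  · exact Or.inr (Or.inl h)
  · exact Or.inr (Or.inr (Or.inl h))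
  · exact Or.inr (Or.inr (Or.inr ⟨_, Md.U9_le hU hv, H.invR, H.finrank, H.fix⟩))

theorem modl : MODL.{u} := fun K _ _ _ ψ hfx _ h0 hi hC =>
  Md.modL (ρ := rp ψ) (β := TwoH.brL K) ⟨TwoH.br_self, fun a x y => act_br (ψ a) x y⟩ hfx hC h0 hi

end Cfsg.Agent.E8A.C63
end
end

-- part: E8A/C63/WitC
section
prune_inst 0x7f0000000000000000000000000000000000000000000000000000000000000000000000000000000000000000000000000000000000000000000000000000000000000000000000000000000000000000000000000020000000000000000010000000000000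
set_option linter.all false
open scoped Cfsg.Agent.FastGrp

/-!
# WIT, part C: linear certificates for the facts `Fa`, `Fb` (helper5)

* `lin K t` : the linear map of a table; `Tw F f` : `f` computes `F` on sparse vectors; `Tw.eq` : equality on a piece;
* `sol`, `inj` : the two shapes of certificates; `Pre`, `fa_of`, `fb9`.
-/

set_option autoImplicit false
set_option maxRecDepth 100000

namespace Cfsg.Agent.E8A.C63.Wt

open Cfsg Cfsg.Lie Module Matrix
open Cfsg.Agent.H288.E8L (Q8 wt wt_inl wt_inr)
open Cfsg.Agent.Tits.Roots (sr)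
open Cfsg.Agent.E8A.Reg5.Cls (ex ex_zero)
open Cfsg.Agent.E8A.TwoH (br_anti br_zero_left br_zero_right brL brL_apply)
open Cfsg.Agent.E8A.C63.Sv
open Cfsg.Agent.ChevalleyStructure.JacTab (addH intZ eq_zero_of_intZ)

universe u

variable {K : Type u} [Field K]

/-- tables of linear maps -/
abbrev Tb : Type := List (ℕ × SV)

variable (K) in
/-- a coordinate -/
noncomputable def co (k : ℕ) : L8 K →ₗ[K] K := ∑ x, eb K k x • LinearMap.proj x

theorem co_sv {k : ℕ} (hk : k < 248) (l : SV) : co K k (sv K l) = ((cf l k : ℤ) : K) := by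
  obtain ⟨x, rfl⟩ := ky_surj hk
  rw [co, LinearMap.sum_apply, Finset.sum_eq_single x, eb_ky, ee_self, one_smul, LinearMap.proj_apply, cf_eq]
  · intro b _ hb
    rw [eb_ky, ee_ne hb, zero_smul, LinearMap.zero_apply]
  · intro h
    exact absurd (Finset.mem_univ x) h

theorem co_ge {k : ℕ} (hk : 248 ≤ k) (v : L8 K) : co K k v = 0 := by
  rw [co, eb_ge hk]
  simp

variable (K) in
/-- the linear map of a table -/
noncomputable def lin (t : Tb) : L8 K →ₗ[K] L8 K := (t.map fun p => (co K p.1).smulRight (sv K p.2)).sum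

theorem lin_cons (p : ℕ × SV) (t : Tb) (v : L8 K) : lin K (p :: t) v = co K p.1 v • sv K p.2 + lin K t v := by
  rw [lin, List.map_cons, List.sum_cons, LinearMap.add_apply, LinearMap.smulRight_apply, lin]

theorem lin_nil (v : L8 K) : lin K [] v = 0 := rfl

theorem lin_mem {U : Submodule K (L8 K)} {t : Tb} (h : ∀ p ∈ t, sv K p.2 ∈ U) (v : L8 K) : lin K t v ∈ U := by
  induction t with
  | nil => exact U.zero_mem
  | cons p t ih =>
    rw [lin_cons]
    exact U.add_mem (U.smul_mem _ (h p List.mem_cons_self)) (ih fun q hq => h q (List.mem_cons_of_mem _ hq))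

/-- the table on sparse vectors -/
noncomputable def li0 (t : Tb) (l : SV) : SV :=
  List.rec (motive := fun _ => SV) [] (fun p _ ih => Bool.rec (motive := fun _ => SV) ih
    (Bool.rec (motive := fun _ => SV) (addH (cf l p.1) p.2 ih) ih (intZ (cf l p.1))) (Nat.blt p.1 248)) t

theorem sv_li0 (t : Tb) (l : SV) : lin K t (sv K l) = sv K (li0 t l) := by
  induction t with
  | nil => exact sv_nil.symm
  | cons p t ih =>
    have e : li0 (p :: t) l = Bool.rec (motive := fun _ => SV) (li0 t l)
      (Bool.rec (motive := fun _ => SV) (addH (cf l p.1) p.2 (li0 t l)) (li0 t l) (intZ (cf l p.1)))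
      (Nat.blt p.1 248) := rfl
    rw [lin_cons, ih, e]
    cases h : Nat.blt p.1 248
    · rw [co_ge (not_lt.1 fun h1 => by rw [← Nat.blt_eq, h] at h1; cases h1), zero_smul, zero_add]
    · rw [co_sv (Nat.blt_eq.mp h)]
      cases h1 : intZ (cf l p.1)
      · exact (sv_addH _ _ _).symm
      · rw [eq_zero_of_intZ _ h1, Int.cast_zero, zero_smul, zero_add]

/-- `f` computes `F` -/
def Tw (F : L8 K →ₗ[K] L8 K) (f : SV → SV) : Prop := ∀ l, F (sv K l) = sv K (f l)

/-- the test on a basis of a piece -/
noncomputable def chk (y : Q8) (P : ℤ → ℤ → Prop) [∀ l m, Decidable (P l m)] (f g : SV → SV) : Bool :=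
  (List.range 248).all fun k => !decide (P (dg y k) (wc k 6)) || eq3 (f [(k, 1)]) (g [(k, 1)])

/-- all keys lie in a piece -/
noncomputable def inB (y : Q8) (P : ℤ → ℤ → Prop) [∀ l m, Decidable (P l m)] (l : SV) : Bool :=
  allK (fun k => decide (P (dg y k) (wc k 6))) l

variable {y : Q8} {P Q : ℤ → ℤ → Prop} [∀ l m, Decidable (P l m)] [∀ l m, Decidable (Q l m)]

theorem sv_LB {l : SV} (h : inB y P l = true) : sv K l ∈ LB K y P :=
  sv_mem (p := fun k => decide (P (dg y k) (wc k 6))) (fun k hk => by
    have h1 := of_decide_eq_true hk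
    rw [dg_eq] at h1
    exact h1) h

theorem all_LB (h : (List.range 248).all (fun k => decide (P (dg y k) (wc k 6))) = true) (v : L8 K) : v ∈ LB K y P :=
  fun i _ => by
    have h1 := of_decide_eq_true (List.all_eq_true.1 h (ky i) (List.mem_range.2 (ky_lt i)))
    rw [dg_eq, wk_ky] at h1
    show P (ex y (wt i)) (wt i 6)
    rw [← wk_ky i] at h1 ⊢
    exact h1

variable {F G : L8 K →ₗ[K] L8 K} {f g : SV → SV}

theorem Tw.id : Tw (LinearMap.id : L8 K →ₗ[K] L8 K) fun l => l := fun _ => rfl

theorem Tw.add (H : Tw F f) (H' : Tw G g) : Tw (F + G) fun l => adL (f l) (g l) := fun l => by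
  rw [LinearMap.add_apply, H, H', sv_adL]

variable [CharP K 3]

theorem Tw.ad (x : SV) (H : Tw F f) : Tw (brL K (sv K x) ∘ₗ F) fun l => brS x (f l) := fun l => by
  rw [LinearMap.comp_apply, H, brL_apply, br_sv]

theorem Tw.tb (t : Tb) (H : Tw F f) : Tw (lin K t ∘ₗ F) fun l => nz (li0 t (f l)) := fun l => by
  rw [LinearMap.comp_apply, H, sv_li0, sv_nz]

theorem Tw.eq (H : Tw F f) (H' : Tw G g) (h : chk y P f g = true) {v : L8 K} (hv : v ∈ LB K y P) : F v = G v := by
  refine LB_ind (M := fun v => F v = G v) (by rw [map_zero, map_zero]) (fun a b ha hb => by rw [map_add, map_add, ha, hb])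
    (fun i t hi => ?_) hv
  have h1 := List.all_eq_true.1 h (ky i) (List.mem_range.2 (ky_lt i))
  have h2 : P (dg y (ky i)) (wc (ky i) 6) := by
    rw [dg_eq, wk_ky]
    rw [← wk_ky i] at hi ⊢
    exact hi
  rw [decide_eq_true h2, Bool.not_true, Bool.false_or] at h1
  rw [map_smul, map_smul, ← eb_ky, ← sv_one, H, H', sv_eq3 h1]

theorem sol (H : Tw F f) (H' : Tw G g) (e z : SV) (Y T : Tb)
    (h1 : chk y P (fun l => adL (g l) (brS z (nz (li0 Y l)))) (fun l => nz (li0 T (f l))) = true)
    (h2 : Y.all (fun p => inB y Q p.2 && z3 (br0 e p.2)) = true) {v : L8 K} (hv : v ∈ LB K y P) (h0 : F v = 0) :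
    ∃ w ∈ LB K y Q, br (sv K e) w = 0 ∧ br w (sv K z) = G v := by
  have h3 := (H'.add ((Tw.id.tb Y).ad z)).eq (H.tb T) h1 hv
  have h4 := fun p hp => Bool.and_eq_true_iff.1 (List.all_eq_true.1 h2 p hp)
  refine ⟨lin K Y v, lin_mem (fun p hp => sv_LB (h4 p hp).1) v,
    mem_cen_one.1 (lin_mem (fun p hp => mem_cen_one.2 (br_of_z3 (h4 p hp).2)) v), ?_⟩
  rw [LinearMap.comp_apply, h0, map_zero] at h3
  rw [br_anti]
  exact (eq_neg_of_add_eq_zero_left h3).symm

theorem inj {F' : L8 K →ₗ[K] L8 K} {f' : SV → SV} (H : Tw F f) (H' : Tw F' f') (H'' : Tw G g) (T T' T'' : Tb)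
    (h : chk y P (fun l => l) (fun l => adL (nz (li0 T (f l))) (adL (nz (li0 T' (f' l))) (nz (li0 T'' (g l))))) = true)
    {v : L8 K} (hv : v ∈ LB K y P) (h0 : F v = 0) (h1 : F' v = 0) (h2 : G v = 0) : v = 0 := by
  have h3 := Tw.id.eq ((H.tb T).add ((H'.tb T').add (H''.tb T''))) h hv
  rwa [LinearMap.add_apply, LinearMap.add_apply, LinearMap.comp_apply, LinearMap.comp_apply, LinearMap.comp_apply, h0, h1,
    h2, map_zero, map_zero, map_zero, add_zero, add_zero] at h3

/-! ### the data -/

/-- data -/
def e9 : SV :=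
  [(120, 1), (123, 1), (126, 1), (135, 1), (162, 1)]

/-- data -/
def zz : SV :=
  [(158, 1), (159, -1), (177, -1), (179, -1), (186, 1)]

/-- data -/
def k1p9 : Tb :=
  [(125, [(122, -1)]), (128, [(122, -1), (124, -1)]), (140, [(134, -1)]), (151, [(146, 1)]), (160, [(159, 1), (177,
  -1), (179, 1), (186, 1)]), (167, [(134, -1), (139, -1)]), (172, [(146, 1), (150, -1)]), (180, [(177, 1), (186,
  -1)]), (181, [(177, -1), (179, 1), (186, 1)]), (187, [(186, 1)]), (198, [(196, 1)]), (200, [(196, -1), (197, 1)]),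
  (208, [(206, 1)]), (210, [(206, -1), (207, 1)]), (220, [(215, 1)]), (226, [(215, -1), (219, 1)]), (239, [(238,
  1)])]

/-- data -/
def k2p9 : Tb :=
  [(1, [(0, -1)])]

/-- data -/
def dn1y9 : Tb :=
  []

/-- data -/
def dn1p9 : Tb :=
  []

/-- data -/
def up1a9 : SV :=
  []

/-- data -/
def up1b9 : SV :=
  []

/-- data -/
def up1p9 : Tb :=
  []

/-- data -/
def up1q9 : Tb :=
  []

/-- data -/
def up1r9 : Tb :=
  []

/-- data -/
def dn2y9 : Tb :=
  [(50, [(11, 1), (17, -1), (21, 1)])]

/-- data -/
def dn2p9 : Tb :=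
  [(20, [(13, -1)]), (24, [(13, 1), (19, -1)]), (32, [(29, -1)]), (33, [(29, 1), (31, -1)]), (42, [(39, -1)]), (43,
  [(39, 1), (41, -1)]), (53, [(52, -1), (58, -1), (59, 1), (79, -1)]), (60, [(58, -1), (79, -1)]), (62, [(58, 1),
  (59, -1), (79, 1)]), (80, [(79, -1)]), (89, [(67, 1)]), (93, [(67, -1), (88, -1)]), (100, [(72, 1)]), (105, [(72,
  1), (99, 1)]), (115, [(111, 1)]), (117, [(111, 1), (114, 1)])]

/-- data -/
def up2a9 : SV :=
  [(218, 1), (222, -1), (228, 1)]

/-- data -/
def up2b9 : SV :=
  []

/-- data -/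
def up2p9 : Tb :=
  [(20, [(13, -1)]), (24, [(13, 1), (19, -1)]), (32, [(29, -1)]), (33, [(29, 1), (31, -1)]), (42, [(39, -1)]), (43,
  [(39, 1), (41, -1)]), (53, [(50, 1), (52, 1), (59, -1)]), (60, [(50, 1), (52, -1), (59, 1)]), (62, [(50, -1), (52,
  1), (59, 1)]), (80, [(79, -1)]), (89, [(67, 1)]), (93, [(67, -1), (88, -1)]), (100, [(72, 1)]), (105, [(72, 1),
  (99, 1)]), (115, [(111, 1)]), (117, [(111, 1), (114, 1)])]

/-- data -/
def up2q9 : Tb :=
  [(158, [(50, 1), (52, -1), (58, 1), (59, 1), (79, 1)])]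

/-- data -/
def up2r9 : Tb :=
  []

/-- data -/
def c0y9 : Tb :=
  [(11, [(1, -1)])]

/-- data -/
def c0p9 : Tb :=
  [(4, [(3, -1)]), (14, [(6, -1)]), (15, [(8, -1)]), (18, [(17, -1), (21, 1)]), (22, [(21, -1)]), (30, [(27, -1)]),
  (40, [(37, -1)]), (78, [(56, 1)])]

/-- data -/
def c1p9 : Tb :=
  []

/-- data -/
def c1q9 : Tb :=
  [(50, [(1, -1)])]

/-- data -/
def i0y9 : Tb :=
  [(54, [(20, 1), (24, -1)]), (69, [(32, -1), (33, 1)]), (74, [(42, -1), (43, 1)]), (77, [(53, 1), (60, 1), (62, 1),
  (81, 1)]), (113, [(60, 1), (62, -1), (80, -1), (81, -1)]), (131, [(89, 1), (93, -1)]), (143, [(100, 1), (105,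
  1)]), (153, [(115, -1), (117, -1)])]

/-- data -/
def i0p9 : Tb :=
  [(65, [(64, -1), (83, 1)]), (92, [(91, -1), (95, -1)]), (103, [(102, -1), (107, 1)]), (120, [(247, 1)]), (123,
  [(245, 1)]), (135, [(242, 1)]), (138, [(137, 1), (164, -1)]), (149, [(148, 1), (169, -1)]), (178, [(175, 1), (184,
  1)])]

/-- data -/
def c2p9 : Tb :=
  [(25, [(24, -1)]), (34, [(32, 1), (33, 1)]), (44, [(42, 1), (43, 1)]), (63, [(53, 1), (60, 1), (80, 1)]), (82,
  [(60, -1), (62, 1), (81, 1)]), (84, [(60, -1), (62, 1), (80, -1)]), (94, [(93, -1)]), (106, [(105, -1)]), (118,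
  [(115, -1), (117, 1)])]

/-- data -/
def c2q9 : Tb :=
  [(55, [(20, 1), (24, -1)]), (70, [(32, -1), (33, 1)]), (75, [(42, -1), (43, 1)]), (132, [(89, -1), (93, 1)]),
  (144, [(100, -1), (105, -1)]), (156, [(115, 1), (117, 1)]), (240, [(53, -1), (60, -1), (62, -1), (81, -1)]), (244,
  [(60, -1), (62, 1), (80, 1), (81, 1)])]

/-- data -/
def f9 : SV :=
  [(77, -1), (104, -1), (113, -1), (116, -1), (119, 1)]

/-- data -/
def e10 : SV :=
  [(120, 1), (123, 1), (126, 1), (135, 1), (141, 1), (162, 1)]

/-- data -/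
def k1p10 : Tb :=
  [(125, [(122, -1)]), (128, [(122, -1), (124, -1)]), (160, [(159, 1), (177, -1), (179, 1), (186, 1)]), (180, [(177,
  1), (186, -1)]), (181, [(177, -1), (179, 1), (186, 1)]), (187, [(186, 1)]), (203, [(202, 1), (209, -1)]), (212,
  [(209, 1)]), (220, [(215, 1)]), (226, [(215, -1), (219, 1)]), (232, [(225, -1), (231, 1)]), (233, [(225, 1)]),
  (239, [(238, 1)])]

/-- data -/
def k2p10 : Tb :=
  [(1, [(0, -1)]), (8, [(7, -1)]), (14, [(6, -1), (7, 1)]), (30, [(27, -1), (36, 1)]), (37, [(36, -1)])]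

/-- data -/
def dn1y10 : Tb :=
  [(70, [(32, 1), (33, -1), (39, 1), (41, 1)]), (132, [(72, -1), (89, 1), (93, -1), (99, 1)])]

/-- data -/
def dn1p10 : Tb :=
  [(45, [(35, -1)]), (75, [(74, -1), (101, -1)]), (92, [(91, -1), (95, 1), (101, 1)]), (96, [(95, -1)]), (102,
  [(101, -1)]), (138, [(137, 1), (147, -1), (164, 1)]), (144, [(143, 1), (147, -1)]), (148, [(147, 1)]), (165,
  [(164, 1)]), (204, [(194, 1)])]

/-- data -/
def up1a10 : SV :=
  [(140, 1), (146, 1), (150, 1), (167, 1)]

/-- data -/
def up1b10 : SV :=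
  [(198, 1), (200, -1), (206, 1), (207, 1)]

/-- data -/
def up1p10 : Tb :=
  [(45, [(35, -1)]), (75, [(74, -1), (101, -1)]), (92, [(91, -1), (95, 1), (101, 1)]), (96, [(95, -1)]), (102,
  [(101, -1)]), (138, [(132, 1), (137, -1), (143, 1), (164, -1)]), (144, [(132, 1), (137, 1), (143, -1), (164, 1)]),
  (148, [(147, 1)]), (165, [(164, 1)]), (204, [(194, 1)])]

/-- data -/
def up1q10 : Tb :=
  [(158, [(132, 1), (137, 1), (143, 1), (147, 1), (164, 1)])]

/-- data -/
def up1r10 : Tb :=
  [(158, [(70, 1), (74, -1), (91, 1), (95, -1), (101, 1)])]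

/-- data -/
def dn2y10 : Tb :=
  [(50, [(11, 1), (17, -1), (21, 1)])]

/-- data -/
def dn2p10 : Tb :=
  [(20, [(13, -1)]), (24, [(13, 1), (19, -1)]), (53, [(52, -1), (58, -1), (59, 1), (79, -1)]), (60, [(58, -1), (79,
  -1)]), (62, [(58, 1), (59, -1), (79, 1)]), (80, [(79, -1)]), (115, [(111, 1)]), (117, [(111, 1), (114, 1)])]

/-- data -/
def up2a10 : SV :=
  [(218, 1), (222, -1), (228, 1)]

/-- data -/
def up2b10 : SV :=
  []

/-- data -/
def up2p10 : Tb :=
  [(20, [(13, -1)]), (24, [(13, 1), (19, -1)]), (53, [(50, 1), (52, 1), (59, -1)]), (60, [(50, 1), (52, -1), (59,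
  1)]), (62, [(50, -1), (52, 1), (59, 1)]), (80, [(79, -1)]), (115, [(111, 1)]), (117, [(111, 1), (114, 1)])]

/-- data -/
def up2q10 : Tb :=
  [(158, [(50, 1), (52, -1), (58, 1), (59, 1), (79, 1)])]

/-- data -/
def up2r10 : Tb :=
  []

/-- data -/
def c0y10 : Tb :=
  [(11, [(1, -1)]), (32, [(8, -1), (14, 1)]), (72, [(30, 1), (37, -1)])]

/-- data -/
def c0p10 : Tb :=
  [(4, [(3, -1)]), (18, [(17, -1), (21, 1)]), (22, [(21, -1)]), (34, [(33, -1), (39, -1), (41, 1)]), (42, [(39,
  -1)]), (43, [(39, 1), (41, -1)]), (78, [(56, 1)]), (94, [(89, 1), (93, 1), (99, -1)]), (100, [(89, 1), (93, -1),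
  (99, 1)]), (105, [(89, 1), (93, -1), (99, -1)])]

/-- data -/
def c1p10 : Tb :=
  [(15, [(8, -1)]), (40, [(37, -1)])]

/-- data -/
def c1q10 : Tb :=
  [(50, [(1, -1)]), (70, [(8, -1), (14, 1)]), (132, [(30, -1), (37, 1)])]

/-- the certificates of one class -/
structure Pre (y : Q8) (e : SV) (k1p k2p d1y d1p d2y d2p : Tb) (u1a u1b : SV) (u1p u1q u1r : Tb) (u2a u2b : SV)
    (u2p u2q u2r c0y c0p c1p c1q : Tb) : Prop where
  tt : (List.range 248).all (fun k => decide ((fun l m : ℤ => -3 ≤ m ∧ (m = -3 → l = 1 ∨ l = -1) ∧ (3 ≤ l → l + m ≠ 0))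
    (dg y k) (wc k 6))) = true
  em : inB y (fun l m => l = 2 ∧ m = 0) e = true
  zc : z3 (br0 e zz) = true
  zm : inB y (fun l m => l = -1 ∧ m = 1) zz = true
  k1 : chk y (fun l m => l = -1 ∧ 1 ≤ m) (fun l => l)
    (fun l => adL (nz (li0 [(158, zz)] l)) (nz (li0 k1p (brS e l)))) = true
  k2 : chk y (fun l m => l = -1 ∧ m ≤ -2) (fun l => l) (fun l => nz (li0 k2p (brS e l))) = true
  d1 : chk y (fun l m => l = -1 ∧ m = 1 - 1) (fun l => adL l (brS zz (nz (li0 d1y l))))
    (fun l => nz (li0 d1p (brS e l))) = true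
  d1' : d1y.all (fun p => inB y (fun l m => l = 0 ∧ m = -1) p.2 && z3 (br0 e p.2)) = true
  d2 : chk y (fun l m => l = -1 ∧ m = 1 - 2) (fun l => adL l (brS zz (nz (li0 d2y l))))
    (fun l => nz (li0 d2p (brS e l))) = true
  d2' : d2y.all (fun p => inB y (fun l m => l = 0 ∧ m = -2) p.2 && z3 (br0 e p.2)) = true
  u1 : chk y (fun l m => l = -1 ∧ m = 1 - 1) (fun l => l) (fun l => adL (nz (li0 u1p (brS e l)))
    (adL (nz (li0 u1q (brS u1a l))) (nz (li0 u1r (brS u1b l))))) = true
  u1' : [u1a, u1b].all (fun p => inB y (fun l m => l = 0 ∧ m = 1) p && z3 (br0 e p)) = true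
  u2 : chk y (fun l m => l = -1 ∧ m = 1 - 2) (fun l => l) (fun l => adL (nz (li0 u2p (brS e l)))
    (adL (nz (li0 u2q (brS u2a l))) (nz (li0 u2r (brS u2b l))))) = true
  u2' : [u2a, u2b].all (fun p => inB y (fun l m => l = 0 ∧ m = 2) p && z3 (br0 e p)) = true
  c0 : chk y (fun l m => l = 0 ∧ m < 0) (fun l => adL l (brS zz (nz (li0 c0y l))))
    (fun l => nz (li0 c0p (brS e l))) = true
  c0' : c0y.all (fun p => inB y (fun l m => l = 1 ∧ m ≤ -2) p.2 && z3 (br0 e p.2)) = true
  c1 : chk y (fun l m => l = 1 ∧ m ≤ -2) (fun l => l) (fun l => adL (nz (li0 c1p (brS e l)))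
    (adL (nz (li0 c1q (brS zz (brS zz l)))) (nz (li0 [] (brS e l))))) = true

private noncomputable def _root_.Cfsg.Agent.LsF.f2a91ea_0 : {f // @Int.subNatNat = f} := ⟨_, by first | (delta Int.subNatNat; rewrite [Cfsg.Agent.LsF.nsub_pat]; (try delta Int.negOfNat.match_1); (try delta Nat.casesOn); exact rfl) | exact rfl⟩
private noncomputable def _root_.Cfsg.Agent.LsF.f2a91ea_1 : {f // @Cfsg.Agent.E8A.C63.Sv.wc = f} := ⟨_, by first | (delta Cfsg.Agent.E8A.C63.Sv.wc; rewrite [Cfsg.Agent.LsF.f2a91ea_0.2]; exact rfl) | exact rfl⟩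
private noncomputable def _root_.Cfsg.Agent.LsF.f2a91ea_2 : {f // @Cfsg.Agent.E8A.C63.Sv.dg = f} := ⟨_, by first | (delta Cfsg.Agent.E8A.C63.Sv.dg; rewrite [Cfsg.Agent.LsF.f2a91ea_1.2, Cfsg.Agent.LsF.iadd_pat, Cfsg.Agent.LsF.imul_pat]; exact rfl) | exact rfl⟩
private noncomputable def _root_.Cfsg.Agent.LsF.f2a91ea_3 : {f // @Cfsg.Agent.E8A.C63.lab = f} := ⟨_, by first | (delta Cfsg.Agent.E8A.C63.lab; rewrite [Cfsg.Agent.LsF.ineg_pat, Cfsg.Agent.LsF.vecCons_eq]; exact rfl) | exact rfl⟩
private noncomputable def _root_.Cfsg.Agent.LsF.f2a91ea_4 : {f // @Cfsg.Agent.E8A.C63.Sv.m3 = f} := ⟨_, by first | (delta Cfsg.Agent.E8A.C63.Sv.m3; rewrite [Cfsg.Agent.LsF.natAbs_eq, Cfsg.Agent.LsF.emod_eq]; exact rfl) | exact rfl⟩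
private noncomputable def _root_.Cfsg.Agent.LsF.f2a91ea_5 : {f // @Cfsg.Agent.E8A.C63.Sv.z3 = f} := ⟨_, by first | (delta Cfsg.Agent.E8A.C63.Sv.z3; rewrite [Cfsg.Agent.LsF.f2a91ea_4.2]; exact rfl) | exact rfl⟩
private noncomputable def _root_.Cfsg.Agent.LsF.f2a91ea_6 : {f // @Cfsg.Agent.ChevalleyStructure.JacTab.insM = f} := ⟨_, by first | (delta Cfsg.Agent.ChevalleyStructure.JacTab.insM; rewrite [Cfsg.Agent.LsF.iadd_eq]; exact rfl) | exact rfl⟩
private noncomputable def _root_.Cfsg.Agent.LsF.f2a91ea_7 : {f // @Cfsg.Agent.ChevalleyStructure.JacTab.addH = f} := ⟨_, by first | (delta Cfsg.Agent.ChevalleyStructure.JacTab.addH; rewrite [Cfsg.Agent.LsF.f2a91ea_6.2, Cfsg.Agent.LsF.imul_eq]; exact rfl) | exact rfl⟩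
private noncomputable def _root_.Cfsg.Agent.LsF.f2a91ea_8 : {f // @Cfsg.Agent.E8A.C63.Sv.eq3 = f} := ⟨_, by first | (delta Cfsg.Agent.E8A.C63.Sv.eq3; rewrite [Cfsg.Agent.LsF.f2a91ea_5.2, Cfsg.Agent.LsF.f2a91ea_7.2]; exact rfl) | exact rfl⟩
private noncomputable def _root_.Cfsg.Agent.LsF.f2a91ea_9 : {f // @Cfsg.Agent.E8A.C63.Wt.chk = f} := ⟨_, by first | (delta Cfsg.Agent.E8A.C63.Wt.chk; rewrite [Cfsg.Agent.LsF.f2a91ea_2.2, Cfsg.Agent.LsF.f2a91ea_1.2, Cfsg.Agent.LsF.f2a91ea_8.2, Cfsg.Agent.LsF.or_eq, Cfsg.Agent.LsF.not_eq, Cfsg.Agent.LsF.all_eq, Cfsg.Agent.LsF.range_eq, Cfsg.Agent.LsF.decide_eq]; exact rfl) | exact rfl⟩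
private noncomputable def _root_.Cfsg.Agent.LsF.f2a91ea_10 : {f // @Cfsg.Agent.E8A.C63.Sv.adL = f} := ⟨_, by first | (delta Cfsg.Agent.E8A.C63.Sv.adL; rewrite [Cfsg.Agent.LsF.f2a91ea_7.2]; exact rfl) | exact rfl⟩
private noncomputable def _root_.Cfsg.Agent.LsF.f2a91ea_11 : {f // @Cfsg.Agent.E8A.C63.Sv.nf = f} := ⟨_, by first | (delta Cfsg.Agent.E8A.C63.Sv.nf; rewrite [Cfsg.Agent.LsF.f2a91ea_4.2]; exact rfl) | exact rfl⟩
private noncomputable def _root_.Cfsg.Agent.LsF.f2a91ea_12 : {f // @Cfsg.Agent.E8A.C63.Sv.nz = f} := ⟨_, by first | (delta Cfsg.Agent.E8A.C63.Sv.nz; rewrite [Cfsg.Agent.LsF.f2a91ea_11.2]; exact rfl) | exact rfl⟩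
private noncomputable def _root_.Cfsg.Agent.LsF.f2a91ea_13 : {f // @Cfsg.Agent.E8A.C63.Sv.cf = f} := ⟨_, by first | (delta Cfsg.Agent.E8A.C63.Sv.cf; rewrite [Cfsg.Agent.LsF.iadd_eq]; exact rfl) | exact rfl⟩
private noncomputable def _root_.Cfsg.Agent.LsF.f2a91ea_14 : {f // @Cfsg.Agent.E8A.C63.Wt.li0 = f} := ⟨_, by first | (delta Cfsg.Agent.E8A.C63.Wt.li0; rewrite [Cfsg.Agent.LsF.f2a91ea_7.2, Cfsg.Agent.LsF.f2a91ea_13.2]; exact rfl) | exact rfl⟩
private noncomputable def _root_.Cfsg.Agent.LsF.f2a91ea_15 : {f // @Cfsg.Agent.ChevalleyStructure.JacTab.actE = f} := ⟨_, by first | (delta Cfsg.Agent.ChevalleyStructure.JacTab.actE; rewrite [Cfsg.Agent.LsF.f2a91ea_6.2, Cfsg.Agent.LsF.f2a91ea_0.2, Cfsg.Agent.LsF.f2a91ea_7.2, Cfsg.Agent.LsF.imul_eq]; exact rfl) | exact rfl⟩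
private noncomputable def _root_.Cfsg.Agent.LsF.f2a91ea_16 : {f // @Cfsg.Agent.E8A.C63.Sv.adS = f} := ⟨_, by first | (delta Cfsg.Agent.E8A.C63.Sv.adS; rewrite [Cfsg.Agent.LsF.f2a91ea_15.2, Cfsg.Agent.LsF.imul_eq]; exact rfl) | exact rfl⟩
private noncomputable def _root_.Cfsg.Agent.LsF.f2a91ea_17 : {f // @Cfsg.Agent.ChevalleyStructure.JacDataE8.rows = f} := ⟨_, by first | (delta Cfsg.Agent.ChevalleyStructure.JacDataE8.rows; rewrite [Cfsg.Agent.LsF.lappend_pat]; exact rfl) | exact rfl⟩
private noncomputable def _root_.Cfsg.Agent.LsF.f2a91ea_18 : {f // @Cfsg.Agent.E8A.C63.Sv.br0 = f} := ⟨_, by first | (delta Cfsg.Agent.E8A.C63.Sv.br0; rewrite [Cfsg.Agent.LsF.f2a91ea_16.2, Cfsg.Agent.LsF.f2a91ea_17.2]; exact rfl) | exact rfl⟩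
private noncomputable def _root_.Cfsg.Agent.LsF.f2a91ea_19 : {f // @Cfsg.Agent.E8A.C63.Sv.brS = f} := ⟨_, by first | (delta Cfsg.Agent.E8A.C63.Sv.brS; rewrite [Cfsg.Agent.LsF.f2a91ea_12.2, Cfsg.Agent.LsF.f2a91ea_18.2]; exact rfl) | exact rfl⟩
theorem pre9 : Pre (lab 9) e9 k1p9 k2p9 dn1y9 dn1p9 dn2y9 dn2p9 up1a9 up1b9 up1p9 up1q9 up1r9 up2a9 up2b9 up2p9 up2q9
    up2r9 c0y9 c0p9 c1p9 c1q9 := by
  constructor <;> (refine of_decide_eq_true ?_; (try rewrite [Cfsg.Agent.LsF.f2a91ea_2.2]); (try rewrite [Cfsg.Agent.LsF.f2a91ea_3.2]); (try rewrite [Cfsg.Agent.LsF.f2a91ea_1.2]); (try rewrite [Cfsg.Agent.LsF.f2a91ea_9.2]); (try rewrite [Cfsg.Agent.LsF.f2a91ea_10.2]); (try rewrite [Cfsg.Agent.LsF.f2a91ea_12.2]); (try rewrite [Cfsg.Agent.LsF.f2a91ea_14.2]); (try rewrite [Cfsg.Agent.LsF.f2a91ea_19.2]); (try rewrite [Cfsg.Agent.LsF.iadd_pat]); (try rewrite [Cfsg.Agent.LsF.ineg_pat]); (try rewrite [Cfsg.Agent.LsF.all_eq]); (try rewrite [Cfsg.Agent.LsF.range_eq]); (try rewrite [Cfsg.Agent.LsF.instIDecEq_eq]); (try rewrite [Cfsg.Agent.LsF.idecLe_eq]);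 (try rewrite [Cfsg.Agent.LsF.dAnd_eq]); (try rewrite [Cfsg.Agent.LsF.dOr_eq]); (try rewrite [Cfsg.Agent.LsF.dNot_eq]); (try rewrite [Cfsg.Agent.LsF.dAllP_eq]); (try rewrite [Cfsg.Agent.LsF.decide_eq]); (try rewrite [Cfsg.Agent.LsF.isub_pat]); (try rewrite [Cfsg.Agent.LsF.idecLt_eq]); decide +kernel)

theorem pre10 : Pre (lab 10) e10 k1p10 k2p10 dn1y10 dn1p10 dn2y10 dn2p10 up1a10 up1b10 up1p10 up1q10 up1r10 up2a10
    up2b10 up2p10 up2q10 up2r10 c0y10 c0p10 c1p10 c1q10 := by
  constructor <;> (refine of_decide_eq_true ?_; (try rewrite [Cfsg.Agent.LsF.f2a91ea_2.2]); (try rewrite [Cfsg.Agent.LsF.f2a91ea_3.2]); (try rewrite [Cfsg.Agent.LsF.f2a91ea_1.2]); (try rewrite [Cfsg.Agent.LsF.f2a91ea_9.2]); (try rewrite [Cfsg.Agent.LsF.f2a91ea_10.2]); (try rewrite [Cfsg.Agent.LsF.f2a91ea_12.2]); (try rewrite [Cfsg.Agent.LsF.f2a91ea_14.2]); (try rewrite [Cfsg.Agent.LsF.f2a91ea_19.2]); (try rewrite [Cfsg.Agent.LsF.iadd_pat]); (try rewrite [Cfsg.Agent.LsF.ineg_pat]); (try rewrite [Cfsg.Agent.LsF.all_eq]); (try rewrite [Cfsg.Agent.LsF.range_eq]);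 (try rewrite [Cfsg.Agent.LsF.instIDecEq_eq]); (try rewrite [Cfsg.Agent.LsF.idecLe_eq]); (try rewrite [Cfsg.Agent.LsF.dAnd_eq]); (try rewrite [Cfsg.Agent.LsF.dOr_eq]); (try rewrite [Cfsg.Agent.LsF.dNot_eq]); (try rewrite [Cfsg.Agent.LsF.dAllP_eq]); (try rewrite [Cfsg.Agent.LsF.decide_eq]); (try rewrite [Cfsg.Agent.LsF.isub_pat]); (try rewrite [Cfsg.Agent.LsF.idecLt_eq]); decide +kernel)

theorem upf {k : ℤ} (e a b : SV) (p q r : Tb) [∀ l m : ℤ, Decidable (l = 0 ∧ m = k)]
    (h : chk y P (fun l => l) (fun l => adL (nz (li0 p (brS e l)))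
      (adL (nz (li0 q (brS a l))) (nz (li0 r (brS b l))))) = true)
    (h' : [a, b].all (fun p => inB y (fun l m => l = 0 ∧ m = k) p && z3 (br0 e p)) = true)
    {v : L8 K} (hv : v ∈ LB K y P) (h0 : br (sv K e) v = 0) (h1 : v ≠ 0) :
    ∃ w ∈ LB K y fun l m => l = 0 ∧ m = k, br (sv K e) w = 0 ∧ br w v ≠ 0 := by
  have h4 := fun p hp => Bool.and_eq_true_iff.1 (List.all_eq_true.1 h' p hp)
  have ha := h4 a (by simp)
  have hb := h4 b (by simp)
  by_cases h2 : br (sv K a) v = 0
  · refine ⟨sv K b, sv_LB hb.1, br_of_z3 hb.2, fun h3 => h1 ?_⟩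
    exact inj (Tw.id.ad e) (Tw.id.ad a) (Tw.id.ad b) p q r h hv h0 h2 h3
  · exact ⟨sv K a, sv_LB ha.1, br_of_z3 ha.2, h2⟩

theorem fa_of {e : SV} {k1p k2p d1y d1p d2y d2p : Tb} {u1a u1b : SV} {u1p u1q u1r : Tb} {u2a u2b : SV}
    {u2p u2q u2r c0y c0p c1p c1q : Tb}
    (H : Pre y e k1p k2p d1y d1p d2y d2p u1a u1b u1p u1q u1r u2a u2b u2p u2q u2r c0y c0p c1p c1q)
    (h1 : ∀ d ∈ LB K y fun l _ => 2 ≤ l, ∃ w, br (sv K e) w = d)
    (h2 : ∀ v, br (sv K e) v = 0 → v ∈ LB K y fun l _ => -1 ≤ l) : Fa y (sv K e) (sv K zz) where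
  nl := ⟨sv_LB H.em, h1⟩
  tt := all_LB H.tt
  cn := h2
  zc := br_of_z3 H.zc
  zm := sv_LB H.zm
  k1 := fun v hv h0 => by
    have h3 := Tw.id.eq ((Tw.id.tb [(158, zz)]).add ((Tw.id.ad e).tb k1p)) H.k1 hv
    rw [LinearMap.add_apply, LinearMap.comp_apply _ (_ ∘ₗ _), show (brL K (sv K e) ∘ₗ LinearMap.id) v = 0 from h0,
      map_zero, add_zero, LinearMap.comp_apply, lin_cons, lin_nil, add_zero] at h3
    exact ⟨_, h3⟩
  k2 := fun v hv h0 => by
    have h3 := Tw.id.eq ((Tw.id.ad e).tb k2p) H.k2 hv
    rwa [LinearMap.comp_apply _ (_ ∘ₗ _), show (brL K (sv K e) ∘ₗ LinearMap.id) v = 0 from h0, map_zero] at h3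
  dn := by
    rintro k (rfl | rfl) v hv h0
    · exact sol (Tw.id.ad e) Tw.id e zz d1y d1p H.d1 H.d1' hv h0
    · exact sol (Tw.id.ad e) Tw.id e zz d2y d2p H.d2 H.d2' hv h0
  up := by
    rintro k (rfl | rfl) v hv h0 h1
    · exact upf e u1a u1b u1p u1q u1r H.u1 H.u1' hv h0 h1
    · exact upf e u2a u2b u2p u2q u2r H.u2 H.u2' hv h0 h1
  c0 := fun v hv h0 => sol (Tw.id.ad e) Tw.id e zz c0y c0p H.c0 H.c0' hv h0
  c1 := fun v hv h0 h1 => inj (Tw.id.ad e) ((Tw.id.ad zz).ad zz) (Tw.id.ad e) c1p c1q [] H.c1 hv h0 h1 h0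

/-- the toral element of the class `2A₂A₁` -/
def h9 : SV := [(240, 2), (242, 2), (244, 2), (245, 2), (247, 1)]

theorem h9_root : ∀ r < 240, cf h9 r = 0 := by decide +kernel

private noncomputable def _root_.Cfsg.Agent.LsF.f2a91ea_20 : {f // @Cfsg.Lie.ChevalleyDatum.cartan = f} := ⟨_, by first | (delta Cfsg.Lie.ChevalleyDatum.cartan; rewrite [Cfsg.Agent.LsF.agetD_eq]; exact rfl) | exact rfl⟩
private noncomputable def _root_.Cfsg.Agent.LsF.f2a91ea_21 : {f // @Cfsg.Lie.ChevalleyDatum.simple = f} := ⟨_, by first | (delta Cfsg.Lie.ChevalleyDatum.simple; rewrite [Cfsg.Agent.LsF.agetD_eq]; exact rfl) | exact rfl⟩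
private noncomputable def _root_.Cfsg.Agent.LsF.f2a91ea_22 : {f // @Cfsg.Agent.ChevalleyStructure.CoxeterGeomTypes.cartanOf = f} := ⟨_, by first | (delta Cfsg.Agent.ChevalleyStructure.CoxeterGeomTypes.cartanOf; rewrite [Cfsg.Agent.LsF.f2a91ea_20.2, Cfsg.Agent.LsF.f2a91ea_21.2]; exact rfl) | exact rfl⟩
theorem h9_lab : ∀ j : Fin 8, ∑ i : Fin 8, ChevalleyStructure.CoxeterGeomTypes.cartanOf chevE8 8 i j * cf h9 (240 + i.val) =
    lab 9 j := by (refine of_decide_eq_true ?_; (try (rewrite [Cfsg.Agent.LsF.sumF_pat, Cfsg.Agent.LsF.f2a91ea_22.2, Cfsg.Agent.LsF.f2a91ea_13.2, Cfsg.Agent.LsF.f2a91ea_3.2, Cfsg.Agent.LsF.nadd_pat, Cfsg.Agent.LsF.iadd_pat, Cfsg.Agent.LsF.imul_pat, Cfsg.Agent.LsF.iACM_eq, Cfsg.Agent.LsF.instIDecEq_eq, Cfsg.Agent.LsF.dForallFin_eq, Cfsg.Agent.LsF.decide_eq])); decide +kernel)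

omit [CharP K 3] in
theorem h9_eq {h0 : L8 K} (H : IsH (lab 9) h0) : h0 = sv K h9 := by
  refine inT_ext H.1 (fun r => ?_) fun j => ?_
  · rw [cf_eq, ky_inr, h9_root _ (nroots8 ▸ r.2), Int.cast_zero]
  · rw [H.2, Two.ex_sr, ← h9_lab, rl_sr, Int.cast_sum]
    refine Finset.sum_congr rfl fun i _ => ?_
    rw [cf_eq, ky_inl, Int.cast_mul]
    rfl

theorem i9a : chk (lab 9) (fun l m => l = -2 ∧ m = 0) (fun l => adL (brS e9 l) (brS zz (nz (li0 i0y9 l))))
    (fun l => nz (li0 i0p9 (brS e9 (brS e9 l)))) = true := by ((try (rewrite [Cfsg.Agent.LsF.f2a91ea_9.2, Cfsg.Agent.LsF.f2a91ea_3.2, Cfsg.Agent.LsF.f2a91ea_10.2, Cfsg.Agent.LsF.f2a91ea_19.2, Cfsg.Agent.LsF.f2a91ea_12.2, Cfsg.Agent.LsF.f2a91ea_14.2, Cfsg.Agent.LsF.ineg_pat, Cfsg.Agent.LsF.instIDecEq_eq, Cfsg.Agent.LsF.dAnd_eq])); decide +kernel)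

theorem i9b : i0y9.all (fun p => inB (lab 9) (fun l m => l = 1 ∧ m = -1) p.2 && z3 (br0 e9 p.2)) = true := by
  decide +kernel

theorem i9c : eq3 (br0 e9 f9) h9 = true ∧ inB (lab 9) (fun l m => l = -2 ∧ m = 0) f9 = true := by decide +kernel

theorem i9d : chk (lab 9) (fun l m => l = 1 ∧ m = -1) (fun l => l) (fun l => adL (nz (li0 c2p9 (brS e9 l)))
    (adL (nz (li0 c2q9 (brS zz l))) (nz (li0 [] (brS e9 l))))) = true := by ((try (rewrite [Cfsg.Agent.LsF.f2a91ea_9.2, Cfsg.Agent.LsF.f2a91ea_3.2, Cfsg.Agent.LsF.f2a91ea_10.2, Cfsg.Agent.LsF.f2a91ea_12.2, Cfsg.Agent.LsF.f2a91ea_14.2, Cfsg.Agent.LsF.f2a91ea_19.2, Cfsg.Agent.LsF.ineg_pat, Cfsg.Agent.LsF.instIDecEq_eq, Cfsg.Agent.LsF.dAnd_eq])); decide +kernel)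

theorem fb9 {h0 : L8 K} (H : IsH (lab 9) h0) : Fb (lab 9) (sv K e9) (sv K zz) h0 where
  i0 := fun w hw h1 => by
    have e1 : br (sv K e9) w - h0 = br (sv K e9) (w - sv K f9) := by
      rw [br_sub_right, br_of_eq3 i9c.1, h9_eq H]
    rw [e1] at h1 ⊢
    exact sol ((Tw.id.ad e9).ad e9) (Tw.id.ad e9) e9 zz i0y9 i0p9 i9a i9b (sub_mem hw (sv_LB i9c.2)) h1
  c11 := fun v hv h0 h1 => inj (Tw.id.ad e9) (Tw.id.ad zz) (Tw.id.ad e9) c2p9 c2q9 [] i9d hv h0 h1 h0

omit [CharP K 3] in
theorem ec_sv {c : Fin 11} {l : SV}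
    (h : ∀ k < 248, cf l k = if wk k ∈ (SS c).map (sr : Fin 8 → Q8) then 1 else 0) : ec K c = sv K l := by
  funext j
  rw [cf_eq, h _ (ky_lt j), wk_ky, ec]
  split_ifs <;> simp

private noncomputable def _root_.Cfsg.Agent.LsF.f2a91ea_23 : {f // @Cfsg.Agent.E8A.C63.SS = f} := ⟨_, by first | (delta Cfsg.Agent.E8A.C63.SS; rewrite [Cfsg.Agent.LsF.vecCons_eq]; exact rfl) | exact rfl⟩
private noncomputable def _root_.Cfsg.Agent.LsF.f2a91ea_24 : {f // @Cfsg.Agent.E8A.C63.Sv.wk = f} := ⟨_, by first | (delta Cfsg.Agent.E8A.C63.Sv.wk; rewrite [Cfsg.Agent.LsF.f2a91ea_1.2]; exact rfl) | exact rfl⟩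
omit [CharP K 3] in
theorem ec9 : ec K 9 = sv K e9 := ec_sv (by (refine of_decide_eq_true ?_; (try (delta Cfsg.Agent.Tits.Roots.sr Function.update Pi.single; rewrite [Cfsg.Agent.LsF.dPiF_pat, Cfsg.Agent.LsF.dMemE_pat, Cfsg.Agent.LsF.f2a91ea_13.2, Cfsg.Agent.LsF.f2a91ea_23.2, Cfsg.Agent.LsF.f2a91ea_24.2, Cfsg.Agent.LsF.map_eq, Cfsg.Agent.LsF.instIDecEq_eq, Cfsg.Agent.LsF.dFinEq_eq, Cfsg.Agent.LsF.dBallLT_eq, Cfsg.Agent.LsF.ite_eq, Cfsg.Agent.LsF.dite_eq, Cfsg.Agent.LsF.decide_eq])); decide +kernel))

omit [CharP K 3] in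
theorem ec10 : ec K 10 = sv K e10 := ec_sv (by (refine of_decide_eq_true ?_; (try (delta Cfsg.Agent.Tits.Roots.sr Function.update Pi.single; rewrite [Cfsg.Agent.LsF.dPiF_pat, Cfsg.Agent.LsF.dMemE_pat, Cfsg.Agent.LsF.f2a91ea_13.2, Cfsg.Agent.LsF.f2a91ea_23.2, Cfsg.Agent.LsF.f2a91ea_24.2, Cfsg.Agent.LsF.map_eq, Cfsg.Agent.LsF.instIDecEq_eq, Cfsg.Agent.LsF.dFinEq_eq, Cfsg.Agent.LsF.dBallLT_eq, Cfsg.Agent.LsF.ite_eq, Cfsg.Agent.LsF.dite_eq, Cfsg.Agent.LsF.decide_eq])); decide +kernel))

end Cfsg.Agent.E8A.C63.Wt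

private theorem dce_4b5f4c6daa4d : _root_.True := by
  try have : _root_.True := by simp only [_root_.Cfsg.Agent.E8A.C63.Wt.co.eq_1]
  try have : _root_.True := by simp only [_root_.Cfsg.Agent.E8A.C63.Wt.lin.eq_1]
  exact _root_.True.intro
end

-- part: E8A/D44/Iface
section
set_option linter.all false

/-!
# D44: the abstract box (helper43)
-/

set_option autoImplicit false

namespace Cfsg.Agent.E8A.D44

open Cfsg Cfsg.Lie Module

universe u

/-- **ORT**: an orthogonal projective representation of `A₆` of dimension 8 in characteristic 3 without totally singular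
invariant subspaces has an invariant line -/
def ORT : Prop := ∀ (K : Type u) [Field K] [IsAlgClosed K] [CharP K 3] (V : Type u) [AddCommGroup V] [Module K V]
  [FiniteDimensional K V] (B : V →ₗ[K] V →ₗ[K] K) (σ : Alt 6 → Module.End K V) (U : Submodule K V),
  (∀ x y, B x y = B y x) → (∀ x, (∀ y, B x y = 0) → x = 0) → (∀ a x y, B (σ a x) (σ a y) = B x y) →
  (∀ a b, σ (a * b) = σ a * σ b ∨ σ (a * b) = -(σ a * σ b)) → finrank K ↥U = 8 → (∀ a, ∀ x ∈ U, σ a x ∈ U) →
  (∀ S ≤ U, S ≠ ⊥ → (∀ a, ∀ x ∈ S, σ a x ∈ S) → (∀ x ∈ S, ∀ y ∈ S, B x y = 0) → False) →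
  ∃ v ∈ U, v ≠ 0 ∧ ∀ a, ∃ c : K, σ a v = c • v

end Cfsg.Agent.E8A.D44
end

-- part: E8A/C63/Abc
section
set_option linter.all false
open scoped Cfsg.Agent.FastGrp

/-!
# `A₆` in characteristic 3, box ABC (helper30)

`abc_of` : `ABC` from `MOD T3B T4B KSD CANF APT TRANS KB GRADE STR NIL3 KRK EN3 G2AB`.
-/

set_option autoImplicit false
set_option maxRecDepth 100000
set_option maxHeartbeats 200000

namespace Cfsg.Agent.E8A.C63

open Cfsg Cfsg.Lie Module Submodule
open Cfsg.Agent.H288.E8L (Q8 wt)
open Cfsg.Agent.E8A.Kem (Ge mem_Ge nrm)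
open Cfsg.Agent.E8A.Par (KS Opt)

universe u

namespace Abc

variable {K : Type u} [Field K] [CharP K 3] {ψ : Alt 6 →* G8 K} {U : Submodule K (L8 K)} {x : L8 K} {g : G8 K} {c : Fin 11}

omit [CharP K 3] in
theorem act_cen (hA : Ab U) (hx : x ∈ U) (hg : act g x = ec K c) {v : L8 K} (hv : v ∈ U) : act g v ∈ cen {ec K c} :=
  hg ▸ (cen_act g).2 (mem_cen_one.2 (hA x hx v hv))

theorem act_ge (hS : STR.{u}) (hA : Ab U) (hx : x ∈ U) (hg : act g x = ec K c) {v : L8 K} (hv : v ∈ U) :
    act g v ∈ LS K (Ge (cl (lab c)) (-1)) :=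
  Ge_mono (by split_ifs <;> norm_num) ((hS K c).2.2.2.2.1 (act_cen hA hx hg hv))

theorem act_two (hS : STR.{u}) (hg : act g x = ec K c) : act g x ∈ LS K (Ge (cl (lab c)) 2) :=
  hg ▸ Eq_le_Ge (hS K c).2.2.2.1

theorem two_le (hK : KB.{u}) (hS : STR.{u}) (hp : NoPar ψ) (hU : Inv ψ U) (hA : Ab U) (hx : x ∈ U) (h0 : x ≠ 0)
    (hg : act g x = ec K c) : 2 + finrank K ↥(U ⊓ pb g (LS K (Ge (cl (lab c)) 0))) ≤ finrank K ↥U := by
  have h := kb_ext hK hp hU (fun _ => act_ge hS hA hx hg) (b := fun _ : Unit => x) (d := fun _ => 2)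
    (linearIndependent_unique_iff.2 h0) (fun _ => hx) (fun _ => two_pos.le) fun _ => act_two hS hg
  rw [Fintype.sum_unique] at h
  exact_mod_cast h

/-- only the two bad classes occur -/
theorem bad (hK : KB.{u}) (hS : STR.{u}) (hp : NoPar ψ) (hU : Inv ψ U) (hA : Ab U) (hx : x ∈ U) (h0 : x ≠ 0)
    (hg : act g x = ec K c) : (c = 9 ∧ cd x = 88) ∨ (c = 10 ∧ cd x = 84) := by
  have h1 := two_le hK hS hp hU hA hx h0 hg
  have h2 : ¬ c.val ≤ 8 := fun h => by
    rw [inf_eq_left.2 fun v hv => mem_pb.2 (by simpa only [if_pos h] using (hS K c).2.2.2.2.1 (act_cen hA hx hg hv))] at h1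
    omega
  have h3 : cd x = cdc c := by rw [← cd_act g, hg, (hS K c).2.1]
  have h4 : c = 9 ∨ c = 10 := by omega
  rcases h4 with rfl | rfl
  · exact .inl ⟨rfl, h3⟩
  · exact .inr ⟨rfl, h3⟩

theorem pr_mem_KK (hS : STR.{u}) {v : L8 K} (h1 : v ∈ cen {ec K c}) (h2 : v ∈ LS K (Ge (cl (lab c)) (-1))) :
    pr (cl (lab c)) (-1) v ∈ KK K c := by
  refine ⟨mem_cen_one.2 ?_, pr_mem _ _ _⟩
  rw [← pr_of_mem (hS K c).2.2.2.1, ← pr_br rfl (Eq_le_Ge (hS K c).2.2.2.1) h2, mem_cen_one.1 h1, pr_zero]

/-- the class `2A₂A₁` -/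
theorem nine (hK : KB.{u}) (hS : STR.{u}) (hG : G2AB.{u}) (hp : NoPar ψ) (hU : Inv ψ U) (hA : Ab U) (hC : ∀ v ∈ U, Cz v)
    (hx : x ∈ U) (h0 : x ≠ 0) (hg : act g x = ec K 9) :
    2 + finrank K ↥(U ⊓ pb g (LS K (Ge (cl (lab 9)) 0))) = finrank K ↥U ∧ finrank K ↥U ≤ 8 := by
  have h1 := two_le hK hS hp hU hA hx h0 hg
  have hm := fun v (hv : v ∈ U) => act_ge hS hA hx hg hv
  set R := U ⊓ pb g (LS K (Ge (cl (lab 9)) 0)) with hR
  have h2 : U.map (prL K (cl (lab 9)) (-1) g) ≤ KK K 9 := by
    rintro _ ⟨v, hv, rfl⟩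
    exact pr_mem_KK hS (act_cen hA hx hg hv) (hm v hv)
  have h3 : U ⊓ LinearMap.ker (prL K (cl (lab 9)) (-1) g) ≤ R := fun v hv => ⟨hv.1, by
    have h := Ge_succ (n := -1) (by exact_mod_cast hm v hv.1) (by exact_mod_cast hv.2)
    exact mem_pb.2 (by simpa using h)⟩
  have h4 := finrank_map_add (prL K (cl (lab 9)) (-1) g) U
  have h5 := finrank_mono h2
  have h6 := finrank_mono h3
  have h7 : finrank K ↥(KK K 9) = 2 := (hS K 9).2.2.2.2.2.2
  have h8 := eq_of_le_of_finrank_le h2 (by omega)
  have h9 : R ⊓ LinearMap.ker (prL K (cl (lab 9)) 0 g) ≤ span K {x} := fun z hz => by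
    by_contra hn
    have k1 := Ge_succ (n := 0) (by exact_mod_cast hz.1.2) (by exact_mod_cast hz.2)
    have k2 := kb_ext hK hp hU hm (b := ![x, z]) (d := ![2, 1])
      ((LinearIndependent.pair_iff' h0).2 fun a e => hn (mem_span_singleton.2 ⟨a, e⟩))
      (Fin.forall_fin_two.2 ⟨hx, hz.1.1⟩) (Fin.forall_fin_two.2 ⟨two_pos.le, one_pos.le⟩)
      (Fin.forall_fin_two.2 ⟨act_two hS hg, Ge_mono (by simp) k1⟩)
    rw [Fin.sum_univ_two, ← hR] at k2
    have k3 : 2 + 1 + finrank K ↥R ≤ finrank K ↥U := by exact_mod_cast (show (2 : ℝ) + 1 + _ ≤ _ from k2)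
    omega
  have h10 := finrank_map_add (prL K (cl (lab 9)) 0 g) R
  have h11 := (finrank_mono h9).trans_eq (finrank_span_singleton h0)
  have h12 := hG K (R.map (prL K (cl (lab 9)) 0 g)) (by
    rintro _ ⟨v, hv, rfl⟩
    refine ⟨?_, pr_mem _ _ _⟩
    rintro s (rfl | hs)
    · rw [← pr_of_mem (hS K 9).2.2.2.1, prL_apply, ← pr_br rfl (Eq_le_Ge (hS K 9).2.2.2.1) (mem_pb.1 hv.2),
        mem_cen_one.1 (act_cen hA hx hg hv.1), pr_zero]
    · obtain ⟨w, hw, rfl⟩ := h8.ge hs
      rw [prL_apply, prL_apply, ← pr_br rfl (hm w hw) (mem_pb.1 hv.2), ← act_br, hA w hw v hv.1, act_zero, pr_zero]) (by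
    rintro _ ⟨v, hv, rfl⟩ _ ⟨w, hw, rfl⟩
    rw [prL_apply, prL_apply, ← pr_br rfl (mem_pb.1 hv.2) (mem_pb.1 hw.2), ← act_br, hA v hv.1 w hw.1, act_zero, pr_zero]) (by
    rintro _ ⟨v, hv, rfl⟩
    exact cz_pr0 ((hC v hv.1).act g) hv.2)
  omega

theorem cd_ge (hc : Ctx ψ) (hC : Cz x) (h1 : act (ψ v1) x = x) (h2 : act (ψ v2) x = x) : 85 ≤ cd x := by
  have h3 : (2 : K) ≠ 0 := fun h => absurd ((CharP.cast_eq_zero_iff K 3 2).1 (by exact_mod_cast h)) (by norm_num)
  have h4 : ∀ a b c d : Alt 6, a * b = c * d → ∀ v, rp ψ a (rp ψ b v) = rp ψ c (rp ψ d v) := fun a b c d h v => by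
    rw [← Module.End.mul_apply, ← map_mul, h, map_mul, Module.End.mul_apply]
  have h5 : ∀ a : Alt 6, a * a = 1 → ∀ v, rp ψ a (rp ψ a v) = v := fun a h v => by
    rw [← Module.End.mul_apply, ← map_mul, h, map_one, Module.End.one_apply]
  have h6 : ∀ a : Alt 6, a * a = 1 → a ≠ 1 → finrank K ↥(Es (rp ψ a) 1) = 120 := fun a h h' => by
    rw [← hc.d2 a (orderOf_eq_prime (by rw [sq, h]) h')]
    exact congrArg (fun W : Submodule K (L8 K) => finrank K ↥W) (Submodule.ext fun v => mem_Es.trans Module.End.mem_eigenspace_iff.symm)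
  have h7 := four_group h3 (s := rp ψ v1) (t := rp ψ v2) (T := Matrix.toLin' (adm x)) (h5 _ (by decide)) (h5 _ (by decide))
    (h4 _ _ _ _ (by decide)) hC.br3 (fun v => (act_br _ x v).trans (congrArg (br · _) h1))
    (fun v => (act_br _ x v).trans (congrArg (br · _) h2)) Inf.finrank_L8 (h6 _ (by decide) (by decide))
    (h6 _ (by decide) (by decide)) (by rw [← Module.End.mul_eq_comp, ← map_mul]; exact h6 _ (by decide) (by decide))
  exact h7.trans_eq (congrArg (fun W : Submodule K (L8 K) => finrank K ↥W) (Submodule.ext fun v => mem_cen_one.symm))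

variable [IsAlgClosed K]

/-- the three-dimensional case -/
theorem three (hD : KSD.{u}) (hF : CANF.{u}) (hT : APT.{u}) (hR : TRANS.{u}) (hK : KB.{u}) (hG : GRADE.{u}) (hS : STR.{u})
    (hN : NIL3.{u}) (hk : KRK.{u}) (hE : EN3.{u}) (hp : NoPar ψ) (hU : Inv ψ U) (hA : Ab U) (hC : ∀ v ∈ U, Cz v)
    (h3 : finrank K ↥U = 3) (hx : x ∈ U) (h0 : x ≠ 0) (hm : ∀ z ∈ U, z ≠ 0 → cd z ≤ cd x) : LowEnd ψ := by
  obtain ⟨c, g, hg, ho⟩ := hN K x h0 (hC x hx)
  obtain ⟨n, b, k1, k2, k3⟩ := ext_basis (b := fun _ : Unit => x) (linearIndependent_unique_iff.2 h0) fun _ => hx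
  obtain rfl : n = 2 := by
    rw [Fintype.card_unique] at k3
    omega
  have k4 : ∀ i, b i ∈ U := fun i => k2 ▸ subset_span ⟨.inr i, rfl⟩
  have k5 : ∀ i, b i ≠ 0 := fun i => k1.ne_zero (Sum.inr i)
  have d1 : Dp (Sum.elim (fun _ : Unit => x) b) (Sum.elim (fun _ => 2) fun _ => -1) g (cl (lab c)) := by
    rintro (i | i)
    · exact act_two hS hg
    · exact act_ge hS hA hx hg (k4 i)
  choose c' g' hg' _ using fun i => hN K (b i) (k5 i) (hC _ (k4 i))
  obtain ⟨g₀, m₁, m₂, -, -, s1, s2⟩ := hT K (g' 0) (g' 1) (cl (lab (c' 0))) (cl (lab (c' 1)))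
  have d2 : ∀ {i j : ℝ} {v : L8 K}, act (g' 0) v ∈ LS K (Ge (cl (lab (c' 0))) i) →
      act (g' 1) v ∈ LS K (Ge (cl (lab (c' 1))) j) → act g₀ v ∈ LS K (Ge (m₁ + m₂) (i + j)) := fun h1 h2 k hk =>
    mem_Ge.2 (add_le_add (mem_Ge.1 ((s1 _ _).2 h1 k hk)) (mem_Ge.1 ((s2 _ _).2 h2 k hk)))
  have d3 := fun i v (hv : v ∈ U) => act_ge hS hA (k4 i) (hg' i) hv
  obtain ⟨g₁, ν, o1, -, o2, -⟩ := hG K ψ hp _ _ _ (k2 ▸ hU) ⟨_, _, d1⟩ ⟨g₀, m₁ + m₂, by
    rintro (i | i)
    · exact Ge_mono (by norm_num) (d2 (d3 0 x hx) (d3 1 x hx))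
    · revert i
      exact Fin.forall_fin_two.2 ⟨Ge_mono (by norm_num) (d2 (act_two hS (hg' 0)) (d3 1 _ (k4 0))),
        Ge_mono (by norm_num) (d2 (d3 0 _ (k4 1)) (act_two hS (hg' 1)))⟩⟩
  obtain ⟨g₂, h2⟩ := hR K g₁ g ν _ (hF K _ (hD K _ _ _) _ _ _ _ o1 ⟨d1, fun g' l h => ho g' l (h (.inl ()))⟩)
  have e1 : act g₂ x = ec K c := (h2 _ _ (o2 (.inl ()))).trans (hg ▸ pr_of_mem (hg ▸ (hS K c).2.2.2.1))
  have e2 : ∀ i, act g₂ (b i) ∈ KK K c := fun i => (h2 _ _ (o2 (.inr i))).symm ▸
    pr_mem_KK hS (act_cen hA hx hg (k4 i)) (d1 (.inr i))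
  rcases bad hK hS hp hU hA hx h0 hg with ⟨rfl, -⟩ | ⟨rfl, h4⟩
  · refine LowEnd.of_cj (g := g₂) (hE K _ ?_)
    have h5 : pb g₂⁻¹ U ≤ span K {ec K 9} ⊔ KK K 9 := by
      rw [← k2, ← span_act, span_le]
      rintro _ ⟨_, ⟨i | i, rfl⟩, rfl⟩
      · exact mem_sup_left (mem_span_singleton.2 ⟨1, (one_smul _ _).trans e1.symm⟩)
      · exact mem_sup_right (e2 i)
    have h6 := finrank_add_le_finrank_add_finrank (span K {ec K 9}) (KK K 9)
    rw [finrank_span_singleton (e1 ▸ fun h => h0 (act_eq_zero h)), show finrank K ↥(KK K 9) = 2 from (hS K 9).2.2.2.2.2.2] at h6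
    rw [← eq_of_le_of_finrank_le h5 (by rw [finrank_pb, h3]; exact h6)]
    exact hU.cj g₂
  · have h5 := hk K _ (e2 0)
    have h6 := hm _ (k4 0) (k5 0)
    rw [cd_act] at h5
    omega

end Abc

open Abc in
/-- **ABC** -/
theorem abc_of (hM : MOD.{u}) (h3 : T3B.{u}) (h4 : T4B.{u}) (hD : KSD.{u}) (hF : CANF.{u}) (hT : APT.{u}) (hR : TRANS.{u})
    (hK : KB.{u}) (hG : GRADE.{u}) (hS : STR.{u}) (hN : NIL3.{u}) (hk : KRK.{u}) (hE : EN3.{u}) (hB : G2AB.{u}) : ABC.{u} := by
  intro K _ _ _ ψ hc U h0 hU hA hC
  have k1 : ∀ x ∈ U, x ≠ 0 → cd x = 88 ∨ cd x = 84 := fun x hx h => by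
    obtain ⟨c, g, hg, -⟩ := hN K x h (hC x hx)
    exact (bad hK hS hc.par hU hA hx h hg).imp And.right And.right
  have k2 : ∀ x ∈ U, x ≠ 0 → act (ψ v1) x = x → act (ψ v2) x = x → ∃ g, act g x = ec K 9 ∧
      ∀ (g' : G8 K) (lam : Q8 →+ ℝ), act g' x ∈ LS K (Ge lam 2) → nrm (cl (lab 9)) ≤ nrm lam := fun x hx h h1 h2 => by
    obtain ⟨c, g, hg, ho⟩ := hN K x h (hC x hx)
    have := cd_ge hc (hC x hx) h1 h2
    rcases bad hK hS hc.par hU hA hx h hg with ⟨rfl, -⟩ | ⟨-, h5⟩
    · exact ⟨g, hg, ho⟩
    · omega
  refine ⟨?_, ?_⟩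
  · obtain ⟨x, hx, h⟩ := (Submodule.ne_bot_iff U).1 h0
    exact ⟨x, hx, h, by have := k1 x hx h; omega⟩
  rcases hM K (L8 K) (rp ψ) U h0 hU with ⟨v, -, h1, h2⟩ | ⟨ι, e, h, f, H, h1, he, hh, hf⟩ | ⟨r, H, h1, h2⟩ |
    ⟨W, hW, h1, h2, x, hx, h5, h6, h7⟩
  · exact absurd (hc.fx v h2) h1
  · obtain ⟨l1, l2, -⟩ := h3 K _ _ ι e h f H h1
    have l3 : span K {e, h, f} ≤ U := span_le.2 (by rintro _ (rfl | rfl | rfl) <;> assumption)
    have l4 : finrank K ↥(span K {e, h, f}) = 3 := by
      rw [← Fintype.card_fin 3, ← finrank_span_eq_card l1, Matrix.range_cons, Matrix.range_cons, Matrix.range_cons,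
        Matrix.range_empty, Set.union_empty]
      rfl
    have l5 := fun x hx => three (x := x) hD hF hT hR hK hG hS hN hk hE hc.par l2
      (fun a ha b hb => hA a (l3 ha) b (l3 hb)) (fun v hv => hC v (l3 hv)) l4 hx
    by_cases l6 : ∃ x ∈ span K {e, h, f}, x ≠ 0 ∧ cd x = 88
    · obtain ⟨x, hx, l7, l8⟩ := l6
      exact l5 x hx l7 fun z hz l9 => by have := k1 z (l3 hz) l9; omega
    · refine l5 e (subset_span (.inl rfl)) h1 fun z hz l9 => ?_
      have := (k1 z (l3 hz) l9).resolve_left fun l => l6 ⟨z, hz, l9, l⟩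
      have := k1 e he h1
      omega
  · obtain ⟨l1, l2, l3, -⟩ := h4 K _ _ r H h1
    set W := span K {r 0 1, r 0 2, r 0 3, r 0 4} with hW
    have l4 : W ≤ U := span_le.2 (by rintro _ (rfl | rfl | rfl | rfl) <;> exact h2 _ _)
    have l5 : finrank K ↥W = 4 := by
      rw [← Fintype.card_fin 4, ← finrank_span_eq_card l1, Matrix.range_cons, Matrix.range_cons, Matrix.range_cons,
        Matrix.range_cons, Matrix.range_empty, Set.union_empty]
      rfl
    have l6 : r 4 5 ≠ 0 := fun h => h1 (by
      have := H.act ⟨Equiv.swap 0 4 * Equiv.swap 1 5, by rw [Equiv.Perm.mem_alternatingGroup]; decide⟩ 4 5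
      rw [h, map_zero] at this
      exact this.symm)
    obtain ⟨g, hg, ho⟩ := k2 _ (h2 4 5) l6 (H.act v1 4 5) (H.act v2 4 5)
    have l7 := (nine hK hS hB hc.par l3 (fun a ha b hb => hA a (l4 ha) b (l4 hb)) (fun v hv => hC v (l4 hv)) (l2 4 5) l6 hg).1
    have l8 : ∀ a, act (ψ a) (r 4 5) = r 4 5 → ∀ v ∈ W ⊓ pb g (LS K (Ge (cl (lab 9)) 0)),
        rp ψ a v ∈ W ⊓ pb g (LS K (Ge (cl (lab 9)) 0)) := fun a ha v hv => ⟨l3 a v hv.1, by
      have o : ∀ g', act g' (r 4 5) = ec K 9 → Opt (Dp (fun _ : Unit => r 4 5) fun _ => 2) g' (cl (lab 9)) := fun g' h =>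
        ⟨fun _ => act_two hS h, fun g'' l h' => ho g'' l (h' ())⟩
      have s := hF K _ (hD K _ _ _) _ _ _ _ (o (g * ψ a) (by rw [act_mul, ha, hg])) (o g hg) 0 v
      rw [act_mul] at s
      exact s.2 hv.2⟩
    rcases t4_sub (by exact_mod_cast CharP.cast_eq_zero K 3) H (R := W ⊓ pb g (LS K (Ge (cl (lab 9)) 0)))
      ⟨l2 4 5, Ge_mono two_pos.le (act_two hS hg)⟩ (l8 _ (H.act v1 4 5)) (l8 _ (H.act v2 4 5)) (l8 _ (H.act uu 4 5))
      inf_le_left with l9 | l9
    · have := (finrank_mono l9).trans_eq (finrank_span_singleton l6)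
      omega
    · have := finrank_mono l9
      rw [← hW] at this
      omega
  · obtain ⟨g, hg, -⟩ := k2 x (hW hx) h5 h6 h7
    have := (nine hK hS hB hc.par h1 (fun a ha b hb => hA a (hW ha) b (hW hb)) (fun v hv => hC v (hW hv)) hx h5 hg).2
    omega

end Cfsg.Agent.E8A.C63
end

-- part: E8A/C63/KemB
section
prune_inst 0x7f0000000000000000000000000000000000000000000000000000000000000000000000000000000000000000000000000000000000000000000000000000000000000000000000000000000000000000000000000020000000000000000010000000000000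
set_option linter.all false
open scoped Cfsg.Agent.FastGrp

/-!
# The boxes KB, GRADE (helper8)

* `DG b w g mu` : the weighted sum of the degrees of the nonzero maximal minors of the families `g (b k)` is at least one;
* `no_DG` : such a class is empty if it is stable under a group which lies in no proper parabolic subgroup.
-/

set_option autoImplicit false
set_option maxRecDepth 100000

namespace Cfsg.Agent.E8A.C63

open CoxeterSystem Cfsg Cfsg.Lie Matrix
open Cfsg.Agent.ChevalleyStructure Cfsg.Agent.ChevalleyStructure.Elts Cfsg.Agent.ChevalleyStructure.CoxeterGeom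
  Cfsg.Agent.ChevalleyStructure.CoxeterGeomTypes
open Cfsg.Agent.Tits.Roots Cfsg.Agent.Nodes.Reps Cfsg.Agent.Nodes.BNOf Cfsg.Agent.Nodes.RGDChev
  Cfsg.Agent.Nodes.NormalForm
open Cfsg.Agent.KFacts.RgdChevCoord
open Cfsg.Agent.H942.E8Tab (e8T)
open Cfsg.Agent.H288.E8L (wt act8)
open Cfsg.Agent.E8A.Kem (cw cw_apply nrm nrm_cw nrm_mid eq_of_nrm mk mk_apply mk_sr mk_eq continuous_mk
  Dm exists_dm Ge mem_Ge SP PL St sp_le_PL PL_le_St)
open Cfsg.Agent.E8A.Par (KS Opt Up up_of_LS up_of_St up_rep up_rep_inv mem_St)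
open Cfsg.Agent.E8A.C63.KemA

universe u

namespace KemB

/-! ### minors -/

section Mn

variable {ι I : Type} [Fintype ι] [DecidableEq ι] [Fintype I] {K : Type u} [Field K]

theorem det_rows (c : ι → I → K) (R : I → ι → K) (h : (Matrix.of fun i => ∑ l, c i l • R l).det ≠ 0) :
    ∃ f : ι → I, (∀ i, c i (f i) ≠ 0) ∧ (Matrix.of fun i => R (f i)).det ≠ 0 := by
  have e : (Matrix.of fun i => ∑ l, c i l • R l).det = ∑ f : ι → I, (∏ i, c i (f i)) • (Matrix.of fun i => R (f i)).det := by
    have h1 := (Matrix.detRowAlternating (n := ι) (R := K)).toMultilinearMap.map_sum fun i l => c i l • R l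
    refine h1.trans (Finset.sum_congr rfl fun f _ => ?_)
    exact (Matrix.detRowAlternating (n := ι) (R := K)).toMultilinearMap.map_smul_univ (fun i => c i (f i))
      fun i => R (f i)
  rw [e] at h
  obtain ⟨f, -, hf⟩ := Finset.exists_ne_zero_of_sum_ne_zero h
  rw [smul_eq_mul] at hf
  exact ⟨f, fun i => Finset.prod_ne_zero_iff.1 (left_ne_zero_of_mul hf) i (Finset.mem_univ i), right_ne_zero_of_mul hf⟩

/-- the minor with the rows `rho` -/
def mn (b : ι → I → K) (rho : ι → I) : K := (Matrix.of fun i j => b j (rho i)).det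

theorem mn_mulVec {b : ι → I → K} {M : Matrix I I K} {rho : ι → I} (h : mn (fun j => M *ᵥ b j) rho ≠ 0) :
    ∃ f : ι → I, (∀ i, M (rho i) (f i) ≠ 0) ∧ mn b f ≠ 0 := by
  refine det_rows (fun i l => M (rho i) l) (fun l j => b j l) fun h0 => h (Eq.trans ?_ h0)
  unfold mn
  congr 1
  ext i j
  rw [Matrix.of_apply, Matrix.of_apply, Finset.sum_apply]
  rfl

omit [Fintype I] in
theorem mn_span {b b' : ι → I → K} (hb : ∀ j, b' j ∈ Submodule.span K (Set.range b)) {rho : ι → I}
    (h : mn b' rho ≠ 0) : mn b rho ≠ 0 := by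
  choose c hc using fun j => (Submodule.mem_span_range_iff_exists_fun K).1 (hb j)
  have e : (Matrix.of fun i j => b' j (rho i)) = (Matrix.of fun i j => b j (rho i)) * Matrix.of fun k j => c j k := by
    ext i j
    rw [Matrix.of_apply, Matrix.mul_apply, ← hc j, Finset.sum_apply]
    exact Finset.sum_congr rfl fun k _ => mul_comm _ _
  unfold mn at h
  rw [e, Matrix.det_mul] at h
  exact left_ne_zero_of_mul h

omit [Fintype I] in
theorem exists_mn {b : ι → I → K} (hb : LinearIndependent K b) : ∃ rho, mn b rho ≠ 0 := by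
  refine Par.exists_rows (fun l j => b j l) fun v hv => funext fun j => ?_
  refine Fintype.linearIndependent_iff.1 hb v (funext fun l => ?_) j
  rw [Finset.sum_apply]
  refine Eq.trans (Finset.sum_congr rfl fun k _ => ?_) (hv l)
  exact mul_comm _ _

omit [Fintype I] in
theorem mn_perm {b : ι → I → K} {rho : ι → I} (h : mn b rho ≠ 0) : ∃ π : Equiv.Perm ι, ∀ j, b j (rho (π j)) ≠ 0 :=
  Par.exists_perm h

omit [Fintype I] in
theorem mn_inj {b : ι → I → K} {rho : ι → I} (h : mn b rho ≠ 0) : Function.Injective rho := fun i j e => by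
  by_contra hc
  exact h (Matrix.det_zero_of_row_eq hc (funext fun k => by rw [Matrix.of_apply, Matrix.of_apply, e]))

end Mn

/-! ### the class of a weighted family -/

section Cls

variable {K : Type u} [Field K] {κ : Type} [Fintype κ] {ι : κ → Type} [∀ k, Fintype (ι k)] [∀ k, DecidableEq (ι k)]

/-- the weight of a choice of rows -/
noncomputable def ws (w : κ → ℝ) (mu : Q8 →+ ℝ) (rho : (k : κ) → ι k → chevE8.Idx) : ℝ :=
  ∑ k, w k * ∑ i, mu (wt (rho k i))

/-- the class of a weighted family -/
def DG (b : (k : κ) → ι k → L8 K) (w : κ → ℝ) (g : G8 K) (mu : Q8 →+ ℝ) : Prop :=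
  ∀ rho : (k : κ) → ι k → chevE8.Idx, (∀ k, mn (fun j => act g (b k j)) (rho k) ≠ 0) → 1 ≤ ws w mu rho

variable {b : (k : κ) → ι k → L8 K} {w : κ → ℝ}

theorem DG.mul (hw : ∀ k, 0 ≤ w k) {g x : G8 K} {l l' : Q8 →+ ℝ} (h : DG b w g l) (hx : Up l l' (mx x)) :
    DG b w (x * g) l' := by
  intro rho hr
  choose f hf hf' using fun k => mn_mulVec (b := fun j => act g (b k j)) (M := mx x) (rho := rho k) (by
    have h1 := hr k
    simp only [act_mul] at h1
    exact h1)
  exact (h f hf').trans (Finset.sum_le_sum fun k _ => mul_le_mul_of_nonneg_left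
    (Finset.sum_le_sum fun i _ => hx _ _ (hf k i)) (hw k))

omit [∀ k, DecidableEq (ι k)] in
theorem ws_smul (c : ℝ) (mu : Q8 →+ ℝ) (rho : (k : κ) → ι k → chevE8.Idx) : ws w (c • mu) rho = c * ws w mu rho := by
  unfold ws
  rw [Finset.mul_sum]
  refine Finset.sum_congr rfl fun k _ => ?_
  rw [mul_left_comm, Finset.mul_sum _ _ c]
  rfl

omit [∀ k, DecidableEq (ι k)] in
theorem ws_add (l l' : Q8 →+ ℝ) (rho : (k : κ) → ι k → chevE8.Idx) : ws w (l + l') rho = ws w l rho + ws w l' rho := by
  unfold ws
  rw [← Finset.sum_add_distrib]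
  refine Finset.sum_congr rfl fun k _ => ?_
  rw [← mul_add, ← Finset.sum_add_distrib]
  rfl

theorem ks_DG (hw : ∀ k, 0 ≤ w k) : KS (DG b w) where
  closed := by
    have e : {x : Fin 8 → ℝ | ∃ g, DG b w g (mk x)} =
        ⋃ S ∈ {S : Set ((k : κ) → ι k → chevE8.Idx) | ∃ g : G8 K,
            ∀ rho : (k : κ) → ι k → chevE8.Idx, (∀ k, mn (fun j => act g (b k j)) (rho k) ≠ 0) → rho ∈ S},
          ⋂ rho ∈ S, {x : Fin 8 → ℝ | 1 ≤ ws w (mk x) rho} := by
      ext x
      simp only [Set.mem_ofPred_eq, Set.mem_iUnion, Set.mem_iInter]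
      constructor
      · rintro ⟨g, hg⟩
        exact ⟨{rho | 1 ≤ ws w (mk x) rho}, ⟨g, hg⟩, fun _ hi => hi⟩
      · rintro ⟨S, ⟨g, hg⟩, hx⟩
        exact ⟨g, fun rho hr => hx _ (hg rho hr)⟩
    rw [e]
    refine (Set.toFinite _).isClosed_biUnion fun S _ => isClosed_biInter fun rho _ => isClosed_le continuous_const ?_
    exact continuous_finsetSum _ fun k _ => continuous_const.mul (continuous_finsetSum _ fun i _ => continuous_mk _)
  mid g l₁ l₂ h₁ h₂ := fun rho hr => by
    have e₁ := h₁ rho hr
    have e₂ := h₂ rho hr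
    rw [ws_smul, ws_add]
    linarith
  sp _ lam _ h hm := h.mul hw (up_of_St (PL_le_St lam (sp_le_PL lam hm)))
  rep _ _ _ _ h hn := h.mul hw (up_rep_inv hn)

theorem li_act (g : G8 K) {ι' : Type} {v : ι' → L8 K} (hv : LinearIndependent K v) :
    LinearIndependent K fun j => act g (v j) :=
  hv.map' (LK K g) (LinearMap.ker_eq_bot.2 (act_injective g))

theorem not_DG_zero (hb : ∀ k, LinearIndependent K (b k)) (g : G8 K) : ¬ DG b w g 0 := by
  intro h
  choose rho hr using fun k => exists_mn (li_act g (hb k))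
  have h1 := h rho hr
  have h2 : ws w (0 : Q8 →+ ℝ) rho = 0 :=
    Finset.sum_eq_zero fun k _ => by rw [Finset.sum_eq_zero fun i _ => AddMonoidHom.zero_apply _, mul_zero]
  rw [h2] at h1
  exact absurd h1 (by norm_num)

/-- **no stable class** -/
theorem no_DG {ψ : Alt 6 →* G8 K} (hψ : NoPar ψ) (hw : ∀ k, 0 ≤ w k) (hb : ∀ k, LinearIndependent K (b k))
    (hst : ∀ a g mu, DG b w g mu → DG b w (g * ψ a) mu) {g₀ : G8 K} {mu₀ : Q8 →+ ℝ} {t : ℝ} (ht : 0 < t)
    (h₀ : ∀ rho : (k : κ) → ι k → chevE8.Idx, (∀ k, mn (fun j => act g₀ (b k j)) (rho k) ≠ 0) → t ≤ ws w mu₀ rho) :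
    False := by
  have h1 : DG b w g₀ (t⁻¹ • mu₀) := fun rho hr => by
    rw [ws_smul, ← inv_mul_cancel₀ ht.ne']
    exact mul_le_mul_of_nonneg_left (h₀ rho hr) (inv_nonneg.2 ht.le)
  obtain ⟨g, lam, ho, hd⟩ := (ks_DG hw).exists_opt h1
  refine hψ g lam (fun e => not_DG_zero hb g (e ▸ ho.1)) fun a => ?_
  exact PL_le_St lam ((ks_DG hw).rel hd ho (hst a _ _ ho.1))

end Cls

/-! ### the layers of a cocharacter -/

theorem exists_layer (s : Finset ℝ) : ∃ (w : ℝ → ℝ) (C : ℝ), (∀ c, 0 ≤ w c) ∧
    ∀ x ∈ s, ∑ c ∈ s, (if c ≤ x then w c else 0) = x + C := by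
  induction s using Finset.induction_on_max with
  | empty => exact ⟨0, 0, fun _ => le_rfl, fun x hx => absurd hx (Finset.notMem_empty x)⟩
  | insert a s ha ih =>
    have hn : a ∉ s := fun h => lt_irrefl a (ha a h)
    rcases s.eq_empty_or_nonempty with rfl | hs
    · refine ⟨0, -a, fun _ => le_rfl, fun x hx => ?_⟩
      have e : x = a := by simpa using hx
      simp [e]
    · obtain ⟨w, C, hw, h⟩ := ih
      have hm := s.max'_mem hs
      refine ⟨fun c => if c = a then a - s.max' hs else w c, C, fun c => ?_, fun x hx => ?_⟩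
      · by_cases e : c = a
        · simp only [if_pos e]
          exact sub_nonneg.2 (ha _ hm).le
        · simp only [if_neg e]
          exact hw c
      · have h1 : ∀ y : ℝ, ∑ c ∈ s, (if c ≤ y then (if c = a then a - s.max' hs else w c) else 0) =
            ∑ c ∈ s, (if c ≤ y then w c else 0) := fun y => Finset.sum_congr rfl fun c hc => by
          rw [if_neg (ha c hc).ne]
        rw [Finset.sum_insert hn, h1]
        rcases Finset.mem_insert.1 hx with rfl | hx
        · have h2 : ∑ c ∈ s, (if c ≤ x then w c else 0) = ∑ c ∈ s, (if c ≤ s.max' hs then w c else 0) :=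
            Finset.sum_congr rfl fun c hc => by rw [if_pos (ha c hc).le, if_pos (s.le_max' c hc)]
          rw [h2, h _ hm, if_pos le_rfl]
          simp only [if_true]
          ring
        · rw [if_neg (not_le.2 (ha x hx)), zero_add, h x hx]

variable {K : Type u} [Field K]

/-- the columns above a level -/
abbrev Jc (l : Q8 →+ ℝ) (c : ℝ) : Type := {j : chevE8.Idx // c ≤ l (wt j)}

open Classical in
/-- a nonzero minor on the columns above a level, in a common apartment -/
theorem sum_le_of_mn {l m m' : Q8 →+ ℝ} {g g' g₁ : G8 K} (s₁ : SameF g₁ l g' l) (s₂ : SameF g m g' m') {c : ℝ}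
    {rho : Jc l c → chevE8.Idx} (h : mn (fun j : Jc l c => act g (act g₁⁻¹ (ee K j.1))) rho ≠ 0) :
    ∑ j, (if c ≤ l (wt j) then m' (wt j) else 0) ≤ ∑ i, m (wt (rho i)) := by
  obtain ⟨f, hf, hf'⟩ := mn_mulVec (b := fun j : Jc l c => act (g' * g₁⁻¹) (ee K j.1)) (M := mx (g * g'⁻¹)) (rho := rho) (by
    have e : (fun j : Jc l c => act g (act g₁⁻¹ (ee K j.1))) =
        fun j : Jc l c => mx (g * g'⁻¹) *ᵥ act (g' * g₁⁻¹) (ee K j.1) := funext fun j => by
      show _ = act (g * g'⁻¹) _
      rw [act_mul, act_mul, act_inv]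
    rwa [e] at h)
  obtain ⟨π, hπ⟩ := mn_perm hf'
  have h1 : ∀ i, c ≤ l (wt (f i)) := fun i => by
    obtain ⟨j, rfl⟩ := π.surjective i
    have h2 := hπ j
    simp only [act_ee] at h2
    exact j.2.trans (sf_up s₁ _ _ h2)
  let f' : Jc l c → Jc l c := fun i => ⟨f i, h1 i⟩
  have h2 : Function.Injective f' := fun i j e => mn_inj hf' (congrArg Subtype.val e)
  have h3 := (Equiv.ofBijective f' (Finite.injective_iff_bijective.1 h2)).sum_comp fun j => m' (wt j.1)
  rw [← Finset.sum_filter, Finset.sum_subtype (p := fun j => c ≤ l (wt j)) _ (fun j => by simp), ← h3]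
  exact Finset.sum_le_sum fun i _ => sf_up (sf_symm s₂) _ _ (hf i)

/-- **the averaged product of two points is not positive** -/
theorem no_pos {ψ : Alt 6 →* G8 K} (hψ : NoPar ψ) {g₁ g : G8 K} {l m : Q8 →+ ℝ}
    (h : ∀ a, ∃ g' m', SameF g₁ l g' l ∧ SameF (g * ψ a) m g' m' ∧ 0 ≤ B2 m' l ∧ (a = 1 → 0 < B2 m' l)) : False := by
  classical
  choose g' m' s₁ s₂ h0 h1 using h
  let s : Finset ℝ := Finset.univ.image fun j : chevE8.Idx => l (wt j)
  obtain ⟨w, C, hw, hC⟩ := exists_layer s
  refine no_DG (κ := Alt 6 × ↥s) (ι := fun p => Jc l p.2.1) (b := fun p j => act (ψ p.1 * g₁⁻¹) (ee K j.1))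
    (w := fun p => w p.2.1) hψ (fun p => hw _) (fun p => li_act _ ?_) (fun a x mu hx rho hr => ?_) (g₀ := g) (mu₀ := m)
    (t := ∑ a, B2 (m' a) l) (Finset.sum_pos' (fun a _ => h0 a) ⟨1, Finset.mem_univ _, h1 1 rfl⟩) fun rho hr => ?_
  · exact (Pi.linearIndependent_single_one chevE8.Idx K).comp _ Subtype.val_injective
  · have h2 := hx (fun p => rho (a⁻¹ * p.1, p.2)) fun p => by
      have h3 := hr (a⁻¹ * p.1, p.2)
      simp only [← act_mul] at h3 ⊢
      rwa [show x * ψ a * (ψ (a⁻¹ * p.1) * g₁⁻¹) = x * (ψ p.1 * g₁⁻¹) by rw [map_mul, map_inv]; group] at h3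
    refine h2.trans (le_of_eq ?_)
    unfold ws
    rw [Fintype.sum_prod_type, Fintype.sum_prod_type]
    exact Equiv.sum_comp (Equiv.mulLeft a⁻¹) fun a' => ∑ c : ↥s, w c.1 * ∑ i, mu (wt (rho (a', c) i))
  · unfold ws
    rw [Fintype.sum_prod_type]
    refine Finset.sum_le_sum fun a _ => ?_
    have h2 : ∀ c : ↥s, ∑ j, (if c.1 ≤ l (wt j) then m' a (wt j) else 0) ≤ ∑ i, m (wt (rho (a, c) i)) := fun c =>
      sum_le_of_mn (s₁ a) (s₂ a) (by
        have h3 := hr (a, c)
        simp only [act_mul] at h3 ⊢
        exact h3)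
    refine le_trans (le_of_eq ?_) (Finset.sum_le_sum fun c _ => mul_le_mul_of_nonneg_left (h2 c) (hw c.1))
    have h3 : ∀ j : chevE8.Idx, ∑ c : ↥s, w c.1 * (if c.1 ≤ l (wt j) then m' a (wt j) else 0) =
        m' a (wt j) * l (wt j) + C * m' a (wt j) := fun j => by
      have h4 := hC (l (wt j)) (Finset.mem_image_of_mem _ (Finset.mem_univ j))
      rw [← Finset.sum_coe_sort s] at h4
      rw [mul_comm (m' a (wt j)), ← add_mul, ← h4, Finset.sum_mul]
      refine Finset.sum_congr rfl fun c _ => ?_
      split_ifs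
      · rfl
      · rw [mul_zero, zero_mul]
    simp only [Finset.mul_sum]
    rw [Finset.sum_comm, Finset.sum_congr rfl fun j _ => h3 j, Finset.sum_add_distrib, ← Finset.mul_sum, Par.sum_wt,
      mul_zero, add_zero]
    rfl

/-- first variation of the norm -/
theorem B2_nonneg {ι : Type} {b : ι → L8 K} {d : ι → ℝ} {g : G8 K} {l a : Q8 →+ ℝ} (ho : Opt (Dp b d) g l)
    (ha : Dp b 0 g a) : 0 ≤ B2 a l := by
  obtain ⟨c, hc, hn⟩ := exists_nrm
  have h1 : ∀ ε : ℝ, 0 < ε → 0 ≤ 2 * B2 a l + ε * B2 a a := by
    intro ε hε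
    have h2 : Dp b d g (l + ε • a) := fun i j hj => by
      have e₁ := mem_Ge.1 (ho.1 i j hj)
      have e₂ : (0 : ℝ) ≤ a (wt j) := mem_Ge.1 (ha i j hj)
      rw [mem_Ge, AddMonoidHom.add_apply, AddMonoidHom.smul_apply, smul_eq_mul]
      have := mul_nonneg hε.le e₂
      linarith
    have h3 := ho.2 _ _ h2
    rw [hn, hn, B2_add, B2_smul, B2_comm l (l + ε • a), B2_comm a (l + ε • a), B2_add, B2_add, B2_smul, B2_smul,
      B2_comm l a] at h3
    have h4 := le_of_mul_le_mul_left h3 hc
    have h5 : 0 ≤ ε * (2 * B2 a l + ε * B2 a a) := by linarith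
    exact nonneg_of_mul_nonneg_right h5 hε |> fun h => h
  by_contra hneg
  have h2 : B2 a l < 0 := not_le.1 hneg
  have h3 : 0 ≤ B2 a a := Finset.sum_nonneg fun _ _ => mul_self_nonneg _
  have h4 := h1 (-B2 a l / (B2 a a + 1)) (div_pos (by linarith) (by linarith))
  have h5 : -B2 a l / (B2 a a + 1) * B2 a a ≤ -B2 a l := by
    rw [div_mul_eq_mul_div, div_le_iff₀ (by linarith)]
    nlinarith
  linarith

theorem dp_zero_mul {ι : Type} {b : ι → L8 K} {g y : G8 K} {m : Q8 →+ ℝ} (h : Dp b 0 g m)
    (hy : ∀ i, act y (b i) ∈ Submodule.span K (Set.range b)) : Dp b 0 (g * y) m := fun i => by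
  have h1 : Submodule.span K (Set.range b) ≤ (LS K (Ge m 0)).comap (LK K g) :=
    Submodule.span_le.2 (by rintro _ ⟨j, rfl⟩; exact h j)
  rw [act_mul]
  exact h1 (hy i)

theorem B2_nonpos {ψ : Alt 6 →* G8 K} (hψ : NoPar ψ) {ι : Type} [Finite ι] {b : ι → L8 K} {d : ι → ℝ}
    (hi : Inv ψ (Submodule.span K (Set.range b))) {g : G8 K} {l m : Q8 →+ ℝ} (ho : Opt (Dp b d) g l) (hm : Dp b 0 g m) :
    B2 m l ≤ 0 := by
  by_contra hc
  refine no_pos hψ (g₁ := g) (g := g) (l := l) (m := m) fun a => ?_
  by_cases e : a = 1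
  · refine ⟨g, m, sf_refl _ _, ?_, (not_le.1 hc).le, fun _ => not_le.1 hc⟩
    rw [e, map_one, mul_one]
    exact sf_refl _ _
  · obtain ⟨g', m', s₁, s₂⟩ := apt' g (g * ψ a) l m
    exact ⟨g', m', s₁, s₂, B2_nonneg (opt_sf (ks_dp b d) s₁ ho)
      (dp_sf s₂ (dp_zero_mul hm fun i => hi a _ (Submodule.subset_span ⟨i, rfl⟩))), fun h => absurd h e⟩

end KemB

open KemB

/-- **KB** -/
theorem kb : KB.{u} := by
  intro K _ ψ hψ ι _ b d hb hi g lam h
  classical
  by_contra hc
  refine no_DG (κ := Unit) (ι := fun _ => ι) (b := fun _ => b) (w := fun _ => 1) hψ (fun _ => zero_le_one) (fun _ => hb)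
    (fun a x mu hx rho hr => hx rho fun k => mn_span (fun j => ?_) (hr k)) (g₀ := g) (mu₀ := lam) (not_le.1 hc)
    fun rho hr => ?_
  · have h1 : Submodule.span K (Set.range b) ≤ (Submodule.span K (Set.range fun j => act x (b j))).comap (LK K x) :=
      Submodule.span_le.2 (by rintro _ ⟨j, rfl⟩; exact Submodule.subset_span ⟨j, rfl⟩)
    rw [act_mul]
    exact h1 (hi a _ (Submodule.subset_span ⟨j, rfl⟩))
  · obtain ⟨π, hπ⟩ := mn_perm (hr ())
    have e : ws (κ := Unit) (ι := fun _ => ι) (fun _ => 1) lam rho = ∑ i, lam (wt (rho () i)) := by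
      unfold ws
      rw [Fintype.sum_unique, one_mul]
    rw [e, ← Equiv.sum_comp π fun i => lam (wt (rho () i))]
    exact Finset.sum_le_sum fun j _ => mem_Ge.1 (h j _ (hπ j))

/-- **GRADE** -/
theorem grade : GRADE.{u} := by
  rintro K _ ψ hψ ι _ b d hi ⟨g₁, l₁, h₁⟩ ⟨g₂, l₂, h₂⟩
  obtain ⟨g₃, l, o₁⟩ := Par.exists_opt' (ks_dp b d) h₁
  obtain ⟨g₄, l₄, o₂⟩ := Par.exists_opt' (ks_dp b (-d)) h₂
  obtain ⟨g, l', s₁, s₂⟩ := apt' g₃ g₄ l l₄
  have p₁ := opt_sf (ks_dp b d) s₁ o₁
  have p₂ := opt_sf (ks_dp b (-d)) s₂ o₂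
  have hm : Dp b 0 g (l + l') := fun i j hj => by
    have e₁ := mem_Ge.1 (p₁.1 i j hj)
    have e₂ : -d i ≤ l' (wt j) := mem_Ge.1 (p₂.1 i j hj)
    show (0 : ℝ) ≤ l (wt j) + l' (wt j)
    linarith
  have h3 := B2_nonpos hψ hi p₁ hm
  have h4 := B2_nonpos hψ hi p₂ hm
  have h5 : l' = -l := by
    obtain ⟨c, hc, hn⟩ := exists_nrm
    refine eq_of_nrm ?_
    rw [sub_neg_eq_add, add_comm, hn, B2_add, B2_comm l, B2_comm l']
    exact mul_nonpos_of_nonneg_of_nonpos hc.le (by linarith)
  subst h5
  refine ⟨g, l, p₁, p₂, fun i j hj => ?_, fun a ha => le_antisymm (B2_nonpos hψ hi p₁ ha) (B2_nonneg p₁ ha)⟩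
  have e₁ := mem_Ge.1 (p₁.1 i j hj)
  have e₂ : -d i ≤ -l (wt j) := mem_Ge.1 (p₂.1 i j hj)
  show l (wt j) = d i
  linarith

end Cfsg.Agent.E8A.C63

private theorem dce_3107b598cd25 : _root_.True := by
  try have : _root_.True := by simp only [_root_.Cfsg.Agent.E8A.C63.KemB.mn.congr_simp]
  try have : _root_.True := by simp only [_root_.Cfsg.Agent.E8A.C63.KemB.DG.congr_simp]
  exact _root_.True.intro
end

-- part: E8A/C63/Krk
section
set_option linter.all false
open scoped Cfsg.Agent.FastGrp

/-!
# The box KRK (helper55)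

* `Fx K c` : the elements which fix `ec K c` and preserve the grading of the class; `fx_word`, `fx_tor`;
* `move9`, `move10`, `moveK` : an element of `KK K c` is moved to a multiple of `kx`; `C63.krk`.
-/

set_option autoImplicit false
set_option maxRecDepth 100000

namespace Cfsg.Agent.E8A.C63.Sv

open Cfsg Cfsg.Lie Module Finset
open Cfsg.Agent.H288.E8L (Q8 wt)

universe u

variable {K : Type u} [Field K]

variable (K) in
/-- the elements which fix the representative and preserve the grading -/
def Fx (c : Fin 11) : Submonoid (G8 K) where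
  carrier := {g | act g (ec K c) = ec K c ∧ ∀ j, ∀ v ∈ LS K (Eq' (cl (lab c)) j), act g v ∈ LS K (Eq' (cl (lab c)) j)}
  one_mem' := ⟨act_one _, fun _ _ hv => by rwa [act_one]⟩
  mul_mem' := fun {a b} ha hb => ⟨by rw [act_mul, hb.1, ha.1], fun j v hv => by
    rw [act_mul]; exact ha.2 j _ (hb.2 j v hv)⟩

/-- the elements which also fix two vectors -/
def Fy (c : Fin 11) (p q : L8 K) : Submonoid (G8 K) where
  carrier := {g | g ∈ Fx K c ∧ act g p = p ∧ act g q = q}
  one_mem' := ⟨one_mem _, act_one _, act_one _⟩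
  mul_mem' := fun {a b} ha hb => ⟨mul_mem ha.1 hb.1, by rw [act_mul, hb.2.1, ha.2.1], by rw [act_mul, hb.2.2, ha.2.2]⟩

theorem fx_tor {c : Fin 11} {s : K} (hs : s ≠ 0) {y : Q8} (h : dgE y 0 (eS c) = true) :
    ∃ t ∈ Fx K c, ∀ (d : ℤ) (l : SV), dgE y d l = true → act t (sv K l) = s ^ d • sv K l := by
  obtain ⟨t, h1, h2⟩ := exists_tor hs y
  refine ⟨t, ⟨?_, fun j v hv => h1 _ v hv⟩, fun d l hl => h2 d _ (sv_mem_Eq hl)⟩
  rw [ec_eq, h2 0 _ (sv_mem_Eq h), zpow_zero, one_smul]

theorem cd_smul {a : K} (ha : a ≠ 0) (x : L8 K) : cd (a • x) = cd x := by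
  have h : cen {a • x} = cen {x} := by
    ext v
    rw [mem_cen_one, mem_cen_one, br_smul_left, smul_eq_zero_iff_right ha]
  rw [cd, h, cd]

theorem cd_zero : cd (0 : L8 K) = 248 := by
  have h : cen {(0 : L8 K)} = ⊤ := eq_top_iff.2 fun v _ => mem_cen_one.2 (TwoH.br_zero_left v)
  rw [cd, h, finrank_top, Inf.finrank_L8]

/-- the action of `SL₂` on a plane -/
theorem sl2 [IsAlgClosed K] (M : Submonoid (G8 K)) {x y : L8 K}
    (hT : ∀ s : K, s ≠ 0 → ∃ g ∈ M, act g x = s⁻¹ • x ∧ act g y = s • y)
    (h1 : ∃ g ∈ M, act g x = x ∧ act g y = x + y) (h2 : ∃ g ∈ M, act g x = x + y ∧ act g y = y) (a b : K) :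
    ∃ g ∈ M, ∃ b' : K, act g (a • x + b • y) = b' • y := by
  have key : ∀ a b : K, a ≠ 0 → b ≠ 0 → ∃ g ∈ M, ∃ b' : K, act g (a • x + b • y) = b' • y := by
    intro a b ha hb
    obtain ⟨s, hs⟩ := IsAlgClosed.exists_eq_mul_self (-a / b)
    have hs0 : s ≠ 0 := by
      rintro rfl
      exact div_ne_zero (neg_ne_zero.2 ha) hb (hs.trans (mul_zero _))
    obtain ⟨t, ht, t1, t2⟩ := hT s hs0
    obtain ⟨g, hg, g1, g2⟩ := h1
    refine ⟨g * t, mul_mem hg ht, b * s, ?_⟩
    have e : a * s⁻¹ + b * s = 0 := by
      have : b * (s * s) = -a := by rw [← hs]; field_simp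
      field_simp
      linear_combination this
    rw [act_mul, act_add, act_smul, act_smul, t1, t2, smul_smul, smul_smul, act_add, act_smul, act_smul, g1, g2, smul_add,
      ← add_assoc, ← add_smul, e, zero_smul, zero_add]
  by_cases ha : a = 0
  · exact ⟨1, one_mem _, b, by rw [act_one, ha, zero_smul, zero_add]⟩
  by_cases hb : b = 0
  · obtain ⟨g, hg, g1, -⟩ := h2
    obtain ⟨g', hg', b', h⟩ := key a a ha ha
    exact ⟨g' * g, mul_mem hg' hg, b', by rw [act_mul, hb, zero_smul, add_zero, act_smul, g1, smul_add, h]⟩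
  · exact key a b ha hb

variable [CharP K 3]

theorem fx_word {c : Fin 11} {w : SV} (h : (eq3 (wS w (eS c)) (eS c) && dgE (lab c) 0 w) = true) : wG K w ∈ Fx K c := by
  rw [Bool.and_eq_true] at h
  exact ⟨by rw [ec_eq]; exact act_of_eq3 h.1, fun _ _ hv => wG_cl h.2 hv⟩

theorem act_add_of {w x y z : SV} (h : eq3 (wS w x) (y ++ z) = true) : act (wG K w) (sv K x) = sv K y + sv K z := by
  rw [act_of_eq3 h, sv_append]

/-- `kx ↦ k0 + kx` -/
def u1 : SV := [(11, 1), (17, -1), (21, 1)]

/-- `k0 ↦ k0 + kx` -/
def u2 : SV := [(218, 1), (222, -1), (228, 1)]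

/-- `k2 ↦ k1 + k2` -/
def u3 : SV := [(55, -1), (64, 1), (83, 1)]

/-- `k1 ↦ k1 + k2` -/
def u4 : SV := [(156, 1), (175, 1), (184, -1)]

/-- `k1 ↦ k0 + k1`, `kx ↦ k2 + kx` -/
def u5 : SV := [(72, 1), (89, -1), (93, 1), (99, -1), (56, -1)]

/-- `k0 ↦ k0 + k1`, `k2 ↦ k2 + kx` -/
def u6 : SV := [(140, -1), (146, -1), (150, -1), (167, -1), (183, -1)]

/-- the first cocharacter -/
def y1 : Q8 := ![0, 0, 0, 0, 0, 0, 1, 0]

/-- the second cocharacter -/
def y2 : Q8 := ![0, 0, 0, 1, 0, 0, -2, 0]

theorem cd_kx : cd (sv K kx) = 88 := (chkSb_sound (K := K) chkK).cd_eq.trans (by decide +kernel)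

variable [IsAlgClosed K]

theorem move9 {z : L8 K} (hz : z ∈ KK K 9) : ∃ g ∈ Fx K 9, ∃ a : K, act g z = a • sv K kx := by
  obtain ⟨a, b, rfl⟩ := KK9.1 hz
  refine sl2 (Fx K 9) (fun s hs => ?_)
    ⟨wG K u1, fx_word (by decide +kernel), act_of_eq3 (by decide +kernel), act_add_of (by decide +kernel)⟩
    ⟨wG K u2, fx_word (by decide +kernel), act_add_of (by decide +kernel), act_of_eq3 (by decide +kernel)⟩ a b
  obtain ⟨t, ht, h⟩ := fx_tor (c := 9) hs (y := y1) (by decide +kernel)
  exact ⟨t, ht, by rw [h (-1) k0 (by decide +kernel), zpow_neg_one], by rw [h 1 kx (by decide +kernel), zpow_one]⟩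

theorem move10 {z : L8 K} (hz : z ∈ KK K 10) : ∃ g ∈ Fx K 10, ∃ a : K, act g z = a • sv K kx := by
  obtain ⟨a, b, c, d, rfl⟩ := KK10.1 hz
  have hT : ∀ s : K, s ≠ 0 → ∃ g ∈ Fy 10 (sv K k1) (sv K k2), act g (sv K k0) = s⁻¹ • sv K k0 ∧
      act g (sv K kx) = s • sv K kx := by
    intro s hs
    obtain ⟨t, ht, h⟩ := fx_tor (c := 10) hs (y := y1) (by decide +kernel)
    exact ⟨t, ⟨ht, by rw [h 0 k1 (by decide +kernel), zpow_zero, one_smul],
      by rw [h 0 k2 (by decide +kernel), zpow_zero, one_smul]⟩,
      by rw [h (-1) k0 (by decide +kernel), zpow_neg_one], by rw [h 1 kx (by decide +kernel), zpow_one]⟩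
  obtain ⟨g1, ⟨m1, p1, q1⟩, d', h1⟩ := sl2 (Fy 10 (sv K k1) (sv K k2)) hT
    ⟨wG K u1, ⟨fx_word (by decide +kernel), act_of_eq3 (by decide +kernel), act_of_eq3 (by decide +kernel)⟩,
      act_of_eq3 (by decide +kernel), act_add_of (by decide +kernel)⟩
    ⟨wG K u2, ⟨fx_word (by decide +kernel), act_of_eq3 (by decide +kernel), act_of_eq3 (by decide +kernel)⟩,
      act_add_of (by decide +kernel), act_of_eq3 (by decide +kernel)⟩ a d
  obtain ⟨g2, ⟨m2, -, q2⟩, c', h2⟩ := sl2 (Fy 10 (sv K k0) (sv K kx)) (x := sv K k1) (y := sv K k2) (fun s hs => by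
      obtain ⟨t, ht, h⟩ := fx_tor (c := 10) hs (y := y2) (by decide +kernel)
      exact ⟨t, ⟨ht, by rw [h 0 k0 (by decide +kernel), zpow_zero, one_smul],
        by rw [h 0 kx (by decide +kernel), zpow_zero, one_smul]⟩,
        by rw [h (-1) k1 (by decide +kernel), zpow_neg_one], by rw [h 1 k2 (by decide +kernel), zpow_one]⟩)
    ⟨wG K u3, ⟨fx_word (by decide +kernel), act_of_eq3 (by decide +kernel), act_of_eq3 (by decide +kernel)⟩,
      act_of_eq3 (by decide +kernel), act_add_of (by decide +kernel)⟩
    ⟨wG K u4, ⟨fx_word (by decide +kernel), act_of_eq3 (by decide +kernel), act_of_eq3 (by decide +kernel)⟩,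
      act_add_of (by decide +kernel), act_of_eq3 (by decide +kernel)⟩ b c
  have h3 : act (g2 * g1) (a • sv K k0 + b • sv K k1 + c • sv K k2 + d • sv K kx) = c' • sv K k2 + d' • sv K kx := by
    rw [show a • sv K k0 + b • sv K k1 + c • sv K k2 + d • sv K kx =
      (b • sv K k1 + c • sv K k2) + (a • sv K k0 + d • sv K kx) by abel, act_mul, act_add g1, h1, act_add g1, act_smul,
      act_smul, p1, q1, act_add g2, h2, act_smul, q2]
  have key : ∀ c d : K, c ≠ 0 → d ≠ 0 → ∃ g ∈ Fx K 10, ∃ a : K, act g (c • sv K k2 + d • sv K kx) = a • sv K kx := by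
    intro c d hc hd
    obtain ⟨t, ⟨ht, -, t2⟩, -, t3⟩ := hT (-c / d) (div_ne_zero (neg_ne_zero.2 hc) hd)
    refine ⟨wG K u5 * t, mul_mem (fx_word (by decide +kernel)) ht, -c, ?_⟩
    have e1 : act (wG K u5) (sv K k2) = sv K k2 := act_of_eq3 (by decide +kernel)
    have e2 : act (wG K u5) (sv K kx) = sv K k2 + sv K kx := act_add_of (by decide +kernel)
    rw [act_mul, act_add t, act_smul, act_smul, t2, t3, smul_smul, mul_div_cancel₀ _ hd, act_add, act_smul, act_smul, e1, e2,
      smul_add, ← add_assoc, ← add_smul, add_neg_cancel, zero_smul, zero_add]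
  have fin : ∃ g ∈ Fx K 10, ∃ a : K, act g (c' • sv K k2 + d' • sv K kx) = a • sv K kx := by
    by_cases hc : c' = 0
    · exact ⟨1, one_mem _, d', by rw [act_one, hc, zero_smul, zero_add]⟩
    by_cases hd : d' = 0
    · obtain ⟨g, hg, a', h⟩ := key c' c' hc hc
      have e1 : act (wG K u6) (sv K k2) = sv K k2 + sv K kx := act_add_of (by decide +kernel)
      exact ⟨g * wG K u6, mul_mem hg (fx_word (by decide +kernel)), a', by
        rw [act_mul, hd, zero_smul, add_zero, act_smul, e1, smul_add, h]⟩
    · exact key c' d' hc hd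
  obtain ⟨g, hg, a', h⟩ := fin
  exact ⟨g * (g2 * g1), mul_mem hg (mul_mem m2 m1), a', by rw [act_mul, h3, h]⟩

theorem moveK {c : Fin 11} (hc : 9 ≤ c.val) {z : L8 K} (hz : z ∈ KK K c) : ∃ g ∈ Fx K c, ∃ a : K, act g z = a • sv K kx := by
  have h : c = 9 ∨ c = 10 := by
    have := c.2
    simp only [Fin.ext_iff]
    omega
  rcases h with rfl | rfl
  · exact move9 hz
  · exact move10 hz

theorem cd_KK {c : Fin 11} (hc : 9 ≤ c.val) {z : L8 K} (hz : z ∈ KK K c) (h0 : z ≠ 0) : cd z = 88 := by
  obtain ⟨g, -, a, h⟩ := moveK hc hz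
  have ha : a ≠ 0 := by
    rintro rfl
    exact h0 (act_eq_zero (h.trans (zero_smul _ _)))
  rw [← cd_act g, h, cd_smul ha, cd_kx]

end Cfsg.Agent.E8A.C63.Sv

namespace Cfsg.Agent.E8A.C63

open Sv

universe u

/-- **KRK** -/
theorem krk : KRK.{u} := by
  intro K _ _ _ z hz
  by_cases h0 : z = 0
  · rw [h0, cd_zero]; norm_num
  · rw [cd_KK (by decide) hz h0]; norm_num

end Cfsg.Agent.E8A.C63
end

-- part: E8A/C63/Asm
section
set_option linter.all false
open scoped Cfsg.Agent.FastGrp

/-!
# `A₆` in characteristic 3: the assembly (helper13)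
-/

set_option autoImplicit false
set_option maxRecDepth 100000

namespace Cfsg.Agent.E8A.C63

open Cfsg Cfsg.Lie Module
open Cfsg.Agent.H952.F4 (MaxAlt)

universe u

section

variable {K : Type u} [Field K] [IsAlgClosed K] [CharP K 3] {ψ : Alt 6 →* G8 K}

theorem noAb_aux (hT : NOTOR.{u}) (hD : DAB.{u}) (hA : ABC.{u}) (hc : Ctx ψ) {Y : Submodule K (L8 K)} (hY : PCl Y)
    (hl : ∀ x ∈ Y, Cz x → 92 < cd x) (g : G8 K) {U : Submodule K (L8 K)} (h0 : U ≠ ⊥) (hi : Inv ψ U) (ha : Ab U)
    (hU : ∀ x ∈ U, act g x ∈ Y) : False := by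
  rcases hD K ψ (pb g Y) U (hY.pb g) hU h0 hi ha with ⟨U', h1, h2, h3, h4, h5⟩ | ⟨g', U', h1, h2, h3⟩
  · obtain ⟨⟨x, hx, -, h6⟩, -⟩ := hA K ψ hc U' h2 h3 h4 h5
    have h7 := hl (act g x) (h1 hx) ((h5 x hx).act g)
    rw [cd_act] at h7
    omega
  · exact hT K ψ hc g' U' h1 h2 h3

theorem noAb (hT : NOTOR.{u}) (hD : DAB.{u}) (hA : ABC.{u}) (hL : LOW.{u}) (hc : Ctx ψ) : NoAb ψ := by
  intro g U h0 hi ha hU
  obtain ⟨l1, l2, l3, l4⟩ := hL K
  rcases hU with hU | hU
  · exact noAb_aux hT hD hA hc l1 l3 g h0 hi ha hU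
  · exact noAb_aux hT hD hA hc l2 l4 g h0 hi ha hU

theorem low_inv (hT : NOTOR.{u}) (hD : DAB.{u}) (hA : ABC.{u}) (hE : DESC.{u}) (hS : SC.{u}) (hc : Ctx ψ)
    {Y : Submodule K (L8 K)} (hY : PCl Y) (hl : ∀ x ∈ Y, Cz x → 92 < cd x) (g : G8 K) {C : Submodule K (L8 K)}
    (h0 : C ≠ ⊥) (hi : Inv ψ C) (hs : Sa C) (hC : ∀ x ∈ C, act g x ∈ Y) :
    ∃ z : G8 K, z ≠ 1 ∧ z ^ 2 = 1 ∧ (∀ a, Commute z (ψ a)) ∧ ∀ c : G8 K, (∀ x ∈ C, act c x = x) → Commute z c := by
  rcases hE K ψ hc.fx (pb g Y) C (hY.pb g) hC h0 hi hs with ⟨U, h1, h2, h3, h4⟩ | ⟨ι, e, h, f, h1, h2, h3, he, hh, hf⟩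
  · exact (noAb_aux hT hD hA hc hY hl g h2 h3 h4 h1).elim
  · rcases hS K ψ hc ι e h f h1 h2 h3 with ⟨z, z1, z2, z3, z4⟩ | ⟨h4, -⟩
    · exact ⟨z, z1, z2, z3, fun c hx => z4 c (hx e he) (hx h hh) (hx f hf)⟩
    · have h5 := hl _ (hC e he) (h3.ce.act g)
      rw [cd_act] at h5
      omega

end

/-- **the case `(6, 3)` from the boxes** -/
theorem c63_of (hT : NOTOR.{u}) (hD : DAB.{u}) (hA : ABC.{u}) (hE : DESC.{u}) (hS : SC.{u}) (hL : LOW.{u})
    (hX : CTX.{u}) (hI : ISO.{u}) (hC : CEN.{u}) : CASE.{u} 6 fun p => p = 3 := by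
  intro F _ _ p _ _ hp H φ hM hfx
  subst hp
  have : CharP (Kb F) 3 := charP_of_injective_algebraMap (algebraMap F (Kb F)).injective 3
  have hc := hX F H φ hM hfx
  obtain ⟨l1, l2, l3, l4⟩ := hL (Kb F)
  obtain ⟨i1, i2, -⟩ := hI F _ hc
  have h5 : ∀ s : G8 (Kb F), (∀ a, Commute s (emb0 (φ a))) → orderOf s ≠ 5 := fun s hs h5 => by
    obtain ⟨g, C, h0, hi, hs', hC'⟩ := i2 s hs h5
    obtain ⟨z, z1, z2, z3, z4⟩ := low_inv hT hD hA hE hS hc l2 l4 g h0 hi hs' fun x hx => (hC' x hx).1
    have h2 : orderOf z = 2 := orderOf_eq_prime z2 z1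
    have h10 : orderOf (z * s) = 10 := by
      rw [(z4 s fun x hx => (hC' x hx).2).orderOf_mul_eq_mul_orderOf_of_coprime (by rw [h2, h5]; norm_num), h2, h5]
    have := i1 (z * s) (fun a => (z3 a).mul_left (hs a)) 10 (by norm_num) h10
    omega
  have hz := hC F H φ hM hfx h5 (noAb hT hD hA hL hc)
  have hlow : ¬ LowEnd (emb0.comp φ) := fun ⟨g, C, h0, hi, hs, hy⟩ => by
    obtain ⟨z, z1, z2, z3, -⟩ := low_inv hT hD hA hE hS hc l1 l3 g h0 hi hs hy
    exact hz z z1 z2 z3
  have h0 : (⊤ : Submodule (Kb F) (L8 (Kb F))) ≠ ⊥ := fun h => by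
    have h1 : ee (Kb F) (Sum.inl (xi 0)) ∈ (⊥ : Submodule (Kb F) (L8 (Kb F))) := h ▸ Submodule.mem_top
    exact ee_ne_zero _ ((Submodule.mem_bot _).1 h1)
  rcases hE _ _ hc.fx ⊤ ⊤ pcl_top le_rfl h0 (fun _ _ _ => trivial) pcl_top.1 with
    ⟨U, h1, h2, h3, h4⟩ | ⟨ι, e, h, f, h1, h2, h3, -⟩
  · rcases hD _ _ ⊤ U pcl_top h1 h2 h3 h4 with ⟨U', -, h6, h7, h8, h9⟩ | ⟨g', U', h6, h7, h8⟩
    · exact hlow (hA _ _ hc U' h6 h7 h8 h9).2
    · exact hT _ _ hc g' U' h6 h7 h8
  · rcases hS _ _ hc ι e h f h1 h2 h3 with ⟨z, z1, z2, z3, -⟩ | ⟨-, h4⟩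
    · exact hz z z1 z2 z3
    · exact hlow h4

end Cfsg.Agent.E8A.C63
end

-- part: E8A/D44/Ort
section
prune_inst 0x7f00120504404c002000000851440001c62fa0001020048800008800f0407c0ec6209022041b8b00018000a8c0c4034004810000030004000c004000400011901a0888012061140a10860000f010000000000000000020000000000000000010004000000000
set_option linter.all false
open scoped Cfsg.Agent.FastGrp

/-!
# D44: the box `ORT` (helper42)

* `Ort.lin` : linear representations; `Ort.Sit` : central extensions; `Sit.plus`, `Sit.minus`; `ort : ORT`.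
-/

set_option autoImplicit false
set_option maxRecDepth 100000

namespace Cfsg.Agent.E8A.D44

open Cfsg Cfsg.Lie Module
open Cfsg.Agent.E8A.C63 Cfsg.Agent.E8A.C63.Md
open Cfsg.Agent.Lib.AltCarmichael (cyc cyc_mem gen_cyc)

universe u

namespace Ort

variable {K : Type u} [Field K] {V : Type u} [AddCommGroup V] [Module K V] {B : V →ₗ[K] V →ₗ[K] K} {U : Submodule K V}

theorem half [CharP K 3] {x : V} (h : x = -x) : x = 0 := by
  linear_combination (norm := abel1) three (K := K) x - h

theorem sing_span {S : Set V} (h : ∀ x ∈ S, ∀ y ∈ S, B x y = 0) :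
    ∀ x ∈ Submodule.span K S, ∀ y ∈ Submodule.span K S, B x y = 0 := fun _ hx y hy =>
  (Submodule.span_le (p := LinearMap.ker (B.flip y))).2 (fun x hx =>
    (Submodule.span_le (p := LinearMap.ker (B x))).2 (h x hx) hy) hx

/-! ### linear representations -/

section Lin

/-- the linear case -/
structure Ln (B : V →ₗ[K] V →ₗ[K] K) (ρ : Representation K (Alt 6) V) (U : Submodule K V) : Prop where
  symm : ∀ x y, B x y = B y x
  orth : ∀ a x y, B (ρ a x) (ρ a y) = B x y
  ts : ∀ S ≤ U, S ≠ ⊥ → InvR ρ S → (∀ x ∈ S, ∀ y ∈ S, B x y = 0) → False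
  nf : ∀ v ∈ U, (∀ a, ρ a v = v) → v = 0

variable {ρ : Representation K (Alt 6) V}

theorem Ln.perp (H : Ln B ρ U) {S : Submodule K V} (hS : InvR ρ S) : InvR ρ (LinearMap.BilinForm.orthogonal B S) :=
  fun a v hv n hn => by
    have h := H.orth a (ρ a⁻¹ n) v
    rw [← rho_mul, mul_inv_cancel, rho_one] at h
    exact h.trans (hv _ (hS a⁻¹ n hn))

theorem inf_inv {S T : Submodule K V} (hS : InvR ρ S) (hT : InvR ρ T) : InvR ρ (S ⊓ T) :=
  fun a v hv => ⟨hS a v hv.1, hT a v hv.2⟩

theorem Ln.disj (H : Ln B ρ U) {S : Submodule K V} (hle : S ≤ U) (hS : InvR ρ S) :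
    S ⊓ LinearMap.BilinForm.orthogonal B S = ⊥ := by
  by_contra h
  exact H.ts _ (inf_le_left.trans hle) h (inf_inv hS (H.perp hS)) fun x hx y hy => hy.2 x hx.1

theorem Ln.dim [FiniteDimensional K V] (H : Ln B ρ U) {S W : Submodule K V} (hle : S ≤ W) (hW : W ≤ U) (hS : InvR ρ S) :
    finrank K ↥S + finrank K ↥(LinearMap.BilinForm.orthogonal B S ⊓ W) = finrank K ↥W := by
  have hr : LinearMap.BilinForm.IsRefl B := fun x y h => (H.symm y x).trans h
  have hd := H.disj (hle.trans hW) hS
  have hc := LinearMap.BilinForm.isCompl_orthogonal_of_restrict_nondegenerate hr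
    (LinearMap.BilinForm.nondegenerate_restrict_of_disjoint_orthogonal B hr (disjoint_iff.2 hd))
  have h1 := Submodule.finrank_sup_add_finrank_inf_eq S (LinearMap.BilinForm.orthogonal B S ⊓ W)
  rw [← sup_inf_assoc_of_le _ hle, hc.sup_eq_top, top_inf_eq, ← inf_assoc, hd, bot_inf_eq, finrank_bot, add_zero] at h1
  exact h1.symm

variable [CharP K 3]

theorem Ln.four (H : Ln B ρ U) {s : Fin 6 → Fin 6 → V} (T : T4 ρ s) (h0 : s 0 1 ≠ 0) (hU : ∀ i j, s i j ∈ U) :
    B (s 0 1) (s 0 1) ≠ 0 := fun h => by
  have h1 : ∀ i j, B (s i j) (s i j) = 0 := fun i j => by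
    by_cases hij : i = j
    · rw [hij, T.self, map_zero]
    obtain ⟨a, e1, e2⟩ := two_trans (i := 0) (j := 1) (by decide) hij
    rw [← e1, ← e2, ← T.act, H.orth, h]
  have h2 : ∀ i k, B (s 0 i) (s 0 k) = 0 := fun i k => by
    have h3 := h1 i k
    rw [T.sub, map_sub, map_sub, LinearMap.sub_apply, LinearMap.sub_apply, h1, h1, H.symm (s 0 k)] at h3
    exact half (K := K) (by linear_combination -h3)
  refine H.ts _ (Submodule.span_le.2 ?_) ((Submodule.ne_bot_iff _).2 ⟨_, T.mem_span 0 1, h0⟩) T.invR (sing_span ?_)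
  · rintro _ (rfl | rfl | rfl | rfl) <;> exact hU _ _
  · rintro _ (rfl | rfl | rfl | rfl) _ (rfl | rfl | rfl | rfl) <;> exact h2 _ _

variable [IsAlgClosed K] [FiniteDimensional K V]

theorem Ln.split (H : Ln B ρ U) {W : Submodule K V} (hW : W ≤ U) (hi : InvR ρ W) (h0 : finrank K ↥W ≠ 0)
    (h8 : finrank K ↥W ≤ 8) : ∃ S ≤ W, InvR ρ S ∧ (finrank K ↥S = 3 ∨ finrank K ↥S = 4 ∧
      ∃ r, T4 ρ r ∧ r 0 1 ≠ 0 ∧ ∀ i j, r i j ∈ S) := by
  rcases mod K V ρ W (fun h => h0 (by rw [h, finrank_bot])) hi with ⟨v, hv, h1, h2⟩ | ⟨ι, e, h, f, T, h1, h2, h3, h4⟩ |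
    ⟨r, T, h1, h2⟩ | ⟨W', h1, -, h2, -⟩
  · exact absurd (H.nf v (hW hv) h2) h1
  · obtain ⟨h5, h6, -⟩ := t3b K V ρ ι e h f T h1
    refine ⟨_, Submodule.span_le.2 ?_, h6, Or.inl ?_⟩
    · rintro _ (rfl | rfl | rfl) <;> assumption
    · have h7 := finrank_span_eq_card h5
      rwa [Matrix.range_cons, Matrix.range_cons, Matrix.range_cons_empty] at h7
  · obtain ⟨h5, h6, h7, -⟩ := t4b K V ρ r T h1
    refine ⟨_, Submodule.span_le.2 ?_, h7, Or.inr ⟨?_, r, T, h1, h6⟩⟩
    · rintro _ (rfl | rfl | rfl | rfl) <;> exact h2 _ _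
    · have h7 := finrank_span_eq_card h5
      rwa [Matrix.range_cons, Matrix.range_cons, Matrix.range_cons, Matrix.range_cons_empty] at h7
  · have := Submodule.finrank_mono h1
    omega

theorem Ln.small (H : Ln B ρ U) {W : Submodule K V} (hW : W ≤ U) (hi : InvR ρ W) (h0 : finrank K ↥W ≠ 0) :
    3 ≤ finrank K ↥W := by
  by_contra h
  obtain ⟨S, h1, -, h2⟩ := H.split hW hi h0 (by omega)
  have := Submodule.finrank_mono h1
  omega

theorem Ln.false (H : Ln B ρ U) (hi : InvR ρ U) (h8 : finrank K ↥U = 8) : False := by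
  obtain ⟨S, h1, h2, h3⟩ := H.split le_rfl hi (by omega) h8.le
  have d1 := H.dim h1 le_rfl h2
  have i1 := inf_inv (H.perp h2) hi
  obtain ⟨S', h4, h5, h6⟩ := H.split inf_le_right i1 (by omega) (by omega)
  have d2 := H.dim h4 inf_le_right h5
  have d3 := H.small (inf_le_right.trans inf_le_right) (inf_inv (H.perp h5) i1)
  rcases h3 with h3 | ⟨h3, r, T, r0, hr⟩
  · omega
  rcases h6 with h6 | ⟨-, r', T', r1, hr'⟩
  · omega
  have o : B (r 0 1) (r' 0 1) = 0 := (h4 (hr' 0 1)).1 _ (hr 0 1)
  have n := H.four T' r1 fun i j => (h4 (hr' i j)).2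
  obtain ⟨c, hc⟩ := IsAlgClosed.exists_eq_mul_self (-B (r 0 1) (r 0 1) / B (r' 0 1) (r' 0 1))
  rw [div_eq_iff n] at hc
  refine H.four (s := fun i j => r i j + c • r' i j) ⟨fun a i j => by rw [map_add, map_smul, T.act, T'.act],
    fun i j k => by rw [← T.add i j k, ← T'.add i j k]; module,
    fun i => by rw [Finset.sum_add_distrib, ← Finset.smul_sum, T.sum, T'.sum, smul_zero, add_zero]⟩ (fun h => r0 ?_)
    (fun i j => U.add_mem (h1 (hr i j)) (U.smul_mem _ (h4 (hr' i j)).2)) ?_
  · have h7 : r 0 1 ∈ S ⊓ LinearMap.BilinForm.orthogonal B S := ⟨hr 0 1, by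
      rw [eq_neg_of_add_eq_zero_left h]
      exact Submodule.neg_mem _ (Submodule.smul_mem _ _ (h4 (hr' 0 1)).1)⟩
    rwa [H.disj h1 h2] at h7
  · simp only [map_add, map_smul, LinearMap.add_apply, LinearMap.smul_apply, smul_eq_mul, H.symm (r' 0 1) (r 0 1), o]
    linear_combination -hc

end Lin

/-! ### central extensions -/

/-- words -/
def ww (l : List (Fin 3)) : Alt 6 := (l.map gs).prod

/-- the generators of Carmichael -/
def cc (i : Fin 4) : Alt 6 := ⟨cyc 4 i, cyc_mem 4 i i.2⟩

/-- conjugating words -/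
def tb : Fin 4 → Fin 4 → List (Fin 3) :=
  ![![[], [0, 2, 0, 1, 0], [2, 0, 1, 0, 0], [1, 0]], ![[2, 0, 0, 1, 0], [], [0, 0, 2, 0, 1, 0], [0, 1, 0]],
    ![[2, 0, 1, 0], [0, 2, 0, 0, 1, 0], [], [0, 0, 1, 0]], ![[1, 0, 0], [0, 1, 0, 0], [0, 0, 1, 0, 0], []]]

theorem tb_ok : ∀ i j, i ≠ j → cc i * cc j * ww (tb i j) = ww (tb i j) * dd := by decide +kernel

theorem cc3 : ∀ i, cc i ^ 3 = 1 := by decide +kernel

theorem bru : ∀ j : Fin 10, gg j = 1 ∨ ∃ x y : Fin 3, uu ^ x.val * u2 ^ y.val * gg j = dd := by decide +kernel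

variable {Γ : Type*} [Group Γ]

/-- the projective case -/
structure Sit (B : V →ₗ[K] V →ₗ[K] K) (π : Γ →* Alt 6) (τ : Γ →* Module.End K V) (U : Submodule K V) : Prop where
  surj : Function.Surjective π
  ker : ∀ g, π g = 1 → τ g = 1 ∨ τ g = -1
  inj : ∀ g, π g = 1 → τ g = 1 → g = 1
  symm : ∀ x y, B x y = B y x
  orth : ∀ g x y, B (τ g x) (τ g y) = B x y
  inv : ∀ g, ∀ x ∈ U, τ g x ∈ U
  ts : ∀ S ≤ U, S ≠ ⊥ → (∀ g, ∀ x ∈ S, τ g x ∈ S) → (∀ x ∈ S, ∀ y ∈ S, B x y = 0) → False

variable {π : Γ →* Alt 6} {τ : Γ →* Module.End K V}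

theorem tau_mul (g h : Γ) (v : V) : τ (g * h) v = τ g (τ h v) := by rw [map_mul]; rfl

namespace Sit

variable (H : Sit B π τ U)
include H

theorem pm {g h : Γ} (e : π g = π h) : τ g = τ h ∨ τ g = -τ h := by
  have h1 : τ g = τ (g * h⁻¹) * τ h := by rw [← map_mul, inv_mul_cancel_right]
  rcases H.ker (g * h⁻¹) (by rw [map_mul, map_inv, e, mul_inv_cancel]) with h2 | h2
  · exact Or.inl (by rw [h1, h2, one_mul])
  · exact Or.inr (by rw [h1, h2, neg_one_mul])

theorem sq {g h : Γ} (e : π g = π h) : τ (g * g) = τ (h * h) := by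
  rw [map_mul, map_mul]
  rcases H.pm e with h1 | h1
  · rw [h1]
  · rw [h1, neg_mul_neg]

theorem lift3 {a : Alt 6} (ha : a ^ 3 = 1) : ∃ g, π g = a ∧ g ^ 3 = 1 := by
  obtain ⟨g, rfl⟩ := H.surj a
  refine ⟨g ^ 4, by rw [map_pow, pow_succ, ha, one_mul], H.inj _ ?_ ?_⟩
  · rw [← pow_mul, mul_comm, pow_mul, map_pow, map_pow, ha, one_pow]
  · rw [← pow_mul, mul_comm, pow_mul, map_pow]
    rcases H.ker (g ^ 3) (by rw [map_pow, ha]) with h | h
    · rw [h, one_pow]
    · rw [h, Even.neg_one_pow (by decide)]

theorem invol {d g : Γ} (hd : π d = dd) {a : Alt 6} (e : π g * a = a * dd) : ∃ k, τ (g * g) = τ k * τ (d * d) * τ k⁻¹ := by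
  obtain ⟨k, rfl⟩ := H.surj a
  refine ⟨k, ?_⟩
  rw [H.sq (g := g) (h := k * d * k⁻¹) (by rw [map_mul, map_mul, map_inv, hd, ← e, mul_inv_cancel_right]), ← map_mul,
    ← map_mul]
  congr 1
  group

variable [CharP K 3]

theorem uniq {g h : Γ} (e : π g = π h) (hg : g ^ 3 = 1) (hh : h ^ 3 = 1) (v : V) : τ g v = τ h v := by
  rcases H.pm e with h1 | h1
  · rw [h1]
  · have h2 : τ (g ^ 3) = -τ (h ^ 3) := by rw [map_pow, map_pow, h1, Odd.neg_pow (by decide)]
    rw [hg, hh, map_one] at h2
    have h3 : v = -v := LinearMap.congr_fun h2 v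
    rw [half (K := K) h3, map_zero, map_zero]

variable [IsAlgClosed K] [FiniteDimensional K V]

theorem plus (h8 : finrank K ↥U = 8) {d : Γ} (hd : π d = dd) (h1 : τ (d * d) = 1) :
    ∃ v ∈ U, v ≠ 0 ∧ ∀ g, ∃ c : K, τ g v = c • v := by
  choose x hx hx3 using fun i => H.lift3 (cc3 i)
  obtain ⟨φ, hφ⟩ := Lib.AltCarmichael.exists_hom (m := 4) (by norm_num) (x := fun i => if h : i < 4 then x ⟨i, h⟩ else 1)
    ⟨fun i hi => by rw [dif_pos hi, hx3], fun i hi j hj hij => by
      rw [dif_pos hi, dif_pos hj, pow_two]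
      have h2 : π (x ⟨i, hi⟩ * x ⟨j, hj⟩) * ww (tb ⟨i, hi⟩ ⟨j, hj⟩) = ww (tb ⟨i, hi⟩ ⟨j, hj⟩) * dd := by
        rw [map_mul, hx, hx]
        exact tb_ok _ _ fun h => hij (congrArg Fin.val h)
      obtain ⟨k, hk⟩ := H.invol hd h2
      refine H.inj _ ?_ (by rw [hk, h1, mul_one, ← map_mul, mul_inv_cancel, map_one])
      rw [map_mul, eq_mul_inv_of_mul_eq h2, ← pow_two, conj_pow, show dd ^ 2 = 1 by decide +kernel, mul_one,
        mul_inv_cancel]⟩
  have h2 : ∀ a : Alt 6, π (φ a) = a := fun a => by
    have h3 : Lib.AltCarmichael.gen 4 (cyc 4) ≤ ((π.comp φ).eqLocus (MonoidHom.id _)).map (alternatingGroup (Fin 6)).subtype := by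
      rw [Lib.AltCarmichael.gen_def, Subgroup.closure_le]
      rintro _ ⟨i, hi, rfl⟩
      refine ⟨⟨cyc 4 i, cyc_mem 4 i hi⟩, ?_, rfl⟩
      show π (φ _) = _
      rw [hφ i hi, dif_pos hi, hx]
      rfl
    rw [gen_cyc 4 (by norm_num)] at h3
    obtain ⟨b, hb, e⟩ := h3 a.2
    rwa [← Subtype.ext e]
  by_contra hn
  refine Ln.false (B := B) (ρ := τ.comp φ) ⟨H.symm, fun a => H.orth _, fun S h3 h4 h5 => H.ts S h3 h4 fun g y hy => ?_,
    fun v hv h3 => ?_⟩ (fun a => H.inv _) h8
  · rcases H.pm (h2 (π g)).symm with h6 | h6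
    · rw [h6]; exact h5 _ y hy
    · rw [h6]; exact S.neg_mem (h5 _ y hy)
  · by_contra h4
    refine hn ⟨v, hv, h4, fun g => ?_⟩
    have h5 : τ (φ (π g)) v = v := h3 (π g)
    rcases H.pm (h2 (π g)).symm with h6 | h6
    · exact ⟨1, by rw [h6, h5, one_smul]⟩
    · exact ⟨-1, by rw [h6, LinearMap.neg_apply, h5, neg_one_smul]⟩

theorem minus (h0 : U ≠ ⊥) {d : Γ} (hd : π d = dd) (h1 : τ (d * d) = -1) : False := by
  obtain ⟨a, ha, a3⟩ := H.lift3 (a := uu) (by decide +kernel)
  obtain ⟨b, hb, b3⟩ := H.lift3 (a := u2) (by decide +kernel)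
  obtain ⟨y, hy⟩ := H.surj yy
  have c3 : ∀ g : Γ, g ^ 3 = 1 → ∀ v, τ g (τ g (τ g v)) = v := fun g hg v => by
    rw [← tau_mul, ← tau_mul, ← pow_three', hg, map_one]; rfl
  have cj : ∀ {g k h : Γ}, π g * π k = π k * π h → g ^ 3 = 1 → h ^ 3 = 1 → ∀ v, τ g (τ k v) = τ k (τ h v) :=
    fun {g k h} e hg hh v => by
      rw [H.uniq (g := g) (h := k * h * k⁻¹) (by rw [map_mul, map_mul, map_inv, ← e, mul_inv_cancel_right]) hg
        (by rw [conj_pow, hh, mul_one, mul_inv_cancel]), ← tau_mul, inv_mul_cancel_right, tau_mul]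
  obtain ⟨w, hw, hw0, w1, w2⟩ := fix2 (c3 a a3) (c3 b b3)
    (cj (by rw [ha, hb]; decide +kernel) a3 a3) h0 (H.inv a) (H.inv b)
  let N : Submodule K V := U ⊓ (LinearMap.eqLocus (τ a) LinearMap.id ⊓ LinearMap.eqLocus (τ b) LinearMap.id)
  have hN : ∀ x ∈ N, τ y x ∈ N := fun x hx => by
    have e1 : τ a x = x := hx.2.1
    have e2 : τ b x = x := hx.2.2
    refine ⟨H.inv y x hx.1, ?_, ?_⟩
    · show τ a (τ y x) = τ y x
      rw [cj (h := b * b) (by rw [map_mul, ha, hb, hy]; decide +kernel) a3
        (by rw [← pow_two, ← pow_mul, mul_comm, pow_mul, b3, one_pow]), tau_mul, e2, e2]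
    · show τ b (τ y x) = τ y x
      rw [cj (h := a) (by rw [ha, hb, hy]; decide +kernel) b3 a3, e1]
  have : Nontrivial N := ⟨⟨⟨w, hw, w1, w2⟩, 0, fun h => hw0 (congrArg Subtype.val h)⟩⟩
  obtain ⟨η, hη⟩ := Module.End.exists_eigenvalue ((τ y).restrict hN)
  obtain ⟨⟨v, hv, v1, v2⟩, hv'⟩ := hη.exists_hasEigenvector
  have v0 : v ≠ 0 := fun h => hv'.2 (Subtype.ext h)
  have v3 : τ y v = η • v := congrArg Subtype.val hv'.apply_eq_smul
  have v1' : τ a v = v := v1
  have v2' : τ b v = v := v2
  have s1 : B v v = 0 := by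
    obtain ⟨k, hk⟩ := H.invol (g := y * y) hd (a := ww [0, 0, 2, 0, 1]) (by rw [map_mul, hy]; decide +kernel)
    rw [h1, mul_neg, mul_one, neg_mul, ← map_mul, mul_inv_cancel, map_one] at hk
    have h2 := LinearMap.congr_fun hk v
    simp only [tau_mul, v3, map_smul, smul_smul, LinearMap.neg_apply, Module.End.one_apply] at h2
    have h3 : η * η * (η * η) = -1 := smul_left_injective K v0 (by
      show _ • v = (-1 : K) • v
      rw [neg_one_smul, ← h2])
    have h4 := H.orth y v v
    simp only [v3, map_smul, LinearMap.smul_apply, smul_eq_mul] at h4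
    refine half (K := K) ?_
    linear_combination (-1 - η * η) * h4 + B v v * h3
  have s2 : B v (τ d v) = 0 := by
    have h2 := H.orth d v (τ d v)
    rw [← tau_mul, h1, LinearMap.neg_apply, Module.End.one_apply, map_neg, H.symm] at h2
    exact half (K := K) h2.symm
  let St : Submonoid (Alt 6) :=
    { carrier := {s | ∀ g, π g = s → ∃ c : K, τ g v = c • v}
      one_mem' := fun g hg => by
        rcases H.ker g hg with h | h
        · exact ⟨1, by rw [h, one_smul]; rfl⟩
        · exact ⟨-1, by rw [h, neg_one_smul]; rfl⟩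
      mul_mem' := fun {s t} hs ht g hg => by
        obtain ⟨k, hk⟩ := H.surj t
        obtain ⟨c, hc⟩ := hs (g * k⁻¹) (by rw [map_mul, map_inv, hg, hk, mul_inv_cancel_right])
        obtain ⟨c', hc'⟩ := ht k hk
        exact ⟨c' * c, by rw [← inv_mul_cancel_right g k, tau_mul, hc', map_smul, hc, smul_smul]⟩ }
  have hS : ∀ (k : Γ) (c : K), τ k v = c • v → π k ∈ St := fun k c hc g hg => by
    rcases H.pm hg with h | h
    · exact ⟨c, by rw [h, hc]⟩
    · exact ⟨-c, by rw [h, LinearMap.neg_apply, hc, neg_smul]⟩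
  have m1 : uu ∈ St := ha ▸ hS a 1 (by rw [v1', one_smul])
  have m2 : u2 ∈ St := hb ▸ hS b 1 (by rw [v2', one_smul])
  have m3 : yy ∈ St := hy ▸ hS y η v3
  have hg : ∀ s i, ∃ j, ∃ t ∈ St, gs s * gg i = gg j * t := fun s i => by
    obtain ⟨j, rfl⟩ := (sg_bij s).2 i
    exact ⟨j, _, mul_mem (mul_mem (pow_mem m1 _) (pow_mem m2 _)) (pow_mem m3 _), tab s j⟩
  have hB := ind (p := fun s => ∀ i, ∃ j, ∃ t ∈ St, s * gg i = gg j * t)
    (fun i => ⟨i, 1, one_mem _, by rw [one_mul, mul_one]⟩) (fun s s' hs hs' i => by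
      obtain ⟨j, t, ht, e⟩ := hs' i
      obtain ⟨k, t', ht', e'⟩ := hs j
      exact ⟨k, t' * t, mul_mem ht' ht, by rw [mul_assoc, e, ← mul_assoc, e', mul_assoc]⟩) (hg 0) (hg 1) (hg 2)
  have s3 : ∀ g, B v (τ g v) = 0 := fun g => by
    obtain ⟨j, t, ht, e⟩ := hB (π g) 0
    rw [show gg 0 = 1 from rfl, mul_one] at e
    rcases bru j with h2 | ⟨m, n, h2⟩
    · rw [h2, one_mul] at e
      obtain ⟨c, hc⟩ := ht g e
      rw [hc, map_smul, s1, smul_zero]
    · obtain ⟨k, hk⟩ := H.surj (uu ^ m.val * u2 ^ n.val)
      obtain ⟨c, hc⟩ := mul_mem (pow_mem m1 m.val) (pow_mem m2 n.val) k hk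
      obtain ⟨c', hc'⟩ := ht (d⁻¹ * (k * g)) (by
        rw [map_mul, map_mul, map_inv, hk, e, ← mul_assoc _ (gg j), h2, hd, inv_mul_cancel_left])
      rw [← H.orth k, ← tau_mul, ← mul_inv_cancel_left d (k * g), tau_mul, hc', hc, map_smul, map_smul, map_smul,
        LinearMap.smul_apply, s2, smul_zero, smul_zero]
  refine H.ts (Submodule.span K (Set.range fun g => τ g v)) (Submodule.span_le.2 ?_)
    ((Submodule.ne_bot_iff _).2 ⟨v, Submodule.subset_span ⟨1, LinearMap.congr_fun (map_one τ) v⟩, v0⟩) (fun g => span_inv ?_)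
    (sing_span ?_)
  · rintro _ ⟨g, rfl⟩
    exact H.inv g v hv
  · rintro _ ⟨k, rfl⟩
    exact Submodule.subset_span ⟨g * k, tau_mul g k v⟩
  · rintro _ ⟨g, rfl⟩ _ ⟨k, rfl⟩
    show B (τ g v) (τ k v) = 0
    rw [← mul_inv_cancel_left g k, tau_mul, H.orth, s3]

end Sit

end Ort

open Ort

/-- **ORT** -/
theorem ort : ORT.{u} := by
  intro K _ _ _ V _ _ _ B σ U hs hn ho hm h8 hi ht
  have hu : ∀ a, IsUnit (σ a) := fun a => (LinearMap.isUnit_iff_ker_eq_bot _).2 (LinearMap.ker_eq_bot'.2 fun x hx =>
    hn x fun y => by rw [← ho a, hx, map_zero]; rfl)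
  have h1 : σ 1 = 1 ∨ σ 1 = -1 := by
    have h := hm 1 1
    rw [mul_one] at h
    rcases h with h | h
    · exact Or.inl ((hu 1).mul_left_cancel (by rw [mul_one, ← h]))
    · exact Or.inr ((hu 1).mul_left_cancel (by rw [mul_neg, mul_one, ← neg_neg (σ 1 * σ 1), ← h]))
  have h2 : ∀ {a b : Alt 6} {f g : Module.End K V}, (f = σ a ∨ f = -σ a) → (g = σ b ∨ g = -σ b) →
      f * g = σ (a * b) ∨ f * g = -σ (a * b) := by
    rintro a b _ _ (rfl | rfl) (rfl | rfl) <;> rcases hm a b with h | h <;> simp only [h, _root_.true_or, _root_.neg_neg, _root_.or_true, _root_.mul_neg, _root_.neg_mul]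
  have h3 : ∀ {f : Module.End K V}, (f = σ 1 ∨ f = -σ 1) → f = 1 ∨ f = -1 := by
    rintro _ (rfl | rfl) <;> rcases h1 with h | h <;> simp [h]
  let Γ : Subgroup (Alt 6 × (Module.End K V)ˣ) :=
    { carrier := {q | (q.2 : Module.End K V) = σ q.1 ∨ (q.2 : Module.End K V) = -σ q.1}
      one_mem' := by
        show (1 : Module.End K V) = σ 1 ∨ (1 : Module.End K V) = -σ 1
        rcases h1 with h | h <;> simp only [h, _root_.true_or, _root_.neg_neg, _root_.or_true]
      mul_mem' := fun ha hb => h2 ha hb
      inv_mem' := fun {q} hq => by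
        have h4 := h2 (a := q.1⁻¹) (Or.inl rfl) hq
        rw [inv_mul_cancel] at h4
        show ((q.2⁻¹ : (Module.End K V)ˣ) : Module.End K V) = σ q.1⁻¹ ∨ ((q.2⁻¹ : (Module.End K V)ˣ) : Module.End K V) = -σ q.1⁻¹
        rcases h3 h4 with h | h
        · exact Or.inl (Units.inv_eq_of_mul_eq_one_left h)
        · exact Or.inr (Units.inv_eq_of_mul_eq_one_left (by rw [neg_mul, h, neg_neg])) }
  let π : Γ →* Alt 6 := (MonoidHom.fst _ _).comp Γ.subtype
  let τ : Γ →* Module.End K V := (Units.coeHom _).comp ((MonoidHom.snd _ _).comp Γ.subtype)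
  have hτ : ∀ g, τ g = σ (π g) ∨ τ g = -σ (π g) := fun g => g.2
  have hσ : ∀ a, ∃ g, τ g = σ a := fun a => ⟨⟨(a, (hu a).unit), Or.inl rfl⟩, rfl⟩
  have H : Sit B π τ U :=
    { surj := fun a => ⟨⟨(a, (hu a).unit), Or.inl rfl⟩, rfl⟩
      ker := fun g hg => h3 (hg ▸ hτ g)
      inj := fun g hg hg' => Subtype.ext (Prod.ext hg (Units.ext hg'))
      symm := hs
      orth := fun g x y => by rcases hτ g with h | h <;> simp only [h, ho, _root_.LinearMap.neg_apply, _root_.map_neg, _root_.neg_neg]
      inv := fun g x hx => by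
        rcases hτ g with h | h
        · rw [h]; exact hi _ x hx
        · rw [h]; exact U.neg_mem (hi _ x hx)
      ts := fun S h4 h5 h6 => ht S h4 h5 fun a => by
        obtain ⟨g, hg⟩ := hσ a
        rw [← hg]
        exact h6 g }
  obtain ⟨d, hd⟩ := H.surj dd
  rcases H.ker (d * d) (by rw [map_mul, hd]; decide +kernel) with h | h
  · obtain ⟨v, hv, h4, h5⟩ := H.plus h8 hd h
    exact ⟨v, hv, h4, fun a => by
      obtain ⟨g, hg⟩ := hσ a
      rw [← hg]
      exact h5 g⟩
  · exact (H.minus (fun e => by rw [e, finrank_bot] at h8; omega) hd h).elim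

end Cfsg.Agent.E8A.D44
end

-- part: E8A/C63/Wit
section
set_option linter.all false
open scoped Cfsg.Agent.FastGrp

/-!
# WIT: a filtration for a restricted `sl₂` (helper5)

`wit_of : STR → WIT`.
-/

set_option autoImplicit false
set_option maxRecDepth 100000

namespace Cfsg.Agent.E8A.C63

open Cfsg Cfsg.Lie Module Matrix
open Cfsg.Agent.H288.E8L (Q8 wt wt_inl wt_inr)
open Cfsg.Agent.Tits.Roots (sr)
open Cfsg.Agent.E8A.Reg5.Cls (ex ex_zero)
open Cfsg.Agent.E8A.Kem (Ge mem_Ge)
open Cfsg.Agent.E8A.TwoH (br_zero_right)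
open Cfsg.Agent.E8A.C63.Sv (sv)

universe u

namespace Wt

variable {K : Type u} [Field K] {y : Q8}

theorem ge_LB {v : L8 K} (n : ℤ) : v ∈ LS K (Ge (cl y) (n : ℝ)) ↔ v ∈ LB K y fun l _ => n ≤ l :=
  forall_congr' fun i => imp_congr_right fun _ => by
    show (n : ℝ) ≤ ((ex y (wt i) : ℤ) : ℝ) ↔ n ≤ ex y (wt i)
    exact Int.cast_le

theorem eq_LB {v : L8 K} (n : ℤ) : v ∈ LS K (Eq' (cl y) (n : ℝ)) ↔ v ∈ LB K y fun l _ => l = n :=
  forall_congr' fun i => imp_congr_right fun _ => by
    show ((ex y (wt i) : ℤ) : ℝ) = (n : ℝ) ↔ ex y (wt i) = n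
    exact Int.cast_inj

theorem ex_x (y a : Q8) : ex (y + sr 6) a = ex y a + a 6 := by
  simp [ex, sr, mul_add, Finset.sum_add_distrib, Pi.single_apply]

theorem ge_x {v : L8 K} (n : ℤ) (h : v ∈ LB K y fun l m => n ≤ l + m) : v ∈ LS K (Ge (cl (y + sr 6)) (n : ℝ)) :=
  (ge_LB n).2 fun i hi => by
    show n ≤ ex (y + sr 6) (wt i)
    rw [ex_x]
    exact h i hi

theorem eq_x {v : L8 K} (n : ℤ) (h : v ∈ LB K y fun l m => l + m = n) : v ∈ LS K (Eq' (cl (y + sr 6)) (n : ℝ)) :=
  (eq_LB n).2 fun i hi => by
    show ex (y + sr 6) (wt i) = n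
    rw [ex_x]
    exact h i hi

theorem dp_of {e h f : L8 K} {g : G8 K} {lam : Q8 →+ ℝ} (h1 : act g e ∈ LS K (Ge lam ((2 : ℤ) : ℝ)))
    (h2 : act g h ∈ LS K (Ge lam ((0 : ℤ) : ℝ))) (h3 : act g f ∈ LS K (Ge lam ((-2 : ℤ) : ℝ))) :
    Dp ![e, h, f] ![2, 0, -2] g lam := by
  intro i
  fin_cases i
  · simpa using h1
  · simpa using h2
  · simpa using h3

theorem first {e h f : L8 K} (S : Sl2 e h f) (he : e ∈ LB K y fun l _ => l = 2)
    (hc : ∀ v, br e v = 0 → v ∈ LB K y fun l _ => -1 ≤ l) (hh : h ∈ LB K y fun l _ => 0 ≤ l) :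
    Dp ![e, h, f] ![2, 0, -2] 1 (cl y) := by
  have h1 : br e (pj y (fun l _ => l < -2) f) = 0 := by
    rw [br_pj he (Q := fun l _ => l < 0) (fun _ _ _ _ a b => by omega) (fun _ _ _ _ a b => by omega), S.ef]
    exact pj_eq (zero_mem _) (by rwa [sub_zero]) fun _ _ a b => by omega
  have h2 : f ∈ LB K y fun l _ => -2 ≤ l :=
    mem_of_pj (mem_top f) (LB_zero (hc _ h1) (pj_mem' f) fun _ _ a b => by omega) fun _ _ _ a => by omega
  refine dp_of ?_ ?_ ?_ <;> rw [act_one, ge_LB]
  exacts [LB_mono he fun _ _ a => by omega, hh, h2]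

theorem onto_of {e : L8 K}
    (h : ∀ j : ℝ, 2 ≤ j → ∀ v ∈ LS K (Eq' (cl y) j), ∃ w ∈ LS K (Eq' (cl y) (j - 2)), br e w = v) :
    ∀ d ∈ LB K y fun l _ => 2 ≤ l, ∃ w, br e w = d := fun d hd => by
  refine LB_ind (M := fun d => ∃ w, br e w = d) ⟨0, br_zero_right _⟩ ?_ (fun i t hi => ?_) hd
  · rintro _ _ ⟨w, rfl⟩ ⟨w', rfl⟩
    exact ⟨w + w', br_add_right _ _ _⟩
  · obtain ⟨w, _, hw⟩ := h ((ex y (wt i) : ℤ) : ℝ) (by exact_mod_cast hi) (t • ee K i)
      (Submodule.smul_mem _ _ (ee_mem_LS rfl))
    exact ⟨w, hw⟩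

theorem second {e z h0 h f : L8 K} {b : Prop} (F : Fa y e z) (H : IsH y h0) (G : Goal y e z h0 b h f) :
    e ∈ LS K (Eq' (cl (y + sr 6)) 2) ∧ ∃ g : G8 K, act g e = e ∧ Dp ![e, h, f] ![2, 0, -2] g (cl (y + sr 6)) ∧
      (b → ∃ h₀ z, IsH y h₀ ∧ z ∈ cen {e} ⊓ LS K (Eq' (cl y) (-1)) ∧ z ≠ 0 ∧
        pr (cl (y + sr 6)) 0 (act g h) = h₀ + z) := by
  obtain ⟨g, g1, g2, g3, g4⟩ := G
  have he : e ∈ LS K (Eq' (cl (y + sr 6)) ((2 : ℤ) : ℝ)) := eq_x 2 (LB_mono F.nl.mem fun _ _ a => by omega)
  refine ⟨by simpa using he, g, g1, dp_of (by rw [g1]; exact Eq_le_Ge he) (ge_x 0 g2) (ge_x (-2) g3), fun hb => ?_⟩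
  obtain ⟨a, ha, hr⟩ := g4 hb
  have hx : a • z ∈ LB K y fun l m => l = -1 ∧ m = 1 := Submodule.smul_mem _ _ F.zm
  refine ⟨h0, a • z, H, ⟨mem_cen_one.2 (by rw [br_smul_right, F.zc, smul_zero]), ?_⟩, ha, ?_⟩
  · simpa using (eq_LB (-1)).2 (LB_mono hx fun _ _ a => a.1)
  · have h1 : h0 + a • z ∈ LS K (Eq' (cl (y + sr 6)) 0) := by
      simpa using eq_x 0 (add_mem (inT_LB H.1 rfl) (LB_mono hx fun _ _ a => by omega))
    have h2 : pr (cl (y + sr 6)) 0 (act g h - (a • z + h0)) = 0 :=
      eq_zero_of_LS (pr_mem _ _ _) (pr_LS (ge_x 1 hr) _ _) fun a h1 h2 => by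
        rw [mem_Eq] at h1
        rw [mem_Ge, h1] at h2
        norm_num at h2
    rw [show act g h = (h0 + a • z) + (act g h - (a • z + h0)) by abel, pr_add, pr_of_mem h1, h2, add_zero]

theorem nm_x : Two.nm (labx 9) = nrc 9 + 6 ∧ Two.nm (labx 10) = nrc 10 + 6 := by decide +kernel

end Wt

open Wt in
/-- **WIT** -/
theorem wit_of (S : STR.{u}) : WIT.{u} := by
  intro K _ _ _ c h f R
  obtain ⟨-, -, -, s1, s2, s3, -⟩ := S K c
  obtain ⟨h0, H⟩ : ∃ h0 : L8 K, IsH (lab c) h0 := by
    obtain ⟨h, h1, h2⟩ := exists_rl (K := K) (AddMonoidHom.mk' (fun a => ((ex (lab c) a : ℤ) : K)) fun a b => by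
      rw [exa, Int.cast_add])
    exact ⟨h, h1, fun a => by rw [h2]; rfl⟩
  have he : ec K c ∈ LB K (lab c) fun l _ => l = 2 := (eq_LB 2).1 (by simpa using s1)
  have hc : ∀ v, br (ec K c) v = 0 → v ∈ LB K (lab c) fun l _ => -1 ≤ l := fun v hv => by
    have h1 := s2 (mem_cen_one.2 hv)
    split_ifs at h1
    · exact LB_mono ((ge_LB 0).1 (by simpa using h1)) fun _ _ a => by omega
    · exact (ge_LB (-1)).1 (by simpa using h1)
  by_cases h8 : c.val ≤ 8
  · refine Or.inl (first R.toSl2 he hc ?_)
    have h1 := s2 (mem_cen_one.2 (cen0 H he R.toSl2))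
    rw [if_pos h8] at h1
    rw [← sub_add_cancel h h0]
    exact add_mem ((ge_LB 0).1 (by simpa using h1)) (inT_LB H.1 le_rfl)
  have key : ∀ z : L8 K, Fa (lab c) (ec K c) z → (c.val = 9 → Fb (lab c) (ec K c) z h0) →
      Two.nm (labx c) = nrc c + 6 → _ := fun z F G hn =>
    (goal F G H R).imp (first R.toSl2 he hc) fun g => And.intro (not_le.1 h8) (And.intro hn (second F H g))
  have s4 := onto_of s3
  have h9 : c = 9 ∨ c = 10 := by
    have := c.2
    rcases (by omega : c.val = 9 ∨ c.val = 10) with h | h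
    exacts [Or.inl (Fin.ext h), Or.inr (Fin.ext h)]
  rcases h9 with rfl | rfl
  · refine key (sv K zz) ?_ (fun _ => ?_) nm_x.1
    · rw [ec9] at s4 hc ⊢
      exact fa_of pre9 s4 hc
    · rw [ec9]
      exact fb9 H
  · refine key (sv K zz) ?_ (fun h => absurd h (by decide)) nm_x.2
    rw [ec10] at s4 hc ⊢
    exact fa_of pre10 s4 hc

end Cfsg.Agent.E8A.C63
end

-- part: E8A/C65/Cert
section
set_option linter.all false
open scoped Cfsg.Agent.FastGrp

/-!
# Coset tables and certificates for permutation modules of alternating groups (helper8)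

* `chkF` : the check of a coset table; `EL ρ R L` : the operator `∑ c • ρ (R i)`, `(c, i) ∈ L`;
* `XL ρ gs X` : the operator `∑ c • ρ (w)`, `(c, w) ∈ X`; `XL_EL` : the product, on fixed vectors;
* `eqv`, `EL_eq` : equality of the coefficients modulo `p`.
-/

set_option autoImplicit false

namespace Cfsg.Agent.E8A.C65

open Module
open Cfsg.Agent.R2.T1.Odd

/-- the check of a coset table -/
def chkF (m : ℕ) (gs gT R : List (List (ℕ × ℕ))) (tab : List (List ℕ)) (wit : List (List (List ℕ))) : Bool :=
  gs.all (vl m) && gT.all (vl m) && R.all (vl m) &&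
    (List.range gs.length).all fun j => (List.range R.length).all fun i =>
      Nat.blt ((tab.getD j []).getD i 0) R.length &&
        cd m (gs.getD j [] ++ R.getD i []) == cd m (R.getD ((tab.getD j []).getD i 0) [] ++ wd gT ((wit.getD j []).getD i []))

/-- the action of a word on the cosets -/
def wI (tab : List (List ℕ)) (w : List ℕ) (i : ℕ) : ℕ := w.foldr (fun j k => (tab.getD j []).getD k 0) i

/-- the product of two formal sums -/
def pr (tab : List (List ℕ)) (X : List (ℕ × List ℕ)) (L : List (ℕ × ℕ)) : List (ℕ × ℕ) :=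
  X.flatMap fun x => L.map fun e => (x.1 * e.1, wI tab x.2 e.2)

/-- the coefficient -/
def cnt (L : List (ℕ × ℕ)) (k : ℕ) : ℕ := L.foldr (fun e s => if Nat.beq e.2 k then e.1 + s else s) 0

/-- the indices are in the range -/
def okL (N : ℕ) (L : List (ℕ × ℕ)) : Bool := L.all fun e => Nat.blt e.2 N

/-- the letters are in the range -/
def okX (N : ℕ) (X : List (ℕ × List ℕ)) : Bool := X.all fun x => x.2.all fun j => Nat.blt j N

/-- equality of formal sums modulo `p` -/
def eqv (p N : ℕ) (L L' : List (ℕ × ℕ)) : Bool :=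
  okL N L && okL N L' && (List.range N).all fun k => Nat.beq (cnt L k % p) (cnt L' k % p)

variable {n : ℕ} [NeZero n] {F : Type*} [Field F] {W : Type*} [AddCommGroup W] [Module F W]
  (ρ : Representation F ↥(alternatingGroup (Fin n)) W)

/-- the operator of a formal sum of coset representatives -/
noncomputable def EL (R : List (List (ℕ × ℕ))) (L : List (ℕ × ℕ)) : Module.End F W :=
  (L.map fun e => (e.1 : F) • ρ (P n (R.getD e.2 []))).sum

/-- the operator of a formal sum of words -/
noncomputable def XL (gs : List (List (ℕ × ℕ))) (X : List (ℕ × List ℕ)) : Module.End F W :=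
  (X.map fun x => (x.1 : F) • ρ (P n (wd gs x.2))).sum

variable {ρ}

theorem EL_nil (R : List (List (ℕ × ℕ))) (v : W) : EL ρ R [] v = 0 := rfl

theorem EL_cons (R : List (List (ℕ × ℕ))) (e : ℕ × ℕ) (L : List (ℕ × ℕ)) (v : W) :
    EL ρ R (e :: L) v = (e.1 : F) • ρ (P n (R.getD e.2 [])) v + EL ρ R L v := rfl

theorem EL_append (R : List (List (ℕ × ℕ))) (L L' : List (ℕ × ℕ)) (v : W) :
    EL ρ R (L ++ L') v = EL ρ R L v + EL ρ R L' v := by
  unfold EL
  rw [List.map_append, List.sum_append, LinearMap.add_apply]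

theorem XL_nil (gs : List (List (ℕ × ℕ))) (v : W) : XL ρ gs [] v = 0 := rfl

theorem XL_cons (gs : List (List (ℕ × ℕ))) (x : ℕ × List ℕ) (X : List (ℕ × List ℕ)) (v : W) :
    XL ρ gs (x :: X) v = (x.1 : F) • ρ (P n (wd gs x.2)) v + XL ρ gs X v := rfl

theorem XL_one (gs : List (List (ℕ × ℕ))) (w : List ℕ) (v : W) : XL ρ gs [(1, w)] v = ρ (P n (wd gs w)) v := by
  rw [XL_cons, XL_nil, add_zero, Nat.cast_one, one_smul]

theorem EL_sum (R : List (List (ℕ × ℕ))) {N : ℕ} {L : List (ℕ × ℕ)} (h : okL N L = true) (v : W) :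
    EL ρ R L v = ∑ k ∈ Finset.range N, (cnt L k : F) • ρ (P n (R.getD k [])) v := by
  induction L with
  | nil => exact (Finset.sum_eq_zero fun k _ => by rw [show cnt [] k = 0 from rfl, Nat.cast_zero, zero_smul]).symm
  | cons e L ih =>
    unfold okL at h
    rw [List.all_cons, Bool.and_eq_true, Nat.blt_eq] at h
    have h1 : ∀ k ∈ Finset.range N, (cnt (e :: L) k : F) • ρ (P n (R.getD k [])) v =
        (if e.2 = k then (e.1 : F) • ρ (P n (R.getD k [])) v else 0) + (cnt L k : F) • ρ (P n (R.getD k [])) v := by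
      intro k _
      have h2 : cnt (e :: L) k = if Nat.beq e.2 k then e.1 + cnt L k else cnt L k := rfl
      rw [h2]
      by_cases e1 : e.2 = k
      · rw [if_pos (nb.2 e1), if_pos e1, Nat.cast_add, add_smul]
      · rw [if_neg (nb' e1), if_neg e1, zero_add]
    rw [EL_cons, ih h.2, Finset.sum_congr rfl h1, Finset.sum_add_distrib, Finset.sum_ite_eq,
      if_pos (Finset.mem_range.2 h.1)]

theorem EL_eq (p : ℕ) [CharP F p] (R : List (List (ℕ × ℕ))) {N : ℕ} {L L' : List (ℕ × ℕ)} (h : eqv p N L L' = true)
    (v : W) : EL ρ R L v = EL ρ R L' v := by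
  unfold eqv at h
  rw [Bool.and_eq_true, Bool.and_eq_true] at h
  rw [EL_sum R h.1.1, EL_sum R h.1.2]
  refine Finset.sum_congr rfl fun k hk => ?_
  have h1 := nb.1 (List.all_eq_true.1 h.2 k (List.mem_range.2 (Finset.mem_range.1 hk)))
  rw [CharP.cast_eq_mod F p (cnt L k), h1, ← CharP.cast_eq_mod]

section tab

variable {m : ℕ} {gs gT R : List (List (ℕ × ℕ))} {tab : List (List ℕ)} {wit : List (List (List ℕ))}

theorem chkF_spec (h : chkF m gs gT R tab wit = true) : gs.all (vl m) = true ∧ gT.all (vl m) = true ∧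
    R.all (vl m) = true ∧ ∀ j < gs.length, ∀ i < R.length, (tab.getD j []).getD i 0 < R.length ∧
      cd m (gs.getD j [] ++ R.getD i []) = cd m (R.getD ((tab.getD j []).getD i 0) [] ++ wd gT ((wit.getD j []).getD i [])) := by
  unfold chkF at h
  simp only [Bool.and_eq_true] at h
  refine ⟨h.1.1.1, h.1.1.2, h.1.2, fun j hj i hi => ?_⟩
  have h1 := List.all_eq_true.1 (List.all_eq_true.1 h.2 j (List.mem_range.2 hj)) i (List.mem_range.2 hi)
  rw [Bool.and_eq_true, Nat.blt_eq] at h1
  exact ⟨h1.1, eq_of_beq h1.2⟩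

theorem act_word (hm : m ≤ n) (h : chkF m gs gT R tab wit = true) {v : W} (hv : v ∈ inv ρ (Tg n gT)) {w : List ℕ}
    (hw : (w.all fun j => Nat.blt j gs.length) = true) {i : ℕ} (hi : i < R.length) :
    wI tab w i < R.length ∧ ρ (P n (wd gs w)) (ρ (P n (R.getD i [])) v) = ρ (P n (R.getD (wI tab w i) [])) v := by
  obtain ⟨h1, h2, h3, h4⟩ := chkF_spec h
  induction w with
  | nil => exact ⟨hi, by rw [wd_nil, P_nil, map_one]; rfl⟩
  | cons j w ih =>
    rw [List.all_cons, Bool.and_eq_true, Nat.blt_eq] at hw
    obtain ⟨h5, h6⟩ := ih hw.2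
    obtain ⟨h7, h8⟩ := h4 j hw.1 _ h5
    refine ⟨h7, ?_⟩
    have h9 := (P_eq_iff (n := n) hm (vl_append (vl_getD h1 j) (vl_getD h3 _)) (vl_append (vl_getD h3 _) (vl_wd h2 _))).2 h8
    rw [P_append hm (vl_getD h1 j) (vl_getD h3 _), P_append hm (vl_getD h3 _) (vl_wd h2 _)] at h9
    rw [wd_cons, P_append hm (vl_getD h1 j) (vl_wd h1 w), map_mul, Module.End.mul_apply, h6, ← Module.End.mul_apply,
      ← map_mul, h9, map_mul, Module.End.mul_apply, hv _ (P_wd_mem hm h2 _)]
    rfl

theorem act_EL (hm : m ≤ n) (h : chkF m gs gT R tab wit = true) {v : W} (hv : v ∈ inv ρ (Tg n gT)) {w : List ℕ}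
    (hw : (w.all fun j => Nat.blt j gs.length) = true) (c : ℕ) {L : List (ℕ × ℕ)} (hL : okL R.length L = true) :
    (c : F) • ρ (P n (wd gs w)) (EL ρ R L v) = EL ρ R (L.map fun e => (c * e.1, wI tab w e.2)) v := by
  induction L with
  | nil => rw [List.map_nil, EL_nil, map_zero, smul_zero]
  | cons e L ih =>
    unfold okL at hL
    rw [List.all_cons, Bool.and_eq_true, Nat.blt_eq] at hL
    rw [List.map_cons, EL_cons, EL_cons, map_add, smul_add, ih hL.2, map_smul, (act_word hm h hv hw hL.1).2, smul_smul,
      Nat.cast_mul]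

theorem XL_EL (hm : m ≤ n) (h : chkF m gs gT R tab wit = true) {v : W} (hv : v ∈ inv ρ (Tg n gT))
    {X : List (ℕ × List ℕ)} (hX : okX gs.length X = true) {L : List (ℕ × ℕ)} (hL : okL R.length L = true) :
    XL ρ gs X (EL ρ R L v) = EL ρ R (pr tab X L) v := by
  induction X with
  | nil => rfl
  | cons x X ih =>
    unfold okX at hX
    rw [List.all_cons, Bool.and_eq_true] at hX
    rw [XL_cons, ih hX.2, act_EL hm h hv hX.1 x.1 hL, ← EL_append]
    rfl

end tab

theorem mem_inv_Tg {gens : List (List (ℕ × ℕ))} {v : W} (h : ∀ g ∈ gens, ρ (P n g) v = v) : v ∈ inv ρ (Tg n gens) :=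
  mem_inv_closure.2 (by
    rintro _ ⟨g, hg, rfl⟩
    exact h g hg)

end Cfsg.Agent.E8A.C65
end

-- part: E8A/C72/Cert
section
prune_inst 0x7f0000000000000000000000000000000000000000000000000000000000000000000000000000000000000000000000000000000000000000000000000000000000000000000000000000000000000000000000000020000000000000000010000000000000
set_option linter.all false
open scoped Cfsg.Agent.FastGrp

/-!
# Identities in the group algebra of `A₇` in characteristic 2 (helper8)

* `el n` : the element with the number `n`; `S ρ l` : the sum of the operators of the elements with numbers in `l`;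
* `tot L` : the mask of `∑ S A * S B`, `(A, B) ∈ L`; `cert` : the operator vanishes if the mask is `0`.
-/

set_option autoImplicit false
set_option maxRecDepth 100000

namespace Cfsg.Agent.E8A.C72

open Module Equiv Equiv.Perm
open Cfsg.Agent.R2.T1.Odd Cfsg.Agent.R2.T1.Msk
open Cfsg.Agent.R2.T1.N7 (A7 P_ap mul_ap)

/-- a factor -/
def pc (k i : ℕ) : List (ℕ × ℕ) := bif Nat.beq i 0 then [] else [(k - i, k), (0, 1)]

/-- the word with the number `n` -/
def wn (n : ℕ) : List (ℕ × ℕ) :=
  pc 6 (n % 7) ++ (pc 5 (n / 7 % 6) ++ (pc 4 (n / 42 % 5) ++ (pc 3 (n / 210 % 4) ++ pc 2 (n / 840 % 3))))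

theorem vl_pc {k i : ℕ} (hk : k < 7) (hi : i < k + 1) : vl 7 (pc k i) = true := by
  have h : ∀ k < 7, ∀ i < k + 1, vl 7 (pc k i) = true := by decide
  exact h k hk i hi

theorem vl_wn (n : ℕ) : vl 7 (wn n) = true :=
  vl_append (vl_pc (by norm_num) (Nat.mod_lt _ (by norm_num))) (vl_append (vl_pc (by norm_num) (Nat.mod_lt _ (by norm_num)))
    (vl_append (vl_pc (by norm_num) (Nat.mod_lt _ (by norm_num))) (vl_append (vl_pc (by norm_num)
      (Nat.mod_lt _ (by norm_num))) (vl_pc (by norm_num) (Nat.mod_lt _ (by norm_num))))))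

/-- the element with the number `n` -/
noncomputable def el (n : ℕ) : A7 := P 7 (wn n)

theorem el_zero : el 0 = 1 := P_nil

theorem el_ap (n : ℕ) (i : Fin 7) : ((el n : Perm (Fin 7)) i).val = ap (wn n) i.val := P_ap (vl_wn n) i

/-- the packed images -/
def pk (a0 a1 a2 a3 a4 a5 a6 : ℕ) : ℕ := a0 + 8 * (a1 + 8 * (a2 + 8 * (a3 + 8 * (a4 + 8 * (a5 + 8 * a6)))))

/-- the code of an element -/
def cod (n : ℕ) : ℕ :=
  pk (ap (wn n) 0) (ap (wn n) 1) (ap (wn n) 2) (ap (wn n) 3) (ap (wn n) 4) (ap (wn n) 5) (ap (wn n) 6)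

/-- the shifts -/
def sh (n : ℕ) : ℕ × ℕ × ℕ × ℕ × ℕ :=
  (3 * ap (wn n) 0, 3 * ap (wn n) 1, 3 * ap (wn n) 2, 3 * ap (wn n) 3, 3 * ap (wn n) 4)

/-- a digit -/
def dg (a k : ℕ) : ℕ := Nat.mod (Nat.shiftRight a k) 8

/-- the index of a product -/
def ix (a : ℕ) (b : ℕ × ℕ × ℕ × ℕ × ℕ) : ℕ :=
  Nat.add (dg a b.1) (Nat.mul 7 (Nat.add (dg a b.2.1) (Nat.mul 7 (Nat.add (dg a b.2.2.1) (Nat.mul 7
    (Nat.add (dg a b.2.2.2.1) (Nat.mul 7 (dg a b.2.2.2.2))))))))

/-- the index of an element -/
def idx (g : A7) : ℕ := ((g : Perm (Fin 7)) 0).val + 7 * (((g : Perm (Fin 7)) 1).val + 7 * (((g : Perm (Fin 7)) 2).val +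
  7 * (((g : Perm (Fin 7)) 3).val + 7 * ((g : Perm (Fin 7)) 4).val)))

theorem idx_lt (g : A7) : idx g < 16807 := by
  unfold idx
  omega

theorem eq_one_of {k : A7} (h0 : (k : Perm (Fin 7)) 0 = 0) (h1 : (k : Perm (Fin 7)) 1 = 1) (h2 : (k : Perm (Fin 7)) 2 = 2)
    (h3 : (k : Perm (Fin 7)) 3 = 3) (h4 : (k : Perm (Fin 7)) 4 = 4) : k = 1 := by
  have hs : sign (k : Perm (Fin 7)) = 1 := mem_alternatingGroup.1 k.2
  have inj := (k : Perm (Fin 7)).injective
  have n5 : ∀ j : Fin 7, (k : Perm (Fin 7)) j = j → j ≠ 5 → (k : Perm (Fin 7)) 5 ≠ j := fun j hj hj' h =>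
    hj' (inj (h.trans hj.symm)).symm
  have n6 : ∀ j : Fin 7, (k : Perm (Fin 7)) j = j → j ≠ 6 → (k : Perm (Fin 7)) 6 ≠ j := fun j hj hj' h =>
    hj' (inj (h.trans hj.symm)).symm
  have key : ∀ a : Fin 7, a ≠ 0 → a ≠ 1 → a ≠ 2 → a ≠ 3 → a ≠ 4 → a = 5 ∨ a = 6 := by decide
  have k5 := key _ (n5 0 h0 (by decide)) (n5 1 h1 (by decide)) (n5 2 h2 (by decide)) (n5 3 h3 (by decide))
    (n5 4 h4 (by decide))
  have k6 := key _ (n6 0 h0 (by decide)) (n6 1 h1 (by decide)) (n6 2 h2 (by decide)) (n6 3 h3 (by decide))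
    (n6 4 h4 (by decide))
  have ne : (k : Perm (Fin 7)) 5 ≠ (k : Perm (Fin 7)) 6 := fun h => absurd (inj h) (by decide)
  have all : ∀ i : Fin 7, i = 0 ∨ i = 1 ∨ i = 2 ∨ i = 3 ∨ i = 4 ∨ i = 5 ∨ i = 6 := by decide
  rcases k5 with k5 | k5
  · have k6' : (k : Perm (Fin 7)) 6 = 6 := k6.resolve_left fun h => ne (k5.trans h.symm)
    refine Subtype.ext (Perm.ext fun i => ?_)
    rcases all i with rfl | rfl | rfl | rfl | rfl | rfl | rfl <;> assumption
  · have k6' : (k : Perm (Fin 7)) 6 = 5 := k6.resolve_right fun h => ne (k5.trans h.symm)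
    have e : (k : Perm (Fin 7)) = swap 5 6 := by
      refine Perm.ext fun i => ?_
      rcases all i with rfl | rfl | rfl | rfl | rfl | rfl | rfl <;> assumption
    rw [e, sign_swap (by decide)] at hs
    exact absurd hs (by decide)

theorem idx_inj {g h : A7} (e : idx g = idx h) : g = h := by
  have key : ∀ i : Fin 7, ((g : Perm (Fin 7)) i).val = ((h : Perm (Fin 7)) i).val →
      ((h⁻¹ * g : A7) : Perm (Fin 7)) i = i := fun i hi => by
    rw [mul_ap, Fin.ext hi]
    exact Cfsg.Agent.R2.T1.N7.inv_ap rfl
  unfold idx at e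
  have h1 : h⁻¹ * g = 1 :=
    eq_one_of (key 0 (by omega)) (key 1 (by omega)) (key 2 (by omega)) (key 3 (by omega)) (key 4 (by omega))
  exact (inv_mul_eq_one.1 h1).symm

theorem dg_pk {a0 a1 a2 a3 a4 a5 a6 : ℕ} (h0 : a0 < 7) (h1 : a1 < 7) (h2 : a2 < 7) (h3 : a3 < 7) (h4 : a4 < 7) (h5 : a5 < 7)
    (h6 : a6 < 7) : dg (pk a0 a1 a2 a3 a4 a5 a6) 0 = a0 ∧ dg (pk a0 a1 a2 a3 a4 a5 a6) 3 = a1 ∧
    dg (pk a0 a1 a2 a3 a4 a5 a6) 6 = a2 ∧ dg (pk a0 a1 a2 a3 a4 a5 a6) 9 = a3 ∧ dg (pk a0 a1 a2 a3 a4 a5 a6) 12 = a4 ∧
    dg (pk a0 a1 a2 a3 a4 a5 a6) 15 = a5 ∧ dg (pk a0 a1 a2 a3 a4 a5 a6) 18 = a6 := by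
  have e : ∀ a k, dg a k = a / 2 ^ k % 8 := fun a k => by
    show (a >>> k) % 8 = _
    rw [Nat.shiftRight_eq_div_pow]
  simp only [e, pk]
  omega

theorem dg_cod (n : ℕ) (i : Fin 7) : dg (cod n) (3 * i.val) = ((el n : Perm (Fin 7)) i).val := by
  have h : ∀ i : Fin 7, ap (wn n) i.val < 7 := fun i => by rw [← el_ap]; exact Fin.is_lt _
  have k := dg_pk (h 0) (h 1) (h 2) (h 3) (h 4) (h 5) (h 6)
  rw [el_ap]
  have all : ∀ i : Fin 7, i = 0 ∨ i = 1 ∨ i = 2 ∨ i = 3 ∨ i = 4 ∨ i = 5 ∨ i = 6 := by decide
  rcases all i with rfl | rfl | rfl | rfl | rfl | rfl | rfl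
  exacts [k.1, k.2.1, k.2.2.1, k.2.2.2.1, k.2.2.2.2.1, k.2.2.2.2.2.1, k.2.2.2.2.2.2]

theorem ix_eq (n m : ℕ) : ix (cod n) (sh m) = idx (el n * el m) := by
  have h : ∀ i : Fin 7, dg (cod n) (3 * ap (wn m) i.val) = (((el n * el m : A7) : Perm (Fin 7)) i).val := fun i => by
    rw [← el_ap, dg_cod, mul_ap]
  unfold idx
  rw [← h 0, ← h 1, ← h 2, ← h 3, ← h 4]
  rfl

/-- the check of a product -/
def ml (a b c : ℕ) : Bool := Nat.beq (ix (cod a) (sh b)) (ix (cod c) (sh 0))

theorem el_mul {a b c : ℕ} (h : ml a b c = true) : el a * el b = el c := by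
  have h1 := nb.1 h
  rw [ix_eq, ix_eq, el_zero, mul_one] at h1
  exact idx_inj h1

/-- the inner loop -/
def inn (a : ℕ) : List (ℕ × ℕ × ℕ × ℕ × ℕ) → ℕ
  | [] => 0
  | b :: B => Nat.xor (Nat.pow 2 (ix a b)) (inn a B)

/-- the outer loop -/
def out (B : List (ℕ × ℕ × ℕ × ℕ × ℕ)) : List ℕ → ℕ
  | [] => 0
  | n :: A => Nat.xor (inn (cod n) B) (out B A)

/-- the mask of a sum of products -/
def tot : List (List ℕ × List ℕ) → ℕ
  | [] => 0
  | x :: L => Nat.xor (out (x.2.map sh) x.1) (tot L)

section

variable {F : Type*} [Field F] {M : Type*} [AddCommGroup M] [Module F M] (ρ : Representation F A7 M)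

/-- the sum of the operators -/
noncomputable def S (l : List ℕ) : Module.End F M := (l.map fun n => ρ (el n)).sum

theorem S_nil : S ρ [] = 0 := rfl

theorem S_cons (n : ℕ) (l : List ℕ) : S ρ (n :: l) = ρ (el n) + S ρ l := rfl

theorem S_one (n : ℕ) : S ρ [n] = ρ (el n) := by rw [S_cons, S_nil, add_zero]

theorem S_zero : S ρ [0] = 1 := by rw [S_one, el_zero, map_one]

open Classical in
/-- the operators, by their indices -/
noncomputable def tb (N : ℕ) : List (Module.End F M) :=
  (List.range N).map fun k => if h : ∃ g, idx g = k then ρ h.choose else 0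

theorem tb_getD {N : ℕ} {g : A7} (h : idx g < N) : (tb ρ N).getD (idx g) 0 = ρ g := by
  have h1 : ∃ g', idx g' = idx g := ⟨g, rfl⟩
  unfold tb
  rw [List.getD_eq_getElem _ _ (by rw [List.length_map, List.length_range]; exact h), List.getElem_map,
    List.getElem_range, dif_pos h1, idx_inj h1.choose_spec]

variable {ρ}

theorem two_end (h2 : (2 : F) = 0) (w : Module.End F M) : w + w = 0 := by rw [← two_smul F w, h2, zero_smul]

theorem inn_spec (h2 : (2 : F) = 0) {N : ℕ} (hN : 16807 ≤ N) (n : ℕ) (B : List ℕ) :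
    sumM (tb ρ N) (inn (cod n) (B.map sh)) = ρ (el n) * S ρ B := by
  induction B with
  | nil => rw [S_nil, mul_zero]; exact sumM_zero _
  | cons m B ih =>
    show sumM _ (2 ^ ix (cod n) (sh m) ^^^ inn (cod n) (B.map sh)) = _
    rw [sumM_xor (two_end h2), ih, sumM_pow, ix_eq, tb_getD ρ ((idx_lt _).trans_le hN), S_cons, mul_add, map_mul]

theorem out_spec (h2 : (2 : F) = 0) {N : ℕ} (hN : 16807 ≤ N) (A B : List ℕ) :
    sumM (tb ρ N) (out (B.map sh) A) = S ρ A * S ρ B := by
  induction A with
  | nil => rw [S_nil, zero_mul]; exact sumM_zero _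
  | cons n A ih =>
    show sumM _ (inn (cod n) (B.map sh) ^^^ out (B.map sh) A) = _
    rw [sumM_xor (two_end h2), ih, inn_spec h2 hN, S_cons, add_mul]

theorem tot_spec (h2 : (2 : F) = 0) {N : ℕ} (hN : 16807 ≤ N) (L : List (List ℕ × List ℕ)) :
    sumM (tb ρ N) (tot L) = (L.map fun x => S ρ x.1 * S ρ x.2).sum := by
  induction L with
  | nil => exact sumM_zero _
  | cons x L ih =>
    show sumM _ (out (x.2.map sh) x.1 ^^^ tot L) = _
    rw [sumM_xor (two_end h2), ih, out_spec h2 hN, List.map_cons, List.sum_cons]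

theorem cert (h2 : (2 : F) = 0) {L : List (List ℕ × List ℕ)} (h : Nat.beq (tot L) 0 = true) :
    (L.map fun x => S ρ x.1 * S ρ x.2).sum = 0 := by
  obtain ⟨N, hN⟩ : ∃ N, 16807 ≤ N := ⟨_, le_rfl⟩
  rw [← tot_spec h2 hN, nb.1 h, sumM_zero]

theorem cert1 (h2 : (2 : F) = 0) {A B : List ℕ} (h : Nat.beq (tot [(A, B)]) 0 = true) (v : M) :
    S ρ A (S ρ B v) = 0 := by
  have h1 := cert (ρ := ρ) h2 h
  rw [List.map_cons, List.map_nil, List.sum_cons, List.sum_nil, add_zero] at h1
  exact LinearMap.congr_fun h1 v

theorem eq_of_add (h2 : (2 : F) = 0) {a b : M} (h : a + b = 0) : a = b := by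
  have h1 : b + b = 0 := by rw [← two_smul F b, h2, zero_smul]
  rw [← h1] at h
  exact add_right_cancel h

theorem cert2 (h2 : (2 : F) = 0) {A B C D : List ℕ} (h : Nat.beq (tot [(A, B), (C, D)]) 0 = true) (v : M) :
    S ρ A (S ρ B v) = S ρ C (S ρ D v) := by
  have h1 := cert (ρ := ρ) h2 h
  simp only [List.map_cons, List.map_nil, List.sum_cons, List.sum_nil, add_zero] at h1
  exact eq_of_add h2 (LinearMap.congr_fun h1 v)

theorem cert3 (h2 : (2 : F) = 0) {A B C D E G : List ℕ} (h : Nat.beq (tot [(A, B), (C, D), (E, G)]) 0 = true) (v : M) :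
    S ρ A (S ρ B v) = S ρ C (S ρ D v) + S ρ E (S ρ G v) := by
  have h1 := cert (ρ := ρ) h2 h
  simp only [List.map_cons, List.map_nil, List.sum_cons, List.sum_nil, add_zero] at h1
  exact eq_of_add h2 (LinearMap.congr_fun h1 v)

end

end Cfsg.Agent.E8A.C72

private theorem dce_5e97f2da92da : _root_.True := by
  try have : _root_.True := by simp only [_root_.Cfsg.Agent.E8A.C72.tot.eq_def]
  try have : _root_.True := by simp only [_root_.Cfsg.Agent.E8A.C72.pk.eq_1]
  try have : _root_.True := by simp only [_root_.Cfsg.Agent.E8A.C72.out.eq_def]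
  try have : _root_.True := by simp only [_root_.Cfsg.Agent.E8A.C72.inn.eq_def]
  exact _root_.True.intro
end

-- part: E8A/C72/Data
section
prune_inst 0x7f0000000000000000000000000000000000000000000000000000000000000000000000000000000000000000000000000000000000000000000000000000000000000000000000000000000000000000000000000020000000000000000010000000000000
set_option linter.all false

/-!
# `A₇` in characteristic 2: the certificates (helper8)

Numbers: `x = (0 1 2) = 1680`, `y = (3 4 5) = 56`, `t = x y = 1736`, `j = (1 2)(4 5) = 1687`, `w = (0 1 2 3 4) = 2268`,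
`s = (6 0 1 3 2 5 4) = 2071`, `(1 2 3 4 5) = 2296`.  `lZ` : the 3-cycles, `lC` : the 3-cycles and the 5-cycles.
-/

set_option autoImplicit false
set_option maxRecDepth 100000

namespace Cfsg.Agent.E8A.C72

open Cfsg.Agent.R2.T1.Odd

def lZ : List ℕ :=
  [5, 6, 8, 9, 15, 17, 22, 25, 28, 29, 34, 35, 36, 40, 44, 45, 49, 56, 86, 88, 91, 105, 126, 128, 132, 133, 161,
   168, 170, 173, 175, 196, 213, 214, 224, 231, 252, 294, 420, 423, 426, 434, 455, 462, 588, 630, 633, 635, 644,
   658, 672, 756, 840, 844, 846, 861, 875, 924, 1008, 1050, 1470, 1680, 1684, 1685, 1701, 1708, 1764, 1806, 1890,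
   2100]

def lC : List ℕ :=
  [5, 6, 8, 9, 15, 17, 22, 25, 28, 29, 34, 35, 36, 40, 44, 45, 49, 56, 86, 88, 91, 105, 126, 128, 132, 133, 134,
   135, 138, 139, 155, 156, 159, 160, 161, 162, 163, 166, 167, 168, 170, 173, 175, 176, 177, 180, 181, 196, 197,
   198, 201, 202, 204, 205, 208, 209, 213, 214, 224, 231, 252, 260, 261, 262, 263, 267, 268, 269, 270, 274, 275,
   276, 277, 294, 302, 303, 304, 305, 309, 310, 311, 312, 316, 317, 318, 319, 420, 423, 426, 434, 435, 437, 439,
   440, 449, 451, 453, 454, 455, 456, 458, 460, 461, 462, 464, 465, 467, 468, 469, 470, 471, 472, 475, 476, 477,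
   478, 479, 482, 490, 491, 492, 493, 496, 497, 548, 549, 551, 552, 553, 560, 574, 581, 588, 590, 591, 593, 594,
   595, 596, 597, 598, 601, 602, 603, 604, 605, 608, 616, 617, 618, 619, 622, 623, 630, 633, 635, 644, 645, 647,
   649, 650, 658, 659, 661, 663, 664, 666, 668, 670, 671, 672, 674, 675, 677, 678, 679, 680, 681, 682, 684, 686,
   687, 688, 689, 691, 700, 707, 708, 709, 710, 712, 756, 758, 759, 761, 762, 763, 764, 765, 766, 768, 770, 771,
   772, 773, 775, 784, 791, 792, 793, 794, 796, 800, 801, 803, 804, 805, 812, 826, 833, 840, 844, 846, 861, 862,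
   865, 866, 867, 869, 872, 873, 874, 875, 876, 879, 880, 881, 924, 926, 928, 929, 930, 931, 932, 933, 935, 937,
   945, 946, 947, 949, 951, 952, 953, 954, 956, 958, 959, 968, 970, 971, 972, 973, 987, 994, 1001, 1008, 1010,
   1012, 1013, 1014, 1015, 1016, 1017, 1019, 1021, 1029, 1030, 1031, 1033, 1035, 1036, 1037, 1038, 1040, 1042,
   1043, 1050, 1053, 1054, 1055, 1056, 1064, 1065, 1067, 1068, 1070, 1071, 1072, 1074, 1075, 1077, 1078, 1079,
   1081, 1082, 1084, 1085, 1092, 1094, 1095, 1096, 1098, 1099, 1106, 1113, 1127, 1134, 1136, 1137, 1138, 1140,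
   1141, 1148, 1155, 1169, 1176, 1178, 1179, 1180, 1182, 1183, 1190, 1197, 1211, 1218, 1263, 1264, 1265, 1266,
   1274, 1281, 1288, 1295, 1302, 1344, 1386, 1428, 1470, 1473, 1474, 1475, 1476, 1484, 1485, 1487, 1488, 1490,
   1491, 1492, 1494, 1495, 1497, 1498, 1499, 1501, 1502, 1504, 1505, 1512, 1514, 1515, 1516, 1518, 1519, 1526,
   1533, 1547, 1554, 1556, 1557, 1558, 1560, 1561, 1568, 1575, 1589, 1596, 1598, 1599, 1600, 1602, 1603, 1610,
   1617, 1631, 1638, 1680, 1684, 1685, 1701, 1702, 1705, 1706, 1707, 1708, 1709, 1712, 1713, 1714, 1716, 1719,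
   1720, 1721, 1764, 1766, 1768, 1769, 1770, 1771, 1772, 1773, 1775, 1776, 1785, 1786, 1787, 1789, 1790, 1792,
   1799, 1800, 1801, 1803, 1804, 1806, 1808, 1810, 1811, 1812, 1813, 1814, 1815, 1817, 1818, 1827, 1828, 1829,
   1831, 1832, 1834, 1841, 1842, 1843, 1845, 1846, 1850, 1852, 1853, 1854, 1855, 1869, 1876, 1883, 1890, 1893,
   1894, 1895, 1896, 1904, 1905, 1907, 1908, 1909, 1911, 1912, 1914, 1915, 1916, 1918, 1925, 1926, 1928, 1929,
   1930, 1932, 1934, 1935, 1936, 1937, 1939, 1946, 1953, 1960, 1974, 1976, 1977, 1978, 1979, 1981, 1988, 1995,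
   2002, 2016, 2058, 2060, 2061, 2062, 2063, 2065, 2072, 2079, 2086, 2100, 2103, 2104, 2105, 2106, 2114, 2115,
   2117, 2118, 2119, 2121, 2122, 2124, 2125, 2126, 2128, 2135, 2136, 2138, 2139, 2140, 2142, 2144, 2145, 2146,
   2147, 2149, 2156, 2163, 2170, 2184, 2186, 2187, 2188, 2189, 2191, 2198, 2205, 2212, 2226, 2268, 2270, 2271,
   2272, 2273, 2275, 2282, 2289, 2296, 2313, 2314, 2315, 2316, 2324, 2331, 2338, 2345, 2352, 2394, 2436, 2478]

def lU : List ℕ :=
  [151, 190, 281, 328, 732, 751, 808, 831, 889, 1220, 1643, 1736, 2337, 2348]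

def e7 : List ℕ :=
  [2071, 2518, 1627, 1971, 1359, 1577]

def e5 : List ℕ :=
  [2268, 1386, 2394, 1092]

def e9 : List ℕ :=
  [0, 49, 56, 840, 889, 896, 1680, 1729, 1736]

def aM : List ℕ :=
  [10, 11, 17, 18, 25, 49, 74, 87, 97, 112, 158, 181, 182, 192, 212, 238, 242, 258, 261, 337, 339, 355, 358, 376,
   516, 545, 578, 640, 641, 655, 684, 688, 694, 696, 724, 725, 732, 757, 766, 792, 794, 986, 1027, 1044, 1209,
   1244, 1382, 1386, 1389, 1395, 1396, 1419, 1420, 1421, 1422, 1461, 1468, 1545, 1546, 1640, 1644, 1645, 1647,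
   1651, 1655, 1667, 1675, 1685, 1693, 1708, 1722, 1737, 1762, 1773, 1799, 1813, 1822, 1829, 1832, 1844, 1845,
   1927, 1934, 1978, 2047, 2060, 2067, 2071, 2090, 2092, 2106, 2115, 2121, 2136, 2142, 2147, 2149, 2160, 2162,
   2208, 2384, 2407, 2421, 2422, 2427, 2482]

def bM : List ℕ :=
  [30, 69, 87, 94, 99, 162, 174, 180, 187, 237, 278, 310, 320, 364, 413, 424, 431, 457, 466, 473, 617, 631, 639,
   647, 689, 742, 776, 819, 863, 915, 946, 970, 977, 984, 1011, 1018, 1023, 1055, 1063, 1073, 1098, 1104, 1156,
   1261, 1269, 1277, 1319, 1379, 1407, 1446, 1503, 1553, 1582, 1612, 1637, 1659, 1717, 1761, 1769, 1777, 1784,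
   1809, 1816, 1821, 1877, 1891, 1899, 1907, 1949, 1993, 2044, 2093, 2139, 2174, 2219, 2247, 2284, 2300, 2316,
   2322, 2340, 2357, 2365, 2472]

def aR1 : List ℕ :=
  [8, 10, 15, 16, 19, 22, 23, 24, 26, 37, 39, 43, 45, 46, 47, 69, 76, 86, 87, 111, 113, 118, 170, 181, 195, 197,
   199, 200, 211, 213, 214, 215, 223, 237, 241, 242, 252, 258, 261, 262, 264, 271, 276, 277, 291, 292, 302, 303,
   306, 309, 310, 317, 318, 319, 330, 332, 333, 334, 342, 344, 346, 352, 359, 361, 373, 374, 375, 631, 635, 643,
   650, 657, 662, 678, 681, 682, 683, 687, 691, 694, 698, 711, 722, 724, 725, 730, 731, 732, 740, 750, 753, 754,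
   762, 765, 767, 771, 773, 774, 775, 778, 915, 923, 999, 1007, 1041, 1293, 1335, 1427, 1461, 1503, 1511, 1545,
   1553, 1629, 1671, 1682, 1683, 1700, 1707, 1710, 1714, 1730, 1738, 1739, 1748, 1759, 1761, 1770, 1772, 1773,
   1775, 1776, 1779, 1781, 1782, 1789, 1800, 1801, 1802, 1814, 1815, 1818, 1821, 1822, 1830, 1831, 1842, 1845,
   1846, 1896, 1901, 1906, 1907, 1908, 1909, 1912, 1913, 1916, 1929, 1933, 1934, 1936, 1937, 1946, 1964, 1981,
   1987, 2001, 2004, 2008, 2059, 2061, 2062, 2071, 2085, 2110, 2111, 2117, 2118, 2119, 2138, 2139, 2140, 2143,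
   2144, 2147, 2162, 2169, 2171, 2172, 2176, 2186, 2187, 2204, 2211, 2215, 2271, 2297, 2298, 2299, 2300]

def bR1 : List ℕ :=
  [126, 140, 294, 616, 749, 1001, 1071, 1218, 1260, 1330, 1575, 1897, 2142, 2156, 2275]

def aR2 : List ℕ :=
  [9, 15, 91, 171, 263, 268, 333, 345, 680, 683, 739, 779, 1930, 1937, 2086, 2272, 2289]

def bR2 : List ℕ :=
  [270, 274, 346, 369, 370, 386, 401, 434, 495, 544, 545, 608, 652, 683, 716, 756, 765, 824, 825, 836, 874, 928,
   973, 1107, 1163, 1172, 1248, 1284, 1321, 1498, 1614, 1633, 1669, 1719, 1757, 1765, 1811, 1957, 2155, 2312,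
   2317, 2481]

def aF2 : List ℕ :=
  [0, 9, 17, 22, 43, 45, 46, 85, 91, 168, 169, 175, 197, 211, 213, 224, 252, 260, 261, 267, 276, 277, 294, 303,
   311, 316, 336, 337, 630, 633, 634, 651, 655, 660, 664, 672, 682, 686, 689, 697, 714, 718, 721, 722, 729, 731,
   736, 757, 768, 791, 796, 1386, 1387, 1682, 1709, 1732, 1764, 1772, 1773, 1786, 1806, 1808, 1813, 1898, 1899,
   1905, 1913, 1915, 1930, 1934, 1946, 1978, 2008, 2063, 2085, 2092, 2110, 2114, 2115, 2125, 2142, 2144, 2146,
   2151, 2156, 2185, 2186, 2187, 2191, 2198, 2268, 2269, 2281, 2296]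

def bF2 : List ℕ :=
  [99, 106, 141, 162, 183, 197, 219, 233, 253, 296, 429, 457, 463, 590, 639, 660, 673, 758, 939, 946, 981, 1002,
   1023, 1037, 1059, 1073, 1093, 1136, 1269, 1297, 1303, 1430, 1479, 1500, 1513, 1598, 1779, 1786, 1821, 1842,
   1863, 1877, 1899, 1913, 1933, 1976, 2109, 2137, 2143, 2270, 2319, 2340, 2353, 2438]

def aF3 : List ℕ :=
  [211, 244, 348, 544, 646, 653, 655, 681, 682, 697, 715, 721, 725, 728, 1340, 1342, 1405, 1546, 1651, 1652, 1658,
   1818, 1907, 1930, 2071, 2078, 2108, 2116, 2117, 2123, 2125, 2143, 2149, 2157, 2166, 2167, 2191, 2193, 2201, 2202]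

def bF3 : List ℕ :=
  [130, 180, 187, 215, 264, 271, 391, 398, 508, 599, 606, 643, 650, 678, 761, 929, 977, 984, 1146, 1153, 1182,
   1272, 1279, 1307, 1432, 1476, 1525, 1532, 1565, 1572, 1777, 1784, 1854, 1901, 1908, 1936, 1980, 2104, 2153,
   2160, 2238, 2245, 2449, 2456, 2483]

def aI1 : List ℕ :=
  [5, 22, 28, 44, 45, 49, 70, 86, 95, 101, 105, 126, 128, 161, 173, 218, 223, 228, 251, 254, 259, 265, 326, 369,
   398, 420, 429, 462, 507, 513, 601, 635, 648, 649, 660, 811, 843, 846, 861, 865, 875, 888, 1008, 1015, 1021,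
   1100, 1231, 1263, 1398, 1470, 1478, 1485, 1580, 1634, 1658, 1680, 1684, 1739, 1747, 1758, 1764, 1890, 1897,
   1925, 1927, 1966, 2008, 2022, 2028, 2029, 2071, 2089, 2092, 2099, 2128, 2136, 2155, 2169, 2170, 2204, 2281,
   2282, 2309]

def aI2 : List ℕ :=
  [8, 15, 34, 40, 56, 72, 91, 97, 101, 133, 170, 185, 195, 213, 219, 224, 226, 238, 244, 252, 260, 295, 342, 357,
   369, 429, 434, 507, 513, 558, 633, 646, 647, 653, 658, 672, 725, 727, 810, 825, 843, 865, 937, 1057, 1085,
   1100, 1126, 1168, 1231, 1252, 1263, 1280, 1288, 1329, 1330, 1399, 1478, 1485, 1658, 1687, 1701, 1702, 1729,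
   1747, 1766, 1775, 1781, 1841, 1853, 1900, 1910, 1934, 1939, 1942, 1985, 1987, 1990, 2050, 2065, 2066, 2067,
   2068, 2069, 2070, 2085, 2089, 2142, 2187, 2193, 2197, 2273, 2281, 2288, 2328]

def aJ1 : List ℕ :=
  [0, 5, 15, 29, 56, 95, 126, 168, 195, 210, 279, 294, 326, 342, 420, 434, 440, 585, 643, 653, 683, 725, 727, 746,
   767, 811, 825, 842, 846, 848, 865, 874, 875, 917, 945, 966, 968, 973, 976, 1001, 1013, 1053, 1092, 1168, 1188,
   1263, 1266, 1277, 1292, 1301, 1315, 1512, 1523, 1532, 1565, 1684, 1691, 1701, 1739, 1747, 1770, 1775, 1817,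
   1824, 1890, 1892, 1896, 1950, 1957, 1985, 2006, 2065, 2069, 2078, 2145, 2153, 2398, 2404, 2464]

def aJ2 : List ℕ :=
  [22, 25, 36, 49, 70, 86, 91, 104, 133, 210, 217, 218, 224, 226, 230, 238, 259, 262, 271, 279, 320, 326, 398,
   440, 638, 644, 657, 672, 683, 684, 746, 861, 865, 917, 967, 973, 1000, 1008, 1036, 1069, 1078, 1092, 1094,
   1228, 1231, 1265, 1301, 1315, 1392, 1398, 1405, 1441, 1512, 1523, 1532, 1565, 1687, 1695, 1722, 1741, 1747,
   1758, 1774, 1775, 1798, 1861, 1898, 1907, 1925, 1942, 1950, 1957, 1966, 2008, 2029, 2050, 2066, 2067, 2068,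
   2087, 2092, 2120, 2145, 2152, 2153, 2155, 2173, 2175, 2281, 2288, 2309, 2324, 2404, 2491]

def w21 : List (List ℕ) :=
  [[], [0], [1], [0, 0], [1, 0], [0, 1], [1, 1], [0, 0, 0], [1, 0, 0], [0, 1, 0], [1, 1, 0], [1, 0, 1], [0, 1, 1], [0, 0, 0, 0], [1, 0, 0, 0], [0, 1, 0, 0], [1, 0, 1, 0], [0, 1, 1, 0], [0, 1, 0, 1], [0, 0, 0, 0, 0], [1, 0, 1, 0, 1]]

def d21 : List (ℕ × List (ℕ × ℕ)) :=
  [(0, wn 0), (1, wn 0), (3, wn 0), (1, wn 1736), (3, wn 190), (3, wn 380), (3, wn 7), (2, wn 0), (3, wn 668), (3, wn 151), (3, wn 244), (3, wn 123), (3, wn 551), (1, wn 190), (3, wn 657), (3, wn 803), (3, wn 113), (3, wn 451), (3, wn 506), (2, wn 190), (2, wn 1736)]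

def g21 : List (List (ℕ × ℕ)) := [wn 2071, wn 1736]

def r21 : List (List (ℕ × ℕ)) := [[], wn 2071, wn 1627, wn 1736]

private noncomputable def _root_.Cfsg.Agent.LsF.f15e443_0 : {f // @Cfsg.Agent.R2.T1.Odd.ap = f} := ⟨_, by delta Cfsg.Agent.R2.T1.Odd.ap List.brecOn List.brecOn.go Cfsg.Agent.R2.T1.Odd.ap._f; rewrite [Cfsg.Agent.LsF.dBoolEq_eq, Cfsg.Agent.LsF.ite_eq]; (try delta Cfsg.Agent.R2.T1.Odd.ap.match_1); (try delta List.casesOn); first | dsimp -zeta only | exact rfl⟩
private noncomputable def _root_.Cfsg.Agent.LsF.f15e443_1 : {f // @Cfsg.Agent.R2.T1.Odd.cd = f} := ⟨_, by delta Cfsg.Agent.R2.T1.Odd.cd; rewrite [Cfsg.Agent.LsF.f15e443_0.2, Cfsg.Agent.LsF.map_eq, Cfsg.Agent.LsF.range_eq]; exact rfl⟩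
private noncomputable def _root_.Cfsg.Agent.LsF.f15e443_2 : {f // @Cfsg.Agent.R2.T1.Odd.wd = f} := ⟨_, by delta Cfsg.Agent.R2.T1.Odd.wd; rewrite [Cfsg.Agent.LsF.map_eq, Cfsg.Agent.LsF.flatten_eq, Cfsg.Agent.LsF.getD_eq]; exact rfl⟩
private noncomputable def _root_.Cfsg.Agent.LsF.f15e443_3 : {f // @Cfsg.Agent.R2.T1.Odd.vl = f} := ⟨_, by delta Cfsg.Agent.R2.T1.Odd.vl; rewrite [Cfsg.Agent.LsF.nmod_pat, Cfsg.Agent.LsF.and_eq, Cfsg.Agent.LsF.not_eq, Cfsg.Agent.LsF.all_eq, Cfsg.Agent.LsF.length_eq]; exact rfl⟩
private noncomputable def _root_.Cfsg.Agent.LsF.f15e443_4 : {f // @Cfsg.Agent.R2.T1.Odd.chkG = f} := ⟨_, by delta Cfsg.Agent.R2.T1.Odd.chkG; rewrite [Cfsg.Agent.LsF.f15e443_1.2, Cfsg.Agent.LsF.f15e443_2.2, Cfsg.Agent.LsF.f15e443_3.2, Cfsg.Agent.LsF.instNBEq_pat, Cfsg.Agent.LsF.lappend_pat, Cfsg.Agent.LsF.and_eq, Cfsg.Agent.LsF.instDecEq_eq, Cfsg.Agent.LsF.all_eq, Cfsg.Agent.LsF.map_eq, Cfsg.Agent.LsF.contains_eq, Cfsg.Agent.LsF.instBEq_eq, Cfsg.Agent.LsF.dNodup_eq, Cfsg.Agent.LsF.dListEq_eq, Cfsg.Agent.LsF.decide_eq];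 exact rfl⟩
private noncomputable def _root_.Cfsg.Agent.LsF.f15e443_5 : {f // @Cfsg.Agent.E8A.C72.pc = f} := ⟨_, by delta Cfsg.Agent.E8A.C72.pc; rewrite [Cfsg.Agent.LsF.nsub_pat, Cfsg.Agent.LsF.cond_eq]; exact rfl⟩
private noncomputable def _root_.Cfsg.Agent.LsF.f15e443_6 : {f // @Cfsg.Agent.E8A.C72.wn = f} := ⟨_, by delta Cfsg.Agent.E8A.C72.wn; rewrite [Cfsg.Agent.LsF.f15e443_5.2, Cfsg.Agent.LsF.ndiv_pat, Cfsg.Agent.LsF.nmod_pat, Cfsg.Agent.LsF.lappend_pat]; exact rfl⟩
private noncomputable def _root_.Cfsg.Agent.LsF.f15e443_7 : {f // @Cfsg.Agent.E8A.C72.g21 = f} := ⟨_, by delta Cfsg.Agent.E8A.C72.g21; rewrite [Cfsg.Agent.LsF.f15e443_6.2]; exact rfl⟩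
theorem c21 : chkG 7 g21 w21 = true := by (rewrite [Cfsg.Agent.LsF.f15e443_4.2, Cfsg.Agent.LsF.f15e443_7.2]; decide +kernel)
private noncomputable def _root_.Cfsg.Agent.LsF.f15e443_8 : {f // @Cfsg.Agent.R2.T1.Odd.chkC = f} := ⟨_, by delta Cfsg.Agent.R2.T1.Odd.chkC; rewrite [Cfsg.Agent.LsF.f15e443_3.2, Cfsg.Agent.LsF.f15e443_1.2, Cfsg.Agent.LsF.f15e443_2.2, Cfsg.Agent.LsF.instNBEq_pat, Cfsg.Agent.LsF.lappend_pat, Cfsg.Agent.LsF.and_eq, Cfsg.Agent.LsF.all_eq, Cfsg.Agent.LsF.zip_eq, Cfsg.Agent.LsF.getD_eq, Cfsg.Agent.LsF.instBEq_eq, Cfsg.Agent.LsF.length_eq]; exact rfl⟩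
private noncomputable def _root_.Cfsg.Agent.LsF.f15e443_9 : {f // @Cfsg.Agent.E8A.C72.r21 = f} := ⟨_, by delta Cfsg.Agent.E8A.C72.r21; rewrite [Cfsg.Agent.LsF.f15e443_6.2]; exact rfl⟩
private noncomputable def _root_.Cfsg.Agent.LsF.f15e443_10 : {f // @Cfsg.Agent.E8A.C72.d21 = f} := ⟨_, by delta Cfsg.Agent.E8A.C72.d21; rewrite [Cfsg.Agent.LsF.f15e443_6.2]; exact rfl⟩
theorem c21' : chkC 7 g21 w21 [] r21 d21 = true := by (rewrite [Cfsg.Agent.LsF.f15e443_8.2, Cfsg.Agent.LsF.f15e443_7.2, Cfsg.Agent.LsF.f15e443_9.2, Cfsg.Agent.LsF.f15e443_10.2]; decide +kernel)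

theorem cZ : ([1680, 2296, 210, 1736, 2071].all fun g => Nat.beq (tot [([g], lZ), (lZ, [g])]) 0) = true := by decide +kernel
private noncomputable def _root_.Cfsg.Agent.LsF.f15e443_11 : {f // @Cfsg.Agent.E8A.C72.inn = f} := ⟨_, by delta Cfsg.Agent.E8A.C72.inn List.brecOn List.brecOn.go Cfsg.Agent.E8A.C72.inn._f; (try delta Cfsg.Agent.E8A.C72.inn.match_1); (try delta List.casesOn); first | dsimp -zeta only | exact rfl⟩
private noncomputable def _root_.Cfsg.Agent.LsF.f15e443_12 : {f // @Cfsg.Agent.E8A.C72.pk = f} := ⟨_, by delta Cfsg.Agent.E8A.C72.pk; rewrite [Cfsg.Agent.LsF.nadd_pat, Cfsg.Agent.LsF.nmul_pat]; exact rfl⟩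
private noncomputable def _root_.Cfsg.Agent.LsF.f15e443_13 : {f // @Cfsg.Agent.E8A.C72.cod = f} := ⟨_, by delta Cfsg.Agent.E8A.C72.cod; rewrite [Cfsg.Agent.LsF.f15e443_12.2, Cfsg.Agent.LsF.f15e443_0.2, Cfsg.Agent.LsF.f15e443_6.2]; exact rfl⟩
private noncomputable def _root_.Cfsg.Agent.LsF.f15e443_14 : {f // @Cfsg.Agent.E8A.C72.out = f} := ⟨_, by delta Cfsg.Agent.E8A.C72.out List.brecOn List.brecOn.go Cfsg.Agent.E8A.C72.out._f; rewrite [Cfsg.Agent.LsF.f15e443_11.2, Cfsg.Agent.LsF.f15e443_13.2]; (try delta Cfsg.Agent.E8A.C72.out.match_1); (try delta List.casesOn); first | dsimp -zeta only | exact rfl⟩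
private noncomputable def _root_.Cfsg.Agent.LsF.f15e443_15 : {f // @Cfsg.Agent.E8A.C72.sh = f} := ⟨_, by delta Cfsg.Agent.E8A.C72.sh; rewrite [Cfsg.Agent.LsF.f15e443_0.2, Cfsg.Agent.LsF.f15e443_6.2, Cfsg.Agent.LsF.nmul_pat]; exact rfl⟩
private noncomputable def _root_.Cfsg.Agent.LsF.f15e443_16 : {f // @Cfsg.Agent.E8A.C72.tot = f} := ⟨_, by delta Cfsg.Agent.E8A.C72.tot List.brecOn List.brecOn.go Cfsg.Agent.E8A.C72.tot._f; rewrite [Cfsg.Agent.LsF.f15e443_14.2, Cfsg.Agent.LsF.f15e443_15.2, Cfsg.Agent.LsF.map_eq]; (try delta Cfsg.Agent.E8A.C72.tot.match_1); (try delta List.casesOn); first | dsimp -zeta only | exact rfl⟩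
theorem cZZ : Nat.beq (tot [(lZ, lZ), (lC, [0])]) 0 = true := by (rewrite [Cfsg.Agent.LsF.f15e443_16.2]; decide +kernel)
theorem cI : Nat.beq (tot [([0, 2071], 0 :: lZ), (aI1, [0, 1680]), (aI2, [0, 2296])]) 0 = true := by (rewrite [Cfsg.Agent.LsF.f15e443_16.2]; decide +kernel)
theorem cJ : Nat.beq (tot [(0 :: lZ, [0, 2071]), ([0, 1680], aJ1), ([0, 2296], aJ2)]) 0 = true := by (rewrite [Cfsg.Agent.LsF.f15e443_16.2]; decide +kernel)
theorem cU : Nat.beq (tot [([0], lU), ([1736, 889], 0 :: e7)]) 0 = true := by decide +kernel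
theorem c9 : Nat.beq (tot [([0], e9), ([0, 1680, 840], [0, 56, 49])]) 0 = true := by decide +kernel
theorem cF1 : Nat.beq (tot [(lC, lU)]) 0 = true := by (rewrite [Cfsg.Agent.LsF.f15e443_16.2]; decide +kernel)
theorem cF2 : Nat.beq (tot [(lZ, e9), (aF2, bF2)]) 0 = true := by (rewrite [Cfsg.Agent.LsF.f15e443_16.2]; decide +kernel)
theorem cF2x : Nat.beq (tot [([1680], bF2), ([0], bF2)]) 0 = true := by decide +kernel
theorem cF2y : Nat.beq (tot [([0, 56, 49], bF2)]) 0 = true := by decide +kernel
theorem cF3 : Nat.beq (tot [(lC, 0 :: e5), (aF3, bF3)]) 0 = true := by (rewrite [Cfsg.Agent.LsF.f15e443_16.2]; decide +kernel)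
theorem cF3x : Nat.beq (tot [([1680], bF3), ([0], bF3)]) 0 = true := by decide +kernel
theorem cF3y : Nat.beq (tot [([56], bF3), ([0], bF3)]) 0 = true := by decide +kernel
theorem cM : Nat.beq (tot [([0], lU), (aM, bM)]) 0 = true := by (rewrite [Cfsg.Agent.LsF.f15e443_16.2]; decide +kernel)
theorem cMx : Nat.beq (tot [([1680], bM), ([0], bM)]) 0 = true := by decide +kernel
theorem cMy : Nat.beq (tot [([0, 56, 49], bM)]) 0 = true := by decide +kernel
theorem cMj : Nat.beq (tot [([1687], bM), ([0], bM)]) 0 = true := by decide +kernel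
theorem cR : Nat.beq (tot [(0 :: lC, [0, 1736, 889]), (aR1, bR1), (aR2, bR2)]) 0 = true := by (rewrite [Cfsg.Agent.LsF.f15e443_16.2]; decide +kernel)
theorem cRw : Nat.beq (tot [([2268], bR1), ([0], bR1)]) 0 = true := by decide +kernel
theorem cRs : Nat.beq (tot [([2071], bR2), ([0], bR2)]) 0 = true := by decide +kernel
theorem cRt : Nat.beq (tot [([0, 1736, 889], bR2)]) 0 = true := by decide +kernel

end Cfsg.Agent.E8A.C72
end

-- part: E8A/C72/Blk
section
prune_inst 0x7f02020504404c002000000851240001c66fe0001020048800048e00f060fc06f6209022141bcb01418008e848c403c004000000030000000c000000400011801a088805204b358ad0c74001f010000000000000000020000000000000000010004000000000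
set_option linter.all false
open scoped Cfsg.Agent.FastGrp

/-!
# `A₇` in characteristic 2: `f₃ + 4 f₃₃ + 6 f₅ + 8 f₇ ≤ 4 dim` (helper8)

The module splits under the sum `z` of the 3-cycles (Fitting); `blk0` : `z` nilpotent; `blk1` : `z` injective;
`ineq7` : modules without trivial submodules and quotients.
-/

set_option autoImplicit false
set_option maxRecDepth 100000

namespace Cfsg.Agent.E8A.C72

open Module Equiv Equiv.Perm
open Cfsg.Agent.R2.T1 Cfsg.Agent.R2.T1.Odd Cfsg.Agent.R2.T1.Art
open Cfsg.Agent.R2.T1.N7 (A7 mul_ap inv_ap two_trans' gA6 mem_A6 mem_inv_Tg Tg_le)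
open Cfsg.Agent.R2.T1.N6D.I2 (Fx Kp mem_Fx mem_Kp split two0 pa pa' py SS Sdim dimE pcomm)
open Cfsg.Agent.R2.T1.T3 (inc inc_last inc_castSucc exists_inc)
open Cfsg.Agent.H952.F4 (ev)

universe u

section grp

theorem el_six (n : ℕ) : ((el n : A7) : Perm (Fin 7)) 6 = 6 ↔ ap (wn n) 6 = 6 := by
  rw [Fin.ext_iff, el_ap]
  rfl

theorem inc_eq {g : ↥(alternatingGroup (Fin 6))} {n : ℕ} (h : ∀ i : Fin 6, ((g : Perm (Fin 6)) i).val = ap (wn n) i.val)
    (h6 : ap (wn n) 6 = 6) : (inc g : T3.A 7) = el n := by
  refine Subtype.ext (Perm.ext fun i => ?_)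
  refine Fin.lastCases ?_ (fun i => ?_) i
  · rw [inc_last]
    exact ((el_six n).2 h6).symm
  · rw [inc_castSucc]
    exact Fin.ext ((h i).trans (el_ap n i.castSucc).symm)

theorem inc_x : (inc pa : T3.A 7) = el 1680 := inc_eq (by decide +kernel) (by decide)
theorem inc_y : (inc pa' : T3.A 7) = el 56 := inc_eq (by decide +kernel) (by decide)
theorem inc_t : (inc (pa * pa') : T3.A 7) = el 1736 := inc_eq (by decide +kernel) (by decide)
theorem inc_j : (inc (py * py) : T3.A 7) = el 1687 := inc_eq (by decide +kernel) (by decide)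
theorem inc_w : (inc N6D.z5 : T3.A 7) = el 2268 := inc_eq (by decide +kernel) (by decide)

/-- a subgroup which contains `A₆` and `s` -/
theorem top_of {K : Subgroup A7} (h6 : ∀ g : A7, (g : Perm (Fin 7)) 6 = 6 → g ∈ K) (hs : el 2071 ∈ K) (g : A7) : g ∈ K := by
  by_cases hg : (g : Perm (Fin 7)) 6 = 6
  · exact h6 g hg
  · have h1 : ((el 2071 : A7) : Perm (Fin 7)) 6 ≠ 6 := fun h => absurd ((el_six _).1 h) (by decide)
    obtain ⟨k, hk, hk'⟩ := two_trans' (Ne.symm h1) (Ne.symm hg)
    have h2 : (k * el 2071)⁻¹ * g ∈ K := h6 _ (by rw [mul_ap]; exact inv_ap (by rw [mul_ap, hk']))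
    have h3 := mul_mem (mul_mem (h6 k hk) hs) h2
    rwa [mul_inv_cancel_left] at h3

theorem el_P {n : ℕ} {l : List (ℕ × ℕ)} (h : (vl 7 l && cd 7 (wn n) == cd 7 l) = true) : el n = P 7 l := by
  rw [Bool.and_eq_true, beq_iff_eq] at h
  exact (P_eq_iff le_rfl (vl_wn n) h.1).2 h.2

/-- the check of a list of powers -/
def chn (g : ℕ) : ℕ → List ℕ → Bool
  | _, [] => true
  | a, b :: l => ml g a b && chn g b l

end grp

section lin

variable {F : Type u} [Field F] {M : Type u} [AddCommGroup M] [Module F M] [FiniteDimensional F M]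

theorem inj1 (T : Module.End F M) {U V : Submodule F M} (hT : ∀ v, T v ∈ V) (hi : ∀ v ∈ U, T v = 0 → v = 0) :
    finrank F ↥U ≤ finrank F ↥V := by
  refine LinearMap.finrank_le_finrank_of_injective (f := (T.comp U.subtype).codRestrict V fun v => hT v) ?_
  rw [← LinearMap.ker_eq_bot, LinearMap.ker_eq_bot']
  intro v hv
  exact Subtype.ext (hi v v.2 (congrArg Subtype.val hv))

theorem inj2 (T T' : Module.End F M) {U V V' : Submodule F M} (hT : ∀ v, T v ∈ V) (hT' : ∀ v, T' v ∈ V')
    (hi : ∀ v ∈ U, T v = 0 → T' v = 0 → v = 0) : finrank F ↥U ≤ finrank F ↥V + finrank F ↥V' := by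
  rw [← Module.finrank_prod]
  refine LinearMap.finrank_le_finrank_of_injective (f := LinearMap.prod ((T.comp U.subtype).codRestrict V fun v => hT v)
    ((T'.comp U.subtype).codRestrict V' fun v => hT' v)) ?_
  rw [← LinearMap.ker_eq_bot, LinearMap.ker_eq_bot']
  intro v hv
  exact Subtype.ext (hi v v.2 (congrArg (fun x => (x.1 : M)) hv) (congrArg (fun x => (x.2 : M)) hv))

/-- the fixed spaces on a direct sum -/
theorem ev_le {U V : Submodule F M} (h : IsCompl U V) {T : Module.End F M} {TU : Module.End F ↥U} {TV : Module.End F ↥V}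
    (hU : ∀ u, (TU u : M) = T u) (hV : ∀ v, (TV v : M) = T v) : ev T 1 ≤ ev TU 1 + ev TV 1 := by
  have h1 : Fx T ≤ (Fx TU).map U.subtype ⊔ (Fx TV).map V.subtype := by
    intro m hm
    have h2 : m ∈ U ⊔ V := by rw [h.sup_eq_top]; trivial
    obtain ⟨a, ha, b, hb, rfl⟩ := Submodule.mem_sup.1 h2
    have h3 := mem_Fx.1 hm
    rw [map_add, ← hU ⟨a, ha⟩, ← hV ⟨b, hb⟩] at h3
    have h4 : (TU ⟨a, ha⟩ : M) - a = b - (TV ⟨b, hb⟩ : M) := by
      rw [sub_eq_sub_iff_add_eq_add, h3, add_comm]
    have h5 : (TU ⟨a, ha⟩ : M) - a = 0 :=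
      (Submodule.disjoint_def.1 h.disjoint) _ (sub_mem (TU _).2 ha) (h4 ▸ sub_mem hb (TV _).2)
    refine Submodule.add_mem_sup ⟨⟨a, ha⟩, mem_Fx.2 (Subtype.ext (sub_eq_zero.1 h5)), rfl⟩
      ⟨⟨b, hb⟩, mem_Fx.2 (Subtype.ext (sub_eq_zero.1 (h4 ▸ h5)).symm), rfl⟩
  have h2 := Submodule.finrank_mono h1
  have h3 := Submodule.finrank_add_le_finrank_add_finrank ((Fx TU).map U.subtype) ((Fx TV).map V.subtype)
  rw [Submodule.finrank_map_subtype_eq, Submodule.finrank_map_subtype_eq] at h3
  exact h2.trans h3

end lin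

section ops

variable {F : Type u} [Field F] {M : Type u} [AddCommGroup M] [Module F M] {ρ : Representation F A7 M}

theorem rml {a b c : ℕ} (h : ml a b c = true) (v : M) : ρ (el a) (ρ (el b) v) = ρ (el c) v := by
  rw [← el_mul h, map_mul, Module.End.mul_apply]

theorem r0 (v : M) : ρ (el 0) v = v := by rw [el_zero, map_one, Module.End.one_apply]

theorem S0 (v : M) : S ρ [0] v = v := by rw [S_zero, Module.End.one_apply]

theorem S_cons0 (l : List ℕ) (v : M) : S ρ (0 :: l) v = v + S ρ l v := by
  rw [S_cons, LinearMap.add_apply, r0]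

theorem S_two (g : ℕ) (v : M) : S ρ [0, g] v = v + ρ (el g) v := by rw [S_cons0, S_one]

theorem S_three {g g2 : ℕ} (h : ml g g g2 = true) (v : M) : S ρ [0, g, g2] v = v + ρ (el g) v + ρ (el g) (ρ (el g) v) := by
  rw [S_cons0, S_cons, LinearMap.add_apply, S_one, rml h, add_assoc]

theorem fx_of (h2 : (2 : F) = 0) {g : ℕ} {B : List ℕ} (h : Nat.beq (tot [([g], B), ([0], B)]) 0 = true) (v : M) :
    S ρ B v ∈ Fx (ρ (el g)) := by
  have h1 := cert2 (ρ := ρ) h2 h v
  rw [S_one, S0] at h1
  exact mem_Fx.2 h1

theorem kp_of (h2 : (2 : F) = 0) {g g2 : ℕ} (hm : ml g g g2 = true) {B : List ℕ}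
    (h : Nat.beq (tot [([0, g, g2], B)]) 0 = true) (v : M) : S ρ B v ∈ Kp (ρ (el g)) := by
  have h1 := cert1 (ρ := ρ) h2 h v
  rw [S_three hm] at h1
  exact mem_Kp.2 h1

theorem chn_fix {g : ℕ} {v : M} (hv : ρ (el g) v = v) : ∀ (l : List ℕ) (a : ℕ), ρ (el a) v = v → chn g a l = true →
    ∀ n ∈ l, ρ (el n) v = v := by
  intro l
  induction l with
  | nil => intro a _ _ n hn; exact absurd hn List.not_mem_nil
  | cons b l ih =>
    intro a ha h n hn
    have h' : (ml g a b && chn g b l) = true := h
    rw [Bool.and_eq_true] at h'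
    have hb : ρ (el b) v = v := by rw [← rml h'.1, ha, hv]
    rcases List.mem_cons.1 hn with rfl | hn
    · exact hb
    · exact ih b hb h'.2 n hn

theorem S_fix {v : M} {l : List ℕ} (h : ∀ n ∈ l, ρ (el n) v = v) : S ρ l v = l.length • v := by
  induction l with
  | nil => rw [List.length_nil, zero_smul]; rfl
  | cons n l ih =>
    rw [S_cons, LinearMap.add_apply, h n List.mem_cons_self, ih fun k hk => h k (List.mem_cons_of_mem _ hk),
      List.length_cons, succ_nsmul']

theorem S_chn (h2 : (2 : F) = 0) {g : ℕ} {v : M} (hv : ρ (el g) v = v) {l : List ℕ} (h : chn g 0 l = true) {k : ℕ}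
    (hk : l.length = 2 * k) : S ρ (0 :: l) v = v := by
  rw [S_cons0, S_fix (chn_fix hv l 0 (r0 v) h), hk, mul_nsmul', two_nsmul, two0 h2, add_zero]

theorem S_u (h2 : (2 : F) = 0) {v : M} (hv : v ∈ Fx (ρ (el 2071)) ⊓ Kp (ρ (el 1736))) : S ρ lU v = v := by
  have h1 := cert2 (ρ := ρ) h2 cU v
  have h3 := S_three (ρ := ρ) (g := 1736) (g2 := 889) (by decide +kernel) v
  rw [mem_Kp.1 hv.2, S_cons0] at h3
  rw [S0, S_chn h2 (mem_Fx.1 hv.1) (by decide +kernel) (k := 3) rfl] at h1
  rw [h1]
  exact (eq_of_add h2 h3).symm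

theorem S_9 (h2 : (2 : F) = 0) {v : M} (hv : v ∈ Fx (ρ (el 1680)) ⊓ Fx (ρ (el 56))) : S ρ e9 v = v := by
  have h1 := cert2 (ρ := ρ) h2 c9 v
  rwa [S0, S_chn h2 (mem_Fx.1 hv.2) (by decide +kernel) (k := 1) rfl,
    S_chn h2 (mem_Fx.1 hv.1) (by decide +kernel) (k := 1) rfl] at h1

theorem S_C (h2 : (2 : F) = 0) (v : M) : S ρ lC v = S ρ lZ (S ρ lZ v) := by
  rw [cert2 (ρ := ρ) h2 cZZ v, S0]

/-- the sum of the 3-cycles is central -/
theorem Z_comm (h2 : (2 : F) = 0) (g : A7) (v : M) : ρ g (S ρ lZ v) = S ρ lZ (ρ g v) := by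
  let K : Subgroup A7 :=
    { carrier := {g | ∀ v, ρ g (S ρ lZ v) = S ρ lZ (ρ g v)}
      one_mem' := fun v => by rw [map_one]; rfl
      mul_mem' := fun {a b} ha hb v => by rw [map_mul, Module.End.mul_apply, Module.End.mul_apply, hb, ha]
      inv_mem' := fun {a} ha v => by
        have h1 : ∀ m, ρ a⁻¹ (ρ a m) = m := fun m => by
          rw [← Module.End.mul_apply, ← map_mul, inv_mul_cancel, map_one, Module.End.one_apply]
        have h3 : ρ a (ρ a⁻¹ v) = v := by
          rw [← Module.End.mul_apply, ← map_mul, mul_inv_cancel, map_one, Module.End.one_apply]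
        conv_lhs => rw [← h3, ← ha, h1] }
  have hK : ∀ n ∈ [1680, 2296, 210, 1736, 2071], el n ∈ K := fun n hn v => by
    have h1 := cert2 (ρ := ρ) h2 (List.all_eq_true.1 cZ n hn) v
    rwa [S_one] at h1
  have h6 : Tg 7 gA6 ≤ K := by
    refine Tg_le fun l hl => ?_
    have hl' : l ∈ [[(0, 1), (1, 2)], [(1, 2), (2, 3), (3, 4), (4, 5)], [(0, 1), (2, 3)],
      [(0, 1), (1, 2), (3, 4), (4, 5)]] := hl
    simp only [List.mem_cons, List.not_mem_nil, or_false] at hl'
    rcases hl' with rfl | rfl | rfl | rfl
    · rw [← el_P (n := 1680) (by decide)]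
      exact hK _ (by decide)
    · rw [← el_P (n := 2296) (by decide)]
      exact hK _ (by decide)
    · rw [← el_P (n := 210) (by decide)]
      exact hK _ (by decide)
    · rw [← el_P (n := 1736) (by decide)]
      exact hK _ (by decide)
  exact top_of (K := K) (fun g hg => h6 (mem_A6.2 hg)) (hK _ (by decide)) g v

/-- no fixed vectors of `A₆` -/
theorem no_inv (h2 : (2 : F) = 0) (hinv : ∀ v : M, (∀ g, ρ g v = v) → v = 0) (hz : ∀ v : M, S ρ lZ v = v → v = 0) {v : M}
    (hv : ∀ g : A7, (g : Perm (Fin 7)) 6 = 6 → ρ g v = v) : v = 0 := by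
  have h1 := cert3 (ρ := ρ) h2 cI v
  rw [S_two 1680, S_two 2296, hv _ ((el_six _).2 (by decide)), hv _ ((el_six _).2 (by decide)), two0 h2, map_zero, map_zero,
    add_zero, S_two, S_cons0] at h1
  let K : Subgroup A7 :=
    { carrier := {g | ρ g (v + S ρ lZ v) = v + S ρ lZ v}
      one_mem' := by show ρ 1 _ = _; rw [map_one]; rfl
      mul_mem' := fun {a b} ha hb => by
        show ρ (a * b) _ = _
        rw [map_mul, Module.End.mul_apply, show ρ b _ = _ from hb, show ρ a _ = _ from ha]
      inv_mem' := fun {a} ha => by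
        show ρ a⁻¹ _ = _
        conv_lhs => rw [← show ρ a _ = _ from ha]
        rw [← Module.End.mul_apply, ← map_mul, inv_mul_cancel, map_one, Module.End.one_apply] }
  have h3 := hinv _ (top_of (K := K) (fun g hg => by
    show ρ g _ = _
    rw [map_add, Z_comm h2, hv g hg]) (eq_of_add h2 h1).symm)
  exact hz v (eq_of_add h2 h3).symm

/-- no fixed linear forms of `A₆` -/
theorem no_co (h2 : (2 : F) = 0) (hco : ∀ f : Module.Dual F M, (∀ g m, f (ρ g m) = f m) → f = 0)
    (hz : ∀ f : Module.Dual F M, (∀ m, f (S ρ lZ m) = f m) → f = 0) {f : Module.Dual F M}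
    (hf : ∀ g : A7, (g : Perm (Fin 7)) 6 = 6 → ∀ m, f (ρ g m) = f m) : f = 0 := by
  have t0 : ∀ a : F, a + a = 0 := fun a => by rw [← two_mul, h2, zero_mul]
  have eq0 : ∀ {a b : F}, a + b = 0 → a = b := fun {a b} h => by rw [← t0 b] at h; exact add_right_cancel h
  let K : Subgroup A7 :=
    { carrier := {g | ∀ m, f (S ρ (0 :: lZ) (ρ g m)) = f (S ρ (0 :: lZ) m)}
      one_mem' := fun m => by rw [map_one]; rfl
      mul_mem' := fun {a b} ha hb m => by rw [map_mul, Module.End.mul_apply, ha, hb]
      inv_mem' := fun {a} ha m => by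
        rw [← ha, ← Module.End.mul_apply (ρ a), ← map_mul, mul_inv_cancel, map_one, Module.End.one_apply] }
  have h3 := hco (f.comp (S ρ (0 :: lZ))) (top_of (K := K) (fun g hg m => by
    rw [S_cons0, S_cons0, ← Z_comm h2, ← map_add, hf g hg]) fun m => by
      have h1 := congrArg f (cert3 (ρ := ρ) h2 cJ m)
      rw [S_two 1680, S_two 2296, S_two, map_add, map_add, map_add, map_add, map_add, hf _ ((el_six _).2 (by decide)),
        hf _ ((el_six _).2 (by decide)), t0, t0, add_zero] at h1
      exact (eq0 h1).symm)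
  refine hz f fun m => ?_
  have h4 : f (S ρ (0 :: lZ) m) = 0 := LinearMap.congr_fun h3 m
  rw [S_cons0, map_add] at h4
  exact (eq0 h4).symm

end ops

section dims

variable {F : Type u} [Field F] [Finite F] {M : Type u} [AddCommGroup M] [Module F M] [FiniteDimensional F M]
  (ρ : Representation F A7 M)

omit [Finite F] in
theorem odd_ne (h2 : (2 : F) = 0) (k : ℕ) : ((2 * k + 1 : ℕ) : F) ≠ 0 := by
  rw [Nat.cast_add, Nat.cast_mul, Nat.cast_ofNat, h2, zero_mul, zero_add, Nat.cast_one]
  exact one_ne_zero

/-- the Frobenius group of order 21 -/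
theorem dim21 (h2 : (2 : F) = 0) : finrank F M + 2 * ev (ρ (el 2071)) 1 ≤
    3 * ev (ρ (el 1736)) 1 + 3 * finrank F ↥(Fx (ρ (el 2071)) ⊓ Kp (ρ (el 1736))) := by
  have h0 := dimC (n := 7) le_rfl c21 c21' (N := 21) (K := 4) rfl rfl (odd_ne h2 10) (c := [1, 3, 3, 14])
    (by decide +kernel) ρ
  rw [Finset.sum_range_succ, Finset.sum_range_succ, Finset.sum_range_succ, Finset.sum_range_succ,
    Finset.sum_range_zero] at h0
  have h1 : ((21 : ℕ) : ℚ) * (finrank F ↥(inv ρ (Tg 7 g21)) : ℚ) = 0 + ((1 : ℕ) : ℚ) * om ρ (P 7 []) +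
    ((3 : ℕ) : ℚ) * om ρ (P 7 (wn 2071)) + ((3 : ℕ) : ℚ) * om ρ (P 7 (wn 1627)) +
    ((14 : ℕ) : ℚ) * om ρ (P 7 (wn 1736)) := h0
  clear h0
  rw [P_nil, om_one, om_prime ρ (r := 7) (by norm_num) (orderOf_P (m := 7) le_rfl (by decide +kernel)),
    om_prime ρ (r := 7) (by norm_num) (orderOf_P (m := 7) le_rfl (by decide +kernel)),
    om_prime ρ Nat.prime_three (orderOf_P (m := 7) le_rfl (by decide +kernel))] at h1
  have h3 : ev (ρ (P 7 (wn 1627))) 1 ≤ ev (ρ (el 2071)) 1 := by
    refine Submodule.finrank_mono fun v hv => mem_Fx.2 ?_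
    exact chn_fix (g := 1627) (mem_Fx.1 hv) [1627, 1577, 2518, 1359, 2071] 0 (r0 v) (by decide +kernel) _ (by decide)
  have h4 : finrank F ↥(Fx (ρ (el 2071)) ⊓ Fx (ρ (el 1736))) ≤ finrank F ↥(inv ρ (Tg 7 g21)) := by
    refine Submodule.finrank_mono fun v hv => mem_inv_Tg fun g hg => ?_
    rcases List.mem_pair.1 hg with rfl | rfl
    · exact mem_Fx.1 hv.1
    · exact mem_Fx.1 hv.2
  have h5 := split h2 (T := ρ (el 1736)) (fun m => by
    rw [rml (c := 889) (by decide +kernel), rml (c := 0) (by decide +kernel), r0]) (Fx (ρ (el 2071))) fun m hm => by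
      rw [mem_Fx, rml (c := 2337) (by decide +kernel), ← rml (a := 1736) (b := 1971) (by decide +kernel),
        chn_fix (mem_Fx.1 hm) e7 0 (r0 m) (by decide +kernel) _ (by decide)]
  have e1 : ev (ρ (el 2071)) 1 = finrank F ↥(Fx (ρ (el 2071))) := rfl
  have e2 : ev (ρ (P 7 (wn 2071))) 1 = ev (ρ (el 2071)) 1 := rfl
  have e3 : ev (ρ (P 7 (wn 1736))) 1 = ev (ρ (el 1736)) 1 := rfl
  rw [e2, e3] at h1
  rw [← e1] at h5
  clear e1 e2 e3
  generalize ev (ρ (P 7 (wn 1627))) 1 = a at *
  generalize ev (ρ (el 2071)) 1 = b at *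
  generalize ev (ρ (el 1736)) 1 = c at *
  generalize finrank F ↥(inv ρ (Tg 7 g21)) = d at *
  generalize finrank F M = e at *
  have h6 : 42 * d + 14 * e = 7 * a + 7 * b + 42 * c := by
    have h7 : (42 * d + 14 * e : ℚ) = 7 * a + 7 * b + 42 * c := by
      push_cast at h1
      linarith only [h1]
    exact_mod_cast h7
  omega

omit [Finite F] in
theorem dim9 (h2 : (2 : F) = 0) : finrank F M + 3 * finrank F ↥(Fx (ρ (el 1680)) ⊓ Fx (ρ (el 56))) =
    2 * (ev (ρ (el 1680)) 1 + ev (ρ (el 1736)) 1) := by
  rw [← inc_x, ← inc_y, ← inc_t]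
  exact dimE (MonoidHom.comp ρ (inc : T3.A 6 →* T3.A 7)) h2

/-- **the principal block** -/
theorem blk0 (h2 : (2 : F) = 0) (hinv : ∀ v : M, (∀ g, ρ g v = v) → v = 0)
    (hco : ∀ f : Module.Dual F M, (∀ g m, f (ρ g m) = f m) → f = 0) {n : ℕ} (hz : S ρ lZ ^ n = 0) :
    ev (ρ (el 1680)) 1 + 4 * ev (ρ (el 1736)) 1 + 6 * ev (ρ (el 2268)) 1 + 8 * ev (ρ (el 2071)) 1 ≤ 4 * finrank F M := by
  have z1 : ∀ v : M, S ρ lZ (S ρ lZ v) = v → v = 0 := fun v hv => by
    have h1 : ∀ k, (S ρ lZ ^ (2 * k)) v = v := fun k => by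
      induction k with
      | zero => rfl
      | succ k ih => rw [mul_add, pow_add, mul_one, Module.End.mul_apply, pow_two, Module.End.mul_apply, hv, ih]
    rw [← h1 n, two_mul, pow_add, hz, zero_mul, LinearMap.zero_apply]
  have z2 : ∀ f : Module.Dual F M, (∀ m, f (S ρ lZ m) = f m) → f = 0 := fun f hf => by
    have h1 : ∀ k m, f ((S ρ lZ ^ k) m) = f m := fun k => by
      induction k with
      | zero => exact fun _ => rfl
      | succ k ih => intro m; rw [pow_succ', Module.End.mul_apply, hf, ih]
    refine LinearMap.ext fun m => ?_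
    rw [← h1 n, hz, LinearMap.zero_apply, map_zero, LinearMap.zero_apply]
  have k1 := N6D.I2.ineq6 h2 M (MonoidHom.comp ρ (inc : T3.A 6 →* T3.A 7)) (by
    rw [eq_bot_iff]
    intro v hv
    refine no_inv (ρ := ρ) h2 hinv (fun m hm => z1 m (by rw [hm, hm])) fun g hg => ?_
    obtain ⟨g', rfl⟩ := exists_inc (n := 6) g hg
    exact hv g') fun f hf => no_co (ρ := ρ) h2 hco z2 fun g hg => by
      obtain ⟨g', rfl⟩ := exists_inc (n := 6) g hg
      exact hf g'
  have k1' : 4 * (ev (ρ (el 1680)) 1 + ev (ρ (el 1736)) 1) + 12 * ev (ρ (el 2268)) 1 ≤ 5 * finrank F M := by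
    rw [← inc_x, ← inc_t, ← inc_w]
    exact k1
  have k2 : 2 * finrank F ↥(Fx (ρ (el 1680)) ⊓ Kp (ρ (el 56)) ⊓ Fx (ρ (el 1687))) +
      finrank F ↥(Fx (ρ (el 1680)) ⊓ Fx (ρ (el 56))) ≤ ev (ρ (el 1680)) 1 := by
    rw [← inc_x, ← inc_y, ← inc_j]
    exact Sdim (MonoidHom.comp ρ (inc : T3.A 6 →* T3.A 7)) pcomm h2
  have k3 := inj1 (S ρ bM) (U := Fx (ρ (el 2071)) ⊓ Kp (ρ (el 1736)))
    (V := Fx (ρ (el 1680)) ⊓ Kp (ρ (el 56)) ⊓ Fx (ρ (el 1687)))
    (fun v => ⟨⟨fx_of h2 cMx v, kp_of h2 (by decide +kernel) cMy v⟩, fx_of h2 cMj v⟩) fun v hv h => by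
      have h1 := cert2 (ρ := ρ) h2 cM v
      rwa [h, map_zero, S0, S_u h2 hv] at h1
  have k4 : ev (ρ (el 1736)) 1 ≤ ev (ρ (el 2268)) 1 + _ := inj2 (S ρ bR1) (S ρ bR2) (U := Fx (ρ (el 1736)))
    (V := Fx (ρ (el 2268))) (V' := Fx (ρ (el 2071)) ⊓ Kp (ρ (el 1736))) (fx_of h2 cRw)
    (fun v => ⟨fx_of h2 cRs v, kp_of h2 (by decide +kernel) cRt v⟩) fun v hv h h' => by
      have h1 := cert3 (ρ := ρ) h2 cR v
      rw [h, h', map_zero, map_zero, add_zero, S_chn h2 (mem_Fx.1 hv) (by decide +kernel) (k := 1) rfl, S_cons0,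
        S_C h2] at h1
      exact z1 v (eq_of_add h2 h1).symm
  have k5 := dim21 ρ h2
  have k6 := dim9 ρ h2
  omega

/-- **the other block** -/
theorem blk1 (h2 : (2 : F) = 0) (hz : ∀ v : M, S ρ lZ v = 0 → v = 0) :
    ev (ρ (el 1680)) 1 + 4 * ev (ρ (el 1736)) 1 + 6 * ev (ρ (el 2268)) 1 + 8 * ev (ρ (el 2071)) 1 ≤ 4 * finrank F M := by
  have hc : ∀ v : M, S ρ lC v = 0 → v = 0 := fun v hv => hz _ (hz _ (by rw [← S_C h2, hv]))
  have k1 : Fx (ρ (el 2071)) ⊓ Kp (ρ (el 1736)) = ⊥ := by
    rw [eq_bot_iff]
    intro v hv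
    have h1 := cert1 (ρ := ρ) h2 cF1 v
    rw [S_u h2 hv] at h1
    exact hc v h1
  have k2 := inj1 (S ρ bF2) (U := Fx (ρ (el 1680)) ⊓ Fx (ρ (el 56))) (V := Fx (ρ (el 1680)) ⊓ Kp (ρ (el 56)))
    (fun v => ⟨fx_of h2 cF2x v, kp_of h2 (by decide +kernel) cF2y v⟩) fun v hv h => by
      have h1 := cert2 (ρ := ρ) h2 cF2 v
      rw [h, map_zero, S_9 h2 hv] at h1
      exact hz v h1
  have k3 : ev (ρ (el 2268)) 1 ≤ _ := inj1 (S ρ bF3) (U := Fx (ρ (el 2268))) (V := Fx (ρ (el 1680)) ⊓ Fx (ρ (el 56)))
    (fun v => ⟨fx_of h2 cF3x v, fx_of h2 cF3y v⟩) fun v hv h => by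
      have h1 := cert2 (ρ := ρ) h2 cF3 v
      rw [h, map_zero, S_chn h2 (mem_Fx.1 hv) (by decide +kernel) (k := 2) rfl] at h1
      exact hc v h1
  have k4 : ev (ρ (el 1680)) 1 = _ := split h2 (T := ρ (el 56)) (fun m => by
    rw [rml (c := 49) (by decide +kernel), rml (c := 0) (by decide +kernel), r0]) (Fx (ρ (el 1680))) fun m hm => by
      rw [mem_Fx, rml (c := 1736) (by decide +kernel), ← rml (a := 56) (b := 1680) (by decide +kernel), mem_Fx.1 hm]
  have k5 := dim21 ρ h2
  have k6 := dim9 ρ h2
  rw [k1, finrank_bot] at k5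
  omega

omit [Finite F] [FiniteDimensional F M] in
theorem S_sub {U : Submodule F M} (h : ∀ g, U ≤ U.comap (ρ g)) (l : List ℕ) (v : ↥U) :
    (S (ρ.subrepresentation U h) l v : M) = S ρ l v := by
  induction l with
  | nil => rfl
  | cons n l ih =>
    rw [S_cons, S_cons, LinearMap.add_apply, LinearMap.add_apply, Submodule.coe_add, ih]
    rfl

/-- **the inequality** -/
theorem ineq7 (h2 : (2 : F) = 0) (hinv : ∀ v : M, (∀ g, ρ g v = v) → v = 0)
    (hco : ∀ f : Module.Dual F M, (∀ g m, f (ρ g m) = f m) → f = 0) :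
    ev (ρ (el 1680)) 1 + 4 * ev (ρ (el 1736)) 1 + 6 * ev (ρ (el 2268)) 1 + 8 * ev (ρ (el 2071)) 1 ≤ 4 * finrank F M := by
  obtain ⟨n, hc, hn⟩ := ((LinearMap.eventually_isCompl_ker_pow_range_pow (S ρ lZ)).and
    (Filter.eventually_ge_atTop 1)).exists
  obtain ⟨n, rfl⟩ : ∃ k, n = k + 1 := ⟨n - 1, by omega⟩
  have hp : ∀ g k v, ρ g ((S ρ lZ ^ k) v) = (S ρ lZ ^ k) (ρ g v) := fun g k => by
    induction k with
    | zero => exact fun _ => rfl
    | succ k ih => intro v; rw [pow_succ', Module.End.mul_apply, Module.End.mul_apply, Z_comm h2, ih]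
  obtain ⟨U, hU⟩ : ∃ U, U = LinearMap.ker (S ρ lZ ^ (n + 1)) := ⟨_, rfl⟩
  obtain ⟨V, hV⟩ : ∃ V, V = LinearMap.range (S ρ lZ ^ (n + 1)) := ⟨_, rfl⟩
  have sU : ∀ g, U ≤ U.comap (ρ g) := fun g v hv => by
    rw [hU, LinearMap.mem_ker] at hv
    rw [Submodule.mem_comap, hU, LinearMap.mem_ker, ← hp, hv, map_zero]
  have sV : ∀ g, V ≤ V.comap (ρ g) := fun g v hv => by
    rw [hV] at hv
    obtain ⟨m, rfl⟩ := hv
    rw [Submodule.mem_comap, hV, hp]
    exact ⟨_, rfl⟩
  rw [← hU, ← hV] at hc
  have k0 := blk0 (ρ.subrepresentation U sU) h2 (fun v hv => Subtype.ext (hinv v fun g => congrArg Subtype.val (hv g)))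
    (fun f hf => by
      have h1 := hco (f.comp (U.projectionOnto V hc)) fun g m => by
        have h3 : m ∈ U ⊔ V := by rw [hc.sup_eq_top]; trivial
        obtain ⟨a, ha, b, hb, rfl⟩ := Submodule.mem_sup.1 h3
        rw [LinearMap.comp_apply, LinearMap.comp_apply, map_add, map_add, map_add (U.projectionOnto V hc),
          Submodule.projectionOnto_apply_of_mem_right hc hb, Submodule.projectionOnto_apply_of_mem_right hc (sV g hb),
          Submodule.projectionOnto_apply_left hc ⟨a, ha⟩, Submodule.projectionOnto_apply_left hc ⟨_, sU g ha⟩,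
          add_zero, add_zero]
        exact hf g ⟨a, ha⟩
      refine LinearMap.ext fun a => ?_
      have h3 := LinearMap.congr_fun h1 a
      rwa [LinearMap.comp_apply, Submodule.projectionOnto_apply_left hc] at h3) (n := n + 1) (by
      have h1 : ∀ k (v : ↥U), ((S (ρ.subrepresentation U sU) lZ ^ k) v : M) = (S ρ lZ ^ k) v := fun k => by
        induction k with
        | zero => exact fun _ => rfl
        | succ k ih => intro v; rw [pow_succ, pow_succ, Module.End.mul_apply, Module.End.mul_apply, ih, S_sub]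
      refine LinearMap.ext fun v => Subtype.ext ?_
      rw [h1]
      exact hU.le v.2)
  have k1 := blk1 (ρ.subrepresentation V sV) h2 fun v hv => by
    have h1 := congrArg Subtype.val hv
    rw [S_sub] at h1
    refine Subtype.ext ((Submodule.disjoint_def.1 hc.disjoint) _ ?_ v.2)
    rw [hU, LinearMap.mem_ker, pow_succ, Module.End.mul_apply, h1]
    exact map_zero _
  have e : ∀ g, ev (ρ g) 1 ≤ ev (ρ.subrepresentation U sU g) 1 + ev (ρ.subrepresentation V sV g) 1 := fun g =>
    ev_le hc (fun _ => rfl) fun _ => rfl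
  have e1 := e (el 1680)
  have e2 := e (el 1736)
  have e3 := e (el 2268)
  have e4 := e (el 2071)
  have e5 := Submodule.finrank_add_eq_of_isCompl hc
  omega

end dims

end Cfsg.Agent.E8A.C72

private theorem dce_4deac184ba19 : _root_.True := by
  try have : _root_.True := by simp only [_root_.Cfsg.Agent.E8A.C72.chn.eq_def]
  exact _root_.True.intro
end

-- part: E8A/C72/Main
section
set_option linter.all false
open scoped Cfsg.Agent.FastGrp

/-!
# The box C72: `A₇` in characteristic 2 (helper8)
-/

set_option autoImplicit false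
set_option maxRecDepth 100000

namespace Cfsg.Agent.E8A.C72

open Cfsg Cfsg.Lie Module
open Cfsg.Agent.R2.T1.Odd
open Cfsg.Agent.R2.T1.N7 (A7)
open Cfsg.Agent.H952.F4 (MaxAlt ev)
open Cfsg.Agent.E8A.Inf (finrank_L8)

universe u

theorem el_ne {n : ℕ} (h : cd 7 (wn n) ≠ cd 7 []) : el n ≠ 1 := by
  rw [← P_nil]
  exact P_ne (m := 7) le_rfl (vl_wn n) (by decide) h

theorem el_pow {n k : ℕ} (h : cd 7 (pwl (wn n) k) = cd 7 []) : el n ^ k = 1 := P_pow_one (m := 7) le_rfl (vl_wn n) h

theorem el_cj {a b c d : ℕ} (h : (ml a b d && ml c a d) = true) : el a * el b * (el a)⁻¹ = el c := by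
  rw [Bool.and_eq_true] at h
  rw [el_mul h.1, ← el_mul h.2, mul_inv_cancel_right]

/-- **C72** -/
theorem c72 : CASE.{u} 7 fun p => p = 2 := by
  intro F _ _ p _ _ hp H φ hM hfx
  subst hp
  have h2 : (2 : F) = 0 := by exact_mod_cast CharP.cast_eq_zero F 2
  let ρ : Representation F A7 (L8 F) := (LK F).comp φ
  have hρ : ∀ a, ρ a = LK F (φ a) := fun _ => rfl
  have hne : ∀ {n : ℕ}, cd 7 (wn n) ≠ cd 7 [] → φ (el n) ≠ 1 := fun h h1 => el_ne h (hM.inj (h1.trans (map_one φ).symm))
  have hpw : ∀ {n k : ℕ}, cd 7 (pwl (wn n) k) = cd 7 [] → φ (el n) ^ k = 1 := fun h => by rw [← map_pow, el_pow h, map_one]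
  have hcj : ∀ {a b c d : ℕ}, (ml a b d && ml c a d) = true → ev (LK F (φ (el c))) 1 = ev (LK F (φ (el b))) 1 := fun h => by
    rw [← el_cj h, map_mul φ, map_mul φ, map_inv φ, Inf.ev_conj]
  have k1 := ineq7 ρ h2 hfx fun f hf => Inf.NoFx.dual hfx f hf
  rw [finrank_L8, hρ, hρ, hρ, hρ] at k1
  have k2 := Inf.ge_five (x := φ (el 2268)) (hpw (by decide +kernel))
  have k3 := Inf.seven_rat (by exact_mod_cast odd_ne h2 3) (x := φ (el 2071)) (hpw (by decide +kernel))
    (hne (by decide +kernel)) (by
      rw [isConj_iff]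
      refine ⟨φ (el 1736), ?_⟩
      rw [← map_inv, ← map_mul, ← map_mul, el_cj (c := 2518) (d := 1643) (by decide +kernel), pow_two, ← map_mul,
        el_mul (c := 2518) (by decide +kernel)])
  have e1 : el 1680 * el 56 = el 1736 := el_mul (by decide +kernel)
  have e2 : el 1680 * (el 56)⁻¹ = el 1729 := by
    rw [mul_inv_eq_iff_eq_mul, el_mul (c := 1680) (by decide +kernel)]
  have k4 := Two.t33 (by exact_mod_cast odd_ne h2 1) (x := φ (el 1680)) (y := φ (el 56)) (hpw (by decide +kernel))
    (hpw (by decide +kernel)) (Commute.map (e1.trans (el_mul (by decide +kernel)).symm) φ) (hne (by decide +kernel))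
    (by rw [← map_mul, e1]; exact hne (by decide +kernel)) (hcj (a := 2422) (d := 1582) (by decide +kernel))
    (by
      rw [← map_inv, ← map_mul, ← map_mul, e1, e2]
      exact hcj (a := 2499) (d := 2219) (by decide +kernel))
  rw [← map_mul, e1] at k4
  omega

end Cfsg.Agent.E8A.C72
end
end
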