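import Cfsg.Agent.E8A.C63.Abc_m3
import Cfsg.Agent.E8A.Fix.Bor_m3
import Cfsg.Agent.ChevFast.E8
import Cfsg.Agent.Lib.FinFast
import Cfsg.Agent.E8A.C65.Data
import Cfsg.Agent.E8A.Two.Wcj
import Cfsg.Agent.E8A.Fix.Main_m3
import Cfsg.Agent.Prune
set_option linter.all false

section
prune_inst 0x7ffffffabbbcf7ffdfff7e7faefbfffcbb937fffe6dff9737fe063ff1bdf13884fe5fbafede090fe1e77e29410b87b43fb7eefffea6bdc5ff3fd5ff41ffbee4ff5f7b509519c9cb40f380fff03f0778a6f3fffffffffffffffffffffffffffaeffffffffffff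

-- part: E8A/C63/Nil
section
prune_inst 0x4440300000000000001000000000000000920000080028800042000100008000000002000010000000000001000000000000402000000a000000000000000000000200000000000000000000000000000000000000000000000000010000000000000
set_option linter.all false
open scoped Cfsg.Agent.FastGrp
private noncomputable def lq26c06afe50 {T : Sort _} (f :
    type_of% (@_root_.List.cons.{0}) →
    type_of% (@_root_.List.nil.{0}) →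
    type_of% (@_root_.List.cons.{0} (Nat)) →
    type_of% (@_root_.Prod.mk.{0, 0}) →
    type_of% (@_root_.Matrix.vecCons.{0}) →
    type_of% (@_root_.Matrix.vecEmpty.{0}) → T) : T :=
  f (@_root_.List.cons.{0}) (@_root_.List.nil.{0}) (@_root_.List.cons.{0} (Nat)) (@_root_.Prod.mk.{0, 0}) (@_root_.Matrix.vecCons.{0}) (@_root_.Matrix.vecEmpty.{0})

-- part: E8A/C63/NilA
section
/-!
# `A₆` in characteristic 3, box NIL3: successive approximation (helper41)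

* `Un k d g` : `g - 1` raises the degree by `d`; `exists_exp` : `g = 1 + ad w + …`;
* `kill` : reduction into a slice; `cu` : elements of the stabilizer with a given leading term.
-/

set_option autoImplicit false
set_option maxRecDepth 100000

namespace Cfsg.Agent.E8A.C63.Nil

open Cfsg Cfsg.Lie Module
open Cfsg.Agent.H288.E8L (Q8 wt wt_inl wt_inr)
open Cfsg.Agent.Nodes.RGDChev (vec)
open Cfsg.Agent.E8A.Kem (Ge mem_Ge)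
open Cfsg.Agent.E8A.Par (op vec_op kf_ee act_xr)
open Cfsg.Agent.E8A.TwoH (br_anti br_zero_left)
open Cfsg.Agent.E8A.C63.Abc (br_Ge Ge_mono sub_pr_Gt)

universe u

variable {K : Type u} [Field K] {k : Q8 →+ ℝ}

/-- `g - 1` raises the degree by `d` -/
def Un (k : Q8 →+ ℝ) (d : ℝ) (g : G8 K) : Prop := ∀ j : ℝ, ∀ v ∈ LS K (Ge k j), act g v - v ∈ LS K (Ge k (j + d))

theorem Un.one (d : ℝ) : Un k d (1 : G8 K) := fun _ v _ => by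
  rw [act_one, sub_self]
  exact zero_mem _

theorem Un.mono {d d' : ℝ} {g : G8 K} (h : Un k d g) (hd : d' ≤ d) : Un k d' g := fun j v hv =>
  Ge_mono (by linarith) (h j v hv)

theorem Un.act {d : ℝ} {g : G8 K} (h : Un k d g) (hd : 0 ≤ d) {j : ℝ} {v : L8 K} (hv : v ∈ LS K (Ge k j)) :
    act g v ∈ LS K (Ge k j) := by
  have h1 := add_mem (Ge_mono (show j ≤ j + d by linarith) (h j v hv)) hv
  rwa [sub_add_cancel] at h1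

theorem Un.mul {d : ℝ} {g g' : G8 K} (h : Un k d g) (h' : Un k d g') (hd : 0 ≤ d) : Un k d (g * g') := fun j v hv => by
  have h1 := add_mem (h j _ (h'.act hd hv)) (h' j v hv)
  rwa [sub_add_sub_cancel, ← act_mul] at h1

/-- `g = 1 + ad w + …` -/
def Ex (k : Q8 →+ ℝ) (d : ℝ) (w : L8 K) (g : G8 K) : Prop :=
  Un k d g ∧ ∀ j : ℝ, ∀ v ∈ LS K (Ge k j), act g v - v - br w v ∈ LS K (Ge k (j + 2 * d))

theorem Ex.zero (d : ℝ) : Ex k d (0 : L8 K) 1 := ⟨Un.one d, fun _ v _ => by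
  rw [act_one, sub_self, br_zero_left, sub_self]
  exact zero_mem _⟩

theorem Ex.mul {d : ℝ} (hd : 0 ≤ d) {w w' : L8 K} {g g' : G8 K} (hw : w ∈ LS K (Ge k d)) (h : Ex k d w g)
    (h' : Ex k d w' g') : Ex k d (w + w') (g * g') := ⟨h.1.mul h'.1 hd, fun j v hv => by
  have h1 := add_mem (add_mem (h.2 j _ (h'.1.act hd hv))
    (Ge_mono (show j + 2 * d ≤ d + (j + d) by linarith) (br_Ge hw (h'.1 j v hv)))) (h'.2 j v hv)
  rw [act_mul, br_add_left]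
  rw [br_sub_right] at h1
  convert h1 using 1
  abel⟩

theorem ex_xr {d : ℝ} (hd : 0 ≤ d) {r : Fin chevE8.nroots} (hr : k (vec chevE8 8 r) = d) (t : K) :
    Ex k d (t • ee K (Sum.inr r)) (xr r t) := by
  have h0 : ee K (Sum.inr r) ∈ LS K (Ge k d) := ee_mem_LS (mem_Ge.2 hr.ge)
  have h1 : ∀ j : ℝ, ∀ v ∈ LS K (Ge k j), act (xr r t) v - v - br (t • ee K (Sum.inr r)) v ∈ LS K (Ge k (j + 2 * d)) := by
    intro j v hv
    have e : act (xr r t) v - v - br (t • ee K (Sum.inr r)) v = -((t ^ 2 * v (Sum.inr (op r))) • ee K (Sum.inr r)) := by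
      rw [act_xr, kf_ee, br_smul_left]
      abel
    rw [e]
    by_cases h : v (Sum.inr (op r)) = 0
    · rw [h, mul_zero, zero_smul, neg_zero]
      exact zero_mem _
    · have h2 := mem_Ge.1 (hv _ h)
      rw [wt_inr, vec_op, map_neg, hr] at h2
      exact neg_mem (Submodule.smul_mem _ _ (Ge_mono (by linarith) h0))
  refine ⟨fun j v hv => ?_, h1⟩
  have h2 := add_mem (Ge_mono (show j + d ≤ j + 2 * d by linarith) (h1 j v hv))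
    (Ge_mono (show j + d ≤ d + j by linarith) (br_Ge (Submodule.smul_mem _ t h0) hv))
  rwa [sub_add_cancel] at h2

theorem eq_sum (w : L8 K) : w = ∑ i, w i • ee K i := by
  funext j
  rw [Finset.sum_apply, Finset.sum_eq_single j]
  · rw [Pi.smul_apply, ee_self, smul_eq_mul, mul_one]
  · intro i _ hi
    rw [Pi.smul_apply, ee_ne hi.symm, smul_zero]
  · intro h
    exact absurd (Finset.mem_univ j) h

/-- induction over the support -/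
theorem supp_ind {P : L8 K → Prop} (h0 : P 0) (ha : ∀ v w, P v → P w → P (v + w)) {w : L8 K}
    (h : ∀ i, w i ≠ 0 → P (w i • ee K i)) : P w := by
  rw [eq_sum w]
  refine Finset.sum_induction _ P ha h0 fun i _ => ?_
  by_cases e : w i = 0
  · rwa [e, zero_smul]
  · exact h i e

theorem exists_exp {d : ℝ} (hd : 0 < d) {w : L8 K} (hw : w ∈ LS K (Eq' k d)) : ∃ g : G8 K, Un k d g ∧
    ∀ j : ℝ, ∀ v ∈ LS K (Ge k j), act g v - v - br w v ∈ LS K (Ge k (j + 2 * d)) := by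
  refine (supp_ind (P := fun w => w ∈ LS K (Ge k d) ∧ ∃ g, Ex k d w g) ⟨zero_mem _, 1, Ex.zero d⟩
    (fun v w ⟨h1, g, hg⟩ ⟨h2, g', hg'⟩ => ⟨add_mem h1 h2, g * g', hg.mul hd.le h1 hg'⟩) fun i hi => ?_).2
  have h1 := mem_Eq.1 (hw i hi)
  refine ⟨Submodule.smul_mem _ _ (ee_mem_LS (mem_Ge.2 h1.ge)), ?_⟩
  rcases i with i | r
  · rw [wt_inl, map_zero] at h1
    exact absurd h1 hd.ne
  · exact ⟨_, ex_xr hd.le h1 _⟩

theorem Ge_le_Gt {i j : ℝ} (h : i < j) {v : L8 K} (hv : v ∈ LS K (Ge k j)) : v ∈ LS K {x | i < k x} :=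
  LS_mono (fun _ ha => h.trans_le ha) hv

theorem Gt_le_Ge {i : ℝ} {v : L8 K} (hv : v ∈ LS K {x | i < k x}) : v ∈ LS K (Ge k i) :=
  fun y hy => mem_Ge.2 (le_of_lt (hv y hy))

theorem exists_Ge {i : ℝ} {v : L8 K} (hv : v ∈ LS K {x | i < k x}) : ∃ j, i < j ∧ v ∈ LS K (Ge k j) := by
  classical
  by_cases h : (Finset.univ.filter fun x : chevE8.Idx => i < k (wt x)).Nonempty
  · obtain ⟨x, hx, hm⟩ := Finset.exists_min_image _ (fun x => k (wt x)) h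
    exact ⟨_, (Finset.mem_filter.1 hx).2, fun y hy => hm y (Finset.mem_filter.2 ⟨Finset.mem_univ _, hv y hy⟩)⟩
  · exact ⟨i + 1, by linarith, fun y hy => absurd ⟨y, Finset.mem_filter.2 ⟨Finset.mem_univ _, hv y hy⟩⟩ h⟩

/-- **reduction into a slice** -/
theorem kill {e : L8 K} {m : ℝ} (he : e ∈ LS K (Eq' k m)) {S : Submodule K (L8 K)}
    (hS : ∀ j : ℝ, m < j → ∀ v ∈ LS K (Eq' k j), ∃ s ∈ S ⊓ LS K (Eq' k j), ∃ w ∈ LS K (Eq' k (j - m)), v = s + br e w)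
    {a : ℝ} (ha : m < a) {x : L8 K} (hx : x - e ∈ LS K (Ge k a)) :
    ∃ g : G8 K, Un k (a - m) g ∧ act g x - e ∈ S ⊓ LS K (Ge k a) := by
  classical
  suffices H : ∀ (n : ℕ) (b : ℝ) (x s : L8 K), (Finset.univ.filter fun x : chevE8.Idx => b < k (wt x)).card = n → a ≤ b →
      s ∈ S ⊓ LS K (Ge k a) → x - e - s ∈ LS K (Ge k b) → ∃ g : G8 K, Un k (a - m) g ∧ act g x - e ∈ S ⊓ LS K (Ge k a) from
    H _ a x 0 rfl le_rfl (zero_mem _) (by rwa [sub_zero])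
  intro n
  induction n using Nat.strong_induction_on with
  | _ n ih =>
    intro b x s hn hb hs hy
    obtain ⟨s', hs', w, hw, e1⟩ := hS b (by linarith) _ (pr_mem k b (x - e - s))
    obtain ⟨g, hg, hg'⟩ := exists_exp (show 0 < b - m by linarith) hw
    have h1 : x - e ∈ LS K (Ge k a) := by
      have := add_mem (Ge_mono hb hy) hs.2
      rwa [sub_add_cancel] at this
    have h2 : x ∈ LS K (Ge k m) := by
      have := add_mem (Ge_mono ha.le h1) (Eq_le_Ge he)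
      rwa [sub_add_cancel] at this
    have h3 : act g x - e - (s + s') ∈ LS K {x | b < k x} := by
      have := add_mem (add_mem (sub_pr_Gt hy) (Ge_le_Gt (show b < b - m + a by linarith) (br_Ge (Eq_le_Ge hw) h1)))
        (Ge_le_Gt (show b < m + 2 * (b - m) by linarith) (hg' m x h2))
      rw [e1, br_sub_right, br_anti e w] at this
      convert this using 1
      abel
    have h4 : s + s' ∈ S ⊓ LS K (Ge k a) := add_mem hs ⟨hs'.1, Ge_mono hb (Eq_le_Ge hs'.2)⟩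
    have h5 := hg.mono (show a - m ≤ b - m by linarith)
    by_cases h : (Finset.univ.filter fun x : chevE8.Idx => b < k (wt x)).Nonempty
    · obtain ⟨z, hz, hm⟩ := Finset.exists_min_image _ (fun x => k (wt x)) h
      have hz' := (Finset.mem_filter.1 hz).2
      obtain ⟨g', h6, h7⟩ := ih _ (hn ▸ Finset.card_lt_card ⟨fun y hy => Finset.mem_filter.2
          ⟨Finset.mem_univ _, hz'.trans (Finset.mem_filter.1 hy).2⟩, fun h => lt_irrefl _ (Finset.mem_filter.1 (h hz)).2⟩)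
        (k (wt z)) (act g x) _ rfl (by linarith) h4
        fun y hy => hm y (Finset.mem_filter.2 ⟨Finset.mem_univ _, h3 y hy⟩)
      exact ⟨g' * g, h6.mul h5 (by linarith), by rwa [act_mul]⟩
    · have h6 : act g x - e - (s + s') = 0 := funext fun y => by
        by_contra hy
        exact h ⟨y, Finset.mem_filter.2 ⟨Finset.mem_univ _, h3 y hy⟩⟩
      exact ⟨g, h5, by rwa [sub_eq_zero.1 h6]⟩

end Cfsg.Agent.E8A.C63.Nil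
end

-- part: E8A/C63/NilB
section
/-!
# `A₆` in characteristic 3, box NIL3: leading terms (helper41)

* `vertex` : a vertex of the Newton polyhedron; `Lk k z x` : `z` is the leading term of `x`; `Su A z` : the support;
* `exists_dg` : torus elements; `Lk.rep`, `Su.rep` : the Weyl group; `tv`, `adT` : sums of monomials.
-/

set_option autoImplicit false
set_option maxRecDepth 100000

namespace Cfsg.Agent.E8A.C63.Nil

open Cfsg Cfsg.Lie Module Filter Topology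
open Cfsg.Agent.H288.E8L (Q8 wt wt_inl wt_inr act8 wt_inj vec_ne_zero)
open Cfsg.Agent.H942.CB (W8 cs8)
open Cfsg.Agent.Tits.Roots (sr sr_self)
open Cfsg.Agent.Nodes.RGDChev (vec)
open Cfsg.Agent.E8A.Kem (Ge mem_Ge nrm cw cw_apply nrm_cw mk mk_eq mk_apply)
open Cfsg.Agent.E8A.TwoH (br_anti br_zero_left br_zero_right exists_tz)
open Cfsg.Agent.E8A.C63.Abc (br_Ge Ge_mono sub_pr_Gt pr_Gt pr_br pr_zero)
open Cfsg.Agent.E8A.C63.KemA (exists_nrm B2_comm B2_add B2_smul B2_cl)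
open Cfsg.Agent.E8A.C63.Sv
open Cfsg.Agent.ChevalleyStructure.JacTab (rbr rowAt)
open Cfsg.Agent.ChevalleyStructure.JacDataE8 (rows)

universe u

/-! ### norms -/

theorem lin_eq (ψ : Q8 →+ ℝ) (a : Q8) : ψ a = ∑ i, (a i : ℝ) * ψ (sr i) := by
  conv_lhs => rw [← mk_eq ψ]
  rfl

theorem lin_prop {ψ : Q8 →+ ℝ} {p q : ℤ} {a b : Q8} (h : ∀ i, ψ (sr i) = 0 ∨ p * a i = q * b i) :
    (p : ℝ) * ψ a = q * ψ b := by
  rw [lin_eq ψ a, lin_eq ψ b, Finset.mul_sum, Finset.mul_sum]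
  refine Finset.sum_congr rfl fun i _ => ?_
  rcases h i with e | e
  · rw [e]; ring
  · have := congrArg (fun x : ℤ => (x : ℝ)) e
    simp only [Int.cast_mul] at this
    rw [← mul_assoc, ← mul_assoc, this]

theorem B2_orth {y : Q8} {ψ : Q8 →+ ℝ} (h : ∀ i, ψ (sr i) = 0 ∨ Two.bw (Pi.single i 1) y = 0) : B2 ψ (cl y) = 0 := by
  have e : B2 ψ (cl y) = ∑ i, ψ (sr i) * B2 (cl (Pi.single i 1)) (cl y) := by
    simp only [B2, Finset.mul_sum]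
    rw [Finset.sum_comm]
    refine Finset.sum_congr rfl fun x _ => ?_
    rw [lin_eq ψ (wt x), Finset.sum_mul]
    refine Finset.sum_congr rfl fun i _ => ?_
    rw [cl_apply (Pi.single i 1), Two.ex_single]
    ring
  rw [e]
  refine Finset.sum_eq_zero fun i _ => ?_
  rcases h i with e | e
  · rw [e, zero_mul]
  · rw [B2_cl, e, Int.cast_zero, mul_zero, mul_zero]

theorem nrm_add {φ ψ : Q8 →+ ℝ} (h : B2 ψ φ = 0) : nrm (φ + ψ) = nrm φ + nrm ψ := by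
  obtain ⟨c, -, hc⟩ := exists_nrm
  rw [hc, hc, hc, B2_add, B2_comm φ (φ + ψ), B2_comm ψ (φ + ψ), B2_add, B2_add, B2_comm φ ψ, h]
  ring

theorem nrm_smul (t : ℝ) (ψ : Q8 →+ ℝ) : nrm (t • ψ) = t ^ 2 * nrm ψ := by
  obtain ⟨c, -, hc⟩ := exists_nrm
  rw [hc, hc, B2_smul, B2_comm, B2_smul]
  ring

theorem nrm_nn (ψ : Q8 →+ ℝ) : 0 ≤ nrm ψ := by
  obtain ⟨c, h, hc⟩ := exists_nrm
  rw [hc]
  exact mul_nonneg h.le (Finset.sum_nonneg fun _ _ => mul_self_nonneg _)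

theorem nrm_pos {ψ : Q8 →+ ℝ} {x : chevE8.Idx} (hx : ψ (wt x) ≠ 0) : 0 < nrm ψ := by
  obtain ⟨c, h, hc⟩ := exists_nrm
  rw [hc]
  exact mul_pos h (Finset.sum_pos' (fun _ _ => mul_self_nonneg _) ⟨x, Finset.mem_univ _, mul_self_pos.2 hx⟩)

theorem nrm_cont (ψ ν : Q8 →+ ℝ) : Continuous fun t : ℝ => nrm (ψ + t • ν) := by
  obtain ⟨c, -, hc⟩ := exists_nrm
  simp only [hc, B2, AddMonoidHom.add_apply, AddMonoidHom.smul_apply, smul_eq_mul]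
  fun_prop

/-- **a vertex of the Newton polyhedron** -/
theorem vertex {φ ψ ν : Q8 →+ ℝ} {Y : Finset chevE8.Idx} (hY : Y.Nonempty) (h1 : ∀ x ∈ Y, φ (wt x) < 1)
    (h2 : ∀ x ∈ Y, 1 < φ (wt x) + ψ (wt x)) : ∃ s t : ℝ, nrm (s • ψ + t • ν) ≤ nrm ψ ∧
      (∀ x ∈ Y, 1 ≤ φ (wt x) + (s • ψ + t • ν) (wt x)) ∧ (∃ x ∈ Y, φ (wt x) + (s • ψ + t • ν) (wt x) = 1) ∧
      (∀ x ∈ Y, ∀ x' ∈ Y, φ (wt x) + (s • ψ + t • ν) (wt x) = 1 → φ (wt x') + (s • ψ + t • ν) (wt x') = 1 →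
        ν (wt x) * (1 - φ (wt x')) = ν (wt x') * (1 - φ (wt x))) ∧
      ∀ x : chevE8.Idx, φ (wt x) < 1 → 1 < φ (wt x) + (s • ψ + t • ν) (wt x) → 1 < φ (wt x) + ψ (wt x) := by
  let f : chevE8.Idx → ℝ := fun x => ψ (wt x) / (1 - φ (wt x))
  let g : chevE8.Idx → ℝ := fun x => ν (wt x) / (1 - φ (wt x))
  have hf : ∀ x, φ (wt x) < 1 → (1 < f x ↔ 1 < φ (wt x) + ψ (wt x)) := fun x hx => by
    rw [one_lt_div (sub_pos.2 hx)]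
    constructor <;> intro h <;> linarith
  obtain ⟨x₁, hx₁, hm₁⟩ := Y.exists_min_image f hY
  have h3 := (hf x₁ (h1 x₁ hx₁)).2 (h2 x₁ hx₁)
  obtain ⟨m, hm, hm'⟩ := exists_between h3
  have hc : ∀ x, Tendsto (fun ε : ℝ => f x + ε * g x) (𝓝[≠] 0) (𝓝 (f x)) := fun x => by
    have : Continuous fun ε : ℝ => f x + ε * g x := by fun_prop
    have h := this.tendsto 0
    rw [zero_mul, add_zero] at h
    exact h.mono_left nhdsWithin_le_nhds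
  have ea : ∀ᶠ ε in 𝓝[≠] (0 : ℝ), ∀ x ∈ Y, m < f x + ε * g x :=
    (eventually_all_finset Y).2 fun x hx => (hc x).eventually (lt_mem_nhds (hm'.trans_le (hm₁ x hx)))
  have eb : ∀ᶠ ε in 𝓝[≠] (0 : ℝ), ∀ x x', f x + ε * g x = f x' + ε * g x' → g x = g x' := by
    refine eventually_all.2 fun x => eventually_all.2 fun x' => ?_
    by_cases e : g x = g x'
    · exact Eventually.of_forall fun _ _ => e
    by_cases e' : f x = f x'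
    · filter_upwards [self_mem_nhdsWithin] with ε hε h
      rw [e', add_right_inj] at h
      exact mul_left_cancel₀ hε h
    · filter_upwards [((hc x).sub (hc x')).eventually_ne (sub_ne_zero.2 e')] with ε hε h
      exact absurd (sub_eq_zero.2 h) hε
  have ec : ∀ᶠ ε in 𝓝[≠] (0 : ℝ), ∀ x, f x ≤ 1 → f x + ε * g x < m := by
    refine eventually_all.2 fun x => ?_
    by_cases e : f x ≤ 1
    · filter_upwards [(hc x).eventually (gt_mem_nhds (e.trans_lt hm))] with ε hε _ using hε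
    · exact Eventually.of_forall fun _ h => absurd h e
  have hp : 0 < nrm ψ := nrm_pos (x := x₁) (by have := h1 x₁ hx₁; have := h2 x₁ hx₁; intro h; linarith)
  have ed : ∀ᶠ ε in 𝓝[≠] (0 : ℝ), nrm (ψ + ε • ν) < m ^ 2 * nrm ψ := by
    have h := (nrm_cont ψ ν).tendsto 0
    rw [zero_smul, add_zero] at h
    exact (h.mono_left nhdsWithin_le_nhds).eventually (gt_mem_nhds (by linarith only [mul_pos hp (show 0 < m ^ 2 - 1 by nlinarith)]))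
  obtain ⟨ε, ⟨⟨ha, hb⟩, hc'⟩, hd⟩ := (((ea.and eb).and ec).and ed).exists
  obtain ⟨x₀, hx₀, hm₀⟩ := Y.exists_min_image (fun x => f x + ε * g x) hY
  obtain ⟨M, hM⟩ : ∃ M, M = f x₀ + ε * g x₀ := ⟨_, rfl⟩
  have hmM : m < M := hM ▸ ha x₀ hx₀
  have hM0 : 0 < M := by linarith
  have key : ∀ x, φ (wt x) < 1 → φ (wt x) + (M⁻¹ • ψ + (M⁻¹ * ε) • ν) (wt x) - 1 =
      (1 - φ (wt x)) * M⁻¹ * (f x + ε * g x - M) := fun x hx => by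
    have := (sub_pos.2 hx).ne'
    simp only [f, g, AddMonoidHom.add_apply, AddMonoidHom.smul_apply, smul_eq_mul]
    field_simp
    ring
  have pos : ∀ x, φ (wt x) < 1 → 0 < (1 - φ (wt x)) * M⁻¹ := fun x hx => mul_pos (sub_pos.2 hx) (inv_pos.2 hM0)
  refine ⟨M⁻¹, M⁻¹ * ε, ?_, fun x hx => ?_, ⟨x₀, hx₀, ?_⟩, fun x hx x' hx' e e' => ?_, fun x hx h => ?_⟩
  · rw [mul_smul, ← smul_add, nrm_smul, inv_pow, inv_mul_le_iff₀ (by positivity)]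
    exact hd.le.trans (mul_le_mul_of_nonneg_right (by nlinarith only [hm, hmM]) hp.le)
  · have := mul_nonneg (pos x (h1 x hx)).le (sub_nonneg.2 (hM ▸ hm₀ x hx))
    rw [← key x (h1 x hx)] at this
    linarith
  · have := key x₀ (h1 x₀ hx₀)
    rw [← hM, sub_self, mul_zero] at this
    linarith
  · have k1 := key x (h1 x hx)
    have k2 := key x' (h1 x' hx')
    rw [e, sub_self] at k1
    rw [e', sub_self] at k2
    have k3 := (mul_eq_zero.1 k1.symm).resolve_left (pos x (h1 x hx)).ne'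
    have k4 := (mul_eq_zero.1 k2.symm).resolve_left (pos x' (h1 x' hx')).ne'
    exact (div_eq_div_iff (sub_pos.2 (h1 x hx)).ne' (sub_pos.2 (h1 x' hx')).ne').1 (hb x x' (by linarith only [k3, k4]))
  · refine (hf x hx).1 (lt_of_not_ge fun h' => ?_)
    have k1 := mul_neg_of_pos_of_neg (pos x hx) (show f x + ε * g x - M < 0 by linarith [hc' x h'])
    rw [← key x hx] at k1
    linarith

/-! ### leading terms -/

variable {K : Type u} [Field K] {k : Q8 →+ ℝ}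

/-- `z` is the leading term of `x` -/
def Lk (k : Q8 →+ ℝ) (z x : L8 K) : Prop := z ∈ LS K (Eq' k 1) ∧ x - z ∈ LS K {a | 1 < k a}

/-- the support -/
def Su (A : List ℕ) (z : L8 K) : Prop := ∀ i, z i ≠ 0 ↔ ky i ∈ A

theorem cz_pr {j : ℝ} {v : L8 K} (h : Cz v) (hv : v ∈ LS K (Ge k j)) : Cz (pr k j v) := by
  refine Matrix.ext fun i l => ?_
  have h1 : ee K l ∈ LS K (Eq' k (k (wt l))) := ee_mem_LS rfl
  have h2 := Eq_le_Ge h1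
  have h3 := br_Ge hv h2
  have h4 := pr_br rfl hv (br_Ge hv h3)
  rw [h.br3, pr_zero, pr_br rfl hv h3, pr_br rfl hv h2, pr_of_mem h1] at h4
  have h5 := congrFun h4 i
  unfold br at h5
  rw [Matrix.mulVec_mulVec, Matrix.mulVec_mulVec, mulVec_ee, ← sq, ← pow_succ] at h5
  exact h5.symm

theorem Lk.cz {z x : L8 K} (h : Lk k z x) (hx : Cz x) : Cz z := by
  have e : x = z + (x - z) := (add_sub_cancel _ _).symm
  have h1 := cz_pr hx (show x ∈ LS K (Ge k 1) by rw [e]; exact add_mem (Eq_le_Ge h.1) (Gt_le_Ge h.2))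
  rwa [e, pr_add, pr_of_mem h.1, pr_Gt h.2, add_zero] at h1

theorem Lk.act {k' : Q8 →+ ℝ} {z x : L8 K} (h : Lk k z x) {g : G8 K}
    (hg : ∀ P : ℝ → Prop, ∀ v ∈ LS K {a | P (k a)}, act g v ∈ LS K {a | P (k' a)}) : Lk k' (act g z) (act g x) :=
  ⟨hg (· = 1) z h.1, by rw [← act_sub]; exact hg (1 < ·) _ h.2⟩

theorem Lk.rep {z x : L8 K} (h : Lk k z x) {w : W8} {n : G8 K} (hn : RepK w n) :
    Lk (cw k w⁻¹) (E8A.act n z) (E8A.act n x) :=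
  h.act fun P _ hv => hn.LS (fun a ha => show P (cw k w⁻¹ (act8 w a)) by rwa [cw_apply, act8_inv_act]) hv

theorem Lk.word {z x : L8 K} (h : Lk k z x) {w : SV} (hw : ∀ q ∈ w, k (wk q.1) = 0) :
    Lk k (E8A.act (wG K w) z) (E8A.act (wG K w) x) :=
  h.act fun P _ hv => wG_LS (fun q hq a ha => show P (k (a + wk q.1)) by rwa [map_add, hw q hq, add_zero]) hv

/-- the index of a root -/
def ik (a : ℕ) : chevE8.Idx := Sum.inr ⟨a % 240, Nat.mod_lt _ (by norm_num)⟩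

theorem ky_ik {a : ℕ} (h : a < 240) : ky (ik a) = a := Nat.mod_eq_of_lt h

theorem ik_ky {x : chevE8.Idx} (h : ky x < 240) : ik (ky x) = x := ky_inj (ky_ik h)

theorem wt_ik {a : ℕ} (h : a < 240) : wt (ik a) = wk a := by rw [← wk_ky, ky_ik h]

theorem eq_ik {a : ℕ} (h : a < 240) {x : chevE8.Idx} (e : wt x = wk a) : x = ik a :=
  (wt_inj ((wt_ik h).trans e.symm) (vec_ne_zero _)).symm

theorem Su.rep {A A' : List ℕ} {z : L8 K} (h : Su A z) (hA : ∀ a ∈ A, a < 240) {w : W8} {n : G8 K} (hn : RepK w n)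
    {f : ℕ → ℕ} (hf : ∀ a < 240, f a < 240 ∧ wk (f a) = act8 w (wk a)) (h1 : ∀ a ∈ A, f a ∈ A')
    (h2 : ∀ a' ∈ A', ∃ a ∈ A, f a = a') : Su A' (act n z) := fun i => by
  constructor
  · intro hi
    obtain ⟨j, hj, hj'⟩ := exists_ne_of_mulVec hi
    have h3 := (h j).1 hj'
    have h4 := hf _ (hA _ h3)
    rw [eq_ik (x := i) h4.1 (by rw [hn.wt hj, h4.2, wk_ky]), ky_ik h4.1]
    exact h1 _ h3
  · intro hi
    obtain ⟨a, ha, e⟩ := h2 _ hi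
    have h4 := hf _ (hA _ ha)
    have e' : i = ik (f a) := ky_inj (by rw [ky_ik h4.1, e])
    obtain ⟨c, hc, h5⟩ := hn.ee (r := ⟨a % 240, Nat.mod_lt _ (by norm_num)⟩) (s := ⟨f a % 240, Nat.mod_lt _ (by norm_num)⟩)
      (by rw [← wt_inr, ← wt_inr]; exact (wt_ik h4.1).trans (h4.2.trans (by rw [← wt_ik (hA _ ha)]; rfl)))
    have h6 : mx n (ik (f a)) (ik a) = c := by
      rw [← act_ee]
      exact (congrFun h5 _).trans (by rw [Pi.smul_apply, smul_eq_mul]; exact (congrArg (c * ·) (ee_self _)).trans (mul_one c))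
    rw [e', act_apply, Finset.sum_eq_single (ik a), h6]
    · exact mul_ne_zero hc ((h _).2 (by rwa [ky_ik (hA _ ha)]))
    · intro j _ hj
      by_contra h7
      have h8 := hn.wt (left_ne_zero_of_mul h7)
      rw [wt_ik h4.1, h4.2] at h8
      exact hj (eq_ik (hA _ ha) (by rw [← act8_inv_act w (wt j), ← h8, act8_inv_act]))
    · intro h7
      exact absurd (Finset.mem_univ _) h7

/-- torus elements -/
theorem exists_dg {c : Fin 8 → K} (hc : ∀ i, c i ≠ 0) :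
    ∃ t : G8 K, ∀ (v : L8 K) (x : chevE8.Idx), act t v x = (∏ i, c i ^ wt x i) * v x := by
  suffices H : ∀ s : Finset (Fin 8), ∃ t : G8 K, ∀ (v : L8 K) (x : chevE8.Idx), act t v x = (∏ i ∈ s, c i ^ wt x i) * v x from
    H _
  intro s
  induction s using Finset.induction_on with
  | empty => exact ⟨1, fun v x => by rw [act_one, Finset.prod_empty, one_mul]⟩
  | insert i s hi ih =>
    obtain ⟨t, ht⟩ := ih
    obtain ⟨t', -, ht'⟩ := exists_tz (hc i) (Pi.single i 1)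
    exact ⟨t' * t, fun v x => by rw [act_mul, Two.act_dz ht', Two.ex_single, ht, Finset.prod_insert hi, mul_assoc]⟩

theorem prod_sr (c : Fin 8 → K) (j : Fin 8) : ∏ i, c i ^ (sr j : Q8) i = c j := by
  rw [Finset.prod_eq_single j, sr_self, zpow_one]
  · intro i _ hi
    rw [Tits.Roots.sr_ne hi, zpow_zero]
  · intro h
    exact absurd (Finset.mem_univ _) h

theorem scale {A : List ℕ} {z x : L8 K} (h : Lk k z x) (h' : Su A z) {c : Fin 8 → K} (hc : ∀ i, c i ≠ 0) :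
    ∃ t : G8 K, Lk k (act t z) (act t x) ∧ Su A (act t z) ∧ ∀ y, act t z y = (∏ i, c i ^ wt y i) * z y := by
  obtain ⟨t, ht⟩ := exists_dg hc
  refine ⟨t, h.act fun P v hv y hy => hv y ?_, fun y => ?_, ht z⟩
  · rw [ht] at hy
    exact right_ne_zero_of_mul hy
  · rw [ht, ← h' y]
    exact mul_ne_zero_iff_left (Finset.prod_ne_zero_iff.2 fun i _ => zpow_ne_zero _ (hc i))

/-- the vector with the coefficients `c` -/
def xs (c : ℕ → K) (A : List ℕ) : L8 K := (A.map fun a => c a • eb K a).sum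

theorem xs_apply (c : ℕ → K) (x : chevE8.Idx) : ∀ {A : List ℕ}, A.Nodup → xs c A x = if ky x ∈ A then c (ky x) else 0
  | [], _ => rfl
  | a :: A, h => by
    have ih := xs_apply c x (List.nodup_cons.1 h).2
    rw [xs, List.map_cons, List.sum_cons, Pi.add_apply, ← xs, ih, Pi.smul_apply, eb, smul_eq_mul]
    by_cases e : ky x = a
    · rw [if_pos e, if_neg (e ▸ (List.nodup_cons.1 h).1), if_pos (e ▸ List.mem_cons_self), mul_one, add_zero, e]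
    · rw [if_neg e, mul_zero, zero_add]
      simp only [List.mem_cons, e, false_or]

theorem Su.eq {A : List ℕ} {z : L8 K} (h : Su A z) (hA : ∀ a ∈ A, a < 240) (hn : A.Nodup) : z = xs (fun a => z (ik a)) A := by
  funext x
  rw [xs_apply _ _ hn]
  split_ifs with e
  · rw [ik_ky (hA _ e)]
  · exact not_not.1 fun h' => e ((h x).1 h')

theorem xs_sv {c : ℕ → K} {n : ℕ → ℤ} : ∀ {A : List ℕ}, (∀ a ∈ A, c a = n a) → xs c A = sv K (A.map fun a => (a, n a))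
  | [], _ => sv_nil.symm
  | a :: A, h => by
    rw [List.map_cons, sv_cons, ← xs_sv fun b hb => h b (List.mem_cons_of_mem _ hb), xs, List.map_cons, List.sum_cons,
      h a List.mem_cons_self]
    rfl

theorem cf_zero {a : ℕ} : ∀ {l : SV}, a ∉ l.map Prod.fst → cf l a = 0
  | [], _ => rfl
  | p :: l, h => by
    rw [List.map_cons, List.mem_cons, not_or] at h
    have e : Nat.beq a p.1 = false := by
      rw [← Bool.not_eq_true, Nat.beq_eq]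
      exact h.1
    show Bool.rec (motive := fun _ => ℤ) (cf l a) (Int.add p.2 (cf l a)) (Nat.beq a p.1) = 0
    rw [e]
    exact cf_zero h.2

theorem cast_ne [CharP K 3] {m : ℤ} (h : Nat.beq (m3 m) 0 = false) : (m : K) ≠ 0 := by
  rw [cast_m3, Ne, CharP.cast_eq_zero_iff K 3]
  intro e
  rw [Nat.eq_zero_of_dvd_of_lt e (m3_lt m)] at h
  exact absurd h (by decide)

theorem su_sv [CharP K 3] {l : SV} (h : ∀ p ∈ l, Nat.beq (m3 (cf l p.1)) 0 = false) : Su (l.map Prod.fst) (sv K l) := fun i => by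
  rw [cf_eq]
  constructor
  · intro h'
    by_contra e
    exact h' (by rw [cf_zero e, Int.cast_zero])
  · intro h'
    obtain ⟨p, hp, e⟩ := List.mem_map.1 h'
    rw [← e]
    exact cast_ne (h p hp)

/-! ### sums of monomials -/

/-- terms: key, coefficient, monomial -/
abbrev TM : Type := List (ℕ × ℤ × List ℕ)

/-- the value -/
def tv (c : ℕ → K) (T : TM) : L8 K := (T.map fun t => ((t.2.1 : K) * (t.2.2.map c).prod) • eb K t.1).sum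

/-- the bracket with the generic vector of support `A` -/
def adT (A : List ℕ) (T : TM) : TM :=
  T.flatMap fun t => A.flatMap fun a => (rbr (rowAt rows a) t.1).map fun q => (q.1, t.2.1 * q.2, a :: t.2.2)

theorem tv_append (c : ℕ → K) (T T' : TM) : tv c (T ++ T') = tv c T + tv c T' := by
  rw [tv, List.map_append, List.sum_append, tv, tv]

theorem tv_map (c : ℕ → K) (m : ℤ) (M : List ℕ) : ∀ l : SV,
    tv c (l.map fun q => (q.1, m * q.2, M)) = ((m : K) * (M.map c).prod) • sv K l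
  | [] => by rw [sv_nil, smul_zero]; rfl
  | q :: l => by
    rw [List.map_cons, tv, List.map_cons, List.sum_cons, ← tv, tv_map c m M l, sv_cons, smul_add, smul_smul, Int.cast_mul]
    congr 2
    ring

theorem tv_one (c : ℕ → K) (t : ℕ × ℤ × List ℕ) : ∀ A : List ℕ,
    tv c (A.flatMap fun a => (rbr (rowAt rows a) t.1).map fun q => (q.1, t.2.1 * q.2, a :: t.2.2)) =
      br (xs c A) (((t.2.1 : K) * (t.2.2.map c).prod) • eb K t.1)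
  | [] => (br_zero_left _).symm
  | a :: A => by
    rw [List.flatMap_cons, tv_append, tv_one c t A, tv_map, xs, xs, List.map_cons, List.map_cons, List.sum_cons, br_add_left,
      br_smul_left, br_smul_right (x := eb K a), br_eb, smul_smul, List.prod_cons]
    congr 2
    ring

theorem tv_adT (c : ℕ → K) (A : List ℕ) : ∀ T : TM, tv c (adT A T) = br (xs c A) (tv c T)
  | [] => (br_zero_right _).symm
  | t :: T => by
    rw [adT, List.flatMap_cons, tv_append, ← adT, tv_adT c A T, tv_one, ← br_add_right]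
    rfl

/-- the sum of the coefficients at `i` -/
def sm (i : ℕ) : TM → ℤ
  | [] => 0
  | t :: T => bif Nat.beq t.1 i then t.2.1 + sm i T else sm i T

theorem tv_apply (c : ℕ → K) (x : chevE8.Idx) (M : List ℕ) : ∀ T : TM, (∀ t ∈ T, t.1 = ky x → t.2.2.Perm M) →
    tv c T x = (sm (ky x) T : K) * (M.map c).prod
  | [], _ => by rw [sm, Int.cast_zero, zero_mul]; rfl
  | t :: T, h => by
    rw [tv, List.map_cons, List.sum_cons, ← tv, Pi.add_apply, tv_apply c x M T fun s hs => h s (List.mem_cons_of_mem _ hs),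
      Pi.smul_apply, eb, sm]
    by_cases e : t.1 = ky x
    · rw [if_pos e.symm, show Nat.beq t.1 (ky x) = true by rw [e, Nat.beq_refl], cond_true,
        ((h t List.mem_cons_self e).map c).prod_eq, Int.cast_add, smul_eq_mul]
      ring
    · have e' : Nat.beq t.1 (ky x) = false := by
        rw [← Bool.not_eq_true, Nat.beq_eq]
        exact e
      rw [if_neg (Ne.symm e), e', cond_false, smul_zero, zero_add]

/-- a coefficient of the cube is a monomial -/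
def chkQ (A : List ℕ) (k i : ℕ) (M : List ℕ) : Bool :=
  Nat.blt i 248 && M.all A.contains &&
    (adT A (adT A (adT A [(k, 1, [])]))).all (fun t => !(Nat.beq t.1 i) || t.2.2.isPerm M) &&
    !(Nat.beq (m3 (sm i (adT A (adT A (adT A [(k, 1, [])]))))) 0)

theorem chkQ_sound [CharP K 3] {A : List ℕ} {k i : ℕ} {M : List ℕ} (h : chkQ A k i M = true) {c : ℕ → K}
    (hc : ∀ a ∈ A, c a ≠ 0) : ¬ Cz (xs c A) := fun hz => by
  simp only [chkQ, Bool.and_eq_true, List.all_eq_true, Bool.or_eq_true, Bool.not_eq_true', List.contains_iff_mem,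
    List.isPerm_iff, Nat.blt_eq] at h
  obtain ⟨⟨⟨h1, h2⟩, h3⟩, h4⟩ := h
  obtain ⟨x, rfl⟩ := ky_surj h1
  have h5 := congrFun (hz.br3 (tv c [(k, 1, [])])) x
  rw [← tv_adT, ← tv_adT, ← tv_adT, tv_apply c x M _ fun t ht e => (h3 t ht).resolve_left (by rw [e, Nat.beq_refl]; decide)] at h5
  refine mul_ne_zero (cast_ne h4) (List.prod_ne_zero fun h0 => ?_) h5
  obtain ⟨a, ha, e⟩ := List.mem_map.1 h0
  exact hc a (h2 a ha) e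

end Cfsg.Agent.E8A.C63.Nil
end

-- part: E8A/C63/NilC
section
/-!
# `A₆` in characteristic 3, box NIL3: the certificates (helper41)

* `rf`, `apw` : simple reflections and words; `Cls`, `chkC` : the certificate of a class; `step` : its soundness.
-/

set_option autoImplicit false
set_option maxRecDepth 100000

namespace Cfsg.Agent.E8A.C63.Nil

open Cfsg Cfsg.Lie Module
open Cfsg.Agent.H288.E8L (Q8 wt wt_inl wt_inr act8 wt_inj vec_ne_zero)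
open Cfsg.Agent.H942.CB (W8 cs8)
open Cfsg.Agent.Tits.Roots (sr sr_self)
open Cfsg.Agent.Nodes.Reps (exists_rp)
open Cfsg.Agent.E8A.Kem (Ge mem_Ge nrm cw cw_apply nrm_cw act8_simple)
open Cfsg.Agent.E8A.C63.Abc (br_Ge Ge_mono sub_pr_Gt)
open Cfsg.Agent.E8A.C63.KemA (B2_comm B2_smul cw_one)
open Cfsg.Agent.E8A.C63.Sv
open Cfsg.Agent.ChevalleyStructure.JacTab (intZ eq_zero_of_intZ insM)
open Cfsg.Agent.ChevalleyStructure.CoxeterGeom (pairing)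
open Cfsg.Agent.ChevalleyStructure.CoxeterGeomTypes (cartanOf)
open Cfsg.Agent.E8A.Reg5.Cls (ex)

universe u

/-! ### words -/

/-- the simple reflections, packed -/
def WA : ℕ := 0xeeefedecebeae9e8e7e6e5e4e2e3e1e0dfdedddbdcdad9d8d6d7d5d4d2d3d1cfd0cdcecccbcac8c9c7c5c6c3c4c2c1bfc0bdbebcbabbb9b8b7b5b6b3b4b2b0b1afaeacadabaaa9a7a8a6a5a4a3a2a19fa09d9e9c9a9b999896979594939192908f8e8d8b8c8a898887858684838280817f7e7c7d7b797a7778757674727371706e6f6d6c6b696a6867666563646261605f5d5e5c5b5a5859575654555351524f504e4d4c4b4a494748464544424341403e3f3d3b3c393a38373634353331322f302e2d2b2c292a28262725242321221f201e1c1d1b1a181917161513141211100f0e0c0d0b0a09080706050403020001efedeeecebeae9e8e7e6e5e3e4e2e1e0dfdedcdddbdad9d7d8d6d5d3d4d2d0d1cfcecccdcbc9cac8c6c7c5c4c2c3c0c1bfbebcbdbbb9bab8b6b7b5b4b2b3b1afb0aeadabacaaa9a8a6a7a5a4a3a2a0a19f9e9c9d9b999a9897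959694939290918f8e8d8c8a8b8988878684858382817f807e7d7b7c78767a757977737472716f706e6d6c6a6b696867666465636261605e5f5d5c5b595a5857555654525351504e4f4d4c4b4a4849474645434442413f403e3c3d3b3a383937353634323331302e2f2c2d2b2a282927252624222321201e1f1d1b1c1a191718161514121311100f0e0d0b0c0a09080706050403010200efeeecedebeae9e8e7e6e4e5e3e2e1e0dfdddedcdbdad8d9d7d6d4d5d3d2d1cecdd0cfcccacbc9c8c7c4c3c6c5c2c1bebdc0bfbcbbbab8b9b7b4b3b6b5b2b1b0aeafadacaaaba9a8a7a5a6a4a3a2a19e9da09f9c9b9a9899979694959392918f908e8d8c8b898a8887868583848281807e7f7a79747d7c787773727b767570716f6e6d6b6c6a6968676566646362615f605e5d5c5a5b59585657555453504f52514e4d4c4b494a4847464445434240413f3e3d3a393c3b383637353433302f32312e2d2a292c2b282726242523201f22211e1d1c1a1b191816171514131112100f0e0d0c0a0b09080706050402030100efeeedebeceae9e8e7e5e6e4e3e2e1e0dedfdddcdbd9dad8d7d6d5d1d0c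fd4d3d2cecdcccbc7c6c5cac9c8c4c3c2c1c0bfbbbab9bebdbcb8b7b6b5b1b0afb4b3b2aeadacaba9aaa8a7a6a4a5a3a2a1a09f9b9a999e9d9c9897969593949291908e8f8d8c8b8a88898786858482837d7c7b7181807f7a7978777675706f6e7e7473726c6d6b6a696866676564636260615f5e5d5b5c5a595857535251565554504f4e4d4c4a4b4948474546444342413d3c3b403f3e3a393837333231363534302f2e2d2c2b2726252a2928242322211d1c1b201f1e1a191817151614131210110f0e0d0c0b090a080706050304020100efeeedeceaebe9e8e6e7e5e4e3e2e1dfe0dedddcdbdad5d4d3d2d9d8d7d6d1d0cfcecdcccbcac9c8c1c0bfbebdbcc7c6c5c4c3c2bbbab9b8b7b6b5b4b3b2adacabaab1b0afaea9a8a7a6a5a3a4a2a1a09f9e9d9c979695949b9a9998939291908f8d8e8c8b8a89878881807f7e6d868584837d7c7b7a79787776757473726c6b6a698271706f6e6768666564636162605f5e5d5c575655545b5a5958535251504f4e4d4b4c4a4948474641403f3e454443423d3c3b3a3938373635342d2c2b2a2928333231302f2e27262524232221201f1e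191817161d1c1b1a15141312110f100e0d0c0b0a08090706040503020100efeeedecebe9eae7e8e6e5e4e3e2e1e0dad9d8d7d6dfdedddcdbd5d4d3d2d1d0cfcecdcccbcac9c8c7c6c5c4c3c2b7b6b5b4b3b2b1b0afaec1c0bfbebdbcbbbab9b8adacabaaa9a8a7a6a5a4a2a3a1a09f9e9d9c9b9a99989291908f8e97969594938d8685848382688c8b8a898881807f7e7d7c7b7a797877767574737271706f6e6766656463876d6c6b6a69625c5b5a595861605f5e5d57565554535251504f4e4c4d4b4a494847464544434237363534333231302f2e41403f3e3d3c3b3a39382d2c2b2a292827262524232221201f1e1d1c1b1a141312111019181716150f0e0d0c0b0a09070805060403020100efeeedecebe8e7eae9e6e5e4e3e2e0e1dfdedddcdbdad9d8d7d6cbcac9c8c7c6c5c4c3c2d5d4d3d2d1d0cfcecdccc1c0bfbebdbcbbbab9b8b7b6b5b4b3b2b1b0afaea8a7a6a5a4adacabaaa9a3a2a1a09f9e9d9c9b9a99988c8b8a89888685848382629796959493879291908f8e81807f7e7d7c7b7a797877767574737271706f6e61605f5e5d685c5b5a59588d6d6c6b6a696766656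46357565554535251504f4e4d4c46454443424b4a49484741403f3e3d3c3b3a393837363534333231302f2e232221201f1e1d1c1b1a2d2c2b2a292827262524191817161514131211100e0f0d0c0b0a09060508070403020100efeeedecebeae1e8e0dfdedddcdbe9e7e6e5e4e3e2dad9d8d7d6d5d4d3d2d1d0cfcecdcccbcac9c8c7c6c5c4c3c2c1c0bfbebdbcbbbab9b8a1a09f9e9d9c9b9a999897969594938c8b8a8988874db7b6b5b4b3b2b1b0afaeadacabaaa99291908f8e8da8a7a6a5a4a3868584838281807f7e7d7c7b7a797877767574737271706f6e6d6c6b6a694c4b4a4948476261605f5e5d464544434241403f3e3d3c3b3a3938a26867666564635c5b5a595857565554535251504f4e37363534333231302f2e2d2c2b2a292827262524232221201f1e1d1c1b1a19181716150d0c0b0a09080614131211100f070e050403020100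

/-- the simple reflections -/
def rf (i s : ℕ) : ℕ := Nat.land (Nat.shiftRight WA (Nat.mul 8 (Nat.add (Nat.mul 240 i) s))) 255

/-- the Cartan matrix -/
def Cm : Fin 8 → Q8 := (beta% delta% lq26c06afe50 fun _ _ _ _ f g =>
 (f (f 2<|f 0<|f (-1)<|f 0<|f 0<|f 0<|f 0<|f 0<|g)<|f (f 0<|f 2<|f 0<|f (-1)<|f 0<|f 0<|f 0<|f 0<|g)<|f (f (-1)<|f 0<|f 2<|f (-1)<|f 0<|f 0<|f 0<|f 0<|g)<|
 f (f 0<|f (-1)<|f (-1)<|f 2<|f (-1)<|f 0<|f 0<|f 0<|g)<|f (f 0<|f 0<|f 0<|f (-1)<|f 2<|f (-1)<|f 0<|f 0<|g)<|f (f 0<|f 0<|f 0<|f 0<|f (-1)<|f 2<|f (-1)<|f 0<|g)<|f (f 0<|f 0<|f 0<|f 0<|f 0<|f (-1)<|f 2<|f (-1)<|g)<|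
 f (f 0<|f 0<|f 0<|f 0<|f 0<|f 0<|f (-1)<|f 2<|g)<|g))

theorem Cm_eq : ∀ i j : Fin 8, cartanOf chevE8 8 i j = Cm i j := by (delta Cfsg.Agent.ChevalleyStructure.CoxeterGeomTypes.cartanOf; rewrite [Cfsg.Agent.ChevFast.E8.cartan]; decide +kernel)

private noncomputable def _root_.Cfsg.Agent.LsF.fa47430_0 : {f // @Cfsg.Agent.E8A.C63.Sv.dg = f} := ⟨_, by delta Cfsg.Agent.E8A.C63.Sv.dg; rewrite [Cfsg.Agent.LsF.iadd_pat, Cfsg.Agent.LsF.imul_pat]; exact rfl⟩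
private noncomputable def _root_.Cfsg.Agent.LsF.fa47430_1 : {f // @Cfsg.Agent.E8A.C63.Nil.Cm = f} := ⟨_, by delta Cfsg.Agent.E8A.C63.Nil.Cm; rewrite [Cfsg.Agent.LsF.ineg_pat, Cfsg.Agent.LsF.vecCons_eq]; exact rfl⟩
theorem rf_tab : ∀ i : Fin 8, ∀ s < 240, rf i s < 240 ∧ wc (rf i s) i = wc s i - dg (Cm i) s ∧
    ∀ l < 8, l = i.val ∨ wn (rf i s) l = wn s l := by (refine of_decide_eq_true ?_; rewrite [Cfsg.Agent.LsF.fa47430_0.2, Cfsg.Agent.LsF.fa47430_1.2, Cfsg.Agent.LsF.isub_pat, Cfsg.Agent.LsF.instDecEq_eq, Cfsg.Agent.LsF.decLt_eq, Cfsg.Agent.LsF.instIDecEq_eq, Cfsg.Agent.LsF.dAnd_eq, Cfsg.Agent.LsF.dOr_eq, Cfsg.Agent.LsF.dBallLT_eq, Cfsg.Agent.LsF.dForallFin_eq, Cfsg.Agent.LsF.decide_eq]; decide +kernel)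

theorem rf_spec (i : Fin 8) {s : ℕ} (hs : s < 240) : rf i s < 240 ∧ wk (rf i s) = act8 (cs8.simple i) (wk s) := by
  obtain ⟨h1, h2, h3⟩ := rf_tab i s hs
  refine ⟨h1, funext fun l => ?_⟩
  rw [act8_simple, Pi.sub_apply, Pi.smul_apply, smul_eq_mul]
  by_cases e : l = i
  · rw [e, sr_self, mul_one, show pairing (cartanOf chevE8 8) i (wk s) = dg (Cm i) s by
      rw [dg_eq, ex, pairing]
      exact Finset.sum_congr rfl fun k _ => by rw [Cm_eq, mul_comm]]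
    exact h2
  · rw [Tits.Roots.sr_ne e, mul_zero, sub_zero]
    show Int.subNatNat _ 8 = Int.subNatNat _ 8
    rw [(h3 l l.2).resolve_left fun h => e (Fin.ext h)]

/-- words: octal digits below a leading one -/
noncomputable def apw (f : ℕ) : ℕ → ℕ → ℕ :=
  Nat.rec (motive := fun _ => ℕ → ℕ → ℕ) (fun _ s => s)
    (fun _ ih w s => Bool.rec (motive := fun _ => ℕ)
      (frc (Nat.div w 8) fun w' => frc (rf (Nat.mod w 8) s) fun s' => ih w' s') s (Nat.ble w 1)) f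

theorem apw_spec (f : ℕ) : ∀ w : ℕ, ∃ ω : W8, (w ≤ 1 → ω = 1) ∧
    ∀ s < 240, apw f w s < 240 ∧ wk (apw f w s) = act8 ω (wk s) := by
  induction f with
  | zero => exact fun w => ⟨1, fun _ => rfl, fun s hs => ⟨hs, (act8_one _).symm⟩⟩
  | succ f ih =>
    intro w
    have e : ∀ s, apw (f + 1) w s = Bool.rec (motive := fun _ => ℕ)
      (frc (Nat.div w 8) fun w' => frc (rf (Nat.mod w 8) s) fun s' => apw f w' s') s (Nat.ble w 1) := fun _ => rfl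
    by_cases h : w ≤ 1
    · refine ⟨1, fun _ => rfl, fun s hs => ?_⟩
      rw [e, Nat.ble_eq_true_of_le h]
      exact ⟨hs, (act8_one _).symm⟩
    · obtain ⟨ω, -, hω⟩ := ih (Nat.div w 8)
      refine ⟨ω * cs8.simple ⟨w % 8, Nat.mod_lt _ (by norm_num)⟩, fun h' => absurd h' h, fun s hs => ?_⟩
      have h1 := rf_spec ⟨w % 8, Nat.mod_lt _ (by norm_num)⟩ hs
      have h2 := hω _ h1.1
      rw [e, show Nat.ble w 1 = false by rw [← Bool.not_eq_true, Nat.ble_eq]; exact h, act8_mul, ← h1.2]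
      show (frc _ _ : ℕ) < 240 ∧ wk (frc _ _) = _
      rw [frc_eq, frc_eq]
      exact h2

/-! ### the data -/

/-- the simple roots of the classes, the zero class first -/
def SJ : ℕ → List (Fin 8)
  | 0 => []
  | j + 1 => SS ⟨j % 11, Nat.mod_lt _ (by norm_num)⟩

/-- their labels -/
def LB : ℕ → Q8
  | 0 => 0
  | j + 1 => lab ⟨j % 11, Nat.mod_lt _ (by norm_num)⟩

/-- their keys -/
def AJ (j : ℕ) : List ℕ := (beta% delta% lq26c06afe50 fun a b _ _ _ _ =>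
 (a b<|a (a 120<|b)<|a (a 120<|a 123<|b)<|a (a 120<|a 123<|a 141<|b)<|a (a 120<|a 121<|b)<|a (a 120<|a 123<|a 141<|a 162<|b)<|a (a 120<|a 121<|a 141<|b)<|
 a (a 120<|a 121<|a 141<|a 162<|b)<|a (a 162<|a 135<|a 141<|a 126<|a 121<|b)<|a (a 162<|a 135<|a 126<|a 123<|b)<|a (a 162<|a 135<|a 126<|a 123<|a 120<|b)<|
 a (a 162<|a 135<|a 126<|a 123<|a 120<|a 141<|b)<|b).getD j b)

/-- the representatives -/
def eL (j : ℕ) : SV := (AJ j).map fun a => (a, 1)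

theorem AJ_eq : ∀ j < 12, AJ j = (SJ j).map sk ∧ (AJ j).Nodup ∧ (∀ a ∈ AJ j, a < 240) ∧ ∀ i ∈ SJ j, LB j i = 2 := by
  decide +kernel

theorem eL_eq : ∀ c : Fin 11, eL (c + 1) = eS c ∧ LB (c + 1) = lab c := by decide +kernel

/-- eight integers -/
structure V8 where
  (a0 a1 a2 a3 a4 a5 a6 a7 : ℤ)

/-- the vector -/
def V8.q (y : V8) : Q8 := ![y.a0, y.a1, y.a2, y.a3, y.a4, y.a5, y.a6, y.a7]

/-- the degree -/
def dv (y : V8) (k : ℕ) : ℤ :=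
  wc k 0 * y.a0 + wc k 1 * y.a1 + wc k 2 * y.a2 + wc k 3 * y.a3 + wc k 4 * y.a4 + wc k 5 * y.a5 + wc k 6 * y.a6 + wc k 7 * y.a7

theorem dv_eq (y : V8) (k : ℕ) : (dv y k : ℝ) = cl y.q (wk k) := by
  rw [cl_apply, ← dg_eq]
  rfl

/-- the certificate of a set of roots -/
inductive Crt where
  | cube (k i : ℕ) (M : List ℕ)
  | conj (i : ℕ) (s : ℤ) (mv : SV) (w j : ℕ)

/-- a ray -/
structure Ray where
  key : ℤ
  rts : List ℕ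
  crt : List (List ℕ × Crt)

/-- a class -/
structure Cls where
  j : ℕ
  y : V8
  nu : V8
  off : List ℕ
  kil : List ℕ
  rays : List Ray

/-- proportional outside the simple roots of the class -/
noncomputable def prp (off : List ℕ) (p q : ℤ) (a b : ℕ) : Bool :=
  off.all fun i => intZ (Int.sub (Int.mul p (wc a i)) (Int.mul q (wc b i)))

/-- the roots outside the slice -/
noncomputable def chkK (D : Cls) (RC a n : ℕ) : Bool :=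
  bif Nat.beq n 0 then RC.testBit a || (prp D.off 1 0 a a && decide (dv D.y a ≤ 2))
  else allK (fun g => prp D.off 1 1 g a && intZ (dv D.y g + 2 - dv D.y a)) (dec n) &&
    allK RC.testBit (nz (insM a (-1) (br0 (eL D.j) (dec n))))

/-- the end of a conjugation -/
noncomputable def chkE (l : SV) (w j : ℕ) : Bool :=
  (l.all fun p => Nat.blt p.1 240 && !(Nat.beq (m3 (cf l p.1)) 0) && (AJ j).contains (apw 130 w p.1)) &&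
    (AJ j).all fun a => l.any fun p => Nat.beq (apw 130 w p.1) a

/-- a set of roots on a ray -/
noncomputable def chkS (D : Cls) : List ℕ → Crt → Bool
  | S, .cube k i M => chkQ (AJ D.j ++ S) k i M
  | [b], .conj i s mv w j => D.off.contains i && !(intZ (wc b i)) && !(Nat.beq (m3 s) 0) &&
      allK (fun g => prp D.off (2 - dv D.y b) (-dv D.y g) g b) mv &&
      chkE (wS mv ((AJ D.j ++ [b]).map fun a => (a, bif Nat.beq a b then s else 1))) w j &&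
      (Nat.blt D.j j && Nat.blt j 12 || Nat.beq j D.j && Nat.ble w 1)
  | _, _ => false

/-- the sublists -/
def subs : List ℕ → List (List ℕ)
  | [] => [[]]
  | a :: l => subs l ++ (subs l).map (a :: ·)

theorem filter_mem_subs (p : ℕ → Bool) : ∀ l : List ℕ, l.filter p ∈ subs l
  | [] => List.mem_singleton_self _
  | a :: l => by
    rw [subs, List.filter_cons]
    split_ifs
    · exact List.mem_append_right _ (List.mem_map.2 ⟨_, filter_mem_subs p l, rfl⟩)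
    · exact List.mem_append_left _ (filter_mem_subs p l)

/-- a ray -/
noncomputable def chkR (D : Cls) (ρ : Ray) : Bool :=
  (ρ.rts.all fun b => Nat.blt b 240 && decide (dv D.y b < 2) && intZ (dv D.nu b * 420 - ρ.key * (2 - dv D.y b))) &&
    (subs ρ.rts).all fun S => S.isEmpty || (decide (AJ D.j ++ S).Nodup && ρ.crt.any fun c => c.1 == S && chkS D S c.2)

/-- increasing keys -/
def inc : ℤ → List Ray → Bool
  | _, [] => true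
  | m, ρ :: l => decide (m < ρ.key) && inc ρ.key l

theorem inc_spec : ∀ (m : ℤ) (l : List Ray), inc m l = true →
    (∀ ρ ∈ l, m < ρ.key) ∧ ∀ ρ ∈ l, ∀ ρ' ∈ l, ρ.key = ρ'.key → ρ = ρ'
  | _, [], _ => ⟨fun _ h => absurd h List.not_mem_nil, fun _ h => absurd h List.not_mem_nil⟩
  | m, a :: l, h => by
    rw [inc, Bool.and_eq_true, decide_eq_true_eq] at h
    obtain ⟨h1, h2⟩ := inc_spec _ l h.2
    refine ⟨fun ρ hρ => ?_, fun ρ hρ ρ' hρ' e => ?_⟩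
    · rcases List.mem_cons.1 hρ with rfl | hρ
      · exact h.1
      · exact h.1.trans (h1 ρ hρ)
    · rcases List.mem_cons.1 hρ with h3 | h3 <;> rcases List.mem_cons.1 hρ' with h4 | h4
      · rw [h3, h4]
      · exact absurd (h3 ▸ e) (h1 _ h4).ne
      · exact absurd (h4 ▸ e) (h1 _ h3).ne'
      · exact h2 _ h3 _ h4 e

/-- the set of the entries -/
def msk : List ℕ → ℕ
  | [] => 0
  | b :: l => Nat.lor (Nat.pow 2 b) (msk l)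

theorem msk_spec {a : ℕ} : ∀ {l : List ℕ}, (msk l).testBit a = true → a ∈ l
  | [], h => absurd h (by rw [msk, Nat.zero_testBit]; decide)
  | b :: l, h => by
    have h' : (2 ^ b ||| msk l).testBit a = true := h
    rw [Nat.testBit_or, Bool.or_eq_true, Nat.testBit_two_pow, decide_eq_true_eq] at h'
    rcases h' with rfl | h'
    · exact List.mem_cons_self
    · exact List.mem_cons_of_mem _ (msk_spec h')

/-- the test -/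
noncomputable def chkC (D : Cls) : Bool :=
  decide (D.j < 12 ∧ LB D.j = D.y.q ∧ (∀ i : Fin 8, i ∈ SJ D.j ∨ i.val ∈ D.off ∧ Two.bw (Pi.single i 1) D.y.q = 0) ∧
    (∀ i ∈ SJ D.j, D.nu.q i = 0 ∧ i.val ∉ D.off) ∧ ∀ i ∈ D.off, i < 8) && inc (-1000000000000000) D.rays &&
  (frc (msk (D.rays.flatMap Ray.rts)) fun RC => (List.range 240).all fun a => chkK D RC a (D.kil.getD a 0)) &&
  D.rays.all (chkR D)

/-! ### soundness -/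

variable {K : Type u} [Field K]

/-- half of the cocharacter -/
noncomputable def hf (j : ℕ) : Q8 →+ ℝ := (1 / 2 : ℝ) • cl (LB j)

/-- the states -/
def St (j : ℕ) (k : Q8 →+ ℝ) (x : L8 K) : Prop := ∃ z, Lk k z x ∧ Su (AJ j) z

/-- the aim -/
def Gl (k : Q8 →+ ℝ) (x : L8 K) : Prop := ∃ (c : Fin 11) (g : G8 K), act g x = ec K c ∧ nrm (hf (c + 1)) ≤ nrm k

open Classical in
/-- the measure -/
noncomputable def ms (j : ℕ) (k : Q8 →+ ℝ) : ℕ := (Finset.univ.filter fun x : chevE8.Idx => hf j (wt x) < 1 ∧ 1 < k (wt x)).card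

theorem sk_lt' : ∀ i : Fin 8, sk i < 240 := by decide

theorem hf_sr {j : ℕ} (hj : j < 12) {i : Fin 8} (hi : i ∈ SJ j) : hf j (sr i) = 1 := by
  rw [hf, AddMonoidHom.smul_apply, cl_apply, Two.ex_sr, (AJ_eq j hj).2.2.2 i hi]
  norm_num

theorem St.norm {j : ℕ} (hj : j < 12) {k : Q8 →+ ℝ} {x : L8 K} (h : St j k x) :
    (∀ i ∈ SJ j, k (sr i) = 1) ∧ ∃ t : G8 K, Lk k (sv K (eL j)) (act t x) := by
  classical
  obtain ⟨z, h1, h2⟩ := h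
  obtain ⟨e1, e2, e3, -⟩ := AJ_eq j hj
  have h3 : ∀ i ∈ SJ j, z (ik (sk i)) ≠ 0 := fun i hi => (h2 _).2 (by
    rw [ky_ik (sk_lt' i), e1]
    exact List.mem_map_of_mem hi)
  refine ⟨fun i hi => ?_, ?_⟩
  · have := mem_Eq.1 (h1.1 _ (h3 i hi))
    rwa [wt_ik (sk_lt' i), wk_sk] at this
  obtain ⟨t, h4, h5, h6⟩ := scale h1 h2 (c := fun i => if i ∈ SJ j then (z (ik (sk i)))⁻¹ else 1) fun i => by
    split_ifs with hi
    · exact inv_ne_zero (h3 i hi)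
    · exact one_ne_zero
  refine ⟨t, ?_⟩
  rwa [h5.eq e3 e2, xs_sv (n := fun _ => 1) fun a ha => by
    rw [e1] at ha
    obtain ⟨i, hi, rfl⟩ := List.mem_map.1 ha
    rw [h6, wt_ik (sk_lt' i), wk_sk, prod_sr, if_pos hi, inv_mul_cancel₀ (h3 i hi), Int.cast_one]] at h4

theorem prp_spec {D : Cls} (h : ∀ i : Fin 8, i ∈ SJ D.j ∨ i.val ∈ D.off ∧ Two.bw (Pi.single i 1) D.y.q = 0)
    {ψ : Q8 →+ ℝ} (hψ : ∀ i ∈ SJ D.j, ψ (sr i) = 0) {p q : ℤ} {a b : ℕ} (hp : prp D.off p q a b = true) :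
    (p : ℝ) * ψ (wk a) = q * ψ (wk b) :=
  lin_prop fun i => (h i).imp (hψ i) fun hi => sub_eq_zero.1 (eq_zero_of_intZ _ (List.all_eq_true.1 hp i hi.1))

variable (K) in
/-- the slice -/
def Sl (RC : ℕ) : Submodule K (L8 K) where
  carrier := {v | ∀ i, v i ≠ 0 → RC.testBit (ky i) = true}
  zero_mem' := fun _ h => absurd rfl h
  add_mem' := fun {v w} hv hw i h => by
    by_cases e : v i = 0
    · exact hw i (by rwa [Pi.add_apply, e, zero_add] at h)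
    · exact hv i e
  smul_mem' := fun c v hv i h => hv i (right_ne_zero_of_mul h)

theorem eb_Sl {RC a : ℕ} (h : RC.testBit a = true) : eb K a ∈ Sl K RC := fun i hi => by
  by_cases e : ky i = a
  · rwa [e]
  · exact absurd (if_neg e) hi

variable [CharP K 3]

theorem slice {D : Cls} (h0 : LB D.j = D.y.q)
    (h : ∀ i : Fin 8, i ∈ SJ D.j ∨ i.val ∈ D.off ∧ Two.bw (Pi.single i 1) D.y.q = 0) {RC : ℕ}
    (hK : ∀ a < 240, chkK D RC a (D.kil.getD a 0) = true) {k : Q8 →+ ℝ} (hk : ∀ i ∈ SJ D.j, (k - hf D.j) (sr i) = 0)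
    (he : sv K (eL D.j) ∈ LS K (Eq' k 1)) (j : ℝ) (hj : 1 < j) (v : L8 K) (hv : v ∈ LS K (Eq' k j)) :
    ∃ s ∈ Sl K RC ⊓ LS K (Eq' k j), ∃ w ∈ LS K (Eq' k (j - 1)), v = s + br (sv K (eL D.j)) w := by
  have hd : ∀ a, k (wk a) = (dv D.y a : ℝ) / 2 + (k - hf D.j) (wk a) := fun a => by
    rw [dv_eq, AddMonoidHom.sub_apply, hf, h0, AddMonoidHom.smul_apply, smul_eq_mul]
    ring
  refine supp_ind (P := fun v => ∃ s ∈ Sl K RC ⊓ LS K (Eq' k j), ∃ w ∈ LS K (Eq' k (j - 1)), v = s + br (sv K (eL D.j)) w)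
    ⟨0, zero_mem _, 0, zero_mem _, by rw [TwoH.br_zero_right, add_zero]⟩
    (fun v w ⟨s, hs, a, ha, e⟩ ⟨s', hs', a', ha', e'⟩ => ⟨s + s', add_mem hs hs', a + a', add_mem ha ha', by
      rw [e, e', br_add_right]; abel⟩) fun i hi => ?_
  have h1 := mem_Eq.1 (hv i hi)
  suffices H : ∃ s ∈ Sl K RC, ∃ w ∈ LS K (Eq' k (j - 1)), ee K i = s + br (sv K (eL D.j)) w by
    obtain ⟨s, hs, w, hw, e⟩ := H
    refine ⟨v i • s, Submodule.smul_mem _ _ ⟨hs, ?_⟩, v i • w, Submodule.smul_mem _ _ hw, by rw [e, br_smul_right, smul_add]⟩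
    rw [← sub_eq_iff_eq_add.2 e]
    exact sub_mem (ee_mem_LS h1) (br_LS (fun a ha b hb => mem_Eq.2 (by rw [map_add, mem_Eq.1 ha, mem_Eq.1 hb]; ring)) he hw)
  rcases i with i | r
  · rw [wt_inl, map_zero] at h1
    linarith only [hj, h1]
  have h2 := hK r r.2
  rw [← wk_ky, ky_inr] at h1
  rw [← eb_ky, ky_inr]
  generalize D.kil.getD r 0 = n at h2
  rw [chkK] at h2
  cases e : Nat.beq n 0 <;> rw [e] at h2
  · rw [cond_false, Bool.and_eq_true] at h2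
    refine ⟨-sv K (nz (insM r (-1) (br0 (eL D.j) (dec n)))), neg_mem (sv_mem_of fun q hq => eb_Sl (allK_spec h2.2 q hq)),
      sv K (dec n), sv_mem (fun g hg => ?_) h2.1, ?_⟩
    · rw [Bool.and_eq_true] at hg
      have h3 := prp_spec h hk hg.1
      have h4 := congrArg (fun x : ℤ => (x : ℝ)) (eq_zero_of_intZ _ hg.2)
      simp only [Int.cast_sub, Int.cast_add, Int.cast_ofNat, Int.cast_zero, Int.cast_one] at h3 h4
      rw [mem_Eq, hd g, ← h1, hd r]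
      linarith
    · rw [sv_nz, sv_insM, sv_br0, Int.cast_neg, Int.cast_one, neg_one_smul]
      abel
  · rw [cond_true, Bool.or_eq_true, Bool.and_eq_true, decide_eq_true_eq] at h2
    rcases h2 with h2 | h2
    · exact ⟨_, eb_Sl h2, 0, zero_mem _, by rw [TwoH.br_zero_right, add_zero]⟩
    · have h3 := prp_spec h hk h2.1
      have h4 : (dv D.y r : ℝ) ≤ 2 := by exact_mod_cast h2.2
      rw [hd] at h1
      simp only [Int.cast_zero, Int.cast_one] at h3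
      linarith only [hj, h1, h4, h3]

theorem chkE_sound {l : SV} {w j : ℕ} (h : chkE l w j = true) {k : Q8 →+ ℝ} {x : L8 K} (hx : Lk k (sv K l) x) :
    ∃ (g : G8 K) (k' : Q8 →+ ℝ), St j k' (act g x) ∧ nrm k' = nrm k ∧ (w ≤ 1 → k' = k) := by
  simp only [chkE, Bool.and_eq_true, List.all_eq_true, List.any_eq_true, Bool.not_eq_true', List.contains_iff_mem,
    Nat.blt_eq, Nat.beq_eq] at h
  obtain ⟨ω, h1, h2⟩ := apw_spec 130 w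
  obtain ⟨n, hn⟩ := exists_rp cs8 (nsysK K) ω
  refine ⟨n, cw k ω⁻¹, ⟨_, hx.rep hn, (su_sv fun p hp => (h.1 p hp).1.2).rep (fun a ha => ?_) hn h2 (fun a ha => ?_)
    fun a ha => ?_⟩, nrm_cw _ _, fun hw => by rw [h1 hw, inv_one, cw_one]⟩
  · obtain ⟨p, hp, rfl⟩ := List.mem_map.1 ha
    exact (h.1 p hp).1.1
  · obtain ⟨p, hp, rfl⟩ := List.mem_map.1 ha
    exact (h.1 p hp).2
  · obtain ⟨p, hp, e⟩ := h.2 a ha
    exact ⟨p.1, List.mem_map_of_mem hp, e⟩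

omit [CharP K 3] in
theorem exists_zpow [IsAlgClosed K] {n : ℤ} (hn : n ≠ 0) {u : K} (hu : u ≠ 0) : ∃ c : K, c ≠ 0 ∧ c ^ n = u := by
  obtain ⟨c, hc⟩ := IsAlgClosed.exists_pow_nat_eq u (Int.natAbs_pos.2 hn)
  have h0 : c ≠ 0 := fun e => hu (by rw [← hc, e, zero_pow (Int.natAbs_pos.2 hn).ne'])
  rcases Int.natAbs_eq n with e | e
  · exact ⟨c, h0, by rw [e, zpow_natCast, hc]⟩
  · exact ⟨c⁻¹, inv_ne_zero h0, by rw [e, inv_zpow', neg_neg, zpow_natCast, hc]⟩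

theorem chkS_sound [IsAlgClosed K] {D : Cls} (hj : D.j < 12) (h0 : LB D.j = D.y.q)
    (h : ∀ i : Fin 8, i ∈ SJ D.j ∨ i.val ∈ D.off ∧ Two.bw (Pi.single i 1) D.y.q = 0)
    (h' : ∀ i ∈ SJ D.j, D.nu.q i = 0 ∧ i.val ∉ D.off) (h8 : ∀ i ∈ D.off, i < 8) {S : List ℕ}
    (hS : ∀ b ∈ S, b < 240 ∧ dv D.y b < 2) (hn : (AJ D.j ++ S).Nodup) {c : Crt} (hc : chkS D S c = true)
    {k : Q8 →+ ℝ} (hk : ∀ i ∈ SJ D.j, (k - hf D.j) (sr i) = 0) {z x : L8 K} (hx : Cz x) (hL : Lk k z x)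
    (hz : Su (AJ D.j ++ S) z) (h1 : ∀ a ∈ AJ D.j, z (ik a) = 1) : ∃ (g : G8 K) (k' : Q8 →+ ℝ) (j : ℕ),
      St j k' (act g x) ∧ nrm k' = nrm k ∧ (D.j < j ∧ j < 12 ∨ j = D.j ∧ k' = k) := by
  classical
  obtain ⟨e1, -, e3, -⟩ := AJ_eq D.j hj
  have hA : ∀ a ∈ AJ D.j ++ S, a < 240 := fun a ha => (List.mem_append.1 ha).elim (e3 a) fun h => (hS a h).1
  rcases c with ⟨q, i, M⟩ | ⟨i, s, mv, w, j⟩
  · exact absurd (hz.eq hA hn ▸ hL.cz hx) (chkQ_sound (by cases S <;> exact hc)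
      fun a ha => (hz _).2 (by rwa [ky_ik (hA a ha)]))
  match S, hS, hn, hc, hz, hA with
  | [], _, _, hc, _, _ => exact absurd hc Bool.false_ne_true
  | _ :: _ :: _, _, _, hc, _, _ => exact absurd hc Bool.false_ne_true
  | [b], hS, hn, hc, hz, hA =>
    simp only [chkS, Bool.and_eq_true, Bool.or_eq_true, Bool.not_eq_true', List.contains_iff_mem, Nat.blt_eq, Nat.beq_eq,
      Nat.ble_eq] at hc
    obtain ⟨⟨⟨⟨⟨c1, c2⟩, c3⟩, c4⟩, c5⟩, c6⟩ := hc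
    obtain ⟨b1, b2⟩ := hS b List.mem_cons_self
    have hb : z (ik b) ≠ 0 := (hz _).2 (by rw [ky_ik b1]; exact List.mem_append_right _ List.mem_cons_self)
    have hd : ∀ a, k (wk a) = (dv D.y a : ℝ) / 2 + (k - hf D.j) (wk a) := fun a => by
      rw [dv_eq, AddMonoidHom.sub_apply, hf, h0, AddMonoidHom.smul_apply, smul_eq_mul]
      ring
    obtain ⟨u, hu, hu'⟩ := exists_zpow (n := wk b ⟨i, h8 i c1⟩) (fun e => by
      rw [show wc b i = 0 from e] at c2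
      exact absurd c2 (by decide)) (mul_ne_zero (cast_ne (K := K) c3) (inv_ne_zero hb))
    obtain ⟨t, t1, t2, t3⟩ := scale hL hz (c := fun l => if l = ⟨i, h8 i c1⟩ then u else 1) fun l => by
      split_ifs
      · exact hu
      · exact one_ne_zero
    rw [t2.eq hA hn, xs_sv (n := fun a => bif Nat.beq a b then s else 1) fun a ha => by
      rcases List.mem_append.1 ha with ha | ha
      · have e : Nat.beq a b = false := by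
          rw [← Bool.not_eq_true, Nat.beq_eq]
          exact fun e => (List.nodup_append.1 hn).2.2 a ha b List.mem_cons_self e
        have e' := h1 a ha
        rw [e1] at ha
        obtain ⟨l, hl, rfl⟩ := List.mem_map.1 ha
        rw [t3, wt_ik (sk_lt' l), wk_sk, prod_sr, if_neg fun e => (h' l hl).2 (by rw [e]; exact c1), e', e, cond_false,
          Int.cast_one, one_mul]
      · rw [List.mem_singleton.1 ha, t3, wt_ik b1, Finset.prod_eq_single ⟨i, h8 i c1⟩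
          (fun l _ hl => by rw [if_neg hl, one_zpow]) (fun h => absurd (Finset.mem_univ _) h), if_pos rfl, hu',
          Nat.beq_refl, cond_true, inv_mul_cancel_right₀ hb]] at t1
    have t4 := t1.word (w := mv) fun q hq => by
      have h3 := prp_spec h hk (allK_spec c4 q hq)
      have h4 := mem_Eq.1 (hL.1 _ hb)
      have h5 : (dv D.y b : ℝ) < 2 := by exact_mod_cast b2
      rw [wt_ik b1, hd] at h4
      simp only [Int.cast_sub, Int.cast_neg, Int.cast_ofNat] at h3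
      rw [hd]
      refine mul_left_cancel₀ (sub_pos.2 h5).ne' ?_
      rw [mul_add, h3, show (k - hf D.j) (wk b) = 1 - (dv D.y b : ℝ) / 2 by linarith only [h4]]
      ring
    rw [act_wG] at t4
    obtain ⟨g, k', g1, g2, g3⟩ := chkE_sound c5 t4
    exact ⟨g * (wG K mv * t), k', j, by rwa [act_mul, act_mul], g2, c6.imp id fun h => ⟨h.1, g3 h.2⟩⟩

theorem step [IsAlgClosed K] {D : Cls} (hD : chkC D = true) {k : Q8 →+ ℝ} {x : L8 K} (h0 : x ≠ 0) (hx : Cz x)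
    (hs : St D.j k x) : Gl k x ∨ ∃ (g : G8 K) (k' : Q8 →+ ℝ) (j : ℕ), St j k' (act g x) ∧ nrm k' ≤ nrm k ∧
      (D.j < j ∧ j < 12 ∨ j = D.j ∧ ms D.j k' < ms D.j k) := by
  classical
  rw [chkC, frc_eq] at hD
  simp only [Bool.and_eq_true, decide_eq_true_eq, List.all_eq_true, List.mem_range] at hD
  obtain ⟨⟨⟨⟨d1, d2, d3, d4, d5⟩, d6⟩, d7⟩, d8⟩ := hD
  obtain ⟨e1, e2, e3, -⟩ := AJ_eq D.j d1
  obtain ⟨k1, t, ht⟩ := hs.norm d1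
  have k2 : ∀ i ∈ SJ D.j, (k - hf D.j) (sr i) = 0 := fun i hi => by
    rw [AddMonoidHom.sub_apply, k1 i hi, hf_sr d1 hi, sub_self]
  have orth : ∀ ψ : Q8 →+ ℝ, (∀ i ∈ SJ D.j, ψ (sr i) = 0) → nrm (hf D.j + ψ) = nrm (hf D.j) + nrm ψ := fun ψ hψ =>
    nrm_add (by rw [hf, B2_comm, B2_smul, B2_comm, d2, B2_orth fun i => (d3 i).imp (hψ i) And.right, mul_zero])
  have k3 := orth _ k2
  rw [add_sub_cancel] at k3
  obtain ⟨a, ha, ha'⟩ := exists_Ge ht.2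
  obtain ⟨g, -, hg, hg'⟩ := kill ht.1 (slice d2 d3 d7 k2 ht.1) ha ha'
  obtain ⟨y, hy⟩ : ∃ y, y = act g (act t x) - sv K (eL D.j) := ⟨_, rfl⟩
  rw [← hy] at hg hg'
  by_cases y0 : y = 0
  · have y1 : act (g * t) x = sv K (eL D.j) := by rw [act_mul]; exact sub_eq_zero.1 (hy ▸ y0)
    obtain ⟨j, hj⟩ : ∃ j, D.j = j := ⟨_, rfl⟩
    rw [hj] at y1 k3 d1
    rcases j with _ | j
    · exact absurd (act_eq_zero (y1.trans sv_nil)) h0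
    · refine Or.inl ⟨⟨j, by omega⟩, g * t, ?_, by linarith only [k3, nrm_nn (k - hf (j + 1))]⟩
      rw [y1, ec_eq, ← (eL_eq ⟨j, by omega⟩).1]
  refine Or.inr ?_
  have hd : ∀ a, hf D.j (wk a) = (dv D.y a : ℝ) / 2 := fun a => by
    rw [dv_eq, hf, d2, AddMonoidHom.smul_apply, smul_eq_mul]
    ring
  have ray : ∀ i, y i ≠ 0 → ∃ ρ ∈ D.rays, ky i ∈ ρ.rts := fun i hi => List.mem_flatMap.1 (msk_spec (hg i hi))
  have rts : ∀ ρ ∈ D.rays, ∀ b ∈ ρ.rts, b < 240 ∧ dv D.y b < 2 ∧ dv D.nu b * 420 = ρ.key * (2 - dv D.y b) := by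
    intro ρ hρ b hb
    have := d8 ρ hρ
    simp only [chkR, Bool.and_eq_true, List.all_eq_true, decide_eq_true_eq, Nat.blt_eq] at this
    exact ⟨(this.1 b hb).1.1, (this.1 b hb).1.2, sub_eq_zero.1 (eq_zero_of_intZ _ (this.1 b hb).2)⟩
  have y1 : ∀ i, y i ≠ 0 → hf D.j (wt i) < 1 := fun i hi => by
    obtain ⟨ρ, hρ, hb⟩ := ray i hi
    have : (dv D.y (ky i) : ℝ) < 2 := by exact_mod_cast (rts ρ hρ _ hb).2.1
    rw [← wk_ky, hd]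
    linarith only [this]
  have mem : ∀ i, i ∈ Finset.univ.filter (fun i => y i ≠ 0) ↔ y i ≠ 0 := fun i => by simp only [_root_.ne_eq, _root_.Finset.mem_filter, _root_.Finset.mem_univ, _root_.true_and]
  obtain ⟨s, r, v1, v2, ⟨i₀, hi₀, v3⟩, v4, v5⟩ := vertex (φ := hf D.j) (ψ := k - hf D.j) (ν := cl D.nu.q)
    (Y := Finset.univ.filter fun i => y i ≠ 0)
    (by obtain ⟨i, hi⟩ := Function.ne_iff.1 y0; exact ⟨i, (mem i).2 hi⟩) (fun i hi => y1 i ((mem i).1 hi))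
    fun i hi => by rw [AddMonoidHom.sub_apply, add_sub_cancel]; exact ha.trans_le (hg' i ((mem i).1 hi))
  obtain ⟨ψ, hψ⟩ : ∃ ψ, ψ = s • (k - hf D.j) + r • cl D.nu.q := ⟨_, rfl⟩
  rw [← hψ] at v1 v2 v3 v4 v5
  have p1 : ∀ i ∈ SJ D.j, ψ (sr i) = 0 := fun i hi => by
    rw [hψ, AddMonoidHom.add_apply, AddMonoidHom.smul_apply, AddMonoidHom.smul_apply, k2 i hi, cl_apply, Two.ex_sr,
      (d4 i hi).1, Int.cast_zero, smul_zero, smul_zero, add_zero]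
  rw [mem] at hi₀
  obtain ⟨ρ, hρ, hb⟩ := ray i₀ hi₀
  have same : ∀ i, y i ≠ 0 → (hf D.j + ψ) (wt i) = 1 → ky i ∈ ρ.rts := fun i hi e => by
    obtain ⟨ρ', hρ', hb'⟩ := ray i hi
    have q1 := v4 i ((mem i).2 hi) i₀ ((mem i₀).2 hi₀) e v3
    obtain ⟨-, q2, q3⟩ := rts ρ hρ _ hb
    obtain ⟨-, q4, q5⟩ := rts ρ' hρ' _ hb'
    rw [← wk_ky, ← wk_ky i₀, hd, hd, ← dv_eq, ← dv_eq] at q1
    have q6 : dv D.nu (ky i) * (2 - dv D.y (ky i₀)) = dv D.nu (ky i₀) * (2 - dv D.y (ky i)) := by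
      have : (dv D.nu (ky i) : ℝ) * (2 - dv D.y (ky i₀)) = dv D.nu (ky i₀) * (2 - dv D.y (ky i)) := by linarith only [q1]
      exact_mod_cast this
    rwa [(inc_spec _ _ d6).2 ρ hρ ρ' hρ' (mul_right_cancel₀ (mul_pos (sub_pos.2 q2) (sub_pos.2 q4)).ne' (by
      linear_combination -(2 - dv D.y (ky i)) * q3 + (2 - dv D.y (ky i₀)) * q5 - 420 * q6))]
  obtain ⟨S, hS⟩ : ∃ S, S = ρ.rts.filter fun b => decide (y (ik b) ≠ 0 ∧ (hf D.j + ψ) (wk b) = 1) := ⟨_, rfl⟩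
  have mS : ∀ b, b ∈ S ↔ b ∈ ρ.rts ∧ y (ik b) ≠ 0 ∧ (hf D.j + ψ) (wk b) = 1 := fun b => by
    rw [hS, List.mem_filter, decide_eq_true_eq]
  have r1 := d8 ρ hρ
  simp only [chkR, Bool.and_eq_true, List.all_eq_true, Bool.or_eq_true, decide_eq_true_eq, List.any_eq_true,
    List.isEmpty_iff] at r1
  obtain ⟨r2, c, -, -, r3⟩ := (r1.2 S (hS ▸ filter_mem_subs _ _)).resolve_left (List.ne_nil_of_mem ((mS (ky i₀)).2
    ⟨hb, by rwa [ik_ky (rts ρ hρ _ hb).1], by rw [wk_ky]; exact v3⟩))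
  have ev : ∀ i, sv K (eL D.j) i = if ky i ∈ AJ D.j then 1 else 0 := fun i => by
    rw [eL, ← xs_sv (c := fun _ => (1 : K)) (n := fun _ => 1) fun _ _ => Int.cast_one.symm, xs_apply _ _ e2]
  have yA : ∀ i, ky i ∈ AJ D.j → y i = 0 ∧ (hf D.j + ψ) (wt i) = 1 := fun i hi => by
    rw [e1] at hi
    obtain ⟨l, hl, e⟩ := List.mem_map.1 hi
    have e' : wt i = sr l := by rw [← wk_ky, ← e, wk_sk]
    refine ⟨not_not.1 fun h => ?_, by rw [e', AddMonoidHom.add_apply, hf_sr d1 hl, p1 l hl, add_zero]⟩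
    have := y1 i h
    rw [e', hf_sr d1 hl] at this
    exact lt_irrefl _ this
  have yG : y ∈ LS K (Ge (hf D.j + ψ) 1) := fun i hi => v2 i ((mem i).2 hi)
  have py : ∀ i, y i = 0 → pr (hf D.j + ψ) 1 y i = 0 := fun i hi => by
    by_cases e : (hf D.j + ψ) (wt i) = 1
    · rw [pr_pos _ e, hi]
    · exact pr_neg _ e
  obtain ⟨g', k', j, s1, s2, s3⟩ := chkS_sound d1 d2 d3 d4 d5 (fun b hb => ⟨(rts ρ hρ b ((mS b).1 hb).1).1,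
      (rts ρ hρ b ((mS b).1 hb).1).2.1⟩) r2 r3 (k := hf D.j + ψ) (fun i hi => by rw [add_sub_cancel_left, p1 i hi])
    (z := sv K (eL D.j) + pr (hf D.j + ψ) 1 y) ((hx.act t).act g)
    ⟨add_mem (fun i hi => (yA i (by rw [ev] at hi; exact of_not_not fun h => hi (if_neg h))).2) (pr_mem _ _ _), by
      rw [← sub_sub, ← hy]; exact sub_pr_Gt yG⟩
    (fun i => by
      rw [Pi.add_apply, ev, List.mem_append]
      by_cases hi : ky i ∈ AJ D.j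
      · rw [if_pos hi, py i (yA i hi).1, add_zero]
        exact ⟨fun _ => Or.inl hi, fun _ => one_ne_zero⟩
      rw [if_neg hi, zero_add, mS]
      refine ⟨fun h => ?_, fun h => ?_⟩
      · have q1 : y i ≠ 0 := fun e => h (py i e)
        have q2 : (hf D.j + ψ) (wt i) = 1 := of_not_not fun e => h (pr_neg _ e)
        have q3 := same i q1 q2
        exact Or.inr ⟨q3, by rwa [ik_ky (rts ρ hρ _ q3).1], by rwa [wk_ky]⟩
      · obtain ⟨q1, q2, q3⟩ := h.resolve_left hi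
        rw [ik_ky (rts ρ hρ _ q1).1] at q2
        rwa [pr_pos _ (by rwa [wk_ky] at q3)])
    fun a ha => by
      have q1 : ky (ik a) ∈ AJ D.j := by rwa [ky_ik (e3 a ha)]
      rw [Pi.add_apply, ev, if_pos q1, py _ (yA _ q1).1, add_zero]
  refine ⟨g' * (g * t), k', j, by rwa [act_mul, act_mul], by rw [s2, orth ψ p1, k3]; linarith, s3.imp id fun h => ⟨h.1, ?_⟩⟩
  rw [h.2]
  refine Finset.card_lt_card ⟨fun i hi => ?_, fun h => ?_⟩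
  · rw [Finset.mem_filter] at hi ⊢
    have := v5 i hi.2.1 hi.2.2
    rw [AddMonoidHom.sub_apply, add_sub_cancel] at this
    exact ⟨hi.1, hi.2.1, this⟩
  · have := (Finset.mem_filter.1 (h (Finset.mem_filter.2 ⟨Finset.mem_univ i₀, y1 i₀ hi₀, ha.trans_le (hg' i₀ hi₀)⟩))).2.2
    rw [AddMonoidHom.add_apply, v3] at this
    exact lt_irrefl _ this

end Cfsg.Agent.E8A.C63.Nil
end

-- part: E8A/C63/NilD
section
/-!
# `A₆` in characteristic 3, box NIL3: the data (helper41)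

Generated by `notes/E8A/c63/nil_gen.py`.
-/

set_option autoImplicit false
set_option maxRecDepth 100000

namespace Cfsg.Agent.E8A.C63.Nil

/-- the class 0 -/
def D0 : Cls where
  j := 0
  y := ⟨0, 0, 0, 0, 0, 0, 0, 0⟩
  nu := ⟨1, 13, 169, 2197, 28561, 371293, 4826809, 62748517⟩
  off := [0, 1, 2, 3, 4, 5, 6, 7]
  kil := (beta% delta% lq26c06afe50 fun a b c _ _ _ =>
 (let d:=(let d:=(let d:=(let d:=(let d:=(let d:=(c 0<|c 0<|c 0<|c 0<|b);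
 (c 0<|c 0<|c 0<|c 0<|d));
 (c 0<|c 0<|c 0<|c 0<|c 0<|c 0<|c 0<|d));
 (let d:=(let d:=(c 0<|c 0<|c 0<|c 0<|d);
 (c 0<|c 0<|c 0<|c 0<|d));
 (c 0<|c 0<|c 0<|c 0<|c 0<|c 0<|c 0<|d)));
 (let d:=(let d:=(let d:=(c 0<|c 0<|c 0<|c 0<|d);
 (c 0<|c 0<|c 0<|c 0<|d));
 (c 0<|c 0<|c 0<|c 0<|c 0<|c 0<|c 0<|d));
 (let d:=(let d:=(c 0<|
 c 0<|c 0<|c 0<|d);
 (c 0<|c 0<|c 0<|c 0<|d));
 (c 0<|c 0<|c 0<|c 0<|c 0<|c 0<|c 0<|d))));
 (let d:=(let d:=(let d:=(let d:=(c 0<|c 0<|c 0<|c 0<|d);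
 (c 0<|c 0<|c 0<|c 0<|d));
 (c 0<|c 0<|c 0<|c 0<|c 0<|c 0<|c 0<|d));
 (let d:=(let d:=(c 0<|c 0<|c 0<|c 0<|d);
 (c 0<|c 0<|c 0<|c 0<|d));
 (c 0<|c 0<|c 0<|c 0<|c 0<|c 0<|c 0<|d)));
 (let d:=(let d:=(let d:=(c 0<|c 0<|c 0<|c 0<|d);
 (c 0<|c 0<|
 c 0<|c 0<|d));
 (c 0<|c 0<|c 0<|c 0<|c 0<|c 0<|c 0<|d));
 (let d:=(let d:=(c 0<|c 0<|c 0<|c 0<|d);
 (c 0<|c 0<|c 0<|c 0<|d));
 (c 0<|c 0<|c 0<|c 0<|c 0<|c 0<|c 0<|d)))));
 (let d:=(let d:=(let d:=(let d:=(let d:=(c 0<|c 0<|c 0<|c 0<|d);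
 (c 0<|c 0<|c 0<|c 0<|d));
 (c 0<|c 0<|c 0<|c 0<|c 0<|c 0<|c 0<|d));
 (let d:=(let d:=(c 0<|c 0<|c 0<|c 0<|d);
 (c 0<|c 0<|c 0<|c 0<|d));
 (c 0<|c 0<|c 0<|c 0<|c 0<|c 0<|
 c 0<|d)));
 (let d:=(let d:=(let d:=(c 0<|c 0<|c 0<|c 0<|d);
 (c 0<|c 0<|c 0<|c 0<|d));
 (c 0<|c 0<|c 0<|c 0<|c 0<|c 0<|c 0<|d));
 (let d:=(let d:=(c 0<|c 0<|c 0<|c 0<|d);
 (c 0<|c 0<|c 0<|c 0<|d));
 (c 0<|c 0<|c 0<|c 0<|c 0<|c 0<|c 0<|d))));
 (let d:=(let d:=(let d:=(let d:=(c 0<|c 0<|c 0<|c 0<|d);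
 (c 0<|c 0<|c 0<|c 0<|d));
 (c 0<|c 0<|c 0<|
 c 0<|c 0<|c 0<|c 0<|d));
 (let d:=(let d:=(c 0<|c 0<|c 0<|c 0<|d);
 (c 0<|c 0<|c 0<|c 0<|d));
 (c 0<|c 0<|c 0<|c 0<|c 0<|c 0<|c 0<|d)));
 (let d:=(let d:=(let d:=(c 0<|c 0<|c 0<|c 0<|d);
 (c 0<|c 0<|c 0<|c 0<|d));
 (c 0<|c 0<|c 0<|c 0<|c 0<|c 0<|c 0<|d));
 (let d:=(let d:=(c 0<|c 0<|c 0<|c 0<|d);
 (c 0<|c 0<|c 0<|c 0<|d));
 (a 0<|a 0<|a 0<|a 0<|a 0<|a 0<|a 0<|d)))))))
  rays := (beta% (fun (vq0 : List Cfsg.Agent.E8A.C63.Nil.Ray) => (beta% delta% lq26c06afe50 fun a b _ e _ _ =>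
 (let d:type_of% vq0:=(let d:type_of% vq0:=(let d:type_of% vq0:=(let d:type_of% vq0:=(let d:type_of% vq0:=(let d:type_of% vq0:=(a ⟨15471270780, (a 236<|b), (a (e (a 236<|b) (.conj 0 1 b 69389942461677259293788 1))<|b)⟩<|
 a ⟨15549242310, (a 237<|b), (a (e (a 237<|b) (.conj 0 1 b 555119539693418074350309 1))<|b)⟩<|
 a ⟨16562872200, (a 238<|b), (a (e (a 238<|b) (.conj 0 1 b 4440956317547344594802478 1))<|b)⟩<|
 a ⟨29740060770, (a 239<|b), (a (e (a 239<|b) (.conj 0 1 b 35527650540378756758419831 1))<|b)⟩<|b);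
 (a ⟨15464776110, (a 233<|b), (a (e (a 233<|b) (.conj 0 1 b 135527231370463397064 1))<|b)⟩<|
 a ⟨15464808870, (a 232<|b), (a (e (a 232<|b) (.conj 0 1 b 135527231370463397058 1))<|b)⟩<|a ⟨15464811600, (a 234<|b), (a (e (a 234<|b) (.conj 0 1 b 1084217850963707176465 1))<|b)⟩<|
 a ⟨15465272970, (a 235<|b), (a (e (a 235<|b) (.conj 0 1 b 8673742807709657411723 1))<|b)⟩<|d));
 (a ⟨15458314200, (a 229<|b), (a (e (a 229<|b) (.conj 0 1 b 264701623770436304 1))<|b)⟩<|a ⟨15464276310, (a 218<|b), (a (e (a 218<|b) (.conj 0 1 b 33087702971304540 1))<|b)⟩<|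
 a ⟨15464311800, (a 223<|b), (a (e (a 223<|b) (.conj 0 1 b 264701623770436322 1))<|b)⟩<|a ⟨15464312010, (a 230<|b), (a (e (a 230<|b) (.conj 0 1 b 2117612990163490576 1))<|b)⟩<|
 a ⟨15464773170, (a 224<|b), (a (e (a 224<|b) (.conj 0 1 b 2117612990163490579 1))<|b)⟩<|a ⟨15464773380, (a 231<|b), (a (e (a 231<|b) (.conj 0 1 b 16940903921307924632 1))<|b)⟩<|
 a ⟨15464775900, (a 225<|b), (a (e (a 225<|b) (.conj 0 1 b 16940903921307924633 1))<|b)⟩<|d));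
 (let d:type_of% d:=(let d:type_of% d:=(a ⟨15457814400, (a 203<|b), (a (e (a 203<|b) (.conj 0 1 b 64624419865829 1))<|b)⟩<|a ⟨15457817130, (a 213<|b), (a (e (a 213<|b) (.conj 0 1 b 516995358926633 1))<|b)⟩<|
 a ⟨15458278500, (a 217<|b), (a (e (a 217<|b) (.conj 0 1 b 4135962871413067 1))<|b)⟩<|a ⟨15458313990, (a 222<|b), (a (e (a 222<|b) (.conj 0 1 b 33087702971304538 1))<|b)⟩<|
 d);
 (a ⟨15379845600, (a 212<|b), (a (e (a 212<|b) (.conj 0 1 b 64624419865825 1))<|b)⟩<|a ⟨15380306970, (a 216<|b), (a (e (a 216<|b) (.conj 0 1 b 516995358926603 1))<|b)⟩<|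
 a ⟨15380342460, (a 221<|b), (a (e (a 221<|b) (.conj 0 1 b 4135962871412826 1))<|b)⟩<|a ⟨15380342670, (a 228<|b), (a (e (a 228<|b) (.conj 0 1 b 33087702971302608 1))<|b)⟩<|
 d));
 (a ⟨14366712780, (a 227<|b), (a (e (a 227<|b) (.conj 0 1 b 4135962859389648 1))<|b)⟩<|
 a ⟨15373347990, (a 161<|b), (a (e (a 161<|b) (.conj 1 1 b 1972180782 1))<|b)⟩<|a ⟨15373348200, (a 183<|b), (a (e (a 183<|b) (.conj 0 1 b 15777446256 1))<|b)⟩<|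
 a ⟨15373383690, (a 193<|b), (a (e (a 193<|b) (.conj 0 1 b 126219570050 1))<|b)⟩<|a ⟨15373845060, (a 199<|b), (a (e (a 199<|b) (.conj 0 1 b 1009756560403 1))<|b)⟩<|
 a ⟨15373847790, (a 209<|b), (a (e (a 209<|b) (.conj 0 1 b 8078052483225 1))<|b)⟩<|a ⟨15379842870, (a 202<|b), (a (e (a 202<|b) (.conj 0 1 b 8078052483228 1))<|b)⟩<|
 d)));
 (let d:type_of% d:=(let d:type_of% d:=(let d:type_of% d:=(a ⟨14366212980, (a 201<|b), (a (e (a 201<|b) (.conj 0 1 b 1009756557468 1))<|b)⟩<|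
 a ⟨14366215710, (a 211<|b), (a (e (a 211<|b) (.conj 0 1 b 8078052459745 1))<|b)⟩<|a ⟨14366677080, (a 215<|b), (a (e (a 215<|b) (.conj 0 1 b 64624419677963 1))<|b)⟩<|
 a ⟨14366712570, (a 220<|b), (a (e (a 220<|b) (.conj 0 1 b 516995357423706 1))<|b)⟩<|d);
 (a ⟨14359718310, (a 182<|b), (a (e (a 182<|b) (.conj 0 1 b 1972180776 1))<|b)⟩<|
 a ⟨14359753800, (a 192<|b), (a (e (a 192<|b) (.conj 0 1 b 15777446210 1))<|b)⟩<|a ⟨14360215170, (a 198<|b), (a (e (a 198<|b) (.conj 0 1 b 126219569683 1))<|b)⟩<|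
 a ⟨14360217900, (a 208<|b), (a (e (a 208<|b) (.conj 0 1 b 1009756557465 1))<|b)⟩<|d));
 (a ⟨14275784460, (a 187<|b), (a (e (a 187<|b) (.conj 0 1 b 246522562 1))<|b)⟩<|a ⟨14281746570, (a 158<|b), (a (e (a 158<|b) (.conj 1 1 b 30815324 1))<|b)⟩<|
 a ⟨14281746780, (a 180<|b), (a (e (a 180<|b) (.conj 0 1 b 246522592 1))<|b)⟩<|a ⟨14281782270, (a 190<|b), (a (e (a 190<|b) (.conj 0 1 b 1972180738 1))<|b)⟩<|
 a ⟨14282243640, (a 196<|b), (a (e (a 196<|b) (.conj 0 1 b 15777445907 1))<|b)⟩<|a ⟨14282246370, (a 206<|b), (a (e (a 206<|b) (.conj 0 1 b 126219567257 1))<|b)⟩<|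
 a ⟨14359718100, (a 160<|b), (a (e (a 160<|b) (.conj 1 1 b 246522597 1))<|b)⟩<|d));
 (let d:type_of% d:=(let d:type_of% d:=(a ⟨14275287390, (a 151<|b), (a (e (a 151<|b) (.conj 1 1 b 481489 1))<|b)⟩<|a ⟨14275287600, (a 173<|b), (a (e (a 173<|b) (.conj 0 1 b 3851912 1))<|b)⟩<|
 a ⟨14275748760, (a 155<|b), (a (e (a 155<|b) (.conj 1 1 b 3851915 1))<|b)⟩<|a ⟨14275748970, (a 177<|b), (a (e (a 177<|b) (.conj 0 1 b 30815320 1))<|b)⟩<|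
 d);
 (a ⟨14275249170, (a 134<|b), (a (e (a 134<|b) (.conj 3 1 b 7523 1))<|b)⟩<|a ⟨14275251900, (a 146<|b), (a (e (a 146<|b) (.conj 1 1 b 60185 1))<|b)⟩<|
 a ⟨14275284660, (a 140<|b), (a (e (a 140<|b) (.conj 2 1 b 60186 1))<|b)⟩<|a ⟨14275284870, (a 168<|b), (a (e (a 168<|b) (.conj 0 1 b 481488 1))<|b)⟩<|
 d));
 (a ⟨1189488510, (a 214<|b), (a (e (a 214<|b) (.conj 0 1 b 526419303343883 1))<|b)⟩<|
 a ⟨1189524000, (a 219<|b), (a (e (a 219<|b) (.conj 0 1 b 4211354426751066 1))<|b)⟩<|a ⟨1189524210, (a 226<|b), (a (e (a 226<|b) (.conj 0 1 b 33690835414008528 1))<|b)⟩<|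
 a ⟨13177188570, (a 120<|b), (a (e (a 120<|b) (.conj 7 1 b 1 1))<|b)⟩<|a ⟨14190818460, (a 122<|b), (a (e (a 122<|b) (.conj 6 1 b 14 1))<|b)⟩<|
 a ⟨14268789990, (a 125<|b), (a (e (a 125<|b) (.conj 5 1 b 117 1))<|b)⟩<|a ⟨14274787800, (a 129<|b), (a (e (a 129<|b) (.conj 4 1 b 940 1))<|b)⟩<|
 d))));
 (let d:type_of% d:=(let d:type_of% d:=(let d:type_of% d:=(let d:type_of% d:=(a ⟨1183026600, (a 197<|b), (a (e (a 197<|b) (.conj 0 1 b 1028162701843 1))<|b)⟩<|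
 a ⟨1183029330, (a 207<|b), (a (e (a 207<|b) (.conj 0 1 b 8225301614745 1))<|b)⟩<|a ⟨1189024410, (a 200<|b), (a (e (a 200<|b) (.conj 0 1 b 8225301614748 1))<|b)⟩<|
 a ⟨1189027140, (a 210<|b), (a (e (a 210<|b) (.conj 0 1 b 65802412917985 1))<|b)⟩<|d);
 (a ⟨1105057800, (a 205<|b), (a (e (a 205<|b) (.conj 0 1 b 1028162699417 1))<|b)⟩<|
 a ⟨1182529530, (a 159<|b), (a (e (a 159<|b) (.conj 1 1 b 2008130277 1))<|b)⟩<|a ⟨1182529740, (a 181<|b), (a (e (a 181<|b) (.conj 0 1 b 16065042216 1))<|b)⟩<|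
 a ⟨1182565230, (a 191<|b), (a (e (a 191<|b) (.conj 0 1 b 128520337730 1))<|b)⟩<|d));
 (a ⟨1098560190, (a 154<|b), (a (e (a 154<|b) (.conj 1 1 b 31377035 1))<|b)⟩<|a ⟨1098560400, (a 176<|b), (a (e (a 176<|b) (.conj 0 1 b 251016280 1))<|b)⟩<|
 a ⟨1098595890, (a 186<|b), (a (e (a 186<|b) (.conj 0 1 b 2008130242 1))<|b)⟩<|a ⟨1104558000, (a 157<|b), (a (e (a 157<|b) (.conj 1 1 b 251016284 1))<|b)⟩<|
 a ⟨1104558210, (a 179<|b), (a (e (a 179<|b) (.conj 0 1 b 2008130272 1))<|b)⟩<|a ⟨1104593700, (a 189<|b), (a (e (a 189<|b) (.conj 0 1 b 16065042178 1))<|b)⟩<|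
 a ⟨1105055070, (a 195<|b), (a (e (a 195<|b) (.conj 0 1 b 128520337427 1))<|b)⟩<|d));
 (let d:type_of% d:=(let d:type_of% d:=(a ⟨1098096090, (a 139<|b), (a (e (a 139<|b) (.conj 2 1 b 490266 1))<|b)⟩<|a ⟨1098096300, (a 167<|b), (a (e (a 167<|b) (.conj 0 1 b 3922128 1))<|b)⟩<|
 a ⟨1098098820, (a 150<|b), (a (e (a 150<|b) (.conj 1 1 b 3922129 1))<|b)⟩<|a ⟨1098099030, (a 172<|b), (a (e (a 172<|b) (.conj 0 1 b 31377032 1))<|b)⟩<|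
 d);
 (a ⟨1091601420, (a 124<|b), (a (e (a 124<|b) (.conj 5 1 b 957 1))<|b)⟩<|a ⟨1097599230, (a 128<|b), (a (e (a 128<|b) (.conj 4 1 b 7660 1))<|b)⟩<|
 a ⟨1098060600, (a 133<|b), (a (e (a 133<|b) (.conj 3 1 b 61283 1))<|b)⟩<|a ⟨1098063330, (a 145<|b), (a (e (a 145<|b) (.conj 1 1 b 490265 1))<|b)⟩<|
 d));
 (a ⟨84966000, (a 185<|b), (a (e (a 185<|b) (.conj 0 1 b 16069534402 1))<|b)⟩<|
 a ⟨90928110, (a 156<|b), (a (e (a 156<|b) (.conj 1 1 b 2008691804 1))<|b)⟩<|a ⟨90928320, (a 178<|b), (a (e (a 178<|b) (.conj 0 1 b 16069534432 1))<|b)⟩<|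
 a ⟨90963810, (a 188<|b), (a (e (a 188<|b) (.conj 0 1 b 128556275458 1))<|b)⟩<|a ⟨91425180, (a 194<|b), (a (e (a 194<|b) (.conj 0 1 b 1028450203667 1))<|b)⟩<|
 a ⟨91427910, (a 204<|b), (a (e (a 204<|b) (.conj 0 1 b 8227601629337 1))<|b)⟩<|a ⟨1013629890, (a 121<|b), (a (e (a 121<|b) (.conj 6 1 b 119 1))<|b)⟩<|
 d)));
 (let d:type_of% d:=(let d:type_of% d:=(let d:type_of% d:=(a ⟨84468930, (a 149<|b), (a (e (a 149<|b) (.conj 1 1 b 31385809 1))<|b)⟩<|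
 a ⟨84469140, (a 171<|b), (a (e (a 171<|b) (.conj 0 1 b 251086472 1))<|b)⟩<|a ⟨84930300, (a 153<|b), (a (e (a 153<|b) (.conj 1 1 b 251086475 1))<|b)⟩<|
 a ⟨84930510, (a 175<|b), (a (e (a 175<|b) (.conj 0 1 b 2008691800 1))<|b)⟩<|d);
 (a ⟨84430710, (a 132<|b), (a (e (a 132<|b) (.conj 3 1 b 490403 1))<|b)⟩<|
 a ⟨84433440, (a 144<|b), (a (e (a 144<|b) (.conj 1 1 b 3923225 1))<|b)⟩<|a ⟨84466200, (a 138<|b), (a (e (a 138<|b) (.conj 2 1 b 3923226 1))<|b)⟩<|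
 a ⟨84466410, (a 166<|b), (a (e (a 166<|b) (.conj 0 1 b 31385808 1))<|b)⟩<|d));
 (a ⟨6497400, (a 148<|b), (a (e (a 148<|b) (.conj 1 1 b 251087569 1))<|b)⟩<|a ⟨6497610, (a 170<|b), (a (e (a 170<|b) (.conj 0 1 b 2008700552 1))<|b)⟩<|
 a ⟨6958770, (a 152<|b), (a (e (a 152<|b) (.conj 1 1 b 2008700555 1))<|b)⟩<|a ⟨6958980, (a 174<|b), (a (e (a 174<|b) (.conj 0 1 b 16069604440 1))<|b)⟩<|
 a ⟨6994470, (a 184<|b), (a (e (a 184<|b) (.conj 0 1 b 128556835522 1))<|b)⟩<|a ⟨77971530, (a 123<|b), (a (e (a 123<|b) (.conj 5 1 b 7662 1))<|b)⟩<|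
 a ⟨83969340, (a 127<|b), (a (e (a 127<|b) (.conj 4 1 b 61300 1))<|b)⟩<|d));
 (let d:type_of% d:=(let d:type_of% d:=(a ⟨6459180, (a 131<|b), (a (e (a 131<|b) (.conj 3 1 b 3923243 1))<|b)⟩<|a ⟨6461910, (a 143<|b), (a (e (a 143<|b) (.conj 1 1 b 31385945 1))<|b)⟩<|
 a ⟨6494670, (a 137<|b), (a (e (a 137<|b) (.conj 2 1 b 31385946 1))<|b)⟩<|a ⟨6494880, (a 165<|b), (a (e (a 165<|b) (.conj 0 1 b 251087568 1))<|b)⟩<|
 d);
 (a ⟨497070, (a 164<|b), (a (e (a 164<|b) (.conj 0 1 b 2008700688 1))<|b)⟩<|a ⟨499590, (a 147<|b), (a (e (a 147<|b) (.conj 1 1 b 2008700689 1))<|b)⟩<|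
 a ⟨499800, (a 169<|b), (a (e (a 169<|b) (.conj 0 1 b 16069605512 1))<|b)⟩<|a ⟨5997810, (a 126<|b), (a (e (a 126<|b) (.conj 4 1 b 490405 1))<|b)⟩<|
 d));
 (a ⟨210, (a 162<|b), (a (e (a 162<|b) (.conj 0 1 b 128556844226 1))<|b)⟩<|
 a ⟨2730, (a 141<|b), (a (e (a 141<|b) (.conj 1 1 b 2008700683 1))<|b)⟩<|a ⟨35490, (a 135<|b), (a (e (a 135<|b) (.conj 2 1 b 2008700691 1))<|b)⟩<|
 a ⟨35700, (a 163<|b), (a (e (a 163<|b) (.conj 0 1 b 16069605528 1))<|b)⟩<|a ⟨461370, (a 130<|b), (a (e (a 130<|b) (.conj 3 1 b 31385948 1))<|b)⟩<|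
 a ⟨464100, (a 142<|b), (a (e (a 142<|b) (.conj 1 1 b 251087585 1))<|b)⟩<|a ⟨496860, (a 136<|b), (a (e (a 136<|b) (.conj 2 1 b 251087586 1))<|b)⟩<|
 d)))));
 (let d:type_of% d:=(let d:type_of% d:=(let d:type_of% d:=(let d:type_of% d:=(let d:type_of% d:=(a ⟨-35700, (a 76<|b), (a (e (a 76<|b) (.conj 0 1 b 128556844240 1))<|b)⟩<|
 a ⟨-35490, (a 104<|b), (a (e (a 104<|b) (.conj 2 1 b 16069605530 1))<|b)⟩<|a ⟨-2730, (a 98<|b), (a (e (a 98<|b) (.conj 1 1 b 16069605465 1))<|b)⟩<|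
 a ⟨-210, (a 77<|b), (a (e (a 77<|b) (.conj 0 1 b 1028454753808 1))<|b)⟩<|d);
 (a ⟨-497070, (a 75<|b), (a (e (a 75<|b) (.conj 0 1 b 16069605584 1))<|b)⟩<|
 a ⟨-496860, (a 103<|b), (a (e (a 103<|b) (.conj 2 1 b 2008700698 1))<|b)⟩<|a ⟨-464100, (a 97<|b), (a (e (a 97<|b) (.conj 1 1 b 2008700697 1))<|b)⟩<|
 a ⟨-461370, (a 109<|b), (a (e (a 109<|b) (.conj 3 1 b 251087587 1))<|b)⟩<|d));
 (a ⟨-6494880, (a 74<|b), (a (e (a 74<|b) (.conj 0 1 b 2008701136 1))<|b)⟩<|a ⟨-6494670, (a 102<|b), (a (e (a 102<|b) (.conj 2 1 b 251087642 1))<|b)⟩<|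
 a ⟨-6461910, (a 96<|b), (a (e (a 96<|b) (.conj 1 1 b 251087641 1))<|b)⟩<|a ⟨-6459180, (a 108<|b), (a (e (a 108<|b) (.conj 3 1 b 31385955 1))<|b)⟩<|
 a ⟨-5997810, (a 113<|b), (a (e (a 113<|b) (.conj 4 1 b 3923244 1))<|b)⟩<|a ⟨-499800, (a 70<|b), (a (e (a 70<|b) (.conj 0 1 b 128556844680 1))<|b)⟩<|
 a ⟨-499590, (a 92<|b), (a (e (a 92<|b) (.conj 1 1 b 16069605585 1))<|b)⟩<|d));
 (let d:type_of% d:=(let d:type_of% d:=(a ⟨-6958980, (a 65<|b), (a (e (a 65<|b) (.conj 0 1 b 128556872792 1))<|b)⟩<|a ⟨-6958770, (a 87<|b), (a (e (a 87<|b) (.conj 1 1 b 16069609099 1))<|b)⟩<|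
 a ⟨-6497610, (a 69<|b), (a (e (a 69<|b) (.conj 0 1 b 16069609096 1))<|b)⟩<|a ⟨-6497400, (a 91<|b), (a (e (a 91<|b) (.conj 1 1 b 2008701137 1))<|b)⟩<|
 d);
 (a ⟨-84430710, (a 107<|b), (a (e (a 107<|b) (.conj 3 1 b 3923299 1))<|b)⟩<|a ⟨-83969340, (a 112<|b), (a (e (a 112<|b) (.conj 4 1 b 490412 1))<|b)⟩<|
 a ⟨-77971530, (a 116<|b), (a (e (a 116<|b) (.conj 5 1 b 61301 1))<|b)⟩<|a ⟨-6994470, (a 55<|b), (a (e (a 55<|b) (.conj 0 1 b 1028454982338 1))<|b)⟩<|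
 d));
 (a ⟨-84930510, (a 64<|b), (a (e (a 64<|b) (.conj 0 1 b 16069833816 1))<|b)⟩<|
 a ⟨-84930300, (a 86<|b), (a (e (a 86<|b) (.conj 1 1 b 2008729227 1))<|b)⟩<|a ⟨-84469140, (a 68<|b), (a (e (a 68<|b) (.conj 0 1 b 2008729224 1))<|b)⟩<|
 a ⟨-84468930, (a 90<|b), (a (e (a 90<|b) (.conj 1 1 b 251091153 1))<|b)⟩<|a ⟨-84466410, (a 73<|b), (a (e (a 73<|b) (.conj 0 1 b 251091152 1))<|b)⟩<|
 a ⟨-84466200, (a 101<|b), (a (e (a 101<|b) (.conj 2 1 b 31386394 1))<|b)⟩<|a ⟨-84433440, (a 95<|b), (a (e (a 95<|b) (.conj 1 1 b 31386393 1))<|b)⟩<|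
 d)));
 (let d:type_of% d:=(let d:type_of% d:=(let d:type_of% d:=(a ⟨-90963810, (a 51<|b), (a (e (a 51<|b) (.conj 0 1 b 1028469364482 1))<|b)⟩<|
 a ⟨-90928320, (a 61<|b), (a (e (a 61<|b) (.conj 0 1 b 128558670560 1))<|b)⟩<|a ⟨-90928110, (a 83<|b), (a (e (a 83<|b) (.conj 1 1 b 16069833820 1))<|b)⟩<|
 a ⟨-84966000, (a 54<|b), (a (e (a 54<|b) (.conj 0 1 b 128558670530 1))<|b)⟩<|d);
 (a ⟨-1091601420, (a 115<|b), (a (e (a 115<|b) (.conj 5 1 b 7669 1))<|b)⟩<|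
 a ⟨-1013629890, (a 118<|b), (a (e (a 118<|b) (.conj 6 1 b 958 1))<|b)⟩<|a ⟨-91427910, (a 35<|b), (a (e (a 35<|b) (.conj 0 1 b 65822039326873 1))<|b)⟩<|
 a ⟨-91425180, (a 45<|b), (a (e (a 45<|b) (.conj 0 1 b 8227754915859 1))<|b)⟩<|d));
 (a ⟨-1098099030, (a 67<|b), (a (e (a 67<|b) (.conj 0 1 b 251315848 1))<|b)⟩<|a ⟨-1098098820, (a 89<|b), (a (e (a 89<|b) (.conj 1 1 b 31414481 1))<|b)⟩<|
 a ⟨-1098096300, (a 72<|b), (a (e (a 72<|b) (.conj 0 1 b 31414480 1))<|b)⟩<|a ⟨-1098096090, (a 100<|b), (a (e (a 100<|b) (.conj 2 1 b 3926810 1))<|b)⟩<|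
 a ⟨-1098063330, (a 94<|b), (a (e (a 94<|b) (.conj 1 1 b 3926809 1))<|b)⟩<|a ⟨-1098060600, (a 106<|b), (a (e (a 106<|b) (.conj 3 1 b 490851 1))<|b)⟩<|
 a ⟨-1097599230, (a 111<|b), (a (e (a 111<|b) (.conj 4 1 b 61356 1))<|b)⟩<|d));
 (let d:type_of% d:=(let d:type_of% d:=(a ⟨-1104558000, (a 82<|b), (a (e (a 82<|b) (.conj 1 1 b 2010526812 1))<|b)⟩<|a ⟨-1098595890, (a 53<|b), (a (e (a 53<|b) (.conj 0 1 b 16084214466 1))<|b)⟩<|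
 a ⟨-1098560400, (a 63<|b), (a (e (a 63<|b) (.conj 0 1 b 2010526808 1))<|b)⟩<|a ⟨-1098560190, (a 85<|b), (a (e (a 85<|b) (.conj 1 1 b 251315851 1))<|b)⟩<|
 d);
 (a ⟨-1105057800, (a 34<|b), (a (e (a 34<|b) (.conj 0 1 b 8235117822105 1))<|b)⟩<|a ⟨-1105055070, (a 44<|b), (a (e (a 44<|b) (.conj 0 1 b 1029389727763 1))<|b)⟩<|
 a ⟨-1104593700, (a 50<|b), (a (e (a 50<|b) (.conj 0 1 b 128673715970 1))<|b)⟩<|a ⟨-1104558210, (a 60<|b), (a (e (a 60<|b) (.conj 0 1 b 16084214496 1))<|b)⟩<|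
 d));
 (a ⟨-1189027140, (a 29<|b), (a (e (a 29<|b) (.conj 0 1 b 527047540770017 1))<|b)⟩<|
 a ⟨-1189024410, (a 39<|b), (a (e (a 39<|b) (.conj 0 1 b 65880942596252 1))<|b)⟩<|a ⟨-1183029330, (a 32<|b), (a (e (a 32<|b) (.conj 0 1 b 65880942596249 1))<|b)⟩<|
 a ⟨-1183026600, (a 42<|b), (a (e (a 42<|b) (.conj 0 1 b 8235117824531 1))<|b)⟩<|a ⟨-1182565230, (a 48<|b), (a (e (a 48<|b) (.conj 0 1 b 1029389728066 1))<|b)⟩<|
 a ⟨-1182529740, (a 58<|b), (a (e (a 58<|b) (.conj 0 1 b 128673716008 1))<|b)⟩<|a ⟨-1182529530, (a 80<|b), (a (e (a 80<|b) (.conj 1 1 b 16084214501 1))<|b)⟩<|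
 d))));
 (let d:type_of% d:=(let d:type_of% d:=(let d:type_of% d:=(let d:type_of% d:=(a ⟨-13177188570, (a 119<|b), (a (e (a 119<|b) (.conj 7 1 b 15 1))<|b)⟩<|
 a ⟨-1189524210, (a 13<|b), (a (e (a 13<|b) (.conj 0 1 b 269848340874248912 1))<|b)⟩<|a ⟨-1189524000, (a 20<|b), (a (e (a 20<|b) (.conj 0 1 b 33731042609281114 1))<|b)⟩<|
 a ⟨-1189488510, (a 25<|b), (a (e (a 25<|b) (.conj 0 1 b 4216380326160139 1))<|b)⟩<|d);
 (a ⟨-14275249170, (a 105<|b), (a (e (a 105<|b) (.conj 3 1 b 64867 1))<|b)⟩<|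
 a ⟨-14274787800, (a 110<|b), (a (e (a 110<|b) (.conj 4 1 b 8108 1))<|b)⟩<|a ⟨-14268789990, (a 114<|b), (a (e (a 114<|b) (.conj 5 1 b 1013 1))<|b)⟩<|
 a ⟨-14190818460, (a 117<|b), (a (e (a 117<|b) (.conj 6 1 b 126 1))<|b)⟩<|d));
 (a ⟨-14275748970, (a 62<|b), (a (e (a 62<|b) (.conj 0 1 b 265696344 1))<|b)⟩<|a ⟨-14275748760, (a 84<|b), (a (e (a 84<|b) (.conj 1 1 b 33212043 1))<|b)⟩<|
 a ⟨-14275287600, (a 66<|b), (a (e (a 66<|b) (.conj 0 1 b 33212040 1))<|b)⟩<|a ⟨-14275287390, (a 88<|b), (a (e (a 88<|b) (.conj 1 1 b 4151505 1))<|b)⟩<|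
 a ⟨-14275284870, (a 71<|b), (a (e (a 71<|b) (.conj 0 1 b 4151504 1))<|b)⟩<|a ⟨-14275284660, (a 99<|b), (a (e (a 99<|b) (.conj 2 1 b 518938 1))<|b)⟩<|
 a ⟨-14275251900, (a 93<|b), (a (e (a 93<|b) (.conj 1 1 b 518937 1))<|b)⟩<|d));
 (let d:type_of% d:=(let d:type_of% d:=(a ⟨-14281782270, (a 49<|b), (a (e (a 49<|b) (.conj 0 1 b 17004566274 1))<|b)⟩<|a ⟨-14281746780, (a 59<|b), (a (e (a 59<|b) (.conj 0 1 b 2125570784 1))<|b)⟩<|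
 a ⟨-14281746570, (a 81<|b), (a (e (a 81<|b) (.conj 1 1 b 265696348 1))<|b)⟩<|a ⟨-14275784460, (a 52<|b), (a (e (a 52<|b) (.conj 0 1 b 2125570754 1))<|b)⟩<|
 d);
 (a ⟨-14359718310, (a 57<|b), (a (e (a 57<|b) (.conj 0 1 b 17004566312 1))<|b)⟩<|a ⟨-14359718100, (a 79<|b), (a (e (a 79<|b) (.conj 1 1 b 2125570789 1))<|b)⟩<|
 a ⟨-14282246370, (a 33<|b), (a (e (a 33<|b) (.conj 0 1 b 1088292241561 1))<|b)⟩<|a ⟨-14282243640, (a 43<|b), (a (e (a 43<|b) (.conj 0 1 b 136036530195 1))<|b)⟩<|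
 d));
 (a ⟨-14366712570, (a 19<|b), (a (e (a 19<|b) (.conj 0 1 b 4457645031372890 1))<|b)⟩<|
 a ⟨-14366677080, (a 24<|b), (a (e (a 24<|b) (.conj 0 1 b 557205628921611 1))<|b)⟩<|a ⟨-14366215710, (a 28<|b), (a (e (a 28<|b) (.conj 0 1 b 69650703615201 1))<|b)⟩<|
 a ⟨-14366212980, (a 38<|b), (a (e (a 38<|b) (.conj 0 1 b 8706337951900 1))<|b)⟩<|a ⟨-14360217900, (a 31<|b), (a (e (a 31<|b) (.conj 0 1 b 8706337951897 1))<|b)⟩<|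
 a ⟨-14360215170, (a 41<|b), (a (e (a 41<|b) (.conj 0 1 b 1088292243987 1))<|b)⟩<|a ⟨-14359753800, (a 47<|b), (a (e (a 47<|b) (.conj 0 1 b 136036530498 1))<|b)⟩<|
 d)));
 (let d:type_of% d:=(let d:type_of% d:=(let d:type_of% d:=(a ⟨-15373383690, (a 46<|b), (a (e (a 46<|b) (.conj 0 1 b 1088292244354 1))<|b)⟩<|
 a ⟨-15373348200, (a 56<|b), (a (e (a 56<|b) (.conj 0 1 b 136036530544 1))<|b)⟩<|a ⟨-15373347990, (a 78<|b), (a (e (a 78<|b) (.conj 1 1 b 17004566318 1))<|b)⟩<|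
 a ⟨-14366712780, (a 12<|b), (a (e (a 12<|b) (.conj 0 1 b 35661160250983120 1))<|b)⟩<|d);
 (a ⟨-15379845600, (a 27<|b), (a (e (a 27<|b) (.conj 0 1 b 557205629109473 1))<|b)⟩<|
 a ⟨-15379842870, (a 37<|b), (a (e (a 37<|b) (.conj 0 1 b 69650703638684 1))<|b)⟩<|a ⟨-15373847790, (a 30<|b), (a (e (a 30<|b) (.conj 0 1 b 69650703638681 1))<|b)⟩<|
 a ⟨-15373845060, (a 40<|b), (a (e (a 40<|b) (.conj 0 1 b 8706337954835 1))<|b)⟩<|d));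
 (a ⟨-15458313990, (a 17<|b), (a (e (a 17<|b) (.conj 0 1 b 285289282104052314 1))<|b)⟩<|a ⟨-15458278500, (a 22<|b), (a (e (a 22<|b) (.conj 0 1 b 35661160263006539 1))<|b)⟩<|
 a ⟨-15457817130, (a 26<|b), (a (e (a 26<|b) (.conj 0 1 b 4457645032875817 1))<|b)⟩<|a ⟨-15457814400, (a 36<|b), (a (e (a 36<|b) (.conj 0 1 b 557205629109477 1))<|b)⟩<|
 a ⟨-15380342670, (a 11<|b), (a (e (a 11<|b) (.conj 0 1 b 285289282104050384 1))<|b)⟩<|a ⟨-15380342460, (a 18<|b), (a (e (a 18<|b) (.conj 0 1 b 35661160263006298 1))<|b)⟩<|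
 a ⟨-15380306970, (a 23<|b), (a (e (a 23<|b) (.conj 0 1 b 4457645032875787 1))<|b)⟩<|d));
 (let d:type_of% d:=(let d:type_of% d:=(a ⟨-15464312010, (a 9<|b), (a (e (a 9<|b) (.conj 0 1 b 18258514054659348240 1))<|b)⟩<|a ⟨-15464311800, (a 16<|b), (a (e (a 16<|b) (.conj 0 1 b 2282314256832418530 1))<|b)⟩<|
 a ⟨-15464276310, (a 21<|b), (a (e (a 21<|b) (.conj 0 1 b 285289282104052316 1))<|b)⟩<|a ⟨-15458314200, (a 10<|b), (a (e (a 10<|b) (.conj 0 1 b 2282314256832418512 1))<|b)⟩<|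
 d);
 (a ⟨-15464776110, (a 6<|b), (a (e (a 6<|b) (.conj 0 1 b 1168544899498198287560 1))<|b)⟩<|a ⟨-15464775900, (a 14<|b), (a (e (a 14<|b) (.conj 0 1 b 146068112437274785945 1))<|b)⟩<|
 a ⟨-15464773380, (a 8<|b), (a (e (a 8<|b) (.conj 0 1 b 146068112437274785944 1))<|b)⟩<|a ⟨-15464773170, (a 15<|b), (a (e (a 15<|b) (.conj 0 1 b 18258514054659348243 1))<|b)⟩<|
 d));
 (a ⟨-29740060770, (a 0<|b), (a (e (a 0<|b) (.conj 0 1 b 306327034134055691892603255 1))<|b)⟩<|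
 a ⟨-16562872200, (a 1<|b), (a (e (a 1<|b) (.conj 0 1 b 38290879266756961486575406 1))<|b)⟩<|a ⟨-15549242310, (a 2<|b), (a (e (a 2<|b) (.conj 0 1 b 4786359908344620185821925 1))<|b)⟩<|
 a ⟨-15471270780, (a 3<|b), (a (e (a 3<|b) (.conj 0 1 b 598294988543077523227740 1))<|b)⟩<|a ⟨-15465272970, (a 4<|b), (a (e (a 4<|b) (.conj 0 1 b 74786873567884690403467 1))<|b)⟩<|
 a ⟨-15464811600, (a 5<|b), (a (e (a 5<|b) (.conj 0 1 b 9348359195985586300433 1))<|b)⟩<|a ⟨-15464808870, (a 7<|b), (a (e (a 7<|b) (.conj 0 1 b 1168544899498198287554 1))<|b)⟩<|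
 d)))))) :
 List Cfsg.Agent.E8A.C63.Nil.Ray)) _)

private noncomputable def _root_.Cfsg.Agent.LsF.fa47430_2 : {f // @Cfsg.Agent.E8A.C63.lab = f} := ⟨_, by delta Cfsg.Agent.E8A.C63.lab; rewrite [Cfsg.Agent.LsF.ineg_pat, Cfsg.Agent.LsF.vecCons_eq]; exact rfl⟩
private noncomputable def _root_.Cfsg.Agent.LsF.fa47430_3 : {f // @Cfsg.Agent.E8A.C63.Nil.LB = f} := ⟨_, by delta Cfsg.Agent.E8A.C63.Nil.LB; rewrite [Cfsg.Agent.LsF.fa47430_2.2]; (try delta Cfsg.Agent.E8A.C63.Nil.SJ.match_1); (try delta Nat.casesOn); exact rfl⟩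
private noncomputable def _root_.Cfsg.Agent.LsF.fa47430_4 : {f // @Cfsg.Agent.E8A.C63.Nil.V8.q = f} := ⟨_, by delta Cfsg.Agent.E8A.C63.Nil.V8.q; rewrite [Cfsg.Agent.LsF.vecCons_eq]; exact rfl⟩
private noncomputable def _root_.Cfsg.Agent.LsF.fa47430_5 : {f // @Cfsg.Agent.E8A.C63.SS = f} := ⟨_, by delta Cfsg.Agent.E8A.C63.SS; rewrite [Cfsg.Agent.LsF.vecCons_eq]; exact rfl⟩
private noncomputable def _root_.Cfsg.Agent.LsF.fa47430_6 : {f // @Cfsg.Agent.E8A.C63.Nil.SJ = f} := ⟨_, by delta Cfsg.Agent.E8A.C63.Nil.SJ; rewrite [Cfsg.Agent.LsF.fa47430_5.2]; (try delta Cfsg.Agent.E8A.C63.Nil.SJ.match_1); (try delta Nat.casesOn); exact rfl⟩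
private noncomputable def _root_.Cfsg.Agent.LsF.fa47430_7 : {f // @Cfsg.Agent.E8A.B8 = f} := ⟨_, by delta Cfsg.Agent.E8A.B8; rewrite [Cfsg.Agent.LsF.vecCons_eq]; exact rfl⟩
private noncomputable def _root_.Cfsg.Agent.LsF.fa47430_8 : {f // @Cfsg.Agent.E8A.Two.bw = f} := ⟨_, by delta Cfsg.Agent.E8A.Two.bw; rewrite [Cfsg.Agent.LsF.fa47430_7.2, Cfsg.Agent.LsF.imul_pat, Cfsg.Agent.LsF.finFintype_eq, Cfsg.Agent.LsF.fsum_eq, Cfsg.Agent.LsF.iACM_eq]; exact rfl⟩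
private noncomputable def _root_.Cfsg.Agent.LsF.fa47430_9 : {f // @Cfsg.Agent.E8A.C63.Nil.inc = f} := ⟨_, by delta Cfsg.Agent.E8A.C63.Nil.inc List.brecOn List.brecOn.go Cfsg.Agent.E8A.C63.Nil.inc._f; rewrite [Cfsg.Agent.LsF.and_eq, Cfsg.Agent.LsF.idecLt_eq, Cfsg.Agent.LsF.decide_eq]; (try delta Cfsg.Agent.E8A.C63.Nil.inc.match_1); (try delta List.casesOn); first | dsimp -zeta only | exact rfl⟩
private noncomputable def _root_.Cfsg.Agent.LsF.fa47430_10 : {f // @Cfsg.Agent.E8A.C63.Nil.msk = f} := ⟨_, by delta Cfsg.Agent.E8A.C63.Nil.msk List.brecOn List.brecOn.go Cfsg.Agent.E8A.C63.Nil.msk._f; (try delta Cfsg.Agent.E8A.C63.Nil.subs.match_1); (try delta List.casesOn); first | dsimp -zeta only | exact rfl⟩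
private noncomputable def _root_.Cfsg.Agent.LsF.fa47430_11 : {f // @Cfsg.Agent.E8A.C63.Nil.prp = f} := ⟨_, by delta Cfsg.Agent.E8A.C63.Nil.prp; rewrite [Cfsg.Agent.LsF.all_eq, Cfsg.Agent.LsF.imul_eq, Cfsg.Agent.LsF.isub_eq]; exact rfl⟩
private noncomputable def _root_.Cfsg.Agent.LsF.fa47430_12 : {f // @Cfsg.Agent.E8A.C63.Nil.dv = f} := ⟨_, by delta Cfsg.Agent.E8A.C63.Nil.dv; rewrite [Cfsg.Agent.LsF.iadd_pat, Cfsg.Agent.LsF.imul_pat]; exact rfl⟩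
private noncomputable def _root_.Cfsg.Agent.LsF.fa47430_13 : {f // @Cfsg.Agent.E8A.C63.Sv.m3 = f} := ⟨_, by delta Cfsg.Agent.E8A.C63.Sv.m3; rewrite [Cfsg.Agent.LsF.natAbs_eq, Cfsg.Agent.LsF.emod_eq]; exact rfl⟩
private noncomputable def _root_.Cfsg.Agent.LsF.fa47430_14 : {f // @Cfsg.Agent.E8A.C63.Sv.nf = f} := ⟨_, by delta Cfsg.Agent.E8A.C63.Sv.nf; rewrite [Cfsg.Agent.LsF.fa47430_13.2]; exact rfl⟩
private noncomputable def _root_.Cfsg.Agent.LsF.fa47430_15 : {f // @Cfsg.Agent.E8A.C63.Sv.nz = f} := ⟨_, by delta Cfsg.Agent.E8A.C63.Sv.nz; rewrite [Cfsg.Agent.LsF.fa47430_14.2]; exact rfl⟩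
private noncomputable def _root_.Cfsg.Agent.LsF.fa47430_16 : {f // @Cfsg.Agent.E8A.C63.Sv.decA = f} := ⟨_, by delta Cfsg.Agent.E8A.C63.Sv.decA; rewrite [Cfsg.Agent.LsF.testBit_eq]; exact rfl⟩
private noncomputable def _root_.Cfsg.Agent.LsF.fa47430_17 : {f // @Cfsg.Agent.E8A.C63.Sv.dec = f} := ⟨_, by delta Cfsg.Agent.E8A.C63.Sv.dec; rewrite [Cfsg.Agent.LsF.fa47430_15.2, Cfsg.Agent.LsF.fa47430_16.2]; exact rfl⟩
private noncomputable def _root_.Cfsg.Agent.LsF.fa47430_18 : {f // @Cfsg.Agent.ChevalleyStructure.JacTab.insM = f} := ⟨_, by delta Cfsg.Agent.ChevalleyStructure.JacTab.insM; rewrite [Cfsg.Agent.LsF.iadd_eq]; exact rfl⟩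
private noncomputable def _root_.Cfsg.Agent.LsF.fa47430_19 : {f // @Cfsg.Agent.ChevalleyStructure.JacTab.addH = f} := ⟨_, by delta Cfsg.Agent.ChevalleyStructure.JacTab.addH; rewrite [Cfsg.Agent.LsF.fa47430_18.2, Cfsg.Agent.LsF.imul_eq]; exact rfl⟩
private noncomputable def _root_.Cfsg.Agent.LsF.fa47430_20 : {f // @Cfsg.Agent.ChevalleyStructure.JacTab.actE = f} := ⟨_, by delta Cfsg.Agent.ChevalleyStructure.JacTab.actE; rewrite [Cfsg.Agent.LsF.fa47430_18.2, Cfsg.Agent.LsF.fa47430_19.2, Cfsg.Agent.LsF.imul_eq]; exact rfl⟩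
private noncomputable def _root_.Cfsg.Agent.LsF.fa47430_21 : {f // @Cfsg.Agent.E8A.C63.Sv.adS = f} := ⟨_, by delta Cfsg.Agent.E8A.C63.Sv.adS; rewrite [Cfsg.Agent.LsF.fa47430_20.2, Cfsg.Agent.LsF.imul_eq]; exact rfl⟩
private noncomputable def _root_.Cfsg.Agent.LsF.fa47430_22 : {f // @Cfsg.Agent.ChevalleyStructure.JacDataE8.rows = f} := ⟨_, by delta Cfsg.Agent.ChevalleyStructure.JacDataE8.rows; rewrite [Cfsg.Agent.LsF.lappend_pat]; exact rfl⟩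
private noncomputable def _root_.Cfsg.Agent.LsF.fa47430_23 : {f // @Cfsg.Agent.E8A.C63.Sv.br0 = f} := ⟨_, by delta Cfsg.Agent.E8A.C63.Sv.br0; rewrite [Cfsg.Agent.LsF.fa47430_21.2, Cfsg.Agent.LsF.fa47430_22.2]; exact rfl⟩
private noncomputable def _root_.Cfsg.Agent.LsF.fa47430_24 : {f // @Cfsg.Agent.E8A.C63.Nil.AJ = f} := ⟨_, by delta Cfsg.Agent.E8A.C63.Nil.AJ; rewrite [Cfsg.Agent.LsF.getD_eq]; exact rfl⟩
private noncomputable def _root_.Cfsg.Agent.LsF.fa47430_25 : {f // @Cfsg.Agent.E8A.C63.Nil.eL = f} := ⟨_, by delta Cfsg.Agent.E8A.C63.Nil.eL; rewrite [Cfsg.Agent.LsF.fa47430_24.2, Cfsg.Agent.LsF.map_eq]; exact rfl⟩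
private noncomputable def _root_.Cfsg.Agent.LsF.fa47430_26 : {f // @Cfsg.Agent.E8A.C63.Nil.chkK = f} := ⟨_, by delta Cfsg.Agent.E8A.C63.Nil.chkK; rewrite [Cfsg.Agent.LsF.fa47430_11.2, Cfsg.Agent.LsF.fa47430_12.2, Cfsg.Agent.LsF.fa47430_17.2, Cfsg.Agent.LsF.fa47430_15.2, Cfsg.Agent.LsF.fa47430_18.2, Cfsg.Agent.LsF.fa47430_23.2, Cfsg.Agent.LsF.fa47430_25.2, Cfsg.Agent.LsF.iadd_pat, Cfsg.Agent.LsF.isub_pat, Cfsg.Agent.LsF.ineg_pat, Cfsg.Agent.LsF.and_eq, Cfsg.Agent.LsF.or_eq, Cfsg.Agent.LsF.cond_eq, Cfsg.Agent.LsF.testBit_eq, Cfsg.Agent.LsF.idecLe_eq, Cfsg.Agent.LsF.decide_eq]; exact rfl⟩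
private noncomputable def _root_.Cfsg.Agent.LsF.fa47430_27 : {f // @Cfsg.Agent.E8A.C63.Nil.subs = f} := ⟨_, by delta Cfsg.Agent.E8A.C63.Nil.subs List.brecOn List.brecOn.go Cfsg.Agent.E8A.C63.Nil.subs._f; rewrite [Cfsg.Agent.LsF.lappend_pat, Cfsg.Agent.LsF.map_eq]; (try delta Cfsg.Agent.E8A.C63.Nil.subs.match_1); (try delta List.casesOn); first | dsimp -zeta only | exact rfl⟩
private noncomputable def _root_.Cfsg.Agent.LsF.fa47430_28 : {f // @Cfsg.Agent.E8A.C63.Nil.adT = f} := ⟨_, by delta Cfsg.Agent.E8A.C63.Nil.adT; rewrite [Cfsg.Agent.LsF.fa47430_22.2, Cfsg.Agent.LsF.imul_pat, Cfsg.Agent.LsF.map_eq, Cfsg.Agent.LsF.flatMap_eq]; exact rfl⟩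
private noncomputable def _root_.Cfsg.Agent.LsF.fa47430_29 : {f // @Cfsg.Agent.E8A.C63.Nil.sm = f} := ⟨_, by delta Cfsg.Agent.E8A.C63.Nil.sm List.brecOn List.brecOn.go Cfsg.Agent.E8A.C63.Nil.sm._f; rewrite [Cfsg.Agent.LsF.iadd_pat, Cfsg.Agent.LsF.cond_eq]; (try delta Cfsg.Agent.E8A.C63.Nil.sm.match_1); (try delta List.casesOn); first | dsimp -zeta only | exact rfl⟩
private noncomputable def _root_.Cfsg.Agent.LsF.fa47430_30 : {f // @Cfsg.Agent.E8A.C63.Nil.chkQ = f} := ⟨_, by delta Cfsg.Agent.E8A.C63.Nil.chkQ; rewrite [Cfsg.Agent.LsF.fa47430_28.2, Cfsg.Agent.LsF.fa47430_13.2, Cfsg.Agent.LsF.fa47430_29.2, Cfsg.Agent.LsF.instNBEq_pat, Cfsg.Agent.LsF.and_eq, Cfsg.Agent.LsF.or_eq, Cfsg.Agent.LsF.not_eq, Cfsg.Agent.LsF.all_eq, Cfsg.Agent.LsF.contains_eq]; exact rfl⟩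
private noncomputable def _root_.Cfsg.Agent.LsF.fa47430_31 : {f // @Cfsg.Agent.E8A.C63.Sv.cf = f} := ⟨_, by delta Cfsg.Agent.E8A.C63.Sv.cf; rewrite [Cfsg.Agent.LsF.iadd_eq]; exact rfl⟩
private noncomputable def _root_.Cfsg.Agent.LsF.fa47430_32 : {f // @Cfsg.Agent.E8A.C63.Nil.chkE = f} := ⟨_, by delta Cfsg.Agent.E8A.C63.Nil.chkE; rewrite [Cfsg.Agent.LsF.fa47430_13.2, Cfsg.Agent.LsF.fa47430_31.2, Cfsg.Agent.LsF.fa47430_24.2, Cfsg.Agent.LsF.instNBEq_pat, Cfsg.Agent.LsF.and_eq, Cfsg.Agent.LsF.not_eq, Cfsg.Agent.LsF.all_eq, Cfsg.Agent.LsF.any_eq, Cfsg.Agent.LsF.contains_eq]; exact rfl⟩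
private noncomputable def _root_.Cfsg.Agent.LsF.fa47430_33 : {f // @Cfsg.Agent.E8A.C63.Sv.xS = f} := ⟨_, by delta Cfsg.Agent.E8A.C63.Sv.xS; rewrite [Cfsg.Agent.LsF.fa47430_15.2, Cfsg.Agent.LsF.fa47430_18.2, Cfsg.Agent.LsF.fa47430_31.2, Cfsg.Agent.LsF.fa47430_19.2, Cfsg.Agent.LsF.fa47430_21.2, Cfsg.Agent.LsF.fa47430_22.2, Cfsg.Agent.LsF.imul_eq, Cfsg.Agent.LsF.ineg_eq]; exact rfl⟩
private noncomputable def _root_.Cfsg.Agent.LsF.fa47430_34 : {f // @Cfsg.Agent.E8A.C63.Sv.wS = f} := ⟨_, by delta Cfsg.Agent.E8A.C63.Sv.wS; rewrite [Cfsg.Agent.LsF.fa47430_33.2]; exact rfl⟩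
private noncomputable def _root_.Cfsg.Agent.LsF.fa47430_35 : {f // @Cfsg.Agent.E8A.C63.Nil.chkS = f} := ⟨_, by delta Cfsg.Agent.E8A.C63.Nil.chkS; rewrite [Cfsg.Agent.LsF.fa47430_30.2, Cfsg.Agent.LsF.fa47430_24.2, Cfsg.Agent.LsF.fa47430_13.2, Cfsg.Agent.LsF.fa47430_11.2, Cfsg.Agent.LsF.fa47430_12.2, Cfsg.Agent.LsF.fa47430_32.2, Cfsg.Agent.LsF.fa47430_34.2, Cfsg.Agent.LsF.instNBEq_pat, Cfsg.Agent.LsF.isub_pat, Cfsg.Agent.LsF.ineg_pat, Cfsg.Agent.LsF.lappend_pat, Cfsg.Agent.LsF.and_eq, Cfsg.Agent.LsF.or_eq, Cfsg.Agent.LsF.not_eq, Cfsg.Agent.LsF.cond_eq, Cfsg.Agent.LsF.map_eq, Cfsg.Agent.LsF.contains_eq]; (try delta Cfsg.Agent.E8A.C63.Nil.chkS.match_1); (try delta Cfsg.Agent.E8A.C63.Nil.chkS._sparseCasesOn_1); (try delta Cfsg.Agent.E8A.C63.Nil.chkS._sparseCasesOn_2); (try delta Cfsg.Agent.E8A.C63.Nil.Crt.casesOn); exact rfl⟩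
private noncomputable def _root_.Cfsg.Agent.LsF.fa47430_36 : {f // @Cfsg.Agent.E8A.C63.Nil.chkR = f} := ⟨_, by delta Cfsg.Agent.E8A.C63.Nil.chkR; rewrite [Cfsg.Agent.LsF.fa47430_12.2, Cfsg.Agent.LsF.fa47430_27.2, Cfsg.Agent.LsF.fa47430_24.2, Cfsg.Agent.LsF.fa47430_35.2, Cfsg.Agent.LsF.instNBEq_pat, Cfsg.Agent.LsF.imul_pat, Cfsg.Agent.LsF.isub_pat, Cfsg.Agent.LsF.lappend_pat, Cfsg.Agent.LsF.and_eq, Cfsg.Agent.LsF.or_eq, Cfsg.Agent.LsF.instDecEq_eq, Cfsg.Agent.LsF.all_eq, Cfsg.Agent.LsF.any_eq, Cfsg.Agent.LsF.isEmpty_eq, Cfsg.Agent.LsF.instBEq_eq, Cfsg.Agent.LsF.idecLt_eq, Cfsg.Agent.LsF.dNodup_eq, Cfsg.Agent.LsF.decide_eq]; exact rfl⟩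
private noncomputable def _root_.Cfsg.Agent.LsF.fa47430_37 : {f // @Cfsg.Agent.E8A.C63.Nil.chkC = f} := ⟨_, by delta Cfsg.Agent.E8A.C63.Nil.chkC; rewrite [Cfsg.Agent.LsF.fa47430_3.2, Cfsg.Agent.LsF.fa47430_4.2, Cfsg.Agent.LsF.fa47430_6.2, Cfsg.Agent.LsF.fa47430_8.2, Cfsg.Agent.LsF.fa47430_9.2, Cfsg.Agent.LsF.fa47430_10.2, Cfsg.Agent.LsF.fa47430_26.2, Cfsg.Agent.LsF.fa47430_36.2, Cfsg.Agent.LsF.ineg_pat, Cfsg.Agent.LsF.finFintype_eq, Cfsg.Agent.LsF.dPi_eq, Cfsg.Agent.LsF.and_eq, Cfsg.Agent.LsF.decLt_eq, Cfsg.Agent.LsF.all_eq, Cfsg.Agent.LsF.flatMap_eq, Cfsg.Agent.LsF.range_eq, Cfsg.Agent.LsF.getD_eq, Cfsg.Agent.LsF.instIDecEq_eq, Cfsg.Agent.LsF.dAnd_eq, Cfsg.Agent.LsF.dOr_eq, Cfsg.Agent.LsF.dNot_eq, Cfsg.Agent.LsF.dBAll_eq, Cfsg.Agent.LsF.dMem_eq, Cfsg.Agent.LsF.dForallFin_eq, Cfsg.Agent.LsF.decide_eq]; exact rfl⟩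
theorem ok0 : chkC D0 = true := by (rewrite [Cfsg.Agent.LsF.fa47430_37.2]; decide +kernel)

/-- the class A1 -/
def D1 : Cls where
  j := 1
  y := ⟨0, 0, 0, 0, 0, 0, -1, 2⟩
  nu := ⟨1, 13, 169, 2197, 28561, 371293, 4826809, 0⟩
  off := [0, 1, 2, 3, 4, 5, 6]
  kil := (beta% delta% lq26c06afe50 fun a b c _ _ _ =>
 (let d:=(let d:=(let d:=(let d:=(let d:=(let d:=(c 0<|c 0<|c 0<|c 494<|b);
 (c 0<|c 0<|c 0<|c 0<|d));
 (c 0<|c 0<|c 482<|c 0<|c 0<|c 0<|c 0<|d));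
 (let d:=(let d:=(c 0<|c 0<|c 0<|c 0<|d);
 (c 0<|c 0<|c 0<|c 475<|d));
 (c 0<|c 466<|c 0<|c 0<|c 0<|c 470<|c 0<|d)));
 (let d:=(let d:=(let d:=(c 461<|c 0<|c 463<|c 0<|d);
 (c 0<|c 0<|c 0<|c 0<|
 d));
 (c 0<|c 451<|c 0<|c 453<|c 0<|c 0<|c 456<|d));
 (let d:=(let d:=(c 0<|c 447<|c 0<|c 0<|d);
 (c 442<|c 0<|c 0<|c 445<|d));
 (c 435<|c 0<|c 437<|c 0<|c 0<|c 0<|c 0<|d))));
 (let d:=(let d:=(let d:=(let d:=(c 0<|c 432<|c 0<|c 0<|d);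
 (c 0<|c 428<|c 0<|c 0<|d));
 (c 0<|
 c 0<|c 0<|c 423<|c 0<|c 0<|c 0<|d));
 (let d:=(let d:=(c 0<|c 0<|c 0<|c 0<|d);
 (c 0<|c 413<|c 0<|c 415<|d));
 (c 0<|c 406<|c 0<|c 0<|c 0<|c 410<|c 0<|d)));
 (let d:=(let d:=(let d:=(c 401<|c 0<|c 0<|c 0<|d);
 (c 0<|c 0<|c 0<|c 0<|d));
 (c 0<|c 0<|c 0<|c 0<|c 0<|c 395<|c 0<|d));
 (let d:=(let d:=(c 0<|c 0<|c 0<|c 389<|d);
 (c 0<|c 0<|c 384<|c 0<|d));
 (c 0<|c 0<|c 377<|c 0<|
 c 0<|c 380<|c 0<|d)))));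
 (let d:=(let d:=(let d:=(let d:=(let d:=(c 0<|c 0<|c 629<|c 0<|d);
 (c 0<|c 0<|c 0<|c 626<|d));
 (c 0<|c 617<|c 0<|c 0<|c 0<|c 0<|c 622<|d));
 (let d:=(let d:=(c 0<|c 0<|c 0<|c 0<|d);
 (c 0<|c 0<|c 0<|c 611<|d));
 (c 0<|c 0<|c 0<|c 0<|c 605<|c 0<|c 0<|d)));
 (let d:=(let d:=(let d:=(c 0<|c 0<|c 0<|c 600<|d);
 (c 593<|c 0<|c 0<|c 596<|d));
 (c 0<|c 0<|c 0<|c 0<|c 0<|c 591<|c 0<|
 d));
 (let d:=(let d:=(c 0<|c 583<|c 0<|c 0<|d);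
 (c 578<|c 0<|c 0<|c 0<|d));
 (c 571<|c 0<|c 0<|c 574<|c 0<|c 0<|c 0<|d))));
 (let d:=(let d:=(let d:=(let d:=(c 0<|c 0<|c 569<|c 0<|d);
 (c 0<|c 564<|c 0<|c 0<|d));
 (c 0<|c 0<|c 0<|c 559<|c 0<|c 561<|c 0<|d));
 (let d:=(let d:=(c 0<|
 c 553<|c 0<|c 555<|d);
 (c 0<|c 0<|c 550<|c 0<|d));
 (c 0<|c 0<|c 543<|c 0<|c 545<|c 0<|c 0<|d)));
 (let d:=(let d:=(let d:=(c 0<|c 0<|c 0<|c 540<|d);
 (c 0<|c 0<|c 0<|c 536<|d));
 (c 0<|c 0<|c 0<|c 0<|c 0<|c 531<|c 0<|d));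
 (let d:=(let d:=(c 0<|c 0<|c 524<|c 0<|d);
 (c 0<|c 0<|c 0<|c 0<|d));
 (a 0<|a 512<|a 0<|a 0<|a 0<|a 0<|a 0<|d)))))))
  rays := (beta% (fun (vq0 : List Cfsg.Agent.E8A.C63.Nil.Ray) => (beta% delta% lq26c06afe50 fun a b _ e _ _ =>
 (let d:type_of% vq0:=(let d:type_of% vq0:=(let d:type_of% vq0:=(let d:type_of% vq0:=(let d:type_of% vq0:=(a ⟨2287587540, (a 233<|b), (a (e (a 233<|b) (.conj 0 1 b 144443176014767998214397609160 2))<|b)⟩<|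
 a ⟨2287620300, (a 232<|b), (a (e (a 232<|b) (.conj 0 1 b 144443176014767998214397609154 2))<|b)⟩<|
 a ⟨2287623030, (a 234<|b), (a (e (a 234<|b) (.conj 0 1 b 1155545408118143985715180873233 2))<|b)⟩<|
 a ⟨2288084400, (a 235<|b), (a (e (a 235<|b) (.conj 0 1 b 9244363264945151885721446985867 2))<|b)⟩<|
 a ⟨2294082210, (a 236<|b), (a (e (a 236<|b) (.conj 0 1 b 73954906119561049859960246731868 2))<|b)⟩<|
 a ⟨2372053740, (a 237<|b), (a (e (a 237<|b) (.conj 0 1 b 591639248956488398879681973854949 2))<|b)⟩<|b);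
 (a ⟨2287087740, (a 218<|b), (a (e (a 218<|b) (.conj 0 1 b 35264447269230468314061916 2))<|b)⟩<|
 a ⟨2287123230, (a 223<|b), (a (e (a 223<|b) (.conj 0 1 b 282115578153843746512495330 2))<|b)⟩<|
 a ⟨2287123440, (a 230<|b), (a (e (a 230<|b) (.conj 0 1 b 2256924625230749972099962640 2))<|b)⟩<|
 a ⟨2287584600, (a 224<|b), (a (e (a 224<|b) (.conj 0 1 b 2256924625230749972099962643 2))<|b)⟩<|
 a ⟨2287584810, (a 231<|b), (a (e (a 231<|b) (.conj 0 1 b 18055397001845999776799701144 2))<|b)⟩<|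
 a ⟨2287587330, (a 225<|b), (a (e (a 225<|b) (.conj 0 1 b 18055397001845999776799701145 2))<|b)⟩<|
 d));
 (let d:type_of% d:=(a ⟨2257122420, (a 238<|b), (a (e (a 238<|b) (.conj 0 1 b 4397594713184492347189811454220078 4))<|b)⟩<|
 a ⟨2280625830, (a 203<|b), (a (e (a 203<|b) (.conj 0 1 b 68875873572715604547374 2))<|b)⟩<|a ⟨2280628560, (a 213<|b), (a (e (a 213<|b) (.conj 0 1 b 551006988581724836378993 2))<|b)⟩<|
 a ⟨2281089930, (a 217<|b), (a (e (a 217<|b) (.conj 0 1 b 4408055908653798691031947 2))<|b)⟩<|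
 a ⟨2281125420, (a 222<|b), (a (e (a 222<|b) (.conj 0 1 b 35264447269230468314061914 2))<|b)⟩<|
 a ⟨2281125630, (a 229<|b), (a (e (a 229<|b) (.conj 0 1 b 282115578153843116226044624 2))<|b)⟩<|
 d);
 (a ⟨2202654300, (a 202<|b), (a (e (a 202<|b) (.conj 0 1 b 551006988581724836378997 2))<|b)⟩<|
 a ⟨2202657030, (a 212<|b), (a (e (a 212<|b) (.conj 0 1 b 4408055908653798691031977 2))<|b)⟩<|
 a ⟨2203118400, (a 216<|b), (a (e (a 216<|b) (.conj 0 1 b 35264447269230389528255819 2))<|b)⟩<|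
 a ⟨2203153890, (a 221<|b), (a (e (a 221<|b) (.conj 0 1 b 282115578153843746512497242 2))<|b)⟩<|
 a ⟨2203154100, (a 228<|b), (a (e (a 228<|b) (.conj 0 1 b 2256924625230749972099977936 2))<|b)⟩<|
 d)));
 (let d:type_of% d:=(let d:type_of% d:=(a ⟨793016140, (a 226<|b), (a (e (a 226<|b) (.conj 0 1 b 476788162151120 4))<|b)⟩<|
 a ⟨2196159420, (a 161<|b), (a (e (a 161<|b) (.conj 1 1 b 2256924625230749972099979472 2))<|b)⟩<|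
 a ⟨2196159630, (a 183<|b), (a (e (a 183<|b) (.conj 0 1 b 282115578153843746512497434 2))<|b)⟩<|
 a ⟨2196195120, (a 193<|b), (a (e (a 193<|b) (.conj 0 1 b 35264447269230389528255843 2))<|b)⟩<|
 a ⟨2196656490, (a 199<|b), (a (e (a 199<|b) (.conj 0 1 b 4408055908653798691031980 2))<|b)⟩<|
 a ⟨2196659220, (a 209<|b), (a (e (a 209<|b) (.conj 0 1 b 35264447269230389528255841 2))<|b)⟩<|
 d);
 (a ⟨788684400, (a 197<|b), (a (e (a 197<|b) (.conj 0 1 b 14550419987 4))<|b)⟩<|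
 a ⟨788686220, (a 207<|b), (a (e (a 207<|b) (.conj 0 1 b 116403359897 4))<|b)⟩<|a ⟨792682940, (a 200<|b), (a (e (a 200<|b) (.conj 0 1 b 116403359900 4))<|b)⟩<|
 a ⟨792684760, (a 210<|b), (a (e (a 210<|b) (.conj 0 1 b 931226879201 4))<|b)⟩<|a ⟨792992340, (a 214<|b), (a (e (a 214<|b) (.conj 0 1 b 7449815033611 4))<|b)⟩<|
 a ⟨793016000, (a 219<|b), (a (e (a 219<|b) (.conj 0 1 b 59598520268890 4))<|b)⟩<|d));
 (let d:type_of% d:=(a ⟨736395800, (a 189<|b), (a (e (a 189<|b) (.conj 0 1 b 227350274 4))<|b)⟩<|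
 a ⟨736703380, (a 195<|b), (a (e (a 195<|b) (.conj 0 1 b 1818802195 4))<|b)⟩<|a ⟨736705200, (a 205<|b), (a (e (a 205<|b) (.conj 0 1 b 14550417561 4))<|b)⟩<|
 a ⟨788353020, (a 159<|b), (a (e (a 159<|b) (.conj 1 1 b 28418789 4))<|b)⟩<|a ⟨788353160, (a 181<|b), (a (e (a 181<|b) (.conj 0 1 b 227350312 4))<|b)⟩<|
 a ⟨788376820, (a 191<|b), (a (e (a 191<|b) (.conj 0 1 b 1818802498 4))<|b)⟩<|d);
 (a ⟨732373460, (a 154<|b), (a (e (a 154<|b) (.conj 1 1 b 444043 4))<|b)⟩<|a ⟨732373600, (a 176<|b), (a (e (a 176<|b) (.conj 0 1 b 3552344 4))<|b)⟩<|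
 a ⟨732397260, (a 186<|b), (a (e (a 186<|b) (.conj 0 1 b 28418754 4))<|b)⟩<|a ⟨736372000, (a 157<|b), (a (e (a 157<|b) (.conj 1 1 b 3552348 4))<|b)⟩<|
 a ⟨736372140, (a 179<|b), (a (e (a 179<|b) (.conj 0 1 b 28418784 4))<|b)⟩<|d))));
 (let d:type_of% d:=(let d:type_of% d:=(let d:type_of% d:=(a ⟨732040400, (a 133<|b), (a (e (a 133<|b) (.conj 3 1 b 867 4))<|b)⟩<|a ⟨732042220, (a 145<|b), (a (e (a 145<|b) (.conj 1 1 b 6937 4))<|b)⟩<|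
 a ⟨732064060, (a 139<|b), (a (e (a 139<|b) (.conj 2 1 b 6938 4))<|b)⟩<|a ⟨732064200, (a 167<|b), (a (e (a 167<|b) (.conj 0 1 b 55504 4))<|b)⟩<|
 a ⟨732065880, (a 150<|b), (a (e (a 150<|b) (.conj 1 1 b 55505 4))<|b)⟩<|a ⟨732066020, (a 172<|b), (a (e (a 172<|b) (.conj 0 1 b 444040 4))<|b)⟩<|
 d);
 (a ⟨90963810, (a 188<|b), (a (e (a 188<|b) (.conj 0 1 b 26023682 2))<|b)⟩<|a ⟨91425180, (a 194<|b), (a (e (a 194<|b) (.conj 0 1 b 208189459 2))<|b)⟩<|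
 a ⟨91427910, (a 204<|b), (a (e (a 204<|b) (.conj 0 1 b 1665515673 2))<|b)⟩<|a ⟨675753260, (a 121<|b), (a (e (a 121<|b) (.conj 6 1 b 1 4))<|b)⟩<|
 a ⟨727734280, (a 124<|b), (a (e (a 124<|b) (.conj 5 1 b 13 4))<|b)⟩<|a ⟨731732820, (a 128<|b), (a (e (a 128<|b) (.conj 4 1 b 108 4))<|b)⟩<|
 d));
 (let d:type_of% d:=(a ⟨84469140, (a 171<|b), (a (e (a 171<|b) (.conj 0 1 b 50824 2))<|b)⟩<|a ⟨84930300, (a 153<|b), (a (e (a 153<|b) (.conj 1 1 b 50827 2))<|b)⟩<|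
 a ⟨84930510, (a 175<|b), (a (e (a 175<|b) (.conj 0 1 b 406616 2))<|b)⟩<|a ⟨84966000, (a 185<|b), (a (e (a 185<|b) (.conj 0 1 b 3252930 2))<|b)⟩<|
 a ⟨90928110, (a 156<|b), (a (e (a 156<|b) (.conj 1 1 b 406620 2))<|b)⟩<|a ⟨90928320, (a 178<|b), (a (e (a 178<|b) (.conj 0 1 b 3252960 2))<|b)⟩<|
 d);
 (a ⟨84430710, (a 132<|b), (a (e (a 132<|b) (.conj 3 1 b 99 2))<|b)⟩<|
 a ⟨84433440, (a 144<|b), (a (e (a 144<|b) (.conj 1 1 b 793 2))<|b)⟩<|a ⟨84466200, (a 138<|b), (a (e (a 138<|b) (.conj 2 1 b 794 2))<|b)⟩<|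
 a ⟨84466410, (a 166<|b), (a (e (a 166<|b) (.conj 0 1 b 6352 2))<|b)⟩<|a ⟨84468930, (a 149<|b), (a (e (a 149<|b) (.conj 1 1 b 6353 2))<|b)⟩<|
 d)));
 (let d:type_of% d:=(let d:type_of% d:=(a ⟨6497610, (a 170<|b), (a (e (a 170<|b) (.conj 0 1 b 415368 2))<|b)⟩<|a ⟨6958770, (a 152<|b), (a (e (a 152<|b) (.conj 1 1 b 415371 2))<|b)⟩<|
 a ⟨6958980, (a 174<|b), (a (e (a 174<|b) (.conj 0 1 b 3322968 2))<|b)⟩<|a ⟨6994470, (a 184<|b), (a (e (a 184<|b) (.conj 0 1 b 26583746 2))<|b)⟩<|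
 a ⟨77971530, (a 123<|b), (a (e (a 123<|b) (.conj 5 1 b 1 2))<|b)⟩<|a ⟨83969340, (a 127<|b), (a (e (a 127<|b) (.conj 4 1 b 12 2))<|b)⟩<|d);
 (a ⟨6459180, (a 131<|b), (a (e (a 131<|b) (.conj 3 1 b 811 2))<|b)⟩<|
 a ⟨6461910, (a 143<|b), (a (e (a 143<|b) (.conj 1 1 b 6489 2))<|b)⟩<|a ⟨6494670, (a 137<|b), (a (e (a 137<|b) (.conj 2 1 b 6490 2))<|b)⟩<|
 a ⟨6494880, (a 165<|b), (a (e (a 165<|b) (.conj 0 1 b 51920 2))<|b)⟩<|a ⟨6497400, (a 148<|b), (a (e (a 148<|b) (.conj 1 1 b 51921 2))<|b)⟩<|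
 d));
 (let d:type_of% d:=(a ⟨464100, (a 142<|b), (a (e (a 142<|b) (.conj 1 1 b 51937 2))<|b)⟩<|
 a ⟨496860, (a 136<|b), (a (e (a 136<|b) (.conj 2 1 b 51938 2))<|b)⟩<|a ⟨497070, (a 164<|b), (a (e (a 164<|b) (.conj 0 1 b 415504 2))<|b)⟩<|
 a ⟨499590, (a 147<|b), (a (e (a 147<|b) (.conj 1 1 b 415505 2))<|b)⟩<|a ⟨499800, (a 169<|b), (a (e (a 169<|b) (.conj 0 1 b 3324040 2))<|b)⟩<|
 a ⟨5997810, (a 126<|b), (a (e (a 126<|b) (.conj 4 1 b 101 2))<|b)⟩<|d);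
 (a ⟨210, (a 162<|b), (a (e (a 162<|b) (.conj 0 1 b 26592450 2))<|b)⟩<|a ⟨2730, (a 141<|b), (a (e (a 141<|b) (.conj 1 1 b 415499 2))<|b)⟩<|
 a ⟨35490, (a 135<|b), (a (e (a 135<|b) (.conj 2 1 b 415507 2))<|b)⟩<|a ⟨35700, (a 163<|b), (a (e (a 163<|b) (.conj 0 1 b 3324056 2))<|b)⟩<|
 a ⟨461370, (a 130<|b), (a (e (a 130<|b) (.conj 3 1 b 6492 2))<|b)⟩<|d)))));
 (let d:type_of% d:=(let d:type_of% d:=(let d:type_of% d:=(let d:type_of% d:=(a ⟨-464100, (a 97<|b), (a (e (a 97<|b) (.conj 1 1 b 415513 2))<|b)⟩<|a ⟨-461370, (a 109<|b), (a (e (a 109<|b) (.conj 3 1 b 51939 2))<|b)⟩<|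
 a ⟨-35700, (a 76<|b), (a (e (a 76<|b) (.conj 0 1 b 26592464 2))<|b)⟩<|a ⟨-35490, (a 104<|b), (a (e (a 104<|b) (.conj 2 1 b 3324058 2))<|b)⟩<|
 a ⟨-2730, (a 98<|b), (a (e (a 98<|b) (.conj 1 1 b 3323993 2))<|b)⟩<|a ⟨-210, (a 77<|b), (a (e (a 77<|b) (.conj 0 1 b 212739600 2))<|b)⟩<|
 d);
 (a ⟨-6459180, (a 108<|b), (a (e (a 108<|b) (.conj 3 1 b 6499 2))<|b)⟩<|a ⟨-5997810, (a 113<|b), (a (e (a 113<|b) (.conj 4 1 b 812 2))<|b)⟩<|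
 a ⟨-499800, (a 70<|b), (a (e (a 70<|b) (.conj 0 1 b 26592904 2))<|b)⟩<|a ⟨-499590, (a 92<|b), (a (e (a 92<|b) (.conj 1 1 b 3324113 2))<|b)⟩<|
 a ⟨-497070, (a 75<|b), (a (e (a 75<|b) (.conj 0 1 b 3324112 2))<|b)⟩<|a ⟨-496860, (a 103<|b), (a (e (a 103<|b) (.conj 2 1 b 415514 2))<|b)⟩<|
 d));
 (let d:type_of% d:=(a ⟨-6958770, (a 87<|b), (a (e (a 87<|b) (.conj 1 1 b 3327627 2))<|b)⟩<|a ⟨-6497610, (a 69<|b), (a (e (a 69<|b) (.conj 0 1 b 3327624 2))<|b)⟩<|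
 a ⟨-6497400, (a 91<|b), (a (e (a 91<|b) (.conj 1 1 b 415953 2))<|b)⟩<|a ⟨-6494880, (a 74<|b), (a (e (a 74<|b) (.conj 0 1 b 415952 2))<|b)⟩<|
 a ⟨-6494670, (a 102<|b), (a (e (a 102<|b) (.conj 2 1 b 51994 2))<|b)⟩<|a ⟨-6461910, (a 96<|b), (a (e (a 96<|b) (.conj 1 1 b 51993 2))<|b)⟩<|
 d);
 (a ⟨-84430710, (a 107<|b), (a (e (a 107<|b) (.conj 3 1 b 867 2))<|b)⟩<|
 a ⟨-83969340, (a 112<|b), (a (e (a 112<|b) (.conj 4 1 b 108 2))<|b)⟩<|a ⟨-77971530, (a 116<|b), (a (e (a 116<|b) (.conj 5 1 b 13 2))<|b)⟩<|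
 a ⟨-6994470, (a 55<|b), (a (e (a 55<|b) (.conj 0 1 b 212968130 2))<|b)⟩<|a ⟨-6958980, (a 65<|b), (a (e (a 65<|b) (.conj 0 1 b 26621016 2))<|b)⟩<|
 d)));
 (let d:type_of% d:=(let d:type_of% d:=(a ⟨-84930300, (a 86<|b), (a (e (a 86<|b) (.conj 1 1 b 444043 2))<|b)⟩<|
 a ⟨-84469140, (a 68<|b), (a (e (a 68<|b) (.conj 0 1 b 444040 2))<|b)⟩<|a ⟨-84468930, (a 90<|b), (a (e (a 90<|b) (.conj 1 1 b 55505 2))<|b)⟩<|
 a ⟨-84466410, (a 73<|b), (a (e (a 73<|b) (.conj 0 1 b 55504 2))<|b)⟩<|a ⟨-84466200, (a 101<|b), (a (e (a 101<|b) (.conj 2 1 b 6938 2))<|b)⟩<|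
 a ⟨-84433440, (a 95<|b), (a (e (a 95<|b) (.conj 1 1 b 6937 2))<|b)⟩<|d);
 (a ⟨-91425180, (a 45<|b), (a (e (a 45<|b) (.conj 0 1 b 1818802195 2))<|b)⟩<|
 a ⟨-90963810, (a 51<|b), (a (e (a 51<|b) (.conj 0 1 b 227350274 2))<|b)⟩<|a ⟨-90928320, (a 61<|b), (a (e (a 61<|b) (.conj 0 1 b 28418784 2))<|b)⟩<|
 a ⟨-90928110, (a 83<|b), (a (e (a 83<|b) (.conj 1 1 b 3552348 2))<|b)⟩<|a ⟨-84966000, (a 54<|b), (a (e (a 54<|b) (.conj 0 1 b 28418754 2))<|b)⟩<|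
 a ⟨-84930510, (a 64<|b), (a (e (a 64<|b) (.conj 0 1 b 3552344 2))<|b)⟩<|d));
 (let d:type_of% d:=(a ⟨-732042220, (a 93<|b), (a (e (a 93<|b) (.conj 1 1 b 518937 4))<|b)⟩<|
 a ⟨-732040400, (a 105<|b), (a (e (a 105<|b) (.conj 3 1 b 64867 4))<|b)⟩<|a ⟨-731732820, (a 110<|b), (a (e (a 110<|b) (.conj 4 1 b 8108 4))<|b)⟩<|
 a ⟨-727734280, (a 114<|b), (a (e (a 114<|b) (.conj 5 1 b 1013 4))<|b)⟩<|a ⟨-675753260, (a 117<|b), (a (e (a 117<|b) (.conj 6 1 b 126 4))<|b)⟩<|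
 a ⟨-91427910, (a 35<|b), (a (e (a 35<|b) (.conj 0 1 b 14550417561 2))<|b)⟩<|d);
 (a ⟨-732373460, (a 84<|b), (a (e (a 84<|b) (.conj 1 1 b 33212043 4))<|b)⟩<|a ⟨-732066020, (a 66<|b), (a (e (a 66<|b) (.conj 0 1 b 33212040 4))<|b)⟩<|
 a ⟨-732065880, (a 88<|b), (a (e (a 88<|b) (.conj 1 1 b 4151505 4))<|b)⟩<|a ⟨-732064200, (a 71<|b), (a (e (a 71<|b) (.conj 0 1 b 4151504 4))<|b)⟩<|
 a ⟨-732064060, (a 99<|b), (a (e (a 99<|b) (.conj 2 1 b 518938 4))<|b)⟩<|d))));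
 (let d:type_of% d:=(let d:type_of% d:=(let d:type_of% d:=(a ⟨-736703380, (a 43<|b), (a (e (a 43<|b) (.conj 0 1 b 136036530195 4))<|b)⟩<|a ⟨-736395800, (a 49<|b), (a (e (a 49<|b) (.conj 0 1 b 17004566274 4))<|b)⟩<|
 a ⟨-736372140, (a 59<|b), (a (e (a 59<|b) (.conj 0 1 b 2125570784 4))<|b)⟩<|a ⟨-736372000, (a 81<|b), (a (e (a 81<|b) (.conj 1 1 b 265696348 4))<|b)⟩<|
 a ⟨-732397260, (a 52<|b), (a (e (a 52<|b) (.conj 0 1 b 2125570754 4))<|b)⟩<|a ⟨-732373600, (a 62<|b), (a (e (a 62<|b) (.conj 0 1 b 265696344 4))<|b)⟩<|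
 d);
 (a ⟨-788686220, (a 31<|b), (a (e (a 31<|b) (.conj 0 1 b 8706337951897 4))<|b)⟩<|a ⟨-788684400, (a 41<|b), (a (e (a 41<|b) (.conj 0 1 b 1088292243987 4))<|b)⟩<|
 a ⟨-788376820, (a 47<|b), (a (e (a 47<|b) (.conj 0 1 b 136036530498 4))<|b)⟩<|a ⟨-788353160, (a 57<|b), (a (e (a 57<|b) (.conj 0 1 b 17004566312 4))<|b)⟩<|
 a ⟨-788353020, (a 79<|b), (a (e (a 79<|b) (.conj 1 1 b 2125570789 4))<|b)⟩<|a ⟨-736705200, (a 33<|b), (a (e (a 33<|b) (.conj 0 1 b 1088292241561 4))<|b)⟩<|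
 d));
 (let d:type_of% d:=(a ⟨-2196159420, (a 78<|b), (a (e (a 78<|b) (.conj 1 1 b 17112205096655313270889470160 2))<|b)⟩<|a ⟨-793016140, (a 12<|b), (a (e (a 12<|b) (.conj 0 1 b 35661160250983120 4))<|b)⟩<|
 a ⟨-793016000, (a 19<|b), (a (e (a 19<|b) (.conj 0 1 b 4457645031372890 4))<|b)⟩<|a ⟨-792992340, (a 24<|b), (a (e (a 24<|b) (.conj 0 1 b 557205628921611 4))<|b)⟩<|
 a ⟨-792684760, (a 28<|b), (a (e (a 28<|b) (.conj 0 1 b 69650703615201 4))<|b)⟩<|a ⟨-792682940, (a 38<|b), (a (e (a 38<|b) (.conj 0 1 b 8706337951900 4))<|b)⟩<|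
 d);
 (a ⟨-2202654300, (a 37<|b), (a (e (a 37<|b) (.conj 0 1 b 4782247357232926947850613 2))<|b)⟩<|
 a ⟨-2196659220, (a 30<|b), (a (e (a 30<|b) (.conj 0 1 b 306063830862907324662439265 2))<|b)⟩<|
 a ⟨-2196656490, (a 40<|b), (a (e (a 40<|b) (.conj 0 1 b 38257978857863415582804908 2))<|b)⟩<|
 a ⟨-2196195120, (a 46<|b), (a (e (a 46<|b) (.conj 0 1 b 306063830862907324662439267 2))<|b)⟩<|
 a ⟨-2196159630, (a 56<|b), (a (e (a 56<|b) (.conj 0 1 b 2139025637081914158861183770 2))<|b)⟩<|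
 d)));
 (let d:type_of% d:=(let d:type_of% d:=(a ⟨-2280625830, (a 36<|b), (a (e (a 36<|b) (.conj 0 1 b 597780919654115868481326 2))<|b)⟩<|
 a ⟨-2257122420, (a 0<|b), (a (e (a 0<|b) (.conj 0 1 b 328916148371611219130345832030476078 4))<|b)⟩<|
 a ⟨-2203154100, (a 11<|b), (a (e (a 11<|b) (.conj 0 1 b 17112205096655313270889468624 2))<|b)⟩<|
 a ⟨-2203153890, (a 18<|b), (a (e (a 18<|b) (.conj 0 1 b 2139025637081914158861183578 2))<|b)⟩<|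
 a ⟨-2203118400, (a 23<|b), (a (e (a 23<|b) (.conj 0 1 b 306063830862907324662439243 2))<|b)⟩<|
 a ⟨-2202657030, (a 27<|b), (a (e (a 27<|b) (.conj 0 1 b 38257978857863415582804905 2))<|b)⟩<|
 d);
 (a ⟨-2287087740, (a 21<|b), (a (e (a 21<|b) (.conj 0 1 b 267378204635239269857647708 2))<|b)⟩<|
 a ⟨-2281125630, (a 10<|b), (a (e (a 10<|b) (.conj 0 1 b 2448510646903258597299512016 2))<|b)⟩<|
 a ⟨-2281125420, (a 17<|b), (a (e (a 17<|b) (.conj 0 1 b 267378204635239269857647706 2))<|b)⟩<|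
 a ⟨-2281089930, (a 22<|b), (a (e (a 22<|b) (.conj 0 1 b 38257978857863415582804875 2))<|b)⟩<|
 a ⟨-2280628560, (a 26<|b), (a (e (a 26<|b) (.conj 0 1 b 4782247357232926947850609 2))<|b)⟩<|d));
 (let d:type_of% d:=(a ⟨-2287587540, (a 6<|b), (a (e (a 6<|b) (.conj 0 1 b 1095181126185940049336925013192 2))<|b)⟩<|
 a ⟨-2287587330, (a 14<|b), (a (e (a 14<|b) (.conj 0 1 b 136897640773242506167115626649 2))<|b)⟩<|
 a ⟨-2287584810, (a 8<|b), (a (e (a 8<|b) (.conj 0 1 b 136897640773242506167115626648 2))<|b)⟩<|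
 a ⟨-2287584600, (a 15<|b), (a (e (a 15<|b) (.conj 0 1 b 17112205096655313270889453331 2))<|b)⟩<|
 a ⟨-2287123440, (a 9<|b), (a (e (a 9<|b) (.conj 0 1 b 17112205096655313270889453328 2))<|b)⟩<|
 a ⟨-2287123230, (a 16<|b), (a (e (a 16<|b) (.conj 0 1 b 2139025637081914158861181666 2))<|b)⟩<|
 d);
 (a ⟨-2372053740, (a 2<|b), (a (e (a 2<|b) (.conj 0 1 b 5134899000174462573843866261922533 2))<|b)⟩<|
 a ⟨-2294082210, (a 3<|b), (a (e (a 3<|b) (.conj 0 1 b 641862375021807821730483282740316 2))<|b)⟩<|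
 a ⟨-2288084400, (a 4<|b), (a (e (a 4<|b) (.conj 0 1 b 70091592075900163157563200843915 2))<|b)⟩<|
 a ⟨-2287623030, (a 5<|b), (a (e (a 5<|b) (.conj 0 1 b 8761449009487520394695400105489 2))<|b)⟩<|
 a ⟨-2287620300, (a 7<|b), (a (e (a 7<|b) (.conj 0 1 b 1095181126185940049336925013186 2))<|b)⟩<|
 d)))))) :
 List Cfsg.Agent.E8A.C63.Nil.Ray)) _)

theorem ok1 : chkC D1 = true := by (rewrite [Cfsg.Agent.LsF.fa47430_37.2]; decide +kernel)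

/-- the class 2A1 -/
def D2 : Cls where
  j := 2
  y := ⟨0, 0, 0, 0, -1, 2, -2, 2⟩
  nu := ⟨1, 13, 169, 2197, 28561, 0, 371293, 0⟩
  off := [0, 1, 2, 3, 4, 6]
  kil := (beta% delta% lq26c06afe50 fun a b c _ _ _ =>
 (let d:=(let d:=(let d:=(let d:=(let d:=(let d:=(c 0<|c 492<|c 0<|c 494<|b);
 (c 0<|c 0<|c 0<|c 0<|d));
 (c 0<|c 0<|c 482<|c 0<|
 c 484<|c 0<|c 0<|d));
 (let d:=(let d:=(c 0<|c 477<|c 0<|c 0<|d);
 (c 472<|c 0<|c 0<|c 475<|d));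
 (c 0<|c 466<|c 0<|c 468<|c 0<|c 470<|c 0<|d)));
 (let d:=(let d:=(let d:=(c 461<|c 0<|c 462<|c 0<|d);
 (c 0<|c 458<|c 0<|c 0<|d));
 (c 0<|c 451<|c 0<|c 452<|c 0<|c 0<|c 456<|d));
 (let d:=(let d:=(c 0<|c 446<|c 0<|c 0<|d);
 (c 442<|c 0<|c 0<|c 445<|
 d));
 (c 435<|c 0<|c 436<|c 0<|c 0<|c 440<|c 0<|d))));
 (let d:=(let d:=(let d:=(let d:=(c 0<|c 432<|c 0<|c 0<|d);
 (c 0<|c 428<|c 0<|c 430<|d));
 (c 0<|c 421<|c 0<|c 423<|c 0<|c 0<|c 426<|d));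
 (let d:=(let d:=(c 0<|c 0<|c 0<|c 0<|d);
 (c 0<|c 413<|c 0<|c 414<|d));
 (c 0<|c 406<|c 0<|
 c 408<|c 0<|c 410<|c 0<|d)));
 (let d:=(let d:=(let d:=(c 401<|c 0<|c 0<|c 404<|d);
 (c 0<|c 0<|c 399<|c 0<|d));
 (c 0<|c 0<|c 0<|c 393<|c 0<|c 395<|c 0<|d));
 (let d:=(let d:=(c 0<|c 387<|c 0<|c 389<|d);
 (c 382<|c 0<|c 384<|c 0<|d));
 (c 0<|c 0<|c 377<|c 0<|c 0<|c 634<|c 0<|d)))));
 (let d:=(let d:=(let d:=(let d:=(let d:=(c 0<|c 0<|c 371<|c 0<|d);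
 (c 0<|c 624<|c 0<|
 c 626<|d));
 (c 0<|c 617<|c 0<|c 619<|c 0<|c 0<|c 622<|d));
 (let d:=(let d:=(c 0<|c 613<|c 0<|c 0<|d);
 (c 0<|c 0<|c 0<|c 611<|d));
 (c 0<|c 602<|c 0<|c 0<|c 605<|c 0<|c 607<|d)));
 (let d:=(let d:=(let d:=(c 0<|c 598<|c 0<|c 600<|d);
 (c 592<|c 0<|c 0<|c 596<|d));
 (c 0<|c 0<|
 c 0<|c 0<|c 0<|c 591<|c 0<|d));
 (let d:=(let d:=(c 0<|c 583<|c 0<|c 585<|d);
 (c 578<|c 0<|c 580<|c 0<|d));
 (c 570<|c 0<|c 0<|c 574<|c 0<|c 576<|c 0<|d))));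
 (let d:=(let d:=(let d:=(let d:=(c 0<|c 0<|c 569<|c 0<|d);
 (c 0<|c 564<|c 0<|c 566<|d));
 (c 0<|c 0<|c 0<|c 559<|c 0<|c 560<|c 0<|d));
 (let d:=(let d:=(c 0<|c 553<|c 0<|c 554<|d);
 (c 548<|c 0<|
 c 550<|c 0<|d));
 (c 0<|c 0<|c 543<|c 0<|c 544<|c 0<|c 0<|d)));
 (let d:=(let d:=(let d:=(c 0<|c 538<|c 0<|c 540<|d);
 (c 0<|c 534<|c 0<|c 536<|d));
 (c 0<|c 0<|c 0<|c 529<|c 0<|c 531<|c 0<|d));
 (let d:=(let d:=(c 522<|c 0<|c 524<|c 0<|d);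
 (c 0<|c 0<|c 0<|c 0<|d));
 (a 0<|a 512<|a 0<|a 514<|a 0<|a 0<|a 0<|d)))))))
  rays := (beta% (fun (vq0 : List Cfsg.Agent.E8A.C63.Nil.Ray) => (beta% delta% lq26c06afe50 fun a b _ e _ _ =>
 (let d:type_of% vq0:=(let d:type_of% vq0:=(let d:type_of% vq0:=(let d:type_of% vq0:=(let d:type_of% vq0:=(a ⟨182356020, (a 225<|b), (a (e (a 225<|b) (.conj 0 1 b 914069250132185379756903380060 3))<|b)⟩<|
 a ⟨182356230, (a 233<|b), (a (e (a 233<|b) (.conj 0 1 b 7312554001057483038055227040480 3))<|b)⟩<|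
 a ⟨182388990, (a 232<|b), (a (e (a 232<|b) (.conj 0 1 b 468003456067678914435534530590737 3))<|b)⟩<|
 a ⟨182391720, (a 234<|b), (a (e (a 234<|b) (.conj 0 1 b 58500432008459864304441816323842 3))<|b)⟩<|
 a ⟨182853090, (a 235<|b), (a (e (a 235<|b) (.conj 0 1 b 468003456067678914435534530590739 3))<|b)⟩<|b);
 (a ⟨181856430, (a 218<|b), (a (e (a 218<|b) (.conj 0 1 b 468003456067678914435534530590810 3))<|b)⟩<|
 a ⟨181891920, (a 223<|b), (a (e (a 223<|b) (.conj 0 1 b 58500432008459864304441816323851 3))<|b)⟩<|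
 a ⟨181892130, (a 230<|b), (a (e (a 230<|b) (.conj 0 1 b 468003456067678914435534530590808 3))<|b)⟩<|
 a ⟨182353290, (a 224<|b), (a (e (a 224<|b) (.conj 0 1 b 7312554001057483038055227040481 3))<|b)⟩<|
 a ⟨182353500, (a 231<|b), (a (e (a 231<|b) (.conj 0 1 b 58500432008459864304441816323848 3))<|b)⟩<|
 d));
 (let d:type_of% d:=(a ⟨168899850, (a 183<|b), (a (e (a 183<|b) (.conj 0 1 b 851293327409946713178 3))<|b)⟩<|
 a ⟨168935340, (a 193<|b), (a (e (a 193<|b) (.conj 0 1 b 106411665925970901363 3))<|b)⟩<|a ⟨169396710, (a 199<|b), (a (e (a 199<|b) (.conj 0 1 b 13301458240746362670 3))<|b)⟩<|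
 a ⟨169399440, (a 209<|b), (a (e (a 209<|b) (.conj 0 1 b 106411665925970901361 3))<|b)⟩<|
 a ⟨177881620, (a 238<|b), (a (e (a 238<|b) (.conj 0 1 b 1152803068493035561861725933855068244636 6))<|b)⟩<|
 d);
 (a ⟨117262740, (a 221<|b), (a (e (a 221<|b) (.conj 0 1 b 63478744413697880251482 6))<|b)⟩<|a ⟨117262880, (a 228<|b), (a (e (a 228<|b) (.conj 0 1 b 507829955309583042011856 6))<|b)⟩<|
 a ⟨125900600, (a 236<|b), (a (e (a 236<|b) (.conj 0 1 b 279182470397926492267160896330413148 6))<|b)⟩<|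
 a ⟨168899640, (a 161<|b), (a (e (a 161<|b) (.conj 1 1 b 6810346619279573705424 3))<|b)⟩<|d)));
 (let d:type_of% d:=(let d:type_of% d:=(a ⟨91425180, (a 197<|b), (a (e (a 197<|b) (.conj 0 1 (a (e 44 1)<|b) 14550419987 4))<|b)⟩<|
 a ⟨91427910, (a 207<|b), (a (e (a 207<|b) (.conj 0 1 (a (e 34 1)<|b) 116403359897 4))<|b)⟩<|a ⟨116929680, (a 202<|b), (a (e (a 202<|b) (.conj 0 1 b 123981922683003672366 6))<|b)⟩<|
 a ⟨116931500, (a 212<|b), (a (e (a 212<|b) (.conj 0 1 b 991855381464029378929 6))<|b)⟩<|a ⟨117239080, (a 216<|b), (a (e (a 216<|b) (.conj 0 1 b 7934843051712235031435 6))<|b)⟩<|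
 d);
 (a ⟨77971530, (a 124<|b), (a (e (a 124<|b) (.conj 6 1 (a (e 118 (-1))<|b) 13 4))<|b)⟩<|
 a ⟨90928110, (a 159<|b), (a (e (a 159<|b) (.conj 1 1 (a (e 82 1)<|b) 28418789 4))<|b)⟩<|a ⟨90928320, (a 181<|b), (a (e (a 181<|b) (.conj 0 1 (a (e 60 1)<|b) 227350312 4))<|b)⟩<|
 a ⟨90963810, (a 191<|b), (a (e (a 191<|b) (.conj 0 1 (a (e 50 1)<|b) 1818802498 4))<|b)⟩<|d));
 (let d:type_of% d:=(a ⟨64948660, (a 200<|b), (a (e (a 200<|b) (.conj 0 1 b 30269024091341916 6))<|b)⟩<|a ⟨64950480, (a 210<|b), (a (e (a 210<|b) (.conj 0 1 b 242152192730735329 6))<|b)⟩<|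
 a ⟨65258060, (a 214<|b), (a (e (a 214<|b) (.conj 0 1 b 1937217541845882635 6))<|b)⟩<|a ⟨65281720, (a 219<|b), (a (e (a 219<|b) (.conj 0 1 b 15497740334767061082 6))<|b)⟩<|
 a ⟨65281860, (a 226<|b), (a (e (a 226<|b) (.conj 0 1 b 123981922678136488656 6))<|b)⟩<|d);
 (a ⟨56312760, (a 172<|b), (a (e (a 172<|b) (.conj 0 1 b 1554368136 6))<|b)⟩<|a ⟨56620200, (a 154<|b), (a (e (a 154<|b) (.conj 1 1 b 1554368139 6))<|b)⟩<|
 a ⟨56620340, (a 176<|b), (a (e (a 176<|b) (.conj 0 1 b 12434945112 6))<|b)⟩<|a ⟨56644000, (a 186<|b), (a (e (a 186<|b) (.conj 0 1 b 99479560898 6))<|b)⟩<|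
 d))));
 (let d:type_of% d:=(let d:type_of% d:=(let d:type_of% d:=(a ⟨56287140, (a 133<|b), (a (e (a 133<|b) (.conj 3 1 b 3035875 6))<|b)⟩<|
 a ⟨56288960, (a 145<|b), (a (e (a 145<|b) (.conj 1 1 b 24287001 6))<|b)⟩<|a ⟨56310800, (a 139<|b), (a (e (a 139<|b) (.conj 2 1 b 24287002 6))<|b)⟩<|
 a ⟨56310940, (a 167<|b), (a (e (a 167<|b) (.conj 0 1 b 194296016 6))<|b)⟩<|a ⟨56312620, (a 150<|b), (a (e (a 150<|b) (.conj 1 1 b 194296017 6))<|b)⟩<|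
 d);
 (a ⟨45464160, (a 179<|b), (a (e (a 179<|b) (.cube 0 18 (a 120<|a 123<|a 179<|b)))<|b)⟩<|a ⟨45481905, (a 189<|b), (a (e (a 189<|b) (.cube 0 23 (a 120<|a 123<|a 189<|b)))<|b)⟩<|
 a ⟨45712590, (a 195<|b), (a (e (a 195<|b) (.cube 0 27 (a 120<|a 123<|a 195<|b)))<|b)⟩<|a ⟨45713955, (a 205<|b), (a (e (a 205<|b) (.cube 0 37 (a 120<|a 123<|a 205<|b)))<|b)⟩<|
 a ⟨55979560, (a 128<|b), (a (e (a 128<|b) (.conj 4 1 b 379484 6))<|b)⟩<|d));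
 (let d:type_of% d:=(a ⟨12992280, (a 188<|b), (a (e (a 188<|b) (.conj 0 1 b 25979410616951523 3))<|b)⟩<|
 a ⟨13453650, (a 194<|b), (a (e (a 194<|b) (.conj 0 1 b 3247426327118940 3))<|b)⟩<|a ⟨13456380, (a 204<|b), (a (e (a 204<|b) (.conj 0 1 b 25979410616951521 3))<|b)⟩<|
 a ⟨38985765, (a 121<|b), (a (e (a 121<|b) (.cube 0 3 (a 120<|a 121<|a 123<|b)))<|b)⟩<|a ⟨45464055, (a 157<|b), (a (e (a 157<|b) (.cube 0 11 (a 120<|a 123<|a 157<|b)))<|b)⟩<|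
 d);
 (a ⟨4639320, (a 174<|b), (a (e (a 174<|b) (.conj 0 1 b 50980382520408 6))<|b)⟩<|
 a ⟨4662980, (a 184<|b), (a (e (a 184<|b) (.conj 0 1 b 407843060163266 6))<|b)⟩<|a ⟨12956580, (a 156<|b), (a (e (a 156<|b) (.conj 1 1 b 1662682279757333200 3))<|b)⟩<|
 a ⟨12956790, (a 178<|b), (a (e (a 178<|b) (.conj 0 1 b 207835284969666650 3))<|b)⟩<|d)));
 (let d:type_of% d:=(let d:type_of% d:=(a ⟨4329780, (a 137<|b), (a (e (a 137<|b) (.conj 2 1 b 99571059610 6))<|b)⟩<|a ⟨4329920, (a 165<|b), (a (e (a 165<|b) (.conj 0 1 b 796568476880 6))<|b)⟩<|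
 a ⟨4331600, (a 148<|b), (a (e (a 148<|b) (.conj 1 1 b 796568476881 6))<|b)⟩<|a ⟨4331740, (a 170<|b), (a (e (a 170<|b) (.conj 0 1 b 6372547815048 6))<|b)⟩<|
 a ⟨4639180, (a 152<|b), (a (e (a 152<|b) (.conj 1 1 b 6372547815051 6))<|b)⟩<|d);
 (a ⟨499800, (a 169<|b), (a (e (a 169<|b) (.conj 0 1 b 720 3))<|b)⟩<|a ⟨3998540, (a 126<|b), (a (e (a 126<|b) (.conj 4 1 b 1555797806 6))<|b)⟩<|
 a ⟨4306120, (a 131<|b), (a (e (a 131<|b) (.conj 3 1 b 12446382451 6))<|b)⟩<|a ⟨4307940, (a 143<|b), (a (e (a 143<|b) (.conj 1 1 b 99571059609 6))<|b)⟩<|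
 d));
 (let d:type_of% d:=(a ⟨461370, (a 130<|b), (a (e (a 130<|b) (.conj 3 1 b 89 3))<|b)⟩<|a ⟨464100, (a 142<|b), (a (e (a 142<|b) (.conj 1 1 b 11 3))<|b)⟩<|
 a ⟨496860, (a 136<|b), (a (e (a 136<|b) (.conj 2 1 b 721 3))<|b)⟩<|a ⟨497070, (a 164<|b), (a (e (a 164<|b) (.conj 0 1 b 5768 3))<|b)⟩<|a ⟨499590, (a 147<|b), (a (e (a 147<|b) (.conj 1 1 b 90 3))<|b)⟩<|
 d);
 (a ⟨210, (a 162<|b), (a (e (a 162<|b) (.conj 0 1 b 369346 3))<|b)⟩<|a ⟨2730, (a 141<|b), (a (e (a 141<|b) (.conj 1 1 b 1 3))<|b)⟩<|a ⟨35490, (a 135<|b), (a (e (a 135<|b) (.conj 2 1 b 5771 3))<|b)⟩<|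
 a ⟨35700, (a 163<|b), (a (e (a 163<|b) (.conj 0 1 b 46168 3))<|b)⟩<|d)))));
 (let d:type_of% d:=(let d:type_of% d:=(let d:type_of% d:=(let d:type_of% d:=(a ⟨-461370, (a 109<|b), (a (e (a 109<|b) (.conj 3 1 b 601 3))<|b)⟩<|a ⟨-35700, (a 76<|b), (a (e (a 76<|b) (.conj 0 1 b 369360 3))<|b)⟩<|
 a ⟨-35490, (a 104<|b), (a (e (a 104<|b) (.conj 2 1 b 46170 3))<|b)⟩<|a ⟨-2730, (a 98<|b), (a (e (a 98<|b) (.conj 1 1 b 9 3))<|b)⟩<|a ⟨-210, (a 77<|b), (a (e (a 77<|b) (.conj 0 1 b 2954768 3))<|b)⟩<|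
 d);
 (a ⟨-499800, (a 70<|b), (a (e (a 70<|b) (.conj 0 1 b 4816 3))<|b)⟩<|
 a ⟨-499590, (a 92<|b), (a (e (a 92<|b) (.conj 1 1 b 602 3))<|b)⟩<|a ⟨-497070, (a 75<|b), (a (e (a 75<|b) (.conj 0 1 b 38536 3))<|b)⟩<|a ⟨-496860, (a 103<|b), (a (e (a 103<|b) (.conj 2 1 b 4817 3))<|b)⟩<|
 a ⟨-464100, (a 97<|b), (a (e (a 97<|b) (.conj 1 1 b 75 3))<|b)⟩<|d));
 (let d:type_of% d:=(a ⟨-4329920, (a 73<|b), (a (e (a 73<|b) (.conj 0 1 b 50980382529744 6))<|b)⟩<|a ⟨-4329780, (a 101<|b), (a (e (a 101<|b) (.conj 2 1 b 6372547816218 6))<|b)⟩<|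
 a ⟨-4307940, (a 95<|b), (a (e (a 95<|b) (.conj 1 1 b 6372547816217 6))<|b)⟩<|a ⟨-4306120, (a 107<|b), (a (e (a 107<|b) (.conj 3 1 b 796568477027 6))<|b)⟩<|
 a ⟨-3998540, (a 112<|b), (a (e (a 112<|b) (.conj 4 1 b 99571059628 6))<|b)⟩<|d);
 (a ⟨-4639320, (a 64<|b), (a (e (a 64<|b) (.conj 0 1 b 3262744481903704 6))<|b)⟩<|a ⟨-4639180, (a 86<|b), (a (e (a 86<|b) (.conj 1 1 b 407843060237963 6))<|b)⟩<|
 a ⟨-4331740, (a 68<|b), (a (e (a 68<|b) (.conj 0 1 b 407843060237960 6))<|b)⟩<|a ⟨-4331600, (a 90<|b), (a (e (a 90<|b) (.conj 1 1 b 50980382529745 6))<|b)⟩<|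
 d)));
 (let d:type_of% d:=(let d:type_of% d:=(a ⟨-13453650, (a 45<|b), (a (e (a 45<|b) (.conj 0 1 b 30269024091341916 3))<|b)⟩<|
 a ⟨-12992280, (a 51<|b), (a (e (a 51<|b) (.conj 0 1 b 242152192730735331 3))<|b)⟩<|a ⟨-12956790, (a 61<|b), (a (e (a 61<|b) (.conj 0 1 b 1360756789576513626 3))<|b)⟩<|
 a ⟨-12956580, (a 83<|b), (a (e (a 83<|b) (.conj 1 1 b 10886054316612109008 3))<|b)⟩<|a ⟨-4662980, (a 54<|b), (a (e (a 54<|b) (.conj 0 1 b 26101955855229634 6))<|b)⟩<|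
 d);
 (a ⟨-45464160, (a 57<|b), (a (e (a 57<|b) (.cube 17 1 (a 57<|a 120<|a 123<|b)))<|b)⟩<|
 a ⟨-45464055, (a 79<|b), (a (e (a 79<|b) (.cube 10 1 (a 79<|a 120<|a 123<|b)))<|b)⟩<|a ⟨-38985765, (a 114<|b), (a (e (a 114<|b) (.cube 2 1 (a 114<|a 120<|a 123<|b)))<|b)⟩<|
 a ⟨-13456380, (a 35<|b), (a (e (a 35<|b) (.conj 0 1 b 242152192730735329 3))<|b)⟩<|d));
 (let d:type_of% d:=(a ⟨-56287140, (a 105<|b), (a (e (a 105<|b) (.conj 3 1 b 265179875 6))<|b)⟩<|a ⟨-55979560, (a 110<|b), (a (e (a 110<|b) (.conj 4 1 b 33147484 6))<|b)⟩<|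
 a ⟨-45713955, (a 31<|b), (a (e (a 31<|b) (.cube 36 1 (a 31<|a 120<|a 123<|b)))<|b)⟩<|a ⟨-45712590, (a 41<|b), (a (e (a 41<|b) (.cube 26 1 (a 41<|a 120<|a 123<|b)))<|b)⟩<|
 a ⟨-45481905, (a 47<|b), (a (e (a 47<|b) (.cube 22 1 (a 47<|a 120<|a 123<|b)))<|b)⟩<|d);
 (a ⟨-56312620, (a 88<|b), (a (e (a 88<|b) (.conj 1 1 b 16971512017 6))<|b)⟩<|a ⟨-56310940, (a 71<|b), (a (e (a 71<|b) (.conj 0 1 b 16971512016 6))<|b)⟩<|
 a ⟨-56310800, (a 99<|b), (a (e (a 99<|b) (.conj 2 1 b 2121439002 6))<|b)⟩<|a ⟨-56288960, (a 93<|b), (a (e (a 93<|b) (.conj 1 1 b 2121439001 6))<|b)⟩<|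
 d))));
 (let d:type_of% d:=(let d:type_of% d:=(let d:type_of% d:=(a ⟨-64948660, (a 38<|b), (a (e (a 38<|b) (.conj 0 1 b 2282068837776589916 6))<|b)⟩<|
 a ⟨-56644000, (a 52<|b), (a (e (a 52<|b) (.conj 0 1 b 8689414152898 6))<|b)⟩<|a ⟨-56620340, (a 62<|b), (a (e (a 62<|b) (.conj 0 1 b 1086176769112 6))<|b)⟩<|
 a ⟨-56620200, (a 84<|b), (a (e (a 84<|b) (.conj 1 1 b 135772096139 6))<|b)⟩<|a ⟨-56312760, (a 66<|b), (a (e (a 66<|b) (.conj 0 1 b 135772096136 6))<|b)⟩<|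
 d);
 (a ⟨-77971530, (a 117<|b), (a (e (a 117<|b) (.conj 6 1 (a (e 125 1)<|b) 126 4))<|b)⟩<|a ⟨-65281860, (a 12<|b), (a (e (a 12<|b) (.conj 0 1 b 9347353959532912296656 6))<|b)⟩<|
 a ⟨-65281720, (a 19<|b), (a (e (a 19<|b) (.conj 0 1 b 1168419244941614037082 6))<|b)⟩<|a ⟨-65258060, (a 24<|b), (a (e (a 24<|b) (.conj 0 1 b 146052405617701754635 6))<|b)⟩<|
 a ⟨-64950480, (a 28<|b), (a (e (a 28<|b) (.conj 0 1 b 18256550702212719329 6))<|b)⟩<|d));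
 (let d:type_of% d:=(a ⟨-91427910, (a 33<|b), (a (e (a 33<|b) (.conj 0 1 (a (e 208 (-1))<|b) 1088292241561 4))<|b)⟩<|
 a ⟨-91425180, (a 43<|b), (a (e (a 43<|b) (.conj 0 1 (a (e 198 (-1))<|b) 136036530195 4))<|b)⟩<|a ⟨-90963810, (a 49<|b), (a (e (a 49<|b) (.conj 0 1 (a (e 192 (-1))<|b) 17004566274 4))<|b)⟩<|
 a ⟨-90928320, (a 59<|b), (a (e (a 59<|b) (.conj 0 1 (a (e 182 (-1))<|b) 2125570784 4))<|b)⟩<|a ⟨-90928110, (a 81<|b), (a (e (a 81<|b) (.conj 1 1 (a (e 160 (-1))<|b) 265696348 4))<|b)⟩<|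
 d);
 (a ⟨-117262740, (a 17<|b), (a (e (a 17<|b) (.conj 0 1 b 4785845227283343093947482 6))<|b)⟩<|
 a ⟨-117239080, (a 22<|b), (a (e (a 22<|b) (.conj 0 1 b 598230653410417886743435 6))<|b)⟩<|a ⟨-116931500, (a 26<|b), (a (e (a 26<|b) (.conj 0 1 b 74778831676302235842929 6))<|b)⟩<|
 a ⟨-116929680, (a 36<|b), (a (e (a 36<|b) (.conj 0 1 b 9347353959537779480366 6))<|b)⟩<|d)));
 (let d:type_of% d:=(let d:type_of% d:=(a ⟨-168935340, (a 46<|b), (a (e (a 46<|b) (.conj 0 1 b 991855381464029378931 3))<|b)⟩<|a ⟨-168899850, (a 56<|b), (a (e (a 56<|b) (.conj 0 1 b 5573659810279591926874 3))<|b)⟩<|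
 a ⟨-168899640, (a 78<|b), (a (e (a 78<|b) (.conj 1 1 b 44589278482236735414992 3))<|b)⟩<|
 a ⟨-125900600, (a 2<|b), (a (e (a 2<|b) (.conj 0 1 b 21048369904537237006389146213210797148 6))<|b)⟩<|
 a ⟨-117262880, (a 10<|b), (a (e (a 10<|b) (.conj 0 1 b 38286761818266744751579856 6))<|b)⟩<|d);
 (a ⟨-181856430, (a 21<|b), (a (e (a 21<|b) (.conj 0 1 b 3064151885335092728700782695200858 3))<|b)⟩<|
 a ⟨-177881620, (a 0<|b), (a (e (a 0<|b) (.conj 0 1 b 86223394798727651427705377791797121108636 6))<|b)⟩<|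
 a ⟨-169399440, (a 30<|b), (a (e (a 30<|b) (.conj 0 1 b 991855381464029378929 3))<|b)⟩<|a ⟨-169396710, (a 40<|b), (a (e (a 40<|b) (.conj 0 1 b 123981922683003672366 3))<|b)⟩<|
 d));
 (let d:type_of% d:=(a ⟨-182356020, (a 14<|b), (a (e (a 14<|b) (.conj 0 1 b 5984671651045102985743716201564 3))<|b)⟩<|
 a ⟨-182353500, (a 8<|b), (a (e (a 8<|b) (.conj 0 1 b 383018985666886591087597836900104 3))<|b)⟩<|
 a ⟨-182353290, (a 15<|b), (a (e (a 15<|b) (.conj 0 1 b 47877373208360823885949729612513 3))<|b)⟩<|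
 a ⟨-181892130, (a 9<|b), (a (e (a 9<|b) (.conj 0 1 b 3064151885335092728700782695200856 3))<|b)⟩<|
 a ⟨-181891920, (a 16<|b), (a (e (a 16<|b) (.conj 0 1 b 383018985666886591087597836900107 3))<|b)⟩<|
 d);
 (a ⟨-182853090, (a 4<|b), (a (e (a 4<|b) (.conj 0 1 b 3064151885335092728700782695200787 3))<|b)⟩<|
 a ⟨-182391720, (a 5<|b), (a (e (a 5<|b) (.conj 0 1 b 383018985666886591087597836900098 3))<|b)⟩<|
 a ⟨-182388990, (a 7<|b), (a (e (a 7<|b) (.conj 0 1 b 3064151885335092728700782695200785 3))<|b)⟩<|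
 a ⟨-182356230, (a 6<|b), (a (e (a 6<|b) (.conj 0 1 b 47877373208360823885949729612512 3))<|b)⟩<|
 d)))))) :
 List Cfsg.Agent.E8A.C63.Nil.Ray)) _)

theorem ok2 : chkC D2 = true := by (rewrite [Cfsg.Agent.LsF.fa47430_37.2]; decide +kernel)

/-- the class 3A1 -/
def D3 : Cls where
  j := 3
  y := ⟨0, 2, 0, -1, -1, 2, -2, 2⟩
  nu := ⟨1, 0, 13, 169, 2197, 0, 28561, 0⟩
  off := [0, 2, 3, 4, 6]
  kil := (beta% delta% lq26c06afe50 fun a b c _ _ _ =>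
 (let d:=(let d:=(let d:=(let d:=(let d:=(let d:=(c 0<|c 492<|c 0<|c 494<|b);
 (c 0<|c 487<|c 488<|c 0<|d));
 (c 480<|c 0<|c 482<|c 0<|c 484<|c 0<|c 0<|d));
 (let d:=(let d:=(c 0<|c 477<|c 0<|c 0<|d);
 (c 472<|c 0<|c 0<|c 475<|d));
 (c 0<|c 457<|c 0<|c 459<|
 c 0<|c 470<|c 0<|d)));
 (let d:=(let d:=(let d:=(c 752293572<|c 752555460<|c 454<|c 455<|d);
 (c 0<|c 458<|c 450<|c 0<|d));
 (c 0<|c 451<|c 0<|c 484120260<|c 0<|c 0<|c 456<|d));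
 (let d:=(let d:=(c 0<|c 446<|c 0<|c 0<|d);
 (c 442<|c 0<|c 0<|c 445<|d));
 (c 435<|c 0<|
 c 436<|c 0<|c 0<|c 440<|c 0<|d))));
 (let d:=(let d:=(let d:=(let d:=(c 0<|c 432<|c 0<|c 0<|d);
 (c 0<|c 424<|c 0<|c 430<|d));
 (c 0<|c 421<|c 0<|c 423<|c 420<|c 0<|c 422<|d));
 (let d:=(let d:=(c 0<|c 0<|c 0<|c 0<|d);
 (c 0<|c 413<|c 0<|c 414<|d));
 (c 0<|c 396<|c 0<|c 408<|c 0<|c 410<|c 0<|d)));
 (let d:=(let d:=(let d:=(c 646<|c 392<|c 0<|c 394<|d);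
 (c 642<|c 0<|c 644<|
 c 0<|d));
 (c 0<|c 0<|c 0<|c 393<|c 0<|c 395<|c 0<|d));
 (let d:=(let d:=(c 0<|c 387<|c 0<|c 389<|d);
 (c 382<|c 0<|c 384<|c 0<|d));
 (c 0<|c 0<|c 377<|c 0<|c 0<|c 634<|c 0<|d)))));
 (let d:=(let d:=(let d:=(let d:=(let d:=(c 0<|c 0<|c 371<|c 0<|d);
 (c 0<|c 624<|c 0<|c 626<|d));
 (c 0<|c 350<|
 c 0<|c 352<|c 353<|c 0<|c 622<|d));
 (let d:=(let d:=(c 0<|c 603<|c 604<|c 0<|d);
 (c 0<|c 0<|c 0<|c 601<|d));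
 (c 0<|c 602<|c 0<|c 0<|c 605<|c 0<|c 607<|d)));
 (let d:=(let d:=(let d:=(c 0<|c 598<|c 0<|c 600<|d);
 (c 592<|c 0<|c 0<|c 596<|d));
 (c 582<|c 0<|c 0<|c 0<|c 0<|c 591<|c 0<|d));
 (let d:=(let d:=(c 0<|c 579<|c 0<|c 581<|d);
 (c 578<|c 0<|
 c 580<|c 0<|d));
 (c 570<|c 0<|c 0<|c 574<|c 0<|c 576<|c 0<|d))));
 (let d:=(let d:=(let d:=(let d:=(c 0<|c 0<|c 569<|c 0<|d);
 (c 0<|c 564<|c 0<|c 566<|d));
 (c 547<|c 0<|c 0<|c 559<|c 0<|c 560<|c 0<|d));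
 (let d:=(let d:=(c 0<|c 311985440<|c 311723552<|c 546<|d);
 (c 539<|c 0<|c 541<|c 542<|d));
 (c 0<|c 0<|c 543<|c 0<|c 580158752<|c 0<|
 c 0<|d)));
 (let d:=(let d:=(let d:=(c 0<|c 538<|c 0<|c 540<|d);
 (c 0<|c 534<|c 0<|c 536<|d));
 (c 526<|c 0<|c 0<|c 529<|c 0<|c 531<|c 0<|d));
 (let d:=(let d:=(c 522<|c 0<|c 524<|c 0<|d);
 (c 517<|c 518<|c 0<|c 0<|d));
 (a 0<|a 512<|a 0<|a 514<|a 0<|a 0<|a 0<|d)))))))
  rays := (beta% (fun (vq0 : List Cfsg.Agent.E8A.C63.Nil.Ray) => (beta% delta% lq26c06afe50 fun a b _ e _ _ =>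
 (let d:type_of% vq0:=(let d:type_of% vq0:=(let d:type_of% vq0:=(let d:type_of% vq0:=(let d:type_of% vq0:=(a ⟨13988730, (a 218<|b), (a (e (a 218<|b) (.conj 0 1 b 96374549725951891211 5))<|b)⟩<|a ⟨13991460, (a 223<|b), (a (e (a 223<|b) (.conj 0 1 b 770996397807615129690 5))<|b)⟩<|
 a ⟨13991670, (a 230<|b), (a (e (a 230<|b) (.conj 0 1 b 6167971182460921037520 5))<|b)⟩<|
 a ⟨14065380, (a 235<|b), (a (e (a 235<|b) (.conj 0 1 (a (e 205 1)<|a (e 197 1)<|a (e 196 1)<|a (e 43 1)<|a (e 42 1)<|a (e 34 1)<|b) 32764633977373372447797387 4))<|b)⟩<|b);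
 (a ⟨12992280, (a 183<|b), (a (e (a 183<|b) (.conj 0 1 b 718046350219 5))<|b)⟩<|a ⟨12995010, (a 193<|b), (a (e (a 193<|b) (.conj 0 1 b 5744370801754 5))<|b)⟩<|
 a ⟨13491870, (a 212<|b), (a (e (a 212<|b) (.conj 0 1 (a (e 37 1)<|b) 991855381464029378929 6))<|b)⟩<|
 a ⟨13683040, (a 238<|b), (a (e (a 238<|b) (.conj 0 1 b 18012547945203680654089467716485441163 7))<|b)⟩<|
 d));
 (let d:type_of% d:=(a ⟨9351440, (a 231<|b), (a (e (a 231<|b) (.conj 0 1 b 32764633964465705273342040 7))<|b)⟩<|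
 a ⟨9353260, (a 232<|b), (a (e (a 232<|b) (.conj 0 1 b 262117071715725642186736322 7))<|b)⟩<|
 a ⟨9684500, (a 236<|b), (a (e (a 236<|b) (.conj 0 1 b 4397594729462218843961168327198347 7))<|b)⟩<|a ⟨12992070, (a 161<|b), (a (e (a 161<|b) (.conj 2 1 b 5744370801752 5))<|b)⟩<|
 d);
 (a ⟨9018240, (a 216<|b), (a (e (a 216<|b) (.conj 0 1 b 124987159593451335819 7))<|b)⟩<|
 a ⟨9020060, (a 221<|b), (a (e (a 221<|b) (.conj 0 1 b 999897276747610686554 7))<|b)⟩<|a ⟨9020200, (a 228<|b), (a (e (a 228<|b) (.conj 0 1 b 7999178213980885492432 7))<|b)⟩<|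
 a ⟨9351300, (a 224<|b), (a (e (a 224<|b) (.conj 0 1 b 4095579245558213159167755 7))<|b)⟩<|d)));
 (let d:type_of% d:=(let d:type_of% d:=(a ⟨6994470, (a 181<|b), (a (e (a 181<|b) (.conj 0 1 (a (e 60 1)<|b) 931226891352 6))<|b)⟩<|
 a ⟨6997200, (a 191<|b), (a (e (a 191<|b) (.conj 0 1 (a (e 50 1)<|b) 7449815130818 6))<|b)⟩<|a ⟨7494060, (a 210<|b), (a (e (a 210<|b) (.conj 0 1 (a (e 39 1)<|b) 242152192730735329 6))<|b)⟩<|
 a ⟨8687000, (a 199<|b), (a (e (a 199<|b) (.conj 0 1 b 511947405694776680654603 7))<|b)⟩<|d);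
 (a ⟨6497400, (a 150<|b), (a (e (a 150<|b) (.conj 2 1 (a (e 100 1)<|b) 194296017 6))<|b)⟩<|
 a ⟨6497610, (a 172<|b), (a (e (a 172<|b) (.conj 0 1 (a (e 72 1)<|b) 1554368136 6))<|b)⟩<|a ⟨6745935, (a 202<|b), (a (e (a 202<|b) (.cube 2 45 (a 123<|a 141<|a 202<|b)))<|b)⟩<|
 a ⟨6994260, (a 159<|b), (a (e (a 159<|b) (.conj 2 1 (a (e 82 1)<|b) 116403361419 6))<|b)⟩<|d));
 (let d:type_of% d:=(a ⟨5021520, (a 219<|b), (a (e (a 219<|b) (.conj 0 1 b 244115539021628506 7))<|b)⟩<|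
 a ⟨5021660, (a 226<|b), (a (e (a 226<|b) (.conj 0 1 b 1952924312173028048 7))<|b)⟩<|a ⟨5997810, (a 124<|b), (a (e (a 124<|b) (.conj 6 1 (a (e 118 (-1))<|b) 13 6))<|b)⟩<|
 a ⟨6494670, (a 145<|b), (a (e (a 145<|b) (.conj 3 1 (a (e 106 (-1))<|b) 24287001 6))<|b)⟩<|d);
 (a ⟨4355400, (a 176<|b), (a (e (a 176<|b) (.conj 0 1 b 795836253272 7))<|b)⟩<|a ⟨4357220, (a 186<|b), (a (e (a 186<|b) (.conj 0 1 b 6366690026178 7))<|b)⟩<|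
 a ⟨4688460, (a 197<|a 205<|b), (a (e (a 197<|b) (.cube 0 37 (a 120<|a 141<|a 197<|b)))<|a (e (a 205<|b) (.cube 0 37 (a 120<|a 123<|a 205<|b)))<|a (e (a 197<|a 205<|b) (.cube 3 113 (a 120<|a 197<|a 205<|b)))<|b)⟩<|
 a ⟨5019700, (a 214<|b), (a (e (a 214<|b) (.conj 0 1 b 30514442377703563 7))<|b)⟩<|d))));
 (let d:type_of% d:=(let d:type_of% d:=(let d:type_of% d:=(a ⟨3498600, (a 189<|b), (a (e (a 189<|b) (.cube 0 23 (a 120<|a 123<|a 189<|b)))<|b)⟩<|a ⟨3747030, (a 200<|b), (a (e (a 200<|b) (.cube 0 40 (a 120<|a 141<|a 200<|b)))<|b)⟩<|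
 a ⟨4306120, (a 128<|b), (a (e (a 128<|b) (.conj 4 1 b 14336511414820119659866146443 7))<|b)⟩<|a ⟨4355260, (a 154<|b), (a (e (a 154<|b) (.conj 2 1 b 99479531659 7))<|b)⟩<|
 d);
 (a ⟨3248700, (a 139<|b), (a (e (a 139<|b) (.cube 0 8 (a 120<|a 139<|a 141<|b)))<|b)⟩<|a ⟨3248805, (a 167<|b), (a (e (a 167<|b) (.cube 0 15 (a 120<|a 141<|a 167<|b)))<|b)⟩<|
 a ⟨3497130, (a 157<|b), (a (e (a 157<|b) (.cube 0 11 (a 120<|a 123<|a 157<|b)))<|b)⟩<|a ⟨3497235, (a 179<|b), (a (e (a 179<|b) (.cube 0 18 (a 120<|a 123<|a 179<|b)))<|b)⟩<|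
 d));
 (let d:type_of% d:=(a ⟨999390, (a 188<|b), (a (e (a 188<|b) (.conj 0 1 b 1402255450 5))<|b)⟩<|a ⟨2813076, (a 195<|b), (a (e (a 195<|b) (.cube 27 111 (a 120<|a 141<|a 195<|b)))<|b)⟩<|
 a ⟨2998905, (a 121<|b), (a (e (a 121<|b) (.cube 0 3 (a 120<|a 121<|a 123<|b)))<|b)⟩<|a ⟨3247335, (a 133<|b), (a (e (a 133<|b) (.cube 0 7 (a 120<|a 133<|a 141<|b)))<|b)⟩<|
 d);
 (a ⟨499800, (a 170<|b), (a (e (a 170<|b) (.conj 0 1 (a (e 74 1)<|b) 6372547815048 6))<|b)⟩<|a ⟨689920, (a 194<|b), (a (e (a 194<|b) (.conj 0 1 b 106913611163448387339 7))<|b)⟩<|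
 a ⟨996450, (a 156<|b), (a (e (a 156<|b) (.conj 2 1 b 1402255448 5))<|b)⟩<|a ⟨996660, (a 178<|b), (a (e (a 178<|b) (.conj 0 1 b 175281931 5))<|b)⟩<|
 d)));
 (let d:type_of% d:=(let d:type_of% d:=(a ⟨356860, (a 174<|b), (a (e (a 174<|b) (.conj 0 1 b 3262744481072216 7))<|b)⟩<|a ⟨358680, (a 184<|b), (a (e (a 184<|b) (.conj 0 1 b 26101955848577730 7))<|b)⟩<|
 a ⟨496860, (a 143<|b), (a (e (a 143<|b) (.conj 3 1 (a (e 108 (-1))<|b) 99571059609 6))<|b)⟩<|a ⟨499590, (a 148<|b), (a (e (a 148<|b) (.conj 2 1 (a (e 102 1)<|b) 796568476881 6))<|b)⟩<|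
 d);
 (a ⟨249795, (a 137<|b), (a (e (a 137<|b) (.cube 2 8 (a 123<|a 137<|a 141<|b)))<|b)⟩<|a ⟨249900, (a 165<|b), (a (e (a 165<|b) (.cube 2 15 (a 123<|a 141<|a 165<|b)))<|b)⟩<|
 a ⟨307580, (a 126<|b), (a (e (a 126<|b) (.conj 4 1 b 3503345210352419704522379 7))<|b)⟩<|a ⟨356720, (a 152<|b), (a (e (a 152<|b) (.conj 2 1 b 407843060134027 7))<|b)⟩<|
 d));
 (a ⟨210, (a 162<|b), (a (e (a 162<|b) (.conj 0 1 b 1 5))<|b)⟩<|a ⟨2730, (a 135<|b), (a (e (a 135<|b) (.conj 2 1 b 80 5))<|b)⟩<|a ⟨2940, (a 163<|b), (a (e (a 163<|b) (.conj 0 1 b 10 5))<|b)⟩<|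
 a ⟨23660, (a 130<|b), (a (e (a 130<|b) (.conj 3 1 b 13364201394544916570 7))<|b)⟩<|a ⟨25480, (a 136<|b), (a (e (a 136<|b) (.conj 2 1 b 1670525174318114571 7))<|b)⟩<|
 a ⟨25620, (a 164<|b), (a (e (a 164<|b) (.conj 0 1 b 13364201394544916568 7))<|b)⟩<|a ⟨248430, (a 131<|b), (a (e (a 131<|b) (.cube 2 7 (a 123<|a 131<|a 141<|b)))<|b)⟩<|
 d))));
 (let d:type_of% d:=(let d:type_of% d:=(let d:type_of% d:=(let d:type_of% d:=(a ⟨-23660, (a 97<|b), (a (e (a 97<|b) (.conj 3 1 b 855308889250874668122 7))<|b)⟩<|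
 a ⟨-2940, (a 76<|b), (a (e (a 76<|b) (.conj 0 1 b 66 5))<|b)⟩<|a ⟨-2730, (a 104<|b), (a (e (a 104<|b) (.conj 2 1 b 528 5))<|b)⟩<|a ⟨-210, (a 77<|b), (a (e (a 77<|b) (.conj 0 1 b 8 5))<|b)⟩<|
 d);
 (a ⟨-249795, (a 90<|b), (a (e (a 90<|b) (.cube 6 3 (a 90<|a 123<|a 141<|b)))<|b)⟩<|
 a ⟨-248430, (a 95<|b), (a (e (a 95<|b) (.cube 5 3 (a 95<|a 123<|a 141<|b)))<|b)⟩<|a ⟨-25620, (a 70<|b), (a (e (a 70<|b) (.conj 0 1 b 855308889250874668120 7))<|b)⟩<|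
 a ⟨-25480, (a 92<|b), (a (e (a 92<|b) (.conj 2 1 b 106913611156359333515 7))<|b)⟩<|d));
 (let d:type_of% d:=(a ⟨-356860, (a 64<|b), (a (e (a 64<|b) (.conj 0 1 b 208815646841603160 7))<|b)⟩<|
 a ⟨-356720, (a 86<|b), (a (e (a 86<|b) (.conj 2 1 b 26101955855200395 7))<|b)⟩<|a ⟨-307580, (a 112<|b), (a (e (a 112<|b) (.conj 4 1 b 224214093497109138152736395 7))<|b)⟩<|
 a ⟨-249900, (a 68<|b), (a (e (a 68<|b) (.cube 14 3 (a 68<|a 123<|a 141<|b)))<|b)⟩<|d);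
 (a ⟨-499800, (a 73<|b), (a (e (a 73<|b) (.conj 0 1 (a (e 171 (-1))<|b) 50980382529744 6))<|b)⟩<|
 a ⟨-499590, (a 101<|b), (a (e (a 101<|b) (.conj 2 1 (a (e 149 (-1))<|b) 6372547816218 6))<|b)⟩<|a ⟨-496860, (a 107<|b), (a (e (a 107<|b) (.conj 3 1 (a (e 144 1)<|b) 796568477027 6))<|b)⟩<|
 a ⟨-358680, (a 54<|b), (a (e (a 54<|b) (.conj 0 1 b 1670525174732825282 7))<|b)⟩<|d)));
 (let d:type_of% d:=(let d:type_of% d:=(a ⟨-999390, (a 51<|b), (a (e (a 51<|b) (.conj 0 1 b 8918448218 5))<|b)⟩<|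
 a ⟨-996660, (a 61<|b), (a (e (a 61<|b) (.conj 0 1 b 1114806027 5))<|b)⟩<|a ⟨-996450, (a 83<|b), (a (e (a 83<|b) (.conj 2 1 b 8918448216 5))<|b)⟩<|
 a ⟨-689920, (a 35<|b), (a (e (a 35<|b) (.conj 0 1 b 6842471115713326360331 7))<|b)⟩<|d);
 (a ⟨-3248700, (a 88<|b), (a (e (a 88<|b) (.cube 6 1 (a 88<|a 120<|a 141<|b)))<|b)⟩<|
 a ⟨-3247335, (a 93<|b), (a (e (a 93<|b) (.cube 5 1 (a 93<|a 120<|a 141<|b)))<|b)⟩<|a ⟨-2998905, (a 114<|b), (a (e (a 114<|b) (.cube 2 1 (a 114<|a 120<|a 123<|b)))<|b)⟩<|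
 a ⟨-2813076, (a 31<|b), (a (e (a 31<|b) (.cube 27 1 (a 31<|a 120<|a 141<|b)))<|b)⟩<|d));
 (let d:type_of% d:=(a ⟨-3498600, (a 47<|b), (a (e (a 47<|b) (.cube 22 1 (a 47<|a 120<|a 123<|b)))<|b)⟩<|
 a ⟨-3497235, (a 57<|b), (a (e (a 57<|b) (.cube 17 1 (a 57<|a 120<|a 123<|b)))<|b)⟩<|a ⟨-3497130, (a 79<|b), (a (e (a 79<|b) (.cube 10 1 (a 79<|a 120<|a 123<|b)))<|b)⟩<|
 a ⟨-3248805, (a 66<|b), (a (e (a 66<|b) (.cube 14 1 (a 66<|a 120<|a 141<|b)))<|b)⟩<|d);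
 (a ⟨-4355400, (a 62<|b), (a (e (a 62<|b) (.conj 0 1 b 69515312989272 7))<|b)⟩<|
 a ⟨-4355260, (a 84<|b), (a (e (a 84<|b) (.conj 2 1 b 8689414123659 7))<|b)⟩<|a ⟨-4306120, (a 110<|b), (a (e (a 110<|b) (.conj 4 1 b 1144658204003997386202184074891 7))<|b)⟩<|
 a ⟨-3747030, (a 28<|b), (a (e (a 28<|b) (.cube 30 1 (a 28<|a 120<|a 141<|b)))<|b)⟩<|d))));
 (let d:type_of% d:=(let d:type_of% d:=(let d:type_of% d:=(a ⟨-5021520, (a 19<|b), (a (e (a 19<|b) (.conj 0 1 b 18258514048503612506 7))<|b)⟩<|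
 a ⟨-5019700, (a 24<|b), (a (e (a 24<|b) (.conj 0 1 b 2282314256062951563 7))<|b)⟩<|
 a ⟨-4688460, (a 33<|a 41<|b), (a (e (a 33<|b) (.cube 110 37 (a 33<|a 120<|a 141<|b)))<|a (e (a 41<|b) (.cube 110 37 (a 41<|a 120<|a 123<|b)))<|a (e (a 33<|a 41<|b) (.cube 113 3 (a 33<|a 41<|a 120<|b)))<|b)⟩<|
 a ⟨-4357220, (a 52<|b), (a (e (a 52<|b) (.conj 0 1 b 556122503914178 7))<|b)⟩<|d);
 (a ⟨-6497400, (a 99<|b), (a (e (a 99<|b) (.conj 2 1 (a (e 151 (-1))<|b) 2121439002 6))<|b)⟩<|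
 a ⟨-6494670, (a 105<|b), (a (e (a 105<|b) (.conj 3 1 (a (e 146 1)<|b) 265179875 6))<|b)⟩<|a ⟨-5997810, (a 117<|b), (a (e (a 117<|b) (.conj 6 1 (a (e 125 1)<|b) 126 6))<|b)⟩<|
 a ⟨-5021660, (a 12<|b), (a (e (a 12<|b) (.conj 0 1 b 146068112388028900048 7))<|b)⟩<|d));
 (let d:type_of% d:=(a ⟨-6994470, (a 59<|b), (a (e (a 59<|b) (.conj 0 1 (a (e 182 (-1))<|b) 8706337944664 6))<|b)⟩<|
 a ⟨-6994260, (a 81<|b), (a (e (a 81<|b) (.conj 2 1 (a (e 160 (-1))<|b) 1088292243083 6))<|b)⟩<|a ⟨-6745935, (a 26<|b), (a (e (a 26<|b) (.cube 35 3 (a 26<|a 123<|a 141<|b)))<|b)⟩<|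
 a ⟨-6497610, (a 71<|b), (a (e (a 71<|b) (.conj 0 1 (a (e 173 (-1))<|b) 16971512016 6))<|b)⟩<|d);
 (a ⟨-9018240, (a 22<|b), (a (e (a 22<|b) (.conj 0 1 b 9348359196448227143819 7))<|b)⟩<|
 a ⟨-8687000, (a 30<|b), (a (e (a 30<|b) (.conj 0 1 b 38290879268651938390222603 7))<|b)⟩<|a ⟨-7494060, (a 38<|b), (a (e (a 38<|b) (.conj 0 1 (a (e 211 (-1))<|b) 2282068837776589916 6))<|b)⟩<|
 a ⟨-6997200, (a 49<|b), (a (e (a 49<|b) (.conj 0 1 (a (e 192 (-1))<|b) 69650703557314 6))<|b)⟩<|d)));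
 (let d:type_of% d:=(let d:type_of% d:=(a ⟨-9351440, (a 6<|b), (a (e (a 6<|b) (.conj 0 1 b 2450616273193724054685694040 7))<|b)⟩<|
 a ⟨-9351300, (a 14<|b), (a (e (a 14<|b) (.conj 0 1 b 306327034149215506835711755 7))<|b)⟩<|a ⟨-9020200, (a 10<|b), (a (e (a 10<|b) (.conj 0 1 b 598294988572686537204432 7))<|b)⟩<|
 a ⟨-9020060, (a 17<|b), (a (e (a 17<|b) (.conj 0 1 b 74786873571585817150554 7))<|b)⟩<|d);
 (a ⟨-12992280, (a 56<|b), (a (e (a 56<|b) (.conj 0 1 b 4566337047435 5))<|b)⟩<|a ⟨-12992070, (a 78<|b), (a (e (a 78<|b) (.conj 2 1 b 36530696379480 5))<|b)⟩<|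
 a ⟨-9684500, (a 2<|b), (a (e (a 2<|b) (.conj 0 1 b 328916148387888945627117188903454347 7))<|b)⟩<|
 a ⟨-9353260, (a 5<|b), (a (e (a 5<|b) (.conj 0 1 b 19604930185549792437485552322 7))<|b)⟩<|d));
 (a ⟨-14065380, (a 4<|b), (a (e (a 4<|b) (.conj 0 (-1) (a (e 207 1)<|a (e 206 1)<|a (e 198 1)<|a (e 41 1)<|a (e 33 1)<|a (e 32 1)<|b) 284221204457216240786681995 4))<|b)⟩<|
 a ⟨-13991670, (a 9<|b), (a (e (a 9<|b) (.conj 0 1 b 39224536562548437533392 5))<|b)⟩<|a ⟨-13991460, (a 16<|b), (a (e (a 16<|b) (.conj 0 1 b 4903067070318554691674 5))<|b)⟩<|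
 a ⟨-13988730, (a 21<|b), (a (e (a 21<|b) (.conj 0 1 b 612883383789819336459 5))<|b)⟩<|
 a ⟨-13683040, (a 0<|b), (a (e (a 0<|b) (.conj 0 1 b 1347240543730119553557896527996830017163 7))<|b)⟩<|
 a ⟨-13491870, (a 36<|b), (a (e (a 36<|b) (.conj 0 1 (a (e 213 (-1))<|b) 9347353959537779480366 6))<|b)⟩<|a ⟨-12995010, (a 46<|b), (a (e (a 46<|b) (.conj 0 1 b 36530696379482 5))<|b)⟩<|
 d))))) :
 List Cfsg.Agent.E8A.C63.Nil.Ray)) _)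

theorem ok3 : chkC D3 = true := by (rewrite [Cfsg.Agent.LsF.fa47430_37.2]; decide +kernel)

/-- the class A2 -/
def D4 : Cls where
  j := 4
  y := ⟨0, 0, 0, 0, 0, -2, 2, 2⟩
  nu := ⟨1, 13, 169, 2197, 28561, 371293, 0, 0⟩
  off := [0, 1, 2, 3, 4, 5]
  kil := (beta% delta% lq26c06afe50 fun a b c _ _ _ =>
 (let d:=(let d:=(let d:=(let d:=(let d:=(let d:=(c 0<|c 0<|c 493<|c 494<|b);
 (c 0<|c 0<|c 0<|c 0<|d));
 (c 0<|c 0<|c 482<|c 483<|c 0<|c 0<|c 0<|d));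
 (let d:=(let d:=(c 476<|c 0<|c 0<|c 0<|d);
 (c 0<|c 0<|
 c 0<|c 475<|d));
 (c 0<|c 466<|c 467<|c 0<|c 0<|c 470<|c 471<|d)));
 (let d:=(let d:=(let d:=(c 461<|c 0<|c 463<|c 464<|d);
 (c 457<|c 0<|c 0<|c 460<|d));
 (c 450<|c 451<|c 0<|c 453<|c 454<|c 0<|c 456<|d));
 (let d:=(let d:=(c 0<|c 447<|c 448<|c 0<|d);
 (c 442<|c 0<|c 444<|c 445<|d));
 (c 435<|c 0<|c 437<|c 438<|
 c 0<|c 0<|c 441<|d))));
 (let d:=(let d:=(let d:=(let d:=(c 431<|c 432<|c 0<|c 434<|d);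
 (c 427<|c 428<|c 0<|c 0<|d));
 (c 0<|c 0<|c 422<|c 423<|c 0<|c 0<|c 0<|d));
 (let d:=(let d:=(c 416<|c 0<|c 0<|c 0<|d);
 (c 412<|c 413<|c 0<|c 415<|d));
 (c 405<|c 406<|c 0<|c 0<|c 409<|c 410<|c 0<|d)));
 (let d:=(let d:=(let d:=(c 401<|c 0<|
 c 0<|c 0<|d);
 (c 0<|c 0<|c 0<|c 400<|d));
 (c 0<|c 0<|c 0<|c 0<|c 394<|c 395<|c 0<|d));
 (let d:=(let d:=(c 0<|c 0<|c 388<|c 389<|d);
 (c 0<|c 383<|c 384<|c 0<|d));
 (c 0<|c 0<|c 632<|c 0<|c 379<|c 380<|c 0<|d)))));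
 (let d:=(let d:=(let d:=(let d:=(let d:=(c 627<|c 0<|c 0<|c 0<|d);
 (c 623<|c 0<|c 0<|c 626<|d));
 (c 0<|c 617<|c 618<|c 0<|c 0<|
 c 0<|c 622<|d));
 (let d:=(let d:=(c 612<|c 0<|c 0<|c 0<|d);
 (c 0<|c 0<|c 0<|c 611<|d));
 (c 601<|c 0<|c 0<|c 0<|c 605<|c 606<|c 0<|d)));
 (let d:=(let d:=(let d:=(c 597<|c 0<|c 0<|c 600<|d);
 (c 593<|c 594<|c 0<|c 596<|d));
 (c 0<|c 0<|c 0<|c 0<|c 590<|c 591<|c 0<|d));
 (let d:=(let d:=(c 0<|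
 c 583<|c 584<|c 0<|d);
 (c 578<|c 579<|c 0<|c 0<|d));
 (c 571<|c 572<|c 0<|c 574<|c 575<|c 0<|c 0<|d))));
 (let d:=(let d:=(let d:=(let d:=(c 0<|c 568<|c 569<|c 0<|d);
 (c 0<|c 564<|c 565<|c 0<|d));
 (c 556<|c 0<|c 558<|c 559<|c 0<|c 561<|c 562<|d));
 (let d:=(let d:=(c 552<|c 553<|c 0<|c 555<|d);
 (c 0<|
 c 549<|c 550<|c 0<|d));
 (c 0<|c 542<|c 543<|c 0<|c 545<|c 546<|c 0<|d)));
 (let d:=(let d:=(let d:=(c 0<|c 0<|c 539<|c 540<|d);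
 (c 0<|c 0<|c 535<|c 536<|d));
 (c 0<|c 0<|c 0<|c 0<|c 530<|c 531<|c 0<|d));
 (let d:=(let d:=(c 0<|c 523<|c 524<|c 0<|d);
 (c 0<|c 0<|c 0<|c 0<|d));
 (a 0<|a 512<|a 513<|a 0<|a 0<|a 0<|a 0<|d)))))))
  rays := (beta% (fun (vq0 : List Cfsg.Agent.E8A.C63.Nil.Ray) => (beta% delta% lq26c06afe50 fun a b _ e _ _ =>
 (let d:type_of% vq0:=(let d:type_of% vq0:=(let d:type_of% vq0:=(let d:type_of% vq0:=(let d:type_of% vq0:=(a ⟨260360520, (a 232<|b), (a (e (a 232<|b) (.conj 0 1 b 8519972851502878488703011805378 6))<|b)⟩<|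
 a ⟨260363250, (a 234<|b), (a (e (a 234<|b) (.conj 0 1 b 68159782812023027909624094443025 6))<|b)⟩<|
 a ⟨260824620, (a 235<|b), (a (e (a 235<|b) (.conj 0 1 b 545278262496184223276992755544203 6))<|b)⟩<|
 a ⟨266822430, (a 236<|b), (a (e (a 236<|b) (.conj 0 1 b 4362226099969473786215942044353628 6))<|b)⟩<|b);
 (a ⟨260324820, (a 224<|b), (a (e (a 224<|b) (.conj 0 1 b 133124575804732476385984559459 6))<|b)⟩<|
 a ⟨260325030, (a 231<|b), (a (e (a 231<|b) (.conj 0 1 b 1064996606437859811087876475672 6))<|b)⟩<|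
 a ⟨260327550, (a 225<|b), (a (e (a 225<|b) (.conj 0 1 b 1064996606437859811087876475673 6))<|b)⟩<|
 a ⟨260327760, (a 233<|b), (a (e (a 233<|b) (.conj 0 1 b 8519972851502878488703011805384 6))<|b)⟩<|
 d));
 (let d:type_of% d:=(a ⟨253865850, (a 229<|b), (a (e (a 229<|b) (.conj 0 1 b 16640571975591559548248069928 6))<|b)⟩<|
 a ⟨259827960, (a 218<|b), (a (e (a 218<|b) (.conj 0 1 b 133124575804732476385984559458 6))<|b)⟩<|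
 a ⟨259863450, (a 223<|b), (a (e (a 223<|b) (.conj 0 1 b 16640571975591559548248069932 6))<|b)⟩<|
 a ⟨259863660, (a 230<|b), (a (e (a 230<|b) (.conj 0 1 b 133124575804732476385984559456 6))<|b)⟩<|
 d);
 (a ⟨253366050, (a 203<|b), (a (e (a 203<|b) (.conj 0 1 b 1064996606437859811087876475545 6))<|b)⟩<|
 a ⟨253368780, (a 213<|b), (a (e (a 213<|b) (.conj 0 1 b 133124575804732476385984559443 6))<|b)⟩<|
 a ⟨253830150, (a 217<|b), (a (e (a 217<|b) (.conj 0 1 b 16640571975591559548248069930 6))<|b)⟩<|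
 a ⟨253865640, (a 222<|b), (a (e (a 222<|b) (.conj 0 1 b 2080071496948944943531008741 6))<|b)⟩<|
 d)));
 (let d:type_of% d:=(let d:type_of% d:=(a ⟨87929310, (a 214<|b), (a (e (a 214<|b) (.cube 3 51 (a 120<|a 121<|a 214<|b)))<|b)⟩<|a ⟨87947055, (a 219<|b), (a (e (a 219<|b) (.cube 3 61 (a 120<|a 121<|a 219<|b)))<|b)⟩<|
 a ⟨87947160, (a 226<|b), (a (e (a 226<|b) (.cube 3 83 (a 120<|a 121<|a 226<|b)))<|b)⟩<|a ⟨172396980, (a 237<|b), (a (e (a 237<|b) (.cube 3 125 (a 120<|a 121<|a 237<|b)))<|b)⟩<|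
 d);
 (a ⟨84698355, (a 197<|b), (a (e (a 197<|b) (.cube 4 35 (a 120<|a 121<|a 197<|b)))<|b)⟩<|a ⟨84699720, (a 207<|b), (a (e (a 207<|b) (.cube 4 45 (a 120<|a 121<|a 207<|b)))<|b)⟩<|
 a ⟨87697260, (a 200<|b), (a (e (a 200<|b) (.cube 3 35 (a 120<|a 121<|a 200<|b)))<|b)⟩<|a ⟨87698625, (a 210<|b), (a (e (a 210<|b) (.cube 3 45 (a 120<|a 121<|a 210<|b)))<|b)⟩<|
 d));
 (let d:type_of% d:=(a ⟨45713955, (a 204<|b), (a (e (a 204<|b) (.cube 0 36 (a 120<|a 121<|a 204<|b)))<|b)⟩<|a ⟨84449820, (a 159<|b), (a (e (a 159<|b) (.cube 14 35 (a 120<|a 121<|a 159<|b)))<|b)⟩<|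
 a ⟨84449925, (a 181<|b), (a (e (a 181<|b) (.cube 6 35 (a 120<|a 121<|a 181<|b)))<|b)⟩<|a ⟨84467670, (a 191<|b), (a (e (a 191<|b) (.cube 5 35 (a 120<|a 121<|a 191<|b)))<|b)⟩<|
 d);
 (a ⟨45464055, (a 156<|b), (a (e (a 156<|b) (.cube 0 10 (a 120<|a 121<|a 156<|b)))<|b)⟩<|a ⟨45464160, (a 178<|b), (a (e (a 178<|b) (.cube 0 17 (a 120<|a 121<|a 178<|b)))<|b)⟩<|
 a ⟨45481905, (a 188<|b), (a (e (a 188<|b) (.cube 0 22 (a 120<|a 121<|a 188<|b)))<|b)⟩<|a ⟨45712590, (a 194<|b), (a (e (a 194<|b) (.cube 0 26 (a 120<|a 121<|a 194<|b)))<|b)⟩<|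
 d))));
 (let d:type_of% d:=(let d:type_of% d:=(let d:type_of% d:=(a ⟨42234570, (a 171<|b), (a (e (a 171<|b) (.cube 0 15 (a 120<|a 121<|a 171<|b)))<|b)⟩<|a ⟨42465150, (a 153<|b), (a (e (a 153<|b) (.cube 0 9 (a 120<|a 121<|a 153<|b)))<|b)⟩<|
 a ⟨42465255, (a 175<|b), (a (e (a 175<|b) (.cube 0 16 (a 120<|a 121<|a 175<|b)))<|b)⟩<|a ⟨42483000, (a 185<|b), (a (e (a 185<|b) (.cube 0 21 (a 120<|a 121<|a 185<|b)))<|b)⟩<|
 d);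
 (a ⟨42216720, (a 144<|b), (a (e (a 144<|b) (.cube 0 7 (a 120<|a 121<|a 144<|b)))<|b)⟩<|a ⟨42233100, (a 138<|b), (a (e (a 138<|b) (.cube 0 6 (a 120<|a 121<|a 138<|b)))<|b)⟩<|
 a ⟨42233205, (a 166<|b), (a (e (a 166<|b) (.cube 0 14 (a 120<|a 121<|a 166<|b)))<|b)⟩<|a ⟨42234465, (a 149<|b), (a (e (a 149<|b) (.cube 0 8 (a 120<|a 121<|a 149<|b)))<|b)⟩<|
 d));
 (let d:type_of% d:=(a ⟨6994470, (a 184<|b), (a (e (a 184<|b) (.conj 0 1 b 378050 6))<|b)⟩<|a ⟨38985765, (a 123<|b), (a (e (a 123<|b) (.cube 0 3 (a 120<|a 121<|a 123<|b)))<|b)⟩<|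
 a ⟨41984670, (a 127<|b), (a (e (a 127<|b) (.cube 0 4 (a 120<|a 121<|a 127<|b)))<|b)⟩<|a ⟨42215355, (a 132<|b), (a (e (a 132<|b) (.cube 0 5 (a 120<|a 121<|a 132<|b)))<|b)⟩<|
 d);
 (a ⟨6497400, (a 148<|b), (a (e (a 148<|b) (.conj 1 1 b 738 6))<|b)⟩<|a ⟨6497610, (a 170<|b), (a (e (a 170<|b) (.conj 0 1 b 5904 6))<|b)⟩<|
 a ⟨6958770, (a 152<|b), (a (e (a 152<|b) (.conj 1 1 b 5907 6))<|b)⟩<|a ⟨6958980, (a 174<|b), (a (e (a 174<|b) (.conj 0 1 b 47256 6))<|b)⟩<|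
 d)));
 (let d:type_of% d:=(let d:type_of% d:=(a ⟨6459180, (a 131<|b), (a (e (a 131<|b) (.conj 3 1 b 737 6))<|b)⟩<|a ⟨6461910, (a 143<|b), (a (e (a 143<|b) (.conj 1 1 b 92 6))<|b)⟩<|
 a ⟨6494670, (a 137<|b), (a (e (a 137<|b) (.conj 2 1 b 5905 6))<|b)⟩<|a ⟨6494880, (a 165<|b), (a (e (a 165<|b) (.conj 0 1 b 47240 6))<|b)⟩<|
 d);
 (a ⟨497070, (a 164<|b), (a (e (a 164<|b) (.conj 0 1 b 5768 6))<|b)⟩<|
 a ⟨499590, (a 147<|b), (a (e (a 147<|b) (.conj 1 1 b 90 6))<|b)⟩<|a ⟨499800, (a 169<|b), (a (e (a 169<|b) (.conj 0 1 b 720 6))<|b)⟩<|a ⟨5997810, (a 126<|b), (a (e (a 126<|b) (.conj 4 1 b 5899 6))<|b)⟩<|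
 d));
 (a ⟨210, (a 162<|b), (a (e (a 162<|b) (.conj 0 1 b 369346 6))<|b)⟩<|a ⟨2730, (a 141<|b), (a (e (a 141<|b) (.conj 1 1 b 1 6))<|b)⟩<|
 a ⟨35490, (a 135<|b), (a (e (a 135<|b) (.conj 2 1 b 5771 6))<|b)⟩<|a ⟨35700, (a 163<|b), (a (e (a 163<|b) (.conj 0 1 b 46168 6))<|b)⟩<|a ⟨461370, (a 130<|b), (a (e (a 130<|b) (.conj 3 1 b 89 6))<|b)⟩<|
 a ⟨464100, (a 142<|b), (a (e (a 142<|b) (.conj 1 1 b 11 6))<|b)⟩<|a ⟨496860, (a 136<|b), (a (e (a 136<|b) (.conj 2 1 b 721 6))<|b)⟩<|d))));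
 (let d:type_of% d:=(let d:type_of% d:=(let d:type_of% d:=(let d:type_of% d:=(a ⟨-35700, (a 76<|b), (a (e (a 76<|b) (.conj 0 1 b 369360 6))<|b)⟩<|a ⟨-35490, (a 104<|b), (a (e (a 104<|b) (.conj 2 1 b 46170 6))<|b)⟩<|a ⟨-2730, (a 98<|b), (a (e (a 98<|b) (.conj 1 1 b 9 6))<|b)⟩<|
 a ⟨-210, (a 77<|b), (a (e (a 77<|b) (.conj 0 1 b 2954768 6))<|b)⟩<|d);
 (a ⟨-497070, (a 75<|b), (a (e (a 75<|b) (.conj 0 1 b 38536 6))<|b)⟩<|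
 a ⟨-496860, (a 103<|b), (a (e (a 103<|b) (.conj 2 1 b 4817 6))<|b)⟩<|a ⟨-464100, (a 97<|b), (a (e (a 97<|b) (.conj 1 1 b 75 6))<|b)⟩<|a ⟨-461370, (a 109<|b), (a (e (a 109<|b) (.conj 3 1 b 601 6))<|b)⟩<|
 d));
 (let d:type_of% d:=(a ⟨-6459180, (a 108<|b), (a (e (a 108<|b) (.conj 3 1 b 4833 6))<|b)⟩<|a ⟨-5997810, (a 113<|b), (a (e (a 113<|b) (.conj 4 1 b 38667 6))<|b)⟩<|
 a ⟨-499800, (a 70<|b), (a (e (a 70<|b) (.conj 0 1 b 4816 6))<|b)⟩<|a ⟨-499590, (a 92<|b), (a (e (a 92<|b) (.conj 1 1 b 602 6))<|b)⟩<|d);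
 (a ⟨-6497400, (a 91<|b), (a (e (a 91<|b) (.conj 1 1 b 4834 6))<|b)⟩<|a ⟨-6494880, (a 74<|b), (a (e (a 74<|b) (.conj 0 1 b 309384 6))<|b)⟩<|
 a ⟨-6494670, (a 102<|b), (a (e (a 102<|b) (.conj 2 1 b 38673 6))<|b)⟩<|a ⟨-6461910, (a 96<|b), (a (e (a 96<|b) (.conj 1 1 b 604 6))<|b)⟩<|
 d)));
 (let d:type_of% d:=(let d:type_of% d:=(a ⟨-6994470, (a 55<|b), (a (e (a 55<|b) (.conj 0 1 b 2475202 6))<|b)⟩<|a ⟨-6958980, (a 65<|b), (a (e (a 65<|b) (.conj 0 1 b 309400 6))<|b)⟩<|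
 a ⟨-6958770, (a 87<|b), (a (e (a 87<|b) (.conj 1 1 b 38675 6))<|b)⟩<|a ⟨-6497610, (a 69<|b), (a (e (a 69<|b) (.conj 0 1 b 38672 6))<|b)⟩<|
 d);
 (a ⟨-42216720, (a 93<|b), (a (e (a 93<|b) (.cube 7 2 (a 93<|a 120<|a 121<|b)))<|b)⟩<|a ⟨-42215355, (a 105<|b), (a (e (a 105<|b) (.cube 5 2 (a 105<|a 120<|a 121<|b)))<|b)⟩<|
 a ⟨-41984670, (a 110<|b), (a (e (a 110<|b) (.cube 4 2 (a 110<|a 120<|a 121<|b)))<|b)⟩<|a ⟨-38985765, (a 114<|b), (a (e (a 114<|b) (.cube 3 2 (a 114<|a 120<|a 121<|b)))<|b)⟩<|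
 d));
 (let d:type_of% d:=(a ⟨-42234570, (a 66<|b), (a (e (a 66<|b) (.cube 15 2 (a 66<|a 120<|a 121<|b)))<|b)⟩<|a ⟨-42234465, (a 88<|b), (a (e (a 88<|b) (.cube 8 2 (a 88<|a 120<|a 121<|b)))<|b)⟩<|
 a ⟨-42233205, (a 71<|b), (a (e (a 71<|b) (.cube 14 2 (a 71<|a 120<|a 121<|b)))<|b)⟩<|a ⟨-42233100, (a 99<|b), (a (e (a 99<|b) (.cube 6 2 (a 99<|a 120<|a 121<|b)))<|b)⟩<|
 d);
 (a ⟨-45464055, (a 81<|b), (a (e (a 81<|b) (.cube 10 2 (a 81<|a 120<|a 121<|b)))<|b)⟩<|a ⟨-42483000, (a 52<|b), (a (e (a 52<|b) (.cube 21 2 (a 52<|a 120<|a 121<|b)))<|b)⟩<|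
 a ⟨-42465255, (a 62<|b), (a (e (a 62<|b) (.cube 16 2 (a 62<|a 120<|a 121<|b)))<|b)⟩<|a ⟨-42465150, (a 84<|b), (a (e (a 84<|b) (.cube 9 2 (a 84<|a 120<|a 121<|b)))<|b)⟩<|
 d))));
 (let d:type_of% d:=(let d:type_of% d:=(let d:type_of% d:=(a ⟨-45713955, (a 33<|b), (a (e (a 33<|b) (.cube 36 2 (a 33<|a 120<|a 121<|b)))<|b)⟩<|a ⟨-45712590, (a 43<|b), (a (e (a 43<|b) (.cube 26 2 (a 43<|a 120<|a 121<|b)))<|b)⟩<|
 a ⟨-45481905, (a 49<|b), (a (e (a 49<|b) (.cube 22 2 (a 49<|a 120<|a 121<|b)))<|b)⟩<|a ⟨-45464160, (a 59<|b), (a (e (a 59<|b) (.cube 17 2 (a 59<|a 120<|a 121<|b)))<|b)⟩<|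
 d);
 (a ⟨-84698355, (a 40<|b), (a (e (a 40<|b) (.cube 33 4 (a 40<|a 120<|a 121<|b)))<|b)⟩<|a ⟨-84467670, (a 46<|b), (a (e (a 46<|b) (.cube 33 5 (a 46<|a 120<|a 121<|b)))<|b)⟩<|
 a ⟨-84449925, (a 56<|b), (a (e (a 56<|b) (.cube 33 6 (a 56<|a 120<|a 121<|b)))<|b)⟩<|a ⟨-84449820, (a 78<|b), (a (e (a 78<|b) (.cube 33 14 (a 78<|a 120<|a 121<|b)))<|b)⟩<|
 d));
 (let d:type_of% d:=(a ⟨-87929310, (a 23<|b), (a (e (a 23<|b) (.cube 49 3 (a 23<|a 120<|a 121<|b)))<|b)⟩<|a ⟨-87698625, (a 27<|b), (a (e (a 27<|b) (.cube 43 3 (a 27<|a 120<|a 121<|b)))<|b)⟩<|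
 a ⟨-87697260, (a 37<|b), (a (e (a 37<|b) (.cube 33 3 (a 37<|a 120<|a 121<|b)))<|b)⟩<|a ⟨-84699720, (a 30<|b), (a (e (a 30<|b) (.cube 43 4 (a 30<|a 120<|a 121<|b)))<|b)⟩<|
 d);
 (a ⟨-253366050, (a 36<|b), (a (e (a 36<|b) (.conj 0 1 b 8353987557750178869693919906457 6))<|b)⟩<|a ⟨-172396980, (a 0<|b), (a (e (a 0<|b) (.cube 123 3 (a 0<|a 120<|a 121<|b)))<|b)⟩<|
 a ⟨-87947160, (a 11<|b), (a (e (a 11<|b) (.cube 81 3 (a 11<|a 120<|a 121<|b)))<|b)⟩<|a ⟨-87947055, (a 18<|b), (a (e (a 18<|b) (.cube 59 3 (a 18<|a 120<|a 121<|b)))<|b)⟩<|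
 d)));
 (let d:type_of% d:=(let d:type_of% d:=(a ⟨-253865850, (a 10<|b), (a (e (a 10<|b) (.conj 0 1 b 130531055589846544838967498536 6))<|b)⟩<|
 a ⟨-253865640, (a 17<|b), (a (e (a 17<|b) (.conj 0 1 b 16316381948730818104870937317 6))<|b)⟩<|
 a ⟨-253830150, (a 22<|b), (a (e (a 22<|b) (.conj 0 1 b 130531055589846544838967498538 6))<|b)⟩<|
 a ⟨-253368780, (a 26<|b), (a (e (a 26<|b) (.conj 0 1 b 1044248444718772358711739988307 6))<|b)⟩<|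
 d);
 (a ⟨-260324820, (a 15<|b), (a (e (a 15<|b) (.conj 0 1 b 1044248444718772358711739988323 6))<|b)⟩<|
 a ⟨-259863660, (a 9<|b), (a (e (a 9<|b) (.conj 0 1 b 1044248444718772358711739988320 6))<|b)⟩<|
 a ⟨-259863450, (a 16<|b), (a (e (a 16<|b) (.conj 0 1 b 130531055589846544838967498540 6))<|b)⟩<|
 a ⟨-259827960, (a 21<|b), (a (e (a 21<|b) (.conj 0 1 b 1044248444718772358711739988322 6))<|b)⟩<|
 d));
 (a ⟨-266822430, (a 3<|b), (a (e (a 3<|b) (.conj 0 1 b 34217933036544732650266295937369180 6))<|b)⟩<|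
 a ⟨-260824620, (a 4<|b), (a (e (a 4<|b) (.conj 0 1 b 4277241629568091581283286992171147 6))<|b)⟩<|
 a ⟨-260363250, (a 5<|b), (a (e (a 5<|b) (.conj 0 1 b 534655203696011447660410874021393 6))<|b)⟩<|
 a ⟨-260360520, (a 7<|b), (a (e (a 7<|b) (.conj 0 1 b 66831900462001430957551359252674 6))<|b)⟩<|
 a ⟨-260327760, (a 6<|b), (a (e (a 6<|b) (.conj 0 1 b 66831900462001430957551359252680 6))<|b)⟩<|
 a ⟨-260327550, (a 14<|b), (a (e (a 14<|b) (.conj 0 1 b 8353987557750178869693919906585 6))<|b)⟩<|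
 a ⟨-260325030, (a 8<|b), (a (e (a 8<|b) (.conj 0 1 b 8353987557750178869693919906584 6))<|b)⟩<|
 d))))) :
 List Cfsg.Agent.E8A.C63.Nil.Ray)) _)

theorem ok4 : chkC D4 = true := by (rewrite [Cfsg.Agent.LsF.fa47430_37.2]; decide +kernel)

/-- the class 4A1 -/
def D5 : Cls where
  j := 5
  y := ⟨2, 2, -1, -1, -1, 2, -2, 2⟩
  nu := ⟨0, 0, 1, 13, 169, 0, 2197, 0⟩
  off := [2, 3, 4, 6]
  kil := (beta% delta% lq26c06afe50 fun a b c _ _ _ =>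
 (let d:=(let d:=(let d:=(let d:=(let d:=(let d:=(c 0<|c 492<|c 0<|c 494<|b);
 (c 0<|c 481<|c 488<|c 0<|d));
 (c 480<|c 0<|c 476<|c 0<|c 478<|c 479<|c 0<|d));
 (let d:=(let d:=(c 0<|c 477<|c 0<|c 0<|d);
 (c 472<|c 0<|c 0<|c 475<|d));
 (c 0<|c 457<|c 0<|c 459<|c 0<|c 470<|
 c 0<|d)));
 (let d:=(let d:=(let d:=(c 752293572<|c 752555460<|c 454<|c 455<|d);
 (c 0<|c 458<|c 450<|c 0<|d));
 (c 0<|c 451<|c 0<|c 484120260<|c 0<|c 0<|c 456<|d));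
 (let d:=(let d:=(c 0<|c 446<|c 0<|c 0<|d);
 (c 442<|c 0<|c 0<|c 445<|d));
 (c 725253534<|c 724991646<|c 672<|c 673<|
 c 0<|c 440<|c 0<|d))));
 (let d:=(let d:=(let d:=(let d:=(c 0<|c 667<|c 668<|c 0<|d);
 (c 712399500<|c 663<|c 0<|c 665<|d));
 (c 0<|c 710562186<|c 0<|c 712661388<|c 659<|c 710300298<|c 661<|d));
 (let d:=(let d:=(c 0<|c 0<|c 647<|c 0<|d);
 (c 0<|c 413<|c 0<|
 c 725253790<|d));
 (c 0<|c 712661644<|c 0<|c 408<|c 0<|c 410<|c 0<|d)));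
 (let d:=(let d:=(let d:=(c 646<|c 392<|c 0<|c 710562442<|d);
 (c 642<|c 0<|c 644<|c 0<|d));
 (c 0<|c 0<|c 0<|c 393<|c 0<|c 395<|c 0<|d));
 (let d:=(let d:=(c 0<|c 387<|c 0<|c 389<|d);
 (c 382<|
 c 0<|c 384<|c 0<|d));
 (c 0<|c 0<|c 377<|c 0<|c 0<|c 634<|c 0<|d)))));
 (let d:=(let d:=(let d:=(let d:=(let d:=(c 0<|c 0<|c 371<|c 0<|d);
 (c 0<|c 624<|c 0<|c 626<|d));
 (c 0<|c 350<|c 0<|c 352<|c 353<|c 0<|c 622<|d));
 (let d:=(let d:=(c 363406661<|c 330<|c 331<|c 332<|d);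
 (c 0<|c 0<|c 361307459<|c 328<|d));
 (c 0<|c 363144773<|c 0<|c 0<|c 605<|
 c 0<|c 607<|d)));
 (let d:=(let d:=(let d:=(c 0<|c 321<|c 0<|c 361045571<|d);
 (c 316<|c 317<|c 0<|c 319<|d));
 (c 582<|c 0<|c 0<|c 312<|c 0<|c 351596090<|c 351857978<|d));
 (let d:=(let d:=(c 0<|c 361045315<|c 0<|c 363144517<|d);
 (c 578<|
 c 0<|c 580<|c 0<|d));
 (c 351595834<|c 0<|c 0<|c 574<|c 0<|c 576<|c 0<|d))));
 (let d:=(let d:=(let d:=(let d:=(c 0<|c 0<|c 569<|c 0<|d);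
 (c 0<|c 564<|c 0<|c 566<|d));
 (c 547<|c 0<|c 0<|c 559<|c 0<|c 560<|c 0<|d));
 (let d:=(let d:=(c 0<|c 311985440<|c 311723552<|c 546<|d);
 (c 539<|c 0<|c 541<|c 542<|d));
 (c 0<|c 0<|c 543<|c 0<|c 580158752<|c 0<|
 c 0<|d)));
 (let d:=(let d:=(let d:=(c 0<|c 538<|c 0<|c 540<|d);
 (c 0<|c 534<|c 0<|c 536<|d));
 (c 520<|c 521<|c 0<|c 523<|c 0<|c 525<|c 0<|d));
 (let d:=(let d:=(c 522<|c 0<|c 524<|c 0<|d);
 (c 517<|c 518<|c 0<|c 0<|d));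
 (a 0<|a 512<|a 0<|a 514<|a 0<|a 0<|a 0<|d)))))))
  rays := (beta% (fun (vq0 : List Cfsg.Agent.E8A.C63.Nil.Ray) => (beta% delta% lq26c06afe50 fun a b _ e _ _ =>
 (let d:type_of% vq0:=(let d:type_of% vq0:=(let d:type_of% vq0:=(let d:type_of% vq0:=(a ⟨999600, (a 193<|b), (a (e (a 193<|b) (.conj 2 1 (a (e 167 1)<|a (e 150 1)<|a (e 140 1)<|a (e 99 1)<|a (e 89 1)<|a (e 72 1)<|b) 948737811985 6))<|b)⟩<|
 a ⟨1037820, (a 212<|b), (a (e (a 212<|b) (.conj 2 1 (a (e 37 1)<|b) 3814305407514993 7))<|b)⟩<|a ⟨1040760, (a 228<|b), (a (e (a 228<|b) (.conj 2 1 (a (e 18 1)<|b) 7999178213980885492432 7))<|b)⟩<|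
 a ⟨1052520, (a 238<|b), (a (e (a 238<|b) (.conj 2 1 b 7888832091990011639115658288167941163915 8))<|b)⟩<|
 a ⟨1076040, (a 218<|b), (a (e (a 218<|b) (.conj 2 1 (a (e 179 1)<|a (e 159 1)<|a (e 158 1)<|a (e 81 1)<|a (e 80 1)<|a (e 60 1)<|b) 63993425735810636918923 6))<|b)⟩<|
 a ⟨1078980, (a 231<|b), (a (e (a 231<|b) (.conj 2 1 (a (e 15 1)<|b) 32764633964465705273342040 7))<|b)⟩<|
 a ⟨1081920, (a 235<|b), (a (e (a 235<|b) (.conj 2 1 (a (e 205 1)<|a (e 197 1)<|a (e 196 1)<|a (e 43 1)<|a (e 42 1)<|a (e 34 1)<|b) 134203940771321329617512178370 6))<|b)⟩<|b);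
 (a ⟨666260, (a 161<|b), (a (e (a 161<|b) (.conj 2 1 b 99571059628 8))<|b)⟩<|a ⟨668220, (a 199<|b), (a (e (a 199<|b) (.conj 2 1 b 1670525174732825282 8))<|b)⟩<|
 a ⟨693700, (a 216<|b), (a (e (a 216<|b) (.conj 2 1 b 6842471115713326360331 8))<|b)⟩<|a ⟨717500, (a 223<|b), (a (e (a 223<|b) (.conj 2 1 b 27255570973083222057752322 8))<|b)⟩<|
 a ⟨719460, (a 232<|b), (a (e (a 232<|b) (.conj 2 1 b 111638818705748877548553609922 8))<|b)⟩<|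
 a ⟨744940, (a 236<|b), (a (e (a 236<|b) (.conj 2 1 b 3761688276286130733068255796205323 8))<|b)⟩<|
 d));
 (let d:type_of% d:=(a ⟨502530, (a 176<|b), (a (e (a 176<|b) (.conj 2 1 (a (e 85 (-1))<|b) 795836253272 7))<|b)⟩<|
 a ⟨518910, (a 202<|b), (a (e (a 202<|b) (.cube 2 45 (a 123<|a 141<|a 202<|b)))<|b)⟩<|a ⟨520380, (a 221<|b), (a (e (a 221<|b) (.cube 2 83 (a 123<|a 162<|a 221<|b)))<|b)⟩<|
 a ⟨538230, (a 191<|b), (a (e (a 191<|b) (.conj 2 1 (a (e 50 1)<|b) 116283455810 7))<|b)⟩<|a ⟨539490, (a 224<|b), (a (e (a 224<|b) (.cube 5 104 (a 141<|a 162<|a 224<|b)))<|b)⟩<|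
 a ⟨576450, (a 210<|b), (a (e (a 210<|b) (.conj 2 1 (a (e 39 1)<|b) 931226879201 7))<|b)⟩<|a ⟨579390, (a 226<|b), (a (e (a 226<|b) (.conj 2 1 (a (e 20 1)<|b) 1952924312173028048 7))<|b)⟩<|
 d);
 (a ⟨335160, (a 186<|b), (a (e (a 186<|b) (.conj 2 1 b 9348359196448227143819 8))<|b)⟩<|
 a ⟨358680, (a 159<|a 179<|b), (a (e (a 159<|b) (.cube 0 18 (a 120<|a 159<|a 162<|b)))<|a (e (a 179<|b) (.cube 0 18 (a 120<|a 123<|a 179<|b)))<|a (e (a 159<|a 179<|b) (.cube 3 55 (a 120<|a 159<|a 179<|b)))<|b)⟩<|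
 a ⟨360640, (a 197<|a 205<|b), (a (e (a 197<|b) (.cube 0 37 (a 120<|a 141<|a 197<|b)))<|a (e (a 205<|b) (.cube 0 37 (a 120<|a 123<|a 205<|b)))<|a (e (a 197<|a 205<|b) (.cube 3 113 (a 120<|a 197<|a 205<|b)))<|b)⟩<|
 a ⟨386120, (a 214<|b), (a (e (a 214<|b) (.conj 2 1 b 38290879268651938390222603 8))<|b)⟩<|a ⟨461370, (a 124<|b), (a (e (a 124<|b) (.conj 6 1 (a (e 118 (-1))<|b) 13 7))<|b)⟩<|
 a ⟨499590, (a 145<|b), (a (e (a 145<|b) (.conj 3 1 (a (e 106 (-1))<|b) 24287001 7))<|b)⟩<|d)));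
 (let d:type_of% d:=(let d:type_of% d:=(a ⟨249795, (a 133<|b), (a (e (a 133<|b) (.cube 0 7 (a 120<|a 133<|a 141<|b)))<|b)⟩<|a ⟨251265, (a 154<|b), (a (e (a 154<|b) (.cube 0 16 (a 120<|a 154<|a 162<|b)))<|b)⟩<|
 a ⟨269115, (a 189<|b), (a (e (a 189<|b) (.cube 0 23 (a 120<|a 123<|a 189<|b)))<|b)⟩<|a ⟨288225, (a 200<|b), (a (e (a 200<|b) (.cube 0 40 (a 120<|a 141<|a 200<|b)))<|b)⟩<|
 a ⟨289695, (a 219<|b), (a (e (a 219<|b) (.cube 0 78 (a 120<|a 162<|a 219<|b)))<|b)⟩<|a ⟨331240, (a 128<|b), (a (e (a 128<|b) (.conj 4 1 b 2282314256945367947 8))<|b)⟩<|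
 a ⟨333200, (a 150<|a 167<|b), (a (e (a 150<|b) (.cube 0 15 (a 120<|a 150<|a 162<|b)))<|a (e (a 167<|b) (.cube 0 15 (a 120<|a 141<|a 167<|b)))<|a (e (a 150<|a 167<|b) (.cube 7 45 (a 120<|a 150<|a 167<|b)))<|b)⟩<|
 d);
 (a ⟨53060, (a 194<|b), (a (e (a 194<|b) (.conj 2 1 b 556122503914178 8))<|b)⟩<|
 a ⟨76860, (a 188<|b), (a (e (a 188<|b) (.conj 2 1 (a (e 165 1)<|a (e 148 1)<|a (e 138 1)<|a (e 101 1)<|a (e 91 1)<|a (e 74 1)<|b) 3262744481375761 6))<|b)⟩<|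
 a ⟨199920, (a 139<|b), (a (e (a 139<|b) (.cube 8 25 (a 120<|a 139<|a 162<|b)))<|b)⟩<|a ⟨215208, (a 157<|b), (a (e (a 157<|b) (.cube 11 53 (a 120<|a 157<|a 162<|b)))<|b)⟩<|
 a ⟨216384, (a 195<|b), (a (e (a 195<|b) (.cube 27 111 (a 120<|a 141<|a 195<|b)))<|b)⟩<|a ⟨230685, (a 121<|b), (a (e (a 121<|b) (.cube 0 3 (a 120<|a 121<|a 123<|b)))<|b)⟩<|
 d));
 (let d:type_of% d:=(a ⟨20580, (a 152<|b), (a (e (a 152<|b) (.cube 2 16 (a 123<|a 152<|a 162<|b)))<|b)⟩<|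
 a ⟨23660, (a 126<|b), (a (e (a 126<|b) (.conj 4 1 b 557205628921611 8))<|b)⟩<|
 a ⟨25620, (a 148<|a 165<|b), (a (e (a 148<|b) (.cube 2 15 (a 123<|a 148<|a 162<|b)))<|a (e (a 165<|b) (.cube 2 15 (a 123<|a 141<|a 165<|b)))<|a (e (a 148<|a 165<|b) (.cube 7 40 (a 123<|a 148<|a 165<|b)))<|b)⟩<|
 a ⟨27580, (a 184<|b), (a (e (a 184<|b) (.conj 2 1 b 2282314256062951563 8))<|b)⟩<|a ⟨38220, (a 143<|b), (a (e (a 143<|b) (.conj 3 1 (a (e 108 (-1))<|b) 99571059609 7))<|b)⟩<|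
 a ⟨41160, (a 174<|b), (a (e (a 174<|b) (.conj 2 1 (a (e 87 (-1))<|b) 3262744481072216 7))<|b)⟩<|a ⟨51100, (a 156<|b), (a (e (a 156<|b) (.conj 2 1 b 33147484 8))<|b)⟩<|
 d);
 (a ⟨140, (a 135<|b), (a (e (a 135<|b) (.conj 2 1 b 8108 8))<|b)⟩<|
 a ⟨1470, (a 136<|b), (a (e (a 136<|b) (.cube 5 16 (a 136<|a 141<|a 162<|b)))<|b)⟩<|a ⟨1820, (a 130<|b), (a (e (a 130<|b) (.conj 3 1 b 2125570754 8))<|b)⟩<|
 a ⟨2940, (a 164<|b), (a (e (a 164<|b) (.conj 2 1 (a (e 103 (-1))<|b) 13364201394544916568 7))<|b)⟩<|a ⟨15372, (a 137<|b), (a (e (a 137<|b) (.cube 8 23 (a 123<|a 137<|a 162<|b)))<|b)⟩<|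
 a ⟨19110, (a 131<|b), (a (e (a 131<|b) (.cube 2 7 (a 123<|a 131<|a 141<|b)))<|b)⟩<|d))));
 (let d:type_of% d:=(let d:type_of% d:=(let d:type_of% d:=(a ⟨-20580, (a 64<|b), (a (e (a 64<|b) (.cube 9 3 (a 64<|a 123<|a 162<|b)))<|b)⟩<|
 a ⟨-19110, (a 95<|b), (a (e (a 95<|b) (.cube 5 3 (a 95<|a 123<|a 141<|b)))<|b)⟩<|a ⟨-15372, (a 68<|b), (a (e (a 68<|b) (.cube 8 3 (a 68<|a 123<|a 162<|b)))<|b)⟩<|
 a ⟨-2940, (a 92<|b), (a (e (a 92<|b) (.conj 2 1 (a (e 169 1)<|b) 106913611156359333515 7))<|b)⟩<|a ⟨-1820, (a 97<|b), (a (e (a 97<|b) (.conj 3 1 b 136034656962 8))<|b)⟩<|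
 a ⟨-1470, (a 70<|b), (a (e (a 70<|b) (.cube 9 7 (a 70<|a 141<|a 162<|b)))<|b)⟩<|a ⟨-140, (a 76<|b), (a (e (a 76<|b) (.conj 2 1 b 518914 8))<|b)⟩<|d);
 (a ⟨-51100, (a 61<|b), (a (e (a 61<|b) (.conj 2 1 b 2114570844 8))<|b)⟩<|
 a ⟨-41160, (a 86<|b), (a (e (a 86<|b) (.conj 2 1 (a (e 175 1)<|b) 26101955855200395 7))<|b)⟩<|a ⟨-38220, (a 107<|b), (a (e (a 107<|b) (.conj 3 1 (a (e 144 1)<|b) 796568477027 7))<|b)⟩<|
 a ⟨-27580, (a 54<|b), (a (e (a 54<|b) (.conj 2 1 b 146067575248499323019 8))<|b)⟩<|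
 a ⟨-25620, (a 73<|a 90<|b), (a (e (a 73<|b) (.cube 22 15 (a 73<|a 123<|a 162<|b)))<|a (e (a 90<|b) (.cube 22 15 (a 90<|a 123<|a 141<|b)))<|a (e (a 73<|a 90<|b) (.cube 40 7 (a 73<|a 90<|a 123<|b)))<|b)⟩<|
 a ⟨-23660, (a 112<|b), (a (e (a 112<|b) (.conj 4 1 b 35661029113403147 8))<|b)⟩<|d));
 (let d:type_of% d:=(a ⟨-249795, (a 93<|b), (a (e (a 93<|b) (.cube 5 1 (a 93<|a 120<|a 141<|b)))<|b)⟩<|
 a ⟨-230685, (a 114<|b), (a (e (a 114<|b) (.cube 2 1 (a 114<|a 120<|a 123<|b)))<|b)⟩<|a ⟨-216384, (a 31<|b), (a (e (a 31<|b) (.cube 27 1 (a 31<|a 120<|a 141<|b)))<|b)⟩<|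
 a ⟨-215208, (a 57<|b), (a (e (a 57<|b) (.cube 11 1 (a 57<|a 120<|a 162<|b)))<|b)⟩<|a ⟨-199920, (a 66<|b), (a (e (a 66<|b) (.cube 8 1 (a 66<|a 120<|a 162<|b)))<|b)⟩<|
 a ⟨-76860, (a 51<|b), (a (e (a 51<|b) (.conj 2 (-1) (a (e 170 1)<|a (e 166 1)<|a (e 149 1)<|a (e 90 1)<|a (e 73 1)<|a (e 69 1)<|b) 208815646808851650 6))<|b)⟩<|
 a ⟨-53060, (a 35<|b), (a (e (a 35<|b) (.conj 2 1 b 35476611802079938 8))<|b)⟩<|d);
 (a ⟨-333200, (a 71<|a 88<|b), (a (e (a 71<|b) (.cube 24 15 (a 71<|a 120<|a 162<|b)))<|a (e (a 88<|b) (.cube 24 15 (a 88<|a 120<|a 141<|b)))<|a (e (a 71<|a 88<|b) (.cube 45 7 (a 71<|a 88<|a 120<|b)))<|b)⟩<|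
 a ⟨-331240, (a 110<|b), (a (e (a 110<|b) (.conj 4 1 b 146067575255593241483 8))<|b)⟩<|a ⟨-289695, (a 12<|b), (a (e (a 12<|b) (.cube 56 1 (a 12<|a 120<|a 162<|b)))<|b)⟩<|
 a ⟨-288225, (a 28<|b), (a (e (a 28<|b) (.cube 30 1 (a 28<|a 120<|a 141<|b)))<|b)⟩<|a ⟨-269115, (a 47<|b), (a (e (a 47<|b) (.cube 22 1 (a 47<|a 120<|a 123<|b)))<|b)⟩<|
 a ⟨-251265, (a 62<|b), (a (e (a 62<|b) (.cube 9 1 (a 62<|a 120<|a 162<|b)))<|b)⟩<|d)));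
 (let d:type_of% d:=(let d:type_of% d:=(a ⟨-502530, (a 84<|b), (a (e (a 84<|b) (.conj 2 1 (a (e 177 1)<|b) 8689414123659 7))<|b)⟩<|
 a ⟨-499590, (a 105<|b), (a (e (a 105<|b) (.conj 3 1 (a (e 146 1)<|b) 265179875 7))<|b)⟩<|a ⟨-461370, (a 117<|b), (a (e (a 117<|b) (.conj 6 1 (a (e 125 1)<|b) 126 7))<|b)⟩<|
 a ⟨-386120, (a 24<|b), (a (e (a 24<|b) (.conj 2 1 b 2450607260659343020644378379 8))<|b)⟩<|
 a ⟨-360640, (a 33<|a 41<|b), (a (e (a 33<|b) (.cube 110 37 (a 33<|a 120<|a 141<|b)))<|a (e (a 41<|b) (.cube 110 37 (a 41<|a 120<|a 123<|b)))<|a (e (a 33<|a 41<|b) (.cube 113 3 (a 33<|a 41<|a 120<|b)))<|b)⟩<|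
 a ⟨-358680, (a 59<|a 79<|b), (a (e (a 59<|b) (.cube 52 18 (a 59<|a 120<|a 162<|b)))<|a (e (a 79<|b) (.cube 52 18 (a 79<|a 120<|a 123<|b)))<|a (e (a 59<|a 79<|b) (.cube 55 3 (a 59<|a 79<|a 120<|b)))<|b)⟩<|
 a ⟨-335160, (a 52<|b), (a (e (a 52<|b) (.conj 2 1 b 598292788246909917147275 8))<|b)⟩<|
 d);
 (a ⟨-579390, (a 19<|b), (a (e (a 19<|b) (.conj 2 1 (a (e 227 (-1))<|b) 18258514048503612506 7))<|b)⟩<|
 a ⟨-576450, (a 38<|b), (a (e (a 38<|b) (.conj 2 1 (a (e 211 (-1))<|b) 8706337951900 7))<|b)⟩<|a ⟨-539490, (a 6<|b), (a (e (a 6<|b) (.cube 76 7 (a 6<|a 141<|a 162<|b)))<|b)⟩<|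
 a ⟨-538230, (a 49<|b), (a (e (a 49<|b) (.conj 2 1 (a (e 192 (-1))<|b) 1088277255938 7))<|b)⟩<|a ⟨-520380, (a 10<|b), (a (e (a 10<|b) (.cube 61 3 (a 10<|a 123<|a 162<|b)))<|b)⟩<|
 a ⟨-518910, (a 26<|b), (a (e (a 26<|b) (.cube 35 3 (a 26<|a 123<|a 141<|b)))<|b)⟩<|d));
 (let d:type_of% d:=(a ⟨-999600, (a 46<|b), (a (e (a 46<|b) (.conj 2 (-1) (a (e 172 1)<|a (e 168 1)<|a (e 151 1)<|a (e 88 1)<|a (e 71 1)<|a (e 67 1)<|b) 61004048614594 6))<|b)⟩<|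
 a ⟨-744940, (a 2<|b), (a (e (a 2<|b) (.conj 2 1 b 172511336178668028660309386495858443 8))<|b)⟩<|
 a ⟨-719460, (a 5<|b), (a (e (a 5<|b) (.conj 2 1 b 6578637583932575433621578556098 8))<|b)⟩<|a ⟨-717500, (a 9<|b), (a (e (a 9<|b) (.conj 2 1 b 1606112691389788924224018178 8))<|b)⟩<|
 a ⟨-693700, (a 22<|b), (a (e (a 22<|b) (.conj 2 1 b 313796292502240265250571 8))<|b)⟩<|a ⟨-668220, (a 30<|b), (a (e (a 30<|b) (.conj 2 1 b 76610422974177878722 8))<|b)⟩<|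
 a ⟨-666260, (a 56<|b), (a (e (a 56<|b) (.conj 2 1 b 4566337047468 8))<|b)⟩<|d);
 (a ⟨-1081920, (a 4<|b), (a (e (a 4<|b) (.conj 2 (-1) (a (e 207 1)<|a (e 206 1)<|a (e 198 1)<|a (e 41 1)<|a (e 33 1)<|a (e 32 1)<|b) 1164170053456757718333583532738 6))<|b)⟩<|
 a ⟨-1078980, (a 14<|b), (a (e (a 14<|b) (.conj 2 1 (a (e 233 (-1))<|b) 306327034149215506835711755 7))<|b)⟩<|
 a ⟨-1076040, (a 21<|b), (a (e (a 21<|b) (.conj 2 (-1) (a (e 181 1)<|a (e 180 1)<|a (e 160 1)<|a (e 79 1)<|a (e 59 1)<|a (e 58 1)<|b) 65510788228634255634571 6))<|b)⟩<|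
 a ⟨-1052520, (a 0<|b), (a (e (a 0<|b) (.conj 2 1 b 455115943417981668808094597017965070502795 8))<|b)⟩<|
 a ⟨-1040760, (a 17<|b), (a (e (a 17<|b) (.conj 2 1 (a (e 229 (-1))<|b) 74786873571585817150554 7))<|b)⟩<|
 a ⟨-1037820, (a 36<|b), (a (e (a 36<|b) (.conj 2 1 (a (e 213 (-1))<|b) 35661160264771374 7))<|b)⟩<|
 d))))) :
 List Cfsg.Agent.E8A.C63.Nil.Ray)) _)

theorem ok5 : chkC D5 = true := by (rewrite [Cfsg.Agent.LsF.fa47430_37.2]; decide +kernel)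

/-- the class A2+A1 -/
def D6 : Cls where
  j := 6
  y := ⟨0, 2, 0, -1, 0, -2, 2, 2⟩
  nu := ⟨1, 0, 13, 169, 2197, 28561, 0, 0⟩
  off := [0, 2, 3, 4, 5]
  kil := (beta% delta% lq26c06afe50 fun a b c _ _ _ =>
 (let d:=(let d:=(let d:=(let d:=(let d:=(let d:=(c 0<|c 0<|c 493<|
 c 494<|b);
 (c 0<|c 487<|c 488<|c 0<|d));
 (c 480<|c 0<|c 482<|c 483<|c 0<|c 0<|c 0<|d));
 (let d:=(let d:=(c 476<|c 0<|c 0<|c 0<|d);
 (c 0<|c 0<|c 0<|c 475<|d));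
 (c 0<|c 466<|c 458<|c 459<|c 0<|c 470<|c 471<|d)));
 (let d:=(let d:=(let d:=(c 452<|c 0<|c 463<|c 455<|d);
 (c 739785<|
 c 0<|c 0<|c 460<|d));
 (c 450<|c 733635<|c 0<|c 453<|c 736710<|c 0<|c 456<|d));
 (let d:=(let d:=(c 0<|c 447<|c 448<|c 0<|d);
 (c 442<|c 0<|c 444<|c 445<|d));
 (c 435<|c 0<|c 437<|c 438<|c 0<|c 0<|c 441<|d))));
 (let d:=(let d:=(let d:=(let d:=(c 431<|c 432<|c 0<|c 434<|d);
 (c 427<|c 424<|c 0<|c 0<|d));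
 (c 0<|c 0<|c 422<|c 699815<|c 420<|c 421<|
 c 0<|d));
 (let d:=(let d:=(c 416<|c 0<|c 0<|c 0<|d);
 (c 412<|c 413<|c 0<|c 415<|d));
 (c 405<|c 396<|c 0<|c 0<|c 409<|c 410<|c 0<|d)));
 (let d:=(let d:=(let d:=(c 646<|c 392<|c 393<|c 0<|d);
 (c 642<|c 643<|c 0<|c 400<|d));
 (c 0<|c 0<|c 0<|
 c 0<|c 394<|c 677259<|c 0<|d));
 (let d:=(let d:=(c 0<|c 0<|c 388<|c 409989<|d);
 (c 0<|c 383<|c 384<|c 0<|d));
 (c 0<|c 0<|c 632<|c 0<|c 379<|c 380<|c 0<|d)))));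
 (let d:=(let d:=(let d:=(let d:=(let d:=(c 627<|c 0<|c 0<|c 0<|d);
 (c 623<|c 0<|c 0<|c 626<|d));
 (c 0<|c 617<|c 351<|c 352<|c 353<|c 0<|c 622<|d));
 (let d:=(let d:=(c 602<|
 c 603<|c 604<|c 0<|d);
 (c 0<|c 0<|c 0<|c 611<|d));
 (c 364121<|c 0<|c 0<|c 0<|c 605<|c 632414<|c 0<|d)));
 (let d:=(let d:=(let d:=(c 597<|c 0<|c 0<|c 600<|d);
 (c 593<|c 594<|c 0<|c 596<|d));
 (c 582<|c 0<|c 0<|c 0<|c 590<|c 591<|c 0<|d));
 (let d:=(let d:=(c 0<|c 583<|c 580<|c 581<|d);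
 (c 578<|
 c 335427<|c 0<|c 0<|d));
 (c 571<|c 572<|c 0<|c 574<|c 575<|c 0<|c 0<|d))));
 (let d:=(let d:=(let d:=(let d:=(c 0<|c 568<|c 569<|c 0<|d);
 (c 0<|c 564<|c 565<|c 0<|d));
 (c 547<|c 0<|c 558<|c 559<|c 0<|c 561<|c 562<|d));
 (let d:=(let d:=(c 552<|c 544<|c 0<|c 555<|d);
 (c 0<|c 549<|c 541<|c 0<|d));
 (c 0<|c 542<|c 303647<|c 0<|c 545<|
 c 306722<|c 538<|d)));
 (let d:=(let d:=(let d:=(c 0<|c 0<|c 539<|c 300572<|d);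
 (c 0<|c 0<|c 535<|c 536<|d));
 (c 526<|c 0<|c 0<|c 0<|c 530<|c 531<|c 0<|d));
 (let d:=(let d:=(c 0<|c 523<|c 524<|c 0<|d);
 (c 517<|c 518<|c 0<|c 0<|d));
 (a 0<|a 512<|a 513<|a 0<|a 0<|a 0<|a 0<|d)))))))
  rays := (beta% (fun (vq0 : List Cfsg.Agent.E8A.C63.Nil.Ray) => (beta% delta% lq26c06afe50 fun a b _ e _ _ =>
 (let d:type_of% vq0:=(let d:type_of% vq0:=(let d:type_of% vq0:=(let d:type_of% vq0:=(a ⟨19527900, (a 222<|b), (a (e (a 222<|b) (.conj 0 1 b 134203940766828441245406377050 7))<|b)⟩<|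
 a ⟨19528110, (a 229<|b), (a (e (a 229<|b) (.conj 0 1 b 1073631526134627529963251016400 7))<|b)⟩<|
 a ⟨19986540, (a 218<|b), (a (e (a 218<|b) (.conj 0 1 b 134203940766828441245406377052 7))<|b)⟩<|
 a ⟨19989270, (a 223<|b), (a (e (a 223<|b) (.conj 0 1 b 1073631526134627529963251016418 7))<|b)⟩<|
 a ⟨19989480, (a 230<|b), (a (e (a 230<|b) (.conj 0 1 b 8589052209077020239706008131344 7))<|b)⟩<|
 a ⟨20063190, (a 235<|b), (a (e (a 235<|b) (.conj 0 1 b 35180757848379474901835806084771979 7))<|b)⟩<|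
 a ⟨20524560, (a 236<|b), (a (e (a 236<|b) (.conj 0 1 b 281446062787035799214686458725078795 7))<|b)⟩<|b);
 (a ⟨12993120, (a 203<|b), (a (e (a 203<|b) (.conj 0 1 b 25383728133104357 9))<|b)⟩<|
 a ⟨13261185, (a 237<|b), (a (e (a 237<|b) (.cube 3 125 (a 120<|a 121<|a 237<|b)))<|b)⟩<|a ⟨13349840, (a 224<|b), (a (e (a 224<|b) (.conj 0 1 b 1744356542277326211696150155 9))<|b)⟩<|
 a ⟨13349980, (a 231<|b), (a (e (a 231<|b) (.conj 0 1 b 13954852338218609693569201240 9))<|b)⟩<|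
 a ⟨13351800, (a 232<|b), (a (e (a 232<|b) (.conj 0 1 b 111638818705748877548553609922 9))<|b)⟩<|
 a ⟨19525170, (a 217<|b), (a (e (a 217<|b) (.conj 0 1 b 16775492595853555155675797131 7))<|b)⟩<|
 d));
 (let d:type_of% d:=(a ⟨6496140, (a 181<|b), (a (e (a 181<|b) (.cube 8 45 (a 120<|a 121<|a 181<|b)))<|b)⟩<|a ⟨6497505, (a 191<|b), (a (e (a 191<|b) (.cube 7 45 (a 120<|a 121<|a 191<|b)))<|b)⟩<|
 a ⟨6763680, (a 214<|b), (a (e (a 214<|b) (.cube 3 51 (a 120<|a 121<|a 214<|b)))<|b)⟩<|a ⟨6765045, (a 219<|b), (a (e (a 219<|b) (.cube 3 61 (a 120<|a 121<|a 219<|b)))<|b)⟩<|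
 a ⟨6765150, (a 226<|b), (a (e (a 226<|b) (.cube 3 83 (a 120<|a 121<|a 226<|b)))<|b)⟩<|a ⟨8687000, (a 207<|b), (a (e (a 207<|b) (.cube 4 45 (a 120<|a 121<|a 207<|b)))<|b)⟩<|
 a ⟨8994580, (a 210<|b), (a (e (a 210<|b) (.cube 3 45 (a 120<|a 121<|a 210<|b)))<|b)⟩<|d);
 (a ⟨4331600, (a 149<|b), (a (e (a 149<|b) (.cube 0 8 (a 120<|a 121<|a 149<|b)))<|b)⟩<|a ⟨4331740, (a 171<|b), (a (e (a 171<|b) (.cube 0 15 (a 120<|a 121<|a 171<|b)))<|b)⟩<|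
 a ⟨4688460, (a 204<|b), (a (e (a 204<|b) (.cube 0 36 (a 120<|a 121<|a 204<|b)))<|b)⟩<|a ⟨5212200, (a 197<|b), (a (e (a 197<|b) (.cube 5 50 (a 120<|a 141<|a 197<|b)))<|b)⟩<|
 a ⟨5396748, (a 200<|b), (a (e (a 200<|b) (.cube 5 53 (a 120<|a 141<|a 200<|b)))<|b)⟩<|a ⟨6496035, (a 159<|b), (a (e (a 159<|b) (.cube 15 45 (a 120<|a 121<|a 159<|b)))<|b)⟩<|
 d)));
 (let d:type_of% d:=(let d:type_of% d:=(a ⟨3266445, (a 153<|b), (a (e (a 153<|b) (.cube 0 9 (a 120<|a 121<|a 153<|b)))<|b)⟩<|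
 a ⟨3266550, (a 175<|b), (a (e (a 175<|b) (.cube 0 16 (a 120<|a 121<|a 175<|b)))<|b)⟩<|a ⟨3267915, (a 185<|b), (a (e (a 185<|b) (.cube 0 21 (a 120<|a 121<|a 185<|b)))<|b)⟩<|
 a ⟨3497130, (a 156<|b), (a (e (a 156<|b) (.cube 0 10 (a 120<|a 121<|a 156<|b)))<|b)⟩<|a ⟨3497235, (a 178<|b), (a (e (a 178<|b) (.cube 0 17 (a 120<|a 121<|a 178<|b)))<|b)⟩<|
 a ⟨3498600, (a 188<|b), (a (e (a 188<|b) (.cube 0 22 (a 120<|a 121<|a 188<|b)))<|b)⟩<|a ⟨4329780, (a 144<|b), (a (e (a 144<|b) (.cube 0 7 (a 120<|a 121<|a 144<|b)))<|b)⟩<|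
 d);
 (a ⟨2597868, (a 132<|b), (a (e (a 132<|b) (.cube 0 5 (a 120<|a 121<|a 132<|b)))<|b)⟩<|
 a ⟨2598960, (a 138<|b), (a (e (a 138<|b) (.cube 0 6 (a 120<|a 121<|a 138<|b)))<|b)⟩<|a ⟨2599044, (a 166<|b), (a (e (a 166<|b) (.cube 0 14 (a 120<|a 121<|a 166<|b)))<|b)⟩<|
 a ⟨2813076, (a 194<|b), (a (e (a 194<|b) (.cube 0 26 (a 120<|a 121<|a 194<|b)))<|b)⟩<|a ⟨2998905, (a 123<|b), (a (e (a 123<|b) (.cube 0 3 (a 120<|a 121<|a 123<|b)))<|b)⟩<|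
 a ⟨3229590, (a 127<|b), (a (e (a 127<|b) (.cube 0 4 (a 120<|a 121<|a 127<|b)))<|b)⟩<|d));
 (let d:type_of% d:=(a ⟨331240, (a 131<|b), (a (e (a 131<|b) (.conj 3 1 b 1028454684418 9))<|b)⟩<|a ⟨333060, (a 137<|b), (a (e (a 137<|b) (.conj 2 1 b 128556835552 9))<|b)⟩<|
 a ⟨333200, (a 165<|b), (a (e (a 165<|b) (.conj 0 1 b 16069604444 9))<|b)⟩<|a ⟨461370, (a 126<|b), (a (e (a 126<|b) (.conj 4 1 b 917536730548487658231433372389 7))<|b)⟩<|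
 a ⟨535080, (a 152<|b), (a (e (a 152<|b) (.conj 2 1 b 1512977496 7))<|b)⟩<|a ⟨535290, (a 174<|b), (a (e (a 174<|b) (.conj 0 1 b 189122187 7))<|b)⟩<|
 a ⟨538020, (a 184<|b), (a (e (a 184<|b) (.conj 0 1 b 24195211 7))<|b)⟩<|d);
 (a ⟨210, (a 162<|b), (a (e (a 162<|b) (.conj 0 1 b 1 7))<|b)⟩<|
 a ⟨2730, (a 135<|b), (a (e (a 135<|b) (.conj 2 1 b 80 7))<|b)⟩<|a ⟨2940, (a 163<|b), (a (e (a 163<|b) (.conj 0 1 b 10 7))<|b)⟩<|a ⟨23660, (a 130<|b), (a (e (a 130<|b) (.conj 3 1 b 128556835522 9))<|b)⟩<|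
 a ⟨25480, (a 136<|b), (a (e (a 136<|b) (.conj 2 1 b 16069604440 9))<|b)⟩<|a ⟨25620, (a 164<|b), (a (e (a 164<|b) (.conj 0 1 b 2008700555 9))<|b)⟩<|
 d))));
 (let d:type_of% d:=(let d:type_of% d:=(let d:type_of% d:=(a ⟨-331240, (a 96<|b), (a (e (a 96<|b) (.conj 3 1 b 65821084817154 9))<|b)⟩<|
 a ⟨-25620, (a 70<|b), (a (e (a 70<|b) (.conj 0 1 b 128556806283 9))<|b)⟩<|a ⟨-25480, (a 92<|b), (a (e (a 92<|b) (.conj 2 1 b 1028454450264 9))<|b)⟩<|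
 a ⟨-23660, (a 97<|b), (a (e (a 97<|b) (.conj 3 1 b 8227635602114 9))<|b)⟩<|a ⟨-2940, (a 76<|b), (a (e (a 76<|b) (.conj 0 1 b 66 7))<|b)⟩<|
 a ⟨-2730, (a 104<|b), (a (e (a 104<|b) (.conj 2 1 b 528 7))<|b)⟩<|a ⟨-210, (a 77<|b), (a (e (a 77<|b) (.conj 0 1 b 8 7))<|b)⟩<|d);
 (a ⟨-538020, (a 55<|b), (a (e (a 55<|b) (.conj 0 1 b 158412939 7))<|b)⟩<|
 a ⟨-535290, (a 65<|b), (a (e (a 65<|b) (.conj 0 1 b 1480967819 7))<|b)⟩<|a ⟨-535080, (a 87<|b), (a (e (a 87<|b) (.conj 2 1 b 11847742552 7))<|b)⟩<|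
 a ⟨-461370, (a 113<|b), (a (e (a 113<|b) (.conj 4 1 b 7340293844387901265851466979116 7))<|b)⟩<|a ⟨-333200, (a 69<|b), (a (e (a 69<|b) (.conj 0 1 b 1028454450268 9))<|b)⟩<|
 a ⟨-333060, (a 91<|b), (a (e (a 91<|b) (.conj 2 1 b 8227635602144 9))<|b)⟩<|d));
 (let d:type_of% d:=(a ⟨-3266445, (a 84<|b), (a (e (a 84<|b) (.cube 9 2 (a 84<|a 120<|a 121<|b)))<|b)⟩<|a ⟨-3229590, (a 110<|b), (a (e (a 110<|b) (.cube 4 2 (a 110<|a 120<|a 121<|b)))<|b)⟩<|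
 a ⟨-2998905, (a 114<|b), (a (e (a 114<|b) (.cube 3 2 (a 114<|a 120<|a 121<|b)))<|b)⟩<|a ⟨-2813076, (a 33<|b), (a (e (a 33<|b) (.cube 26 1 (a 33<|a 120<|a 141<|b)))<|b)⟩<|
 a ⟨-2599044, (a 66<|b), (a (e (a 66<|b) (.cube 14 1 (a 66<|a 120<|a 141<|b)))<|b)⟩<|a ⟨-2598960, (a 88<|b), (a (e (a 88<|b) (.cube 6 1 (a 88<|a 120<|a 141<|b)))<|b)⟩<|
 a ⟨-2597868, (a 93<|b), (a (e (a 93<|b) (.cube 5 1 (a 93<|a 120<|a 141<|b)))<|b)⟩<|d);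
 (a ⟨-4329780, (a 105<|b), (a (e (a 105<|b) (.cube 11 8 (a 105<|a 120<|a 121<|b)))<|b)⟩<|a ⟨-3498600, (a 49<|b), (a (e (a 49<|b) (.cube 22 2 (a 49<|a 120<|a 121<|b)))<|b)⟩<|
 a ⟨-3497235, (a 59<|b), (a (e (a 59<|b) (.cube 17 2 (a 59<|a 120<|a 121<|b)))<|b)⟩<|a ⟨-3497130, (a 81<|b), (a (e (a 81<|b) (.cube 10 2 (a 81<|a 120<|a 121<|b)))<|b)⟩<|
 a ⟨-3267915, (a 52<|b), (a (e (a 52<|b) (.cube 21 2 (a 52<|a 120<|a 121<|b)))<|b)⟩<|a ⟨-3266550, (a 62<|b), (a (e (a 62<|b) (.cube 16 2 (a 62<|a 120<|a 121<|b)))<|b)⟩<|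
 d)));
 (let d:type_of% d:=(let d:type_of% d:=(a ⟨-6496140, (a 56<|b), (a (e (a 56<|b) (.cube 43 8 (a 56<|a 120<|a 121<|b)))<|b)⟩<|
 a ⟨-6496035, (a 78<|b), (a (e (a 78<|b) (.cube 43 15 (a 78<|a 120<|a 121<|b)))<|b)⟩<|a ⟨-5396748, (a 27<|b), (a (e (a 27<|b) (.cube 32 2 (a 27<|a 121<|a 141<|b)))<|b)⟩<|
 a ⟨-5212200, (a 30<|b), (a (e (a 30<|b) (.cube 29 2 (a 30<|a 121<|a 141<|b)))<|b)⟩<|a ⟨-4688460, (a 43<|b), (a (e (a 43<|b) (.cube 46 7 (a 43<|a 120<|a 121<|b)))<|b)⟩<|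
 a ⟨-4331740, (a 71<|b), (a (e (a 71<|b) (.cube 18 7 (a 71<|a 120<|a 121<|b)))<|b)⟩<|a ⟨-4331600, (a 99<|b), (a (e (a 99<|b) (.cube 11 7 (a 99<|a 120<|a 121<|b)))<|b)⟩<|
 d);
 (a ⟨-8994580, (a 37<|b), (a (e (a 37<|b) (.cube 52 7 (a 37<|a 120<|a 121<|b)))<|b)⟩<|
 a ⟨-8687000, (a 40<|b), (a (e (a 40<|b) (.cube 49 7 (a 40<|a 120<|a 121<|b)))<|b)⟩<|a ⟨-6765150, (a 11<|b), (a (e (a 11<|b) (.cube 81 3 (a 11<|a 120<|a 121<|b)))<|b)⟩<|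
 a ⟨-6765045, (a 18<|b), (a (e (a 18<|b) (.cube 59 3 (a 18<|a 120<|a 121<|b)))<|b)⟩<|a ⟨-6763680, (a 23<|b), (a (e (a 23<|b) (.cube 49 3 (a 23<|a 120<|a 121<|b)))<|b)⟩<|
 a ⟨-6497505, (a 46<|b), (a (e (a 46<|b) (.cube 43 7 (a 46<|a 120<|a 121<|b)))<|b)⟩<|d));
 (let d:type_of% d:=(a ⟨-19527900, (a 17<|b), (a (e (a 17<|b) (.conj 0 1 b 1073336203069700052290754491482 7))<|b)⟩<|
 a ⟨-19525170, (a 22<|b), (a (e (a 22<|b) (.conj 0 1 b 134167025383712506536344311435 7))<|b)⟩<|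
 a ⟨-13351800, (a 5<|b), (a (e (a 5<|b) (.conj 0 1 b 6578637583932575433621578556098 9))<|b)⟩<|
 a ⟨-13349980, (a 6<|b), (a (e (a 6<|b) (.conj 0 1 b 822329697991571929202697319512 9))<|b)⟩<|
 a ⟨-13349840, (a 14<|b), (a (e (a 14<|b) (.conj 0 1 b 102791212248946491150337164939 9))<|b)⟩<|a ⟨-13261185, (a 0<|b), (a (e (a 0<|b) (.cube 123 3 (a 0<|a 120<|a 121<|b)))<|b)⟩<|
 a ⟨-12993120, (a 26<|b), (a (e (a 26<|b) (.conj 0 1 b 1952924368647676645 9))<|b)⟩<|d);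
 (a ⟨-20524560, (a 3<|b), (a (e (a 3<|b) (.conj 0 1 b 2250949164940027604061660347602376459 7))<|b)⟩<|
 a ⟨-20063190, (a 4<|b), (a (e (a 4<|b) (.conj 0 1 b 281368645617503450507707542194434187 7))<|b)⟩<|
 a ⟨-19989480, (a 9<|b), (a (e (a 9<|b) (.conj 0 1 b 68693516996460803346608287454992 7))<|b)⟩<|
 a ⟨-19989270, (a 16<|b), (a (e (a 16<|b) (.conj 0 1 b 8586689624557600418326035931874 7))<|b)⟩<|
 a ⟨-19986540, (a 21<|b), (a (e (a 21<|b) (.conj 0 1 b 1073336203069700052290754491484 7))<|b)⟩<|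
 a ⟨-19528110, (a 10<|b), (a (e (a 10<|b) (.conj 0 1 b 8586689624557600418326035931856 7))<|b)⟩<|
 d))))) :
 List Cfsg.Agent.E8A.C63.Nil.Ray)) _)

theorem ok6 : chkC D6 = true := by (rewrite [Cfsg.Agent.LsF.fa47430_37.2]; decide +kernel)

/-- the class A2+2A1 -/
def D7 : Cls where
  j := 7
  y := ⟨2, 2, -1, -1, 0, -2, 2, 2⟩
  nu := ⟨0, 0, 1, 13, 169, 2197, 0, 0⟩
  off := [2, 3, 4, 5]
  kil := (beta% delta% lq26c06afe50 fun a b c _ _ _ =>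
 (let d:=(let d:=(let d:=(let d:=(let d:=(let d:=(c 0<|c 0<|c 493<|c 494<|b);
 (c 0<|c 481<|c 488<|c 0<|d));
 (c 480<|c 0<|c 482<|c 477<|c 478<|c 479<|c 0<|d));
 (let d:=(let d:=(c 756188<|c 0<|c 0<|c 0<|d);
 (c 0<|c 0<|c 0<|
 c 475<|d));
 (c 0<|c 466<|c 458<|c 459<|c 0<|c 470<|c 471<|d)));
 (let d:=(let d:=(let d:=(c 452<|c 0<|c 463<|c 455<|d);
 (c 739785<|c 0<|c 0<|c 460<|d));
 (c 450<|c 733635<|c 0<|c 453<|c 736710<|c 0<|c 456<|d));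
 (let d:=(let d:=(c 0<|c 447<|c 448<|c 0<|d);
 (c 442<|
 c 0<|c 444<|c 445<|d));
 (c 670<|c 0<|c 437<|c 673<|c 0<|c 0<|c 441<|d))));
 (let d:=(let d:=(let d:=(let d:=(c 431<|c 667<|c 0<|c 434<|d);
 (c 712399500<|c 663<|c 664<|c 0<|d));
 (c 0<|c 0<|c 422<|c 712661388<|c 659<|c 660<|c 0<|d));
 (let d:=(let d:=(c 447904<|c 0<|c 647<|c 0<|d);
 (c 412<|
 c 444829<|c 0<|c 415<|d));
 (c 405<|c 712661644<|c 0<|c 0<|c 409<|c 441754<|c 0<|d)));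
 (let d:=(let d:=(let d:=(c 646<|c 392<|c 393<|c 0<|d);
 (c 642<|c 643<|c 0<|c 400<|d));
 (c 0<|c 0<|c 0<|c 0<|c 394<|c 443176331<|c 0<|d));
 (let d:=(let d:=(c 0<|c 0<|c 388<|c 409989<|d);
 (c 0<|c 383<|c 384<|c 0<|d));
 (c 0<|c 0<|c 632<|c 0<|c 379<|c 380<|c 0<|
 d)))));
 (let d:=(let d:=(let d:=(let d:=(let d:=(c 627<|c 0<|c 0<|c 0<|d);
 (c 623<|c 0<|c 0<|c 626<|d));
 (c 0<|c 617<|c 351<|c 352<|c 353<|c 0<|c 622<|d));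
 (let d:=(let d:=(c 329<|c 330<|c 331<|c 332<|d);
 (c 0<|c 0<|c 0<|c 362357060<|d));
 (c 362095172<|c 0<|c 0<|c 0<|
 c 605<|c 632414<|c 0<|d)));
 (let d:=(let d:=(let d:=(c 320<|c 321<|c 0<|c 600<|d);
 (c 593<|c 317<|c 0<|c 596<|d));
 (c 582<|c 0<|c 0<|c 0<|c 590<|c 314<|c 0<|d));
 (let d:=(let d:=(c 0<|c 583<|c 362094916<|c 581<|d);
 (c 578<|c 629481027<|c 0<|c 0<|d));
 (c 571<|c 607804<|c 0<|c 574<|
 c 610879<|c 0<|c 0<|d))));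
 (let d:=(let d:=(let d:=(let d:=(c 0<|c 568<|c 604729<|c 0<|d);
 (c 0<|c 564<|c 565<|c 0<|d));
 (c 547<|c 0<|c 558<|c 559<|c 0<|c 561<|c 562<|d));
 (let d:=(let d:=(c 552<|c 544<|c 0<|c 555<|d);
 (c 0<|c 549<|c 541<|c 0<|d));
 (c 0<|c 542<|c 303647<|c 0<|
 c 545<|c 306722<|c 538<|d)));
 (let d:=(let d:=(let d:=(c 0<|c 0<|c 539<|c 300572<|d);
 (c 0<|c 0<|c 535<|c 536<|d));
 (c 520<|c 521<|c 522<|c 0<|c 530<|c 525<|c 0<|d));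
 (let d:=(let d:=(c 0<|c 523<|c 281100<|c 0<|d);
 (c 517<|c 518<|c 0<|c 0<|d));
 (a 0<|a 512<|a 513<|a 0<|a 0<|a 0<|a 0<|d)))))))
  rays := (beta% (fun (vq0 : List Cfsg.Agent.E8A.C63.Nil.Ray) => (beta% delta% lq26c06afe50 fun a b _ e _ _ =>
 (let d:type_of% vq0:=(let d:type_of% vq0:=(let d:type_of% vq0:=(let d:type_of% vq0:=(a ⟨1027040, (a 232<|b), (a (e (a 232<|b) (.conj 2 1 b 19892851347065983836518088453489473858 10))<|b)⟩<|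
 a ⟨1501920, (a 217<|b), (a (e (a 217<|b) (.conj 2 1 b 3262753070463307 8))<|b)⟩<|a ⟨1537410, (a 218<|b), (a (e (a 218<|b) (.conj 2 1 b 26102024563706460 8))<|b)⟩<|
 a ⟨1540350, (a 231<|b), (a (e (a 231<|b) (.conj 2 1 (a (e 15 1)<|b) 13954852338218609693569201240 9))<|b)⟩<|
 a ⟨1543290, (a 235<|b), (a (e (a 235<|b) (.conj 2 1 b 437919304142609045004994 8))<|b)⟩<|a ⟨1578780, (a 236<|b), (a (e (a 236<|b) (.conj 2 1 b 3503354433140872360040194 8))<|b)⟩<|b);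
 (a ⟨693840, (a 226<|b), (a (e (a 226<|b) (.cube 3 83 (a 120<|a 121<|a 226<|b)))<|b)⟩<|a ⟨770175, (a 224<|b), (a (e (a 224<|b) (.cube 5 104 (a 141<|a 162<|a 224<|b)))<|b)⟩<|
 a ⟨999460, (a 203<|b), (a (e (a 203<|b) (.conj 2 1 b 81481119117582269784933357338009837774603 10))<|b)⟩<|
 a ⟨1001420, (a 222<|b), (a (e (a 222<|b) (.conj 2 1 b 651848952940658158355024722443943080171266 10))<|b)⟩<|
 a ⟨1020075, (a 237<|b), (a (e (a 237<|b) (.cube 3 125 (a 120<|a 121<|a 237<|b)))<|b)⟩<|a ⟨1025080, (a 223<|b), (a (e (a 223<|b) (.conj 2 1 b 81481119117582269794378090305492885021378 10))<|b)⟩<|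
 d));
 (let d:type_of% d:=(a ⟨416304, (a 219<|b), (a (e (a 219<|b) (.cube 8 106 (a 120<|a 162<|a 219<|b)))<|b)⟩<|
 a ⟨499800, (a 171<|a 191<|b), (a (e (a 171<|b) (.cube 0 15 (a 120<|a 121<|a 171<|b)))<|a (e (a 191<|b) (.cube 7 45 (a 120<|a 121<|a 191<|b)))<|a (e (a 171<|a 191<|b) (.cube 7 45 (a 120<|a 121<|a 191<|b)))<|b)⟩<|
 a ⟨520275, (a 214<|b), (a (e (a 214<|b) (.cube 3 51 (a 120<|a 121<|a 214<|b)))<|b)⟩<|a ⟨666260, (a 181<|b), (a (e (a 181<|b) (.cube 21 83 (a 120<|a 121<|a 181<|b)))<|b)⟩<|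
 a ⟨668220, (a 207<|b), (a (e (a 207<|b) (.cube 4 45 (a 120<|a 121<|a 207<|b)))<|b)⟩<|a ⟨691880, (a 210<|b), (a (e (a 210<|b) (.cube 3 45 (a 120<|a 121<|a 210<|b)))<|b)⟩<|
 d);
 (a ⟨358680, (a 178<|b), (a (e (a 178<|b) (.cube 0 17 (a 120<|a 121<|a 178<|b)))<|b)⟩<|a ⟨360640, (a 204<|b), (a (e (a 204<|b) (.cube 0 36 (a 120<|a 121<|a 204<|b)))<|b)⟩<|
 a ⟨399756, (a 159<|b), (a (e (a 159<|b) (.cube 8 44 (a 120<|a 159<|a 162<|b)))<|b)⟩<|a ⟨400932, (a 197<|b), (a (e (a 197<|b) (.cube 5 50 (a 120<|a 141<|a 197<|b)))<|b)⟩<|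
 a ⟨415128, (a 200<|b), (a (e (a 200<|b) (.cube 5 53 (a 120<|a 141<|a 200<|b)))<|b)⟩<|d)));
 (let d:type_of% d:=(let d:type_of% d:=(a ⟨248430, (a 127<|b), (a (e (a 127<|b) (.cube 0 4 (a 120<|a 121<|a 127<|b)))<|b)⟩<|
 a ⟨249900, (a 149<|a 166<|b), (a (e (a 149<|b) (.cube 0 8 (a 120<|a 121<|a 149<|b)))<|a (e (a 166<|b) (.cube 0 14 (a 120<|a 121<|a 166<|b)))<|a (e (a 149<|a 166<|b) (.cube 20 87 (a 121<|a 149<|a 166<|b)))<|b)⟩<|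
 a ⟨251370, (a 185<|b), (a (e (a 185<|b) (.cube 0 21 (a 120<|a 121<|a 185<|b)))<|b)⟩<|a ⟨269115, (a 188<|b), (a (e (a 188<|b) (.cube 0 22 (a 120<|a 121<|a 188<|b)))<|b)⟩<|
 a ⟨333060, (a 144<|b), (a (e (a 144<|b) (.cube 0 7 (a 120<|a 121<|a 144<|b)))<|b)⟩<|a ⟨335020, (a 175<|b), (a (e (a 175<|b) (.cube 0 16 (a 120<|a 121<|a 175<|b)))<|b)⟩<|
 d);
 (a ⟨199836, (a 132<|b), (a (e (a 132<|b) (.cube 0 5 (a 120<|a 121<|a 132<|b)))<|b)⟩<|a ⟨201012, (a 153<|b), (a (e (a 153<|b) (.cube 0 9 (a 120<|a 121<|a 153<|b)))<|b)⟩<|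
 a ⟨215208, (a 156<|b), (a (e (a 156<|b) (.cube 0 10 (a 120<|a 121<|a 156<|b)))<|b)⟩<|a ⟨216384, (a 194<|b), (a (e (a 194<|b) (.cube 0 26 (a 120<|a 121<|a 194<|b)))<|b)⟩<|
 a ⟨230685, (a 123<|b), (a (e (a 123<|b) (.cube 0 3 (a 120<|a 121<|a 123<|b)))<|b)⟩<|d));
 (let d:type_of% d:=(a ⟨25480, (a 131<|b), (a (e (a 131<|b) (.conj 3 1 b 8227638030475 10))<|b)⟩<|a ⟨27440, (a 152<|b), (a (e (a 152<|b) (.conj 2 1 b 2008700683 10))<|b)⟩<|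
 a ⟨35490, (a 126<|b), (a (e (a 126<|b) (.conj 4 1 b 146068112444503548645 8))<|b)⟩<|a ⟨38430, (a 165<|b), (a (e (a 165<|b) (.conj 2 1 (a (e 102 (-1))<|b) 16069604444 9))<|b)⟩<|
 a ⟨41370, (a 184<|b), (a (e (a 184<|b) (.conj 2 1 b 2450616273193724048388661954 8))<|b)⟩<|a ⟨166600, (a 138<|b), (a (e (a 138<|b) (.cube 0 6 (a 120<|a 121<|a 138<|b)))<|b)⟩<|
 d);
 (a ⟨140, (a 135<|b), (a (e (a 135<|b) (.conj 2 1 b 17254607550887833739 10))<|b)⟩<|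
 a ⟨1470, (a 136<|b), (a (e (a 136<|b) (.cube 5 16 (a 136<|a 141<|a 162<|b)))<|b)⟩<|a ⟨1820, (a 130<|b), (a (e (a 130<|b) (.conj 3 1 b 65821104243804 10))<|b)⟩<|
 a ⟨2940, (a 164<|b), (a (e (a 164<|b) (.conj 2 1 (a (e 103 (-1))<|b) 2008700555 9))<|b)⟩<|a ⟨19215, (a 137<|b), (a (e (a 137<|b) (.cube 5 17 (a 137<|a 141<|a 162<|b)))<|b)⟩<|
 d))));
 (let d:type_of% d:=(let d:type_of% d:=(let d:type_of% d:=(a ⟨-25480, (a 96<|b), (a (e (a 96<|b) (.conj 3 1 b 526568400171147 10))<|b)⟩<|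
 a ⟨-19215, (a 69<|b), (a (e (a 69<|b) (.cube 10 7 (a 69<|a 141<|a 162<|b)))<|b)⟩<|a ⟨-2940, (a 92<|b), (a (e (a 92<|b) (.conj 2 1 (a (e 169 1)<|b) 1028454450264 9))<|b)⟩<|
 a ⟨-1820, (a 97<|b), (a (e (a 97<|b) (.conj 3 1 b 4212550671603467 10))<|b)⟩<|a ⟨-1470, (a 70<|b), (a (e (a 70<|b) (.cube 9 7 (a 70<|a 141<|a 162<|b)))<|b)⟩<|
 a ⟨-140, (a 76<|b), (a (e (a 76<|b) (.conj 2 1 b 1104294883256821359298 10))<|b)⟩<|d);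
 (a ⟨-199836, (a 93<|b), (a (e (a 93<|b) (.cube 5 1 (a 93<|a 120<|a 141<|b)))<|b)⟩<|
 a ⟨-166600, (a 66<|b), (a (e (a 66<|b) (.cube 8 1 (a 66<|a 120<|a 162<|b)))<|b)⟩<|a ⟨-41370, (a 55<|b), (a (e (a 55<|b) (.conj 2 1 b 19604930185549792387141477058 8))<|b)⟩<|
 a ⟨-38430, (a 91<|b), (a (e (a 91<|b) (.conj 2 1 (a (e 170 1)<|b) 8227635602144 9))<|b)⟩<|a ⟨-35490, (a 113<|b), (a (e (a 113<|b) (.conj 4 1 b 1168544899556028389164 8))<|b)⟩<|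
 a ⟨-27440, (a 65<|b), (a (e (a 65<|b) (.conj 2 1 b 128556738315 10))<|b)⟩<|d));
 (let d:type_of% d:=(a ⟨-249900, (a 71<|a 88<|b), (a (e (a 71<|b) (.cube 18 7 (a 71<|a 120<|a 121<|b)))<|a (e (a 88<|b) (.cube 23 14 (a 88<|a 120<|a 121<|b)))<|a (e (a 71<|a 88<|b) (.cube 18 7 (a 71<|a 120<|a 121<|b)))<|b)⟩<|
 a ⟨-248430, (a 110<|b), (a (e (a 110<|b) (.cube 4 2 (a 110<|a 120<|a 121<|b)))<|b)⟩<|a ⟨-230685, (a 114<|b), (a (e (a 114<|b) (.cube 3 2 (a 114<|a 120<|a 121<|b)))<|b)⟩<|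
 a ⟨-216384, (a 33<|b), (a (e (a 33<|b) (.cube 26 1 (a 33<|a 120<|a 141<|b)))<|b)⟩<|a ⟨-215208, (a 59<|b), (a (e (a 59<|b) (.cube 10 1 (a 59<|a 120<|a 162<|b)))<|b)⟩<|
 a ⟨-201012, (a 62<|b), (a (e (a 62<|b) (.cube 9 1 (a 62<|a 120<|a 162<|b)))<|b)⟩<|d);
 (a ⟨-358680, (a 81<|b), (a (e (a 81<|b) (.cube 40 15 (a 81<|a 120<|a 121<|b)))<|b)⟩<|
 a ⟨-335020, (a 84<|b), (a (e (a 84<|b) (.cube 37 15 (a 84<|a 120<|a 121<|b)))<|b)⟩<|a ⟨-333060, (a 105<|b), (a (e (a 105<|b) (.cube 18 15 (a 105<|a 120<|a 121<|b)))<|b)⟩<|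
 a ⟨-269115, (a 49<|b), (a (e (a 49<|b) (.cube 22 2 (a 49<|a 120<|a 121<|b)))<|b)⟩<|a ⟨-251370, (a 52<|b), (a (e (a 52<|b) (.cube 21 2 (a 52<|a 120<|a 121<|b)))<|b)⟩<|
 d)));
 (let d:type_of% d:=(let d:type_of% d:=(a ⟨-499800, (a 46<|a 99<|b), (a (e (a 46<|b) (.cube 43 7 (a 46<|a 120<|a 121<|b)))<|a (e (a 99<|b) (.cube 23 15 (a 99<|a 120<|a 121<|b)))<|a (e (a 46<|a 99<|b) (.cube 43 7 (a 46<|a 120<|a 121<|b)))<|b)⟩<|
 a ⟨-416304, (a 11<|b), (a (e (a 11<|b) (.cube 58 2 (a 11<|a 121<|a 162<|b)))<|b)⟩<|a ⟨-415128, (a 27<|b), (a (e (a 27<|b) (.cube 32 2 (a 27<|a 121<|a 141<|b)))<|b)⟩<|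
 a ⟨-400932, (a 30<|b), (a (e (a 30<|b) (.cube 29 2 (a 30<|a 121<|a 141<|b)))<|b)⟩<|a ⟨-399756, (a 56<|b), (a (e (a 56<|b) (.cube 13 2 (a 56<|a 121<|a 162<|b)))<|b)⟩<|
 a ⟨-360640, (a 43<|b), (a (e (a 43<|b) (.cube 46 7 (a 43<|a 120<|a 121<|b)))<|b)⟩<|d);
 (a ⟨-693840, (a 18<|b), (a (e (a 18<|b) (.cube 105 15 (a 18<|a 120<|a 121<|b)))<|b)⟩<|a ⟨-691880, (a 37<|b), (a (e (a 37<|b) (.cube 52 7 (a 37<|a 120<|a 121<|b)))<|b)⟩<|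
 a ⟨-668220, (a 40<|b), (a (e (a 40<|b) (.cube 49 7 (a 40<|a 120<|a 121<|b)))<|b)⟩<|a ⟨-666260, (a 78<|b), (a (e (a 78<|b) (.cube 43 15 (a 78<|a 120<|a 121<|b)))<|b)⟩<|
 a ⟨-520275, (a 23<|b), (a (e (a 23<|b) (.cube 49 3 (a 23<|a 120<|a 121<|b)))<|b)⟩<|
 d));
 (let d:type_of% d:=(a ⟨-1027040, (a 5<|b), (a (e (a 5<|b) (.conj 2 1 b 1273074467341880771292867499496076523842 10))<|b)⟩<|
 a ⟨-1025080, (a 9<|b), (a (e (a 9<|b) (.conj 2 1 b 5214513018232343639215585277935929441755842 10))<|b)⟩<|a ⟨-1020075, (a 0<|b), (a (e (a 0<|b) (.cube 123 3 (a 0<|a 120<|a 121<|b)))<|b)⟩<|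
 a ⟨-1001420, (a 10<|b), (a (e (a 10<|b) (.conj 2 1 b 41716104145858749113724682223487435534046978 10))<|b)⟩<|
 a ⟨-999460, (a 26<|b), (a (e (a 26<|b) (.conj 2 1 b 4832503526067725096660569626300357606123275 10))<|b)⟩<|a ⟨-770175, (a 6<|b), (a (e (a 6<|b) (.cube 76 7 (a 6<|a 141<|a 162<|b)))<|b)⟩<|
 d);
 (a ⟨-1578780, (a 3<|b), (a (e (a 3<|b) (.conj 2 1 b 22846167546974939155339010 8))<|b)⟩<|a ⟨-1543290, (a 4<|b), (a (e (a 4<|b) (.conj 2 1 b 2855770943371867394417346 8))<|b)⟩<|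
 a ⟨-1540350, (a 14<|b), (a (e (a 14<|b) (.conj 2 1 (a (e 233 (-1))<|b) 102791212248946491150337164939 9))<|b)⟩<|
 a ⟨-1537410, (a 21<|b), (a (e (a 21<|b) (.conj 2 1 b 170217212639562332 8))<|b)⟩<|a ⟨-1501920, (a 22<|b), (a (e (a 22<|b) (.conj 2 1 b 21277151579945291 8))<|b)⟩<|
 d))))) :
 List Cfsg.Agent.E8A.C63.Nil.Ray)) _)

theorem ok7 : chkC D7 = true := by (rewrite [Cfsg.Agent.LsF.fa47430_37.2]; decide +kernel)

/-- the class A2+3A1 -/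
def D8 : Cls where
  j := 8
  y := ⟨2, 2, 2, -4, 2, -2, 2, -1⟩
  nu := ⟨0, 0, 0, 1, 0, 13, 0, 169⟩
  off := [3, 5, 7]
  kil := (beta% delta% lq26c06afe50 fun a b c _ _ _ =>
 (let d:=(let d:=(let d:=(let d:=(let d:=(let d:=(c 491<|c 0<|c 493<|c 0<|b);
 (c 499425<|c 481<|c 488<|c 0<|d));
 (c 480<|c 475<|
 c 488152<|c 477<|c 490202<|c 479<|c 0<|d));
 (let d:=(let d:=(c 472<|c 0<|c 474<|c 0<|d);
 (c 0<|c 473<|c 470<|c 0<|d));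
 (c 456<|c 755705287<|c 458<|c 459<|c 0<|c 0<|c 471<|d)));
 (let d:=(let d:=(let d:=(c 452<|c 0<|c 0<|c 755443399<|d);
 (c 487270087<|c 0<|c 0<|c 451<|d));
 (c 450<|c 0<|
 c 0<|c 0<|c 454<|c 453<|c 0<|d));
 (let d:=(let d:=(c 437<|c 448929<|c 439<|c 0<|d);
 (c 443806<|c 444829<|c 435<|c 436<|d));
 (c 670<|c 671<|c 0<|c 673<|c 430<|c 0<|c 442781<|d))));
 (let d:=(let d:=(let d:=(let d:=(c 721056154<|c 0<|c 720794266<|c 669<|d);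
 (c 662<|c 663<|c 664<|c 0<|d));
 (c 409225<|c 0<|c 411275<|c 412300<|c 675215<|c 660<|
 c 677265<|d));
 (let d:=(let d:=(c 416<|c 0<|c 647<|c 0<|d);
 (c 721056410<|c 411<|c 0<|c 0<|d));
 (c 401<|c 402<|c 0<|c 0<|c 409<|c 0<|c 0<|d)));
 (let d:=(let d:=(let d:=(c 0<|c 686432899<|c 399<|c 688532101<|d);
 (c 0<|c 686170499<|c 0<|
 c 688269701<|d));
 (c 0<|c 0<|c 417997187<|c 0<|c 420096389<|c 646<|c 0<|d));
 (let d:=(let d:=(c 386<|c 0<|c 388<|c 0<|d);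
 (c 0<|c 636<|c 637<|c 0<|d));
 (c 0<|c 0<|c 632<|c 0<|c 379<|c 0<|c 0<|d)))));
 (let d:=(let d:=(let d:=(let d:=(let d:=(c 368<|c 0<|c 0<|c 373<|d);
 (c 623<|c 0<|
 c 366<|c 0<|d));
 (c 349<|c 367618633<|c 351<|c 369717835<|c 353<|c 0<|c 0<|d));
 (let d:=(let d:=(c 329<|c 0<|c 331<|c 0<|d);
 (c 619083<|c 0<|c 327<|c 0<|d));
 (c 598340<|c 0<|c 600390<|c 614983<|c 630530628<|c 617033<|c 632629830<|d)));
 (let d:=(let d:=(let d:=(c 320<|c 321<|c 0<|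
 c 0<|d);
 (c 0<|c 325174<|c 318<|c 327222<|d));
 (c 586<|c 0<|c 0<|c 320047<|c 313<|c 314<|c 323124<|d));
 (let d:=(let d:=(c 578<|c 0<|c 584<|c 0<|d);
 (c 0<|c 579<|c 0<|c 581<|d));
 (c 0<|
 c 331928883<|c 564<|c 331666995<|c 566<|c 567<|c 0<|d))));
 (let d:=(let d:=(let d:=(let d:=(c 0<|c 559<|c 560<|c 0<|d);
 (c 561<|c 0<|c 600102195<|c 0<|d));
 (c 547<|c 0<|c 558<|c 0<|c 0<|c 0<|c 562<|d));
 (let d:=(let d:=(c 543<|c 544<|c 545<|c 0<|d);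
 (c 0<|c 307788060<|c 0<|c 307526172<|d));
 (c 0<|
 c 575961372<|c 541<|c 0<|c 0<|c 546<|c 538<|d)));
 (let d:=(let d:=(let d:=(c 0<|c 0<|c 539<|c 0<|d);
 (c 529<|c 542988<|c 531<|c 532<|d));
 (c 520<|c 0<|c 522<|c 0<|c 524<|c 525<|c 540938<|d));
 (let d:=(let d:=(c 0<|c 523<|c 0<|c 269830<|d);
 (c 0<|c 519<|c 0<|c 521<|d));
 (a 0<|a 0<|a 513<|a 0<|a 515<|a 0<|a 517<|d)))))))
  rays := (beta% (fun (vq0 : List Cfsg.Agent.E8A.C63.Nil.Ray) => (beta% delta% lq26c06afe50 fun a b _ e _ _ =>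
 (let d:type_of% vq0:=(let d:type_of% vq0:=(let d:type_of% vq0:=(let d:type_of% vq0:=(a ⟨29680, (a 222<|b), (a (e (a 222<|b) (.cube 3 87 (a 126<|a 162<|a 222<|b)))<|b)⟩<|a ⟨29820, (a 231<|b), (a (e (a 231<|b) (.cube 14 163 (a 135<|a 141<|a 231<|b)))<|b)⟩<|
 a ⟨29960, (a 235<|b), (a (e (a 235<|b) (.conj 3 1 b 605643637308400143513218742038667 11))<|b)⟩<|
 a ⟨31780, (a 237<|b), (a (e (a 237<|b) (.conj 3 1 b 2480029554925992497416522963398435557 11))<|b)⟩<|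
 a ⟨83160, (a 239<|b), (a (e (a 239<|b) (.conj 3 1 (a (e 208 1)<|a (e 201 1)<|a (e 199 1)<|a (e 40 1)<|a (e 38 1)<|a (e 31 1)<|b) 3390878017461606882681942034276508 9))<|b)⟩<|b);
 (a ⟨27580, (a 182<|b), (a (e (a 182<|b) (.cube 1 25 (a 121<|a 135<|a 182<|b)))<|b)⟩<|
 a ⟨27720, (a 201<|a 208<|b), (a (e (a 201<|b) (.cube 1 42 (a 121<|a 141<|a 201<|b)))<|a (e (a 208<|b) (.cube 1 42 (a 121<|a 126<|a 208<|b)))<|a (e (a 201<|a 208<|b) (.cube 4 129 (a 121<|a 201<|a 208<|b)))<|b)⟩<|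
 a ⟨27860, (a 220<|b), (a (e (a 220<|b) (.cube 1 80 (a 121<|a 162<|a 220<|b)))<|b)⟩<|a ⟨29540, (a 203<|b), (a (e (a 203<|b) (.conj 3 1 b 17213427477952340709 11))<|b)⟩<|
 d));
 (let d:type_of% d:=(a ⟨23660, (a 120<|b), (a (e (a 120<|b) (.conj 7 1 b 490405 11))<|b)⟩<|a ⟨25480, (a 125<|b), (a (e (a 125<|b) (.conj 5 1 b 119 11))<|b)⟩<|
 a ⟨25620, (a 146<|b), (a (e (a 146<|b) (.cube 0 15 (a 135<|a 146<|a 162<|b)))<|b)⟩<|a ⟨25760, (a 177<|b), (a (e (a 177<|b) (.cube 3 25 (a 126<|a 135<|a 177<|b)))<|b)⟩<|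
 a ⟨25900, (a 196<|b), (a (e (a 196<|b) (.conj 3 1 b 4202496942747787 11))<|b)⟩<|d);
 (a ⟨16632, (a 198<|b), (a (e (a 198<|b) (.cube 32 122 (a 121<|a 141<|a 198<|b)))<|b)⟩<|a ⟨16716, (a 215<|b), (a (e (a 215<|b) (.cube 1 58 (a 121<|a 135<|a 215<|b)))<|b)⟩<|
 a ⟨17808, (a 217<|b), (a (e (a 217<|b) (.cube 3 65 (a 126<|a 135<|a 217<|b)))<|b)⟩<|a ⟨17892, (a 224<|b), (a (e (a 224<|b) (.cube 26 174 (a 141<|a 162<|a 224<|b)))<|b)⟩<|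
 d)));
 (let d:type_of% d:=(let d:type_of% d:=(a ⟨3360, (a 204<|b), (a (e (a 204<|b) (.conj 3 1 (a (e 45 1)<|b) 36185534734559762046107801 10))<|b)⟩<|
 a ⟨6090, (a 207<|b), (a (e (a 207<|b) (.conj 3 1 (a (e 42 1)<|b) 75886566539651473542738336137369 10))<|b)⟩<|a ⟨15372, (a 134<|b), (a (e (a 134<|b) (.cube 10 32 (a 134<|a 135<|a 162<|b)))<|b)⟩<|
 a ⟨15456, (a 155<|b), (a (e (a 155<|b) (.cube 3 20 (a 126<|a 155<|a 162<|b)))<|b)⟩<|a ⟨16548, (a 160<|b), (a (e (a 160<|b) (.cube 1 20 (a 121<|a 160<|a 162<|b)))<|b)⟩<|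
 d);
 (a ⟨2730, (a 127<|b), (a (e (a 127<|b) (.conj 5 1 (a (e 116 (-1))<|b) 70674872528437034714204 10))<|b)⟩<|
 a ⟨2940, (a 159<|a 166<|b), (a (e (a 159<|b) (.cube 2 24 (a 135<|a 159<|a 162<|b)))<|a (e (a 166<|b) (.cube 1 15 (a 121<|a 141<|a 166<|b)))<|a (e (a 159<|a 166<|b) (.cube 17 84 (a 135<|a 159<|a 162<|b)))<|b)⟩<|
 a ⟨3045, (a 197<|b), (a (e (a 197<|b) (.cube 3 43 (a 126<|a 141<|a 197<|b)))<|b)⟩<|
 a ⟨3150, (a 185<|a 214<|b), (a (e (a 185<|b) (.cube 1 22 (a 121<|a 126<|a 185<|b)))<|a (e (a 214<|b) (.cube 2 79 (a 135<|a 162<|a 214<|b)))<|a (e (a 185<|a 214<|b) (.cube 8 105 (a 135<|a 162<|a 214<|b)))<|b)⟩<|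
 d));
 (let d:type_of% d:=(a ⟨1050, (a 153<|b), (a (e (a 153<|b) (.cube 7 37 (a 135<|a 153<|a 162<|b)))<|b)⟩<|
 a ⟨1365, (a 123<|b), (a (e (a 123<|b) (.cube 1 4 (a 121<|a 123<|a 126<|b)))<|b)⟩<|
 a ⟨1470, (a 138<|a 144<|b), (a (e (a 138<|b) (.cube 8 24 (a 121<|a 138<|a 162<|b)))<|a (e (a 144<|b) (.cube 1 8 (a 121<|a 135<|a 144<|b)))<|a (e (a 138<|a 144<|b) (.cube 8 24 (a 121<|a 138<|a 162<|b)))<|b)⟩<|
 a ⟨1575, (a 156<|a 175<|b), (a (e (a 156<|b) (.cube 1 17 (a 121<|a 156<|a 162<|b)))<|a (e (a 175<|b) (.cube 17 79 (a 121<|a 135<|a 175<|b)))<|a (e (a 156<|a 175<|b) (.cube 15 99 (a 121<|a 156<|a 175<|b)))<|b)⟩<|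
 a ⟨1680, (a 194<|b), (a (e (a 194<|b) (.cube 1 36 (a 121<|a 141<|a 194<|b)))<|b)⟩<|d);
 (a ⟨70, (a 130<|b), (a (e (a 130<|b) (.cube 10 26 (a 130<|a 135<|a 162<|b)))<|b)⟩<|
 a ⟨105, (a 136<|a 142<|b), (a (e (a 136<|b) (.cube 8 22 (a 126<|a 136<|a 162<|b)))<|a (e (a 142<|b) (.cube 3 8 (a 126<|a 135<|a 142<|b)))<|a (e (a 136<|a 142<|b) (.cube 8 22 (a 126<|a 136<|a 162<|b)))<|b)⟩<|
 a ⟨210, (a 152<|a 164<|b), (a (e (a 152<|b) (.cube 4 22 (a 135<|a 152<|a 162<|b)))<|a (e (a 164<|b) (.cube 3 15 (a 126<|a 141<|a 164<|b)))<|a (e (a 152<|a 164<|b) (.cube 19 79 (a 135<|a 152<|a 162<|b)))<|b)⟩<|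
 a ⟨980, (a 132<|b), (a (e (a 132<|b) (.cube 10 30 (a 132<|a 135<|a 162<|b)))<|b)⟩<|d))));
 (let d:type_of% d:=(let d:type_of% d:=(let d:type_of% d:=(a ⟨-1050, (a 50<|b), (a (e (a 50<|b) (.cube 10 1 (a 50<|a 135<|a 162<|b)))<|b)⟩<|
 a ⟨-980, (a 67<|b), (a (e (a 67<|b) (.cube 7 1 (a 67<|a 135<|a 162<|b)))<|b)⟩<|
 a ⟨-210, (a 55<|a 102<|b), (a (e (a 55<|b) (.cube 10 4 (a 55<|a 135<|a 162<|b)))<|a (e (a 102<|b) (.cube 110 105 (a 102<|a 126<|a 135<|b)))<|a (e (a 55<|a 102<|b) (.cube 36 15 (a 55<|a 135<|a 162<|b)))<|b)⟩<|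
 a ⟨-105, (a 74<|a 91<|b), (a (e (a 74<|b) (.cube 21 15 (a 74<|a 126<|a 162<|b)))<|a (e (a 91<|b) (.cube 17 15 (a 91<|a 135<|a 141<|b)))<|a (e (a 74<|a 91<|b) (.cube 38 24 (a 91<|a 126<|a 135<|b)))<|b)⟩<|
 a ⟨-70, (a 69<|b), (a (e (a 69<|b) (.cube 7 3 (a 69<|a 135<|a 162<|b)))<|b)⟩<|d);
 (a ⟨-1680, (a 34<|b), (a (e (a 34<|b) (.cube 26 2 (a 34<|a 121<|a 141<|b)))<|b)⟩<|
 a ⟨-1575, (a 53<|a 60<|b), (a (e (a 53<|b) (.cube 12 4 (a 53<|a 135<|a 162<|b)))<|a (e (a 60<|b) (.cube 38 15 (a 60<|a 126<|a 162<|b)))<|a (e (a 53<|a 60<|b) (.cube 40 15 (a 60<|a 121<|a 162<|b)))<|b)⟩<|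
 a ⟨-1470, (a 72<|a 89<|b), (a (e (a 72<|b) (.cube 23 15 (a 72<|a 121<|a 162<|b)))<|a (e (a 89<|b) (.cube 19 15 (a 89<|a 135<|a 141<|b)))<|a (e (a 72<|a 89<|b) (.cube 40 22 (a 89<|a 121<|a 135<|b)))<|b)⟩<|
 a ⟨-1365, (a 111<|b), (a (e (a 111<|b) (.cube 3 2 (a 111<|a 121<|a 126<|b)))<|b)⟩<|d));
 (let d:type_of% d:=(a ⟨-3360, (a 44<|b), (a (e (a 44<|b) (.conj 3 1 (a (e 205 (-1))<|b) 289484277876478098822182931 10))<|b)⟩<|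
 a ⟨-3150, (a 13<|a 82<|b), (a (e (a 13<|b) (.cube 47 2 (a 13<|a 135<|a 162<|b)))<|a (e (a 82<|b) (.cube 110 79 (a 82<|a 121<|a 126<|b)))<|a (e (a 13<|a 82<|b) (.cube 37 15 (a 82<|a 121<|a 126<|b)))<|b)⟩<|
 a ⟨-3045, (a 29<|b), (a (e (a 29<|b) (.cube 33 4 (a 29<|a 126<|a 141<|b)))<|b)⟩<|
 a ⟨-2940, (a 48<|a 100<|b), (a (e (a 48<|b) (.cube 12 2 (a 48<|a 135<|a 162<|b)))<|a (e (a 100<|b) (.cube 117 105 (a 100<|a 121<|a 135<|b)))<|a (e (a 48<|a 100<|b) (.cube 43 15 (a 48<|a 135<|a 162<|b)))<|b)⟩<|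
 a ⟨-2730, (a 115<|b), (a (e (a 115<|b) (.conj 5 1 (a (e 128 1)<|b) 565398980227496286695563 10))<|b)⟩<|d);
 (a ⟨-16548, (a 46<|b), (a (e (a 46<|b) (.cube 12 0 (a 46<|a 135<|a 162<|b)))<|b)⟩<|a ⟨-15456, (a 49<|b), (a (e (a 49<|b) (.cube 10 0 (a 49<|a 135<|a 162<|b)))<|b)⟩<|
 a ⟨-15372, (a 66<|b), (a (e (a 66<|b) (.cube 7 0 (a 66<|a 135<|a 162<|b)))<|b)⟩<|a ⟨-6090, (a 39<|b), (a (e (a 39<|b) (.conj 3 1 (a (e 210 (-1))<|b) 607092532317211790197157243729939 10))<|b)⟩<|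
 d)));
 (let d:type_of% d:=(let d:type_of% d:=(a ⟨-23660, (a 117<|b), (a (e (a 117<|b) (.conj 7 1 b 26704805 11))<|b)⟩<|
 a ⟨-17892, (a 5<|b), (a (e (a 5<|b) (.cube 71 0 (a 5<|a 135<|a 162<|b)))<|b)⟩<|a ⟨-17808, (a 9<|b), (a (e (a 9<|b) (.cube 52 0 (a 9<|a 135<|a 162<|b)))<|b)⟩<|
 a ⟨-16716, (a 11<|b), (a (e (a 11<|b) (.cube 47 0 (a 11<|a 135<|a 162<|b)))<|b)⟩<|a ⟨-16632, (a 27<|b), (a (e (a 27<|b) (.cube 32 2 (a 27<|a 121<|a 141<|b)))<|b)⟩<|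
 d);
 (a ⟨-25900, (a 33<|b), (a (e (a 33<|b) (.conj 3 1 b 229382478311272587 11))<|b)⟩<|
 a ⟨-25760, (a 59<|b), (a (e (a 59<|b) (.cube 39 15 (a 59<|a 126<|a 162<|b)))<|b)⟩<|a ⟨-25620, (a 88<|b), (a (e (a 88<|b) (.cube 20 15 (a 88<|a 135<|a 141<|b)))<|b)⟩<|
 a ⟨-25480, (a 110<|b), (a (e (a 110<|b) (.conj 5 1 b 6519 11))<|b)⟩<|d));
 (let d:type_of% d:=(a ⟨-29680, (a 16<|b), (a (e (a 16<|b) (.cube 124 24 (a 16<|a 126<|a 135<|b)))<|b)⟩<|a ⟨-29540, (a 26<|b), (a (e (a 26<|b) (.conj 3 1 b 939550631163429921509 11))<|b)⟩<|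
 a ⟨-27860, (a 18<|b), (a (e (a 18<|b) (.cube 115 22 (a 18<|a 121<|a 135<|b)))<|b)⟩<|
 a ⟨-27720, (a 30<|a 37<|b), (a (e (a 30<|b) (.cube 120 42 (a 30<|a 121<|a 141<|b)))<|a (e (a 37<|b) (.cube 120 42 (a 37<|a 121<|a 126<|b)))<|a (e (a 30<|a 37<|b) (.cube 129 4 (a 30<|a 37<|a 121<|b)))<|b)⟩<|
 a ⟨-27580, (a 56<|b), (a (e (a 56<|b) (.cube 44 15 (a 56<|a 121<|a 162<|b)))<|b)⟩<|d);
 (a ⟨-83160, (a 0<|b), (a (e (a 0<|b) (.conj 3 (-1) (a (e 211 1)<|a (e 209 1)<|a (e 202 1)<|a (e 37 1)<|a (e 30 1)<|a (e 28 1)<|b) 21563917022333503582538679186546844 9))<|b)⟩<|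
 a ⟨-31780, (a 1<|b), (a (e (a 1<|b) (.conj 3 1 b 135402829133417579787797228991432893157 11))<|b)⟩<|
 a ⟨-29960, (a 3<|b), (a (e (a 3<|b) (.conj 3 1 b 33057499003151072821828820799664267 11))<|b)⟩<|a ⟨-29820, (a 7<|b), (a (e (a 7<|b) (.cube 152 36 (a 7<|a 135<|a 162<|b)))<|b)⟩<|
 d))))) :
 List Cfsg.Agent.E8A.C63.Nil.Ray)) _)

theorem ok8 : chkC D8 = true := by (rewrite [Cfsg.Agent.LsF.fa47430_37.2]; decide +kernel)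

/-- the class 2A2 -/
def D9 : Cls where
  j := 9
  y := ⟨2, 0, 2, -4, 2, 2, -2, 0⟩
  nu := ⟨0, 1, 0, 13, 0, 0, 169, 2197⟩
  off := [1, 3, 6, 7]
  kil := (beta% delta% lq26c06afe50 fun a b c _ _ _ =>
 (let d:=(let d:=(let d:=(let d:=(let d:=(let d:=(c 491<|c 492<|c 0<|c 0<|b);
 (c 487<|c 481<|c 489<|c 0<|d));
 (c 0<|c 475<|c 476<|c 0<|c 490202<|c 479<|c 480<|d));
 (let d:=(let d:=(c 0<|c 477<|c 474<|
 c 0<|d);
 (c 472<|c 751065<|c 470<|c 471<|d));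
 (c 463<|c 464<|c 465<|c 468<|c 0<|c 0<|c 0<|d)));
 (let d:=(let d:=(let d:=(c 0<|c 461<|c 462<|c 0<|d);
 (c 455<|c 458<|c 0<|c 0<|d));
 (c 0<|c 0<|c 451<|c 452<|c 0<|c 453<|c 454<|d));
 (let d:=(let d:=(c 437<|c 438<|c 439<|c 0<|d);
 (c 0<|c 434<|c 445855<|c 446880<|
 d));
 (c 433<|c 671<|c 672<|c 673<|c 0<|c 441756<|c 0<|d))));
 (let d:=(let d:=(let d:=(let d:=(c 0<|c 0<|c 668<|c 432<|d);
 (c 662<|c 663<|c 0<|c 430<|d));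
 (c 665220<|c 650<|c 651<|c 652<|c 0<|c 676240<|c 661<|d));
 (let d:=(let d:=(c 0<|c 0<|c 647<|c 0<|d);
 (c 410<|c 411<|c 442781<|c 443806<|
 d));
 (c 401<|c 402<|c 0<|c 408<|c 0<|c 0<|c 440729<|d)));
 (let d:=(let d:=(let d:=(c 0<|c 0<|c 403<|c 400<|d);
 (c 0<|c 398<|c 675215<|c 0<|d));
 (c 0<|c 0<|c 392<|c 644<|c 645<|c 646<|c 0<|d));
 (let d:=(let d:=(c 386<|c 401795<|c 0<|c 0<|d);
 (c 635<|c 636<|c 637<|
 c 0<|d));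
 (c 0<|c 0<|c 0<|c 0<|c 633<|c 634<|c 0<|d)))));
 (let d:=(let d:=(let d:=(let d:=(let d:=(c 0<|c 370<|c 371<|c 0<|d);
 (c 0<|c 0<|c 366<|c 367<|d));
 (c 355<|c 356<|c 0<|c 366923<|c 359<|c 0<|c 0<|d));
 (let d:=(let d:=(c 0<|c 613<|c 331<|c 0<|d);
 (c 604<|c 0<|c 327<|c 328<|d));
 (c 0<|c 602<|c 326<|c 600<|c 601<|c 0<|
 c 618054<|d)));
 (let d:=(let d:=(let d:=(c 328247<|c 321<|c 322<|c 323<|d);
 (c 324149<|c 0<|c 318<|c 319<|d));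
 (c 628298<|c 0<|c 0<|c 312<|c 0<|c 0<|c 323124<|d));
 (let d:=(let d:=(c 0<|c 0<|c 0<|c 585<|d);
 (c 0<|c 0<|c 580<|c 617029<|d));
 (c 570<|c 0<|c 564<|c 565<|c 573<|
 c 567<|c 0<|d))));
 (let d:=(let d:=(let d:=(let d:=(c 558<|c 0<|c 0<|c 569<|d);
 (c 321073<|c 322098<|c 563<|c 325174<|d));
 (c 0<|c 0<|c 0<|c 0<|c 559<|c 560<|c 0<|d));
 (let d:=(let d:=(c 550<|c 551<|c 553<|c 554<|d);
 (c 548<|c 0<|c 0<|c 549<|d));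
 (c 539<|c 540<|c 541<|
 c 543<|c 544<|c 0<|c 0<|d)));
 (let d:=(let d:=(let d:=(c 0<|c 538<|c 0<|c 0<|d);
 (c 541963<|c 530<|c 531<|c 532<|d));
 (c 520<|c 0<|c 528<|c 523<|c 524<|c 525<|c 0<|d));
 (let d:=(let d:=(c 279050<|c 0<|c 0<|c 518<|d);
 (c 0<|c 519<|c 0<|c 521<|d));
 (a 0<|a 0<|a 0<|a 514<|a 515<|a 0<|a 517<|d)))))))
  rays := (beta% (fun (vq0 : List Cfsg.Agent.E8A.C63.Nil.Ray) => (beta% delta% lq26c06afe50 fun a b _ e _ _ =>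
 (let d:type_of% vq0:=(let d:type_of% vq0:=(let d:type_of% vq0:=(let d:type_of% vq0:=(a ⟨274680, (a 235<|b), (a (e (a 235<|b) (.cube 0 117 (a 123<|a 126<|a 235<|b)))<|b)⟩<|
 a ⟨461370, (a 120<|b), (a (e (a 120<|b) (.conj 7 1 b 1 10))<|b)⟩<|a ⟨502530, (a 187<|b), (a (e (a 187<|b) (.cube 0 23 (a 123<|a 126<|a 187<|b)))<|b)⟩<|
 a ⟨543690, (a 228<|b), (a (e (a 228<|b) (.cube 0 84 (a 123<|a 126<|a 228<|b)))<|b)⟩<|a ⟨584850, (a 238<|b), (a (e (a 238<|b) (.conj 1 1 b 4440956317547344594802478 10))<|b)⟩<|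
 a ⟨1046220, (a 239<|b), (a (e (a 239<|b) (.conj 1 1 b 35527650540378756758419831 10))<|b)⟩<|b);
 (a ⟨270375, (a 199<|b), (a (e (a 199<|b) (.cube 0 33 (a 123<|a 126<|a 199<|b)))<|b)⟩<|a ⟨270480, (a 209<|b), (a (e (a 209<|b) (.cube 0 43 (a 123<|a 126<|a 209<|b)))<|b)⟩<|
 a ⟨271845, (a 221<|b), (a (e (a 221<|b) (.cube 6 96 (a 123<|a 162<|a 221<|b)))<|b)⟩<|a ⟨273210, (a 224<|b), (a (e (a 224<|b) (.cube 0 93 (a 135<|a 162<|a 224<|b)))<|b)⟩<|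
 a ⟨273315, (a 225<|b), (a (e (a 225<|b) (.cube 0 105 (a 135<|a 162<|a 225<|b)))<|b)⟩<|d));
 (let d:type_of% d:=(a ⟨251265, (a 177<|b), (a (e (a 177<|b) (.cube 2 20 (a 123<|a 126<|a 177<|b)))<|b)⟩<|
 a ⟨252630, (a 196<|b), (a (e (a 196<|b) (.cube 0 30 (a 123<|a 126<|a 196<|b)))<|b)⟩<|a ⟨252735, (a 206<|b), (a (e (a 206<|b) (.cube 0 40 (a 123<|a 126<|a 206<|b)))<|b)⟩<|
 a ⟨254100, (a 215<|b), (a (e (a 215<|b) (.cube 0 78 (a 135<|a 162<|a 215<|b)))<|b)⟩<|a ⟨269010, (a 161<|b), (a (e (a 161<|b) (.cube 0 24 (a 135<|a 161<|a 162<|b)))<|b)⟩<|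
 d);
 (a ⟨167510, (a 155<|b), (a (e (a 155<|b) (.cube 2 13 (a 123<|a 126<|a 155<|b)))<|b)⟩<|a ⟨181230, (a 216<|b), (a (e (a 216<|b) (.cube 12 121 (a 135<|a 162<|a 216<|b)))<|b)⟩<|
 a ⟨248430, (a 122<|b), (a (e (a 122<|b) (.cube 0 4 (a 122<|a 123<|a 126<|b)))<|b)⟩<|a ⟨249795, (a 134<|b), (a (e (a 134<|b) (.cube 0 14 (a 134<|a 135<|a 162<|b)))<|b)⟩<|
 a ⟨249900, (a 146<|b), (a (e (a 146<|b) (.cube 0 15 (a 135<|a 146<|a 162<|b)))<|b)⟩<|d)));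
 (let d:type_of% d:=(let d:type_of% d:=(a ⟨19215, (a 145<|b), (a (e (a 145<|b) (.cube 1 15 (a 135<|a 145<|a 162<|b)))<|b)⟩<|a ⟨20580, (a 176<|b), (a (e (a 176<|b) (.cube 2 19 (a 123<|a 126<|a 176<|b)))<|b)⟩<|
 a ⟨21945, (a 195<|b), (a (e (a 195<|b) (.cube 1 30 (a 123<|a 126<|a 195<|b)))<|b)⟩<|a ⟨22050, (a 205<|b), (a (e (a 205<|b) (.cube 1 40 (a 123<|a 126<|a 205<|b)))<|b)⟩<|
 a ⟨23415, (a 214<|b), (a (e (a 214<|b) (.cube 1 78 (a 135<|a 162<|a 214<|b)))<|b)⟩<|a ⟨41160, (a 186<|b), (a (e (a 186<|b) (.cube 1 23 (a 123<|a 126<|a 186<|b)))<|b)⟩<|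
 d);
 (a ⟨8400, (a 194<|b), (a (e (a 194<|b) (.conj 1 1 b 607092532317211788185452007471123 10))<|b)⟩<|
 a ⟨8610, (a 204<|b), (a (e (a 204<|b) (.conj 1 1 b 4856740258537694305483616059768985 10))<|b)⟩<|a ⟨13720, (a 154<|b), (a (e (a 154<|b) (.cube 2 12 (a 123<|a 126<|a 154<|b)))<|b)⟩<|
 a ⟨17745, (a 121<|b), (a (e (a 121<|b) (.cube 1 4 (a 121<|a 123<|a 126<|b)))<|b)⟩<|a ⟨19110, (a 133<|b), (a (e (a 133<|b) (.cube 1 14 (a 133<|a 135<|a 162<|b)))<|b)⟩<|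
 d));
 (let d:type_of% d:=(a ⟨1890, (a 152<|b), (a (e (a 152<|b) (.cube 5 26 (a 135<|a 152<|a 162<|b)))<|b)⟩<|a ⟨2730, (a 164<|b), (a (e (a 164<|b) (.cube 2 14 (a 123<|a 126<|a 164<|b)))<|b)⟩<|
 a ⟨2835, (a 174<|b), (a (e (a 174<|b) (.cube 19 81 (a 123<|a 135<|a 174<|b)))<|b)⟩<|a ⟨2940, (a 169<|b), (a (e (a 169<|b) (.cube 2 15 (a 123<|a 126<|a 169<|b)))<|b)⟩<|
 a ⟨5670, (a 184<|b), (a (e (a 184<|b) (.cube 28 93 (a 123<|a 126<|a 184<|b)))<|b)⟩<|d);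
 (a ⟨210, (a 141<|b), (a (e (a 141<|b) (.conj 1 1 b 4523191841819970221709102 10))<|b)⟩<|
 a ⟨910, (a 130<|b), (a (e (a 130<|b) (.cube 2 5 (a 123<|a 126<|a 130<|b)))<|b)⟩<|a ⟨980, (a 142<|b), (a (e (a 142<|b) (.cube 2 7 (a 123<|a 126<|a 142<|b)))<|b)⟩<|
 a ⟨1365, (a 136<|b), (a (e (a 136<|b) (.cube 2 6 (a 123<|a 126<|a 136<|b)))<|b)⟩<|a ⟨1470, (a 147<|b), (a (e (a 147<|b) (.cube 2 8 (a 123<|a 126<|a 147<|b)))<|b)⟩<|
 d))));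
 (let d:type_of% d:=(let d:type_of% d:=(let d:type_of% d:=(a ⟨-1890, (a 51<|b), (a (e (a 51<|b) (.cube 11 3 (a 51<|a 135<|a 162<|b)))<|b)⟩<|
 a ⟨-1470, (a 90<|b), (a (e (a 90<|b) (.cube 21 14 (a 90<|a 123<|a 126<|b)))<|b)⟩<|a ⟨-1365, (a 101<|b), (a (e (a 101<|b) (.cube 21 15 (a 101<|a 123<|a 126<|b)))<|b)⟩<|
 a ⟨-980, (a 68<|b), (a (e (a 68<|b) (.cube 7 2 (a 68<|a 135<|a 162<|b)))<|b)⟩<|a ⟨-910, (a 73<|b), (a (e (a 73<|b) (.cube 5 2 (a 73<|a 135<|a 162<|b)))<|b)⟩<|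
 a ⟨-210, (a 98<|b), (a (e (a 98<|b) (.conj 1 1 b 36185534734559761773672817 10))<|b)⟩<|d);
 (a ⟨-8400, (a 45<|b), (a (e (a 45<|b) (.conj 1 1 b 4856740258537694305483615773210643 10))<|b)⟩<|a ⟨-5670, (a 83<|b), (a (e (a 83<|b) (.cube 26 14 (a 83<|a 123<|a 126<|b)))<|b)⟩<|
 a ⟨-2940, (a 95<|b), (a (e (a 95<|b) (.cube 38 24 (a 95<|a 123<|a 126<|b)))<|b)⟩<|a ⟨-2835, (a 61<|b), (a (e (a 61<|b) (.cube 26 6 (a 61<|a 123<|a 126<|b)))<|b)⟩<|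
 a ⟨-2730, (a 107<|b), (a (e (a 107<|b) (.cube 28 24 (a 107<|a 123<|a 126<|b)))<|b)⟩<|d));
 (let d:type_of% d:=(a ⟨-19215, (a 67<|b), (a (e (a 67<|b) (.cube 7 1 (a 67<|a 135<|a 162<|b)))<|b)⟩<|a ⟨-19110, (a 72<|b), (a (e (a 72<|b) (.cube 5 1 (a 72<|a 135<|a 162<|b)))<|b)⟩<|
 a ⟨-17745, (a 111<|b), (a (e (a 111<|b) (.cube 2 1 (a 111<|a 123<|a 126<|b)))<|b)⟩<|a ⟨-13720, (a 48<|b), (a (e (a 48<|b) (.cube 11 1 (a 48<|a 135<|a 162<|b)))<|b)⟩<|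
 a ⟨-8610, (a 35<|b), (a (e (a 35<|b) (.conj 1 1 b 38853922068301554443868926185685145 10))<|b)⟩<|
 d);
 (a ⟨-41160, (a 80<|b), (a (e (a 80<|b) (.cube 28 14 (a 80<|a 123<|a 126<|b)))<|b)⟩<|
 a ⟨-23415, (a 13<|b), (a (e (a 13<|b) (.cube 46 1 (a 13<|a 135<|a 162<|b)))<|b)⟩<|a ⟨-22050, (a 29<|b), (a (e (a 29<|b) (.cube 36 1 (a 29<|a 123<|a 126<|b)))<|b)⟩<|
 a ⟨-21945, (a 39<|b), (a (e (a 39<|b) (.cube 26 1 (a 39<|a 123<|a 126<|b)))<|b)⟩<|a ⟨-20580, (a 58<|b), (a (e (a 58<|b) (.cube 28 6 (a 58<|a 123<|a 126<|b)))<|b)⟩<|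
 d)));
 (let d:type_of% d:=(let d:type_of% d:=(a ⟨-251265, (a 57<|b), (a (e (a 57<|b) (.cube 29 6 (a 57<|a 123<|a 126<|b)))<|b)⟩<|
 a ⟨-249900, (a 66<|b), (a (e (a 66<|b) (.cube 7 0 (a 66<|a 135<|a 162<|b)))<|b)⟩<|a ⟨-249795, (a 71<|b), (a (e (a 71<|b) (.cube 5 0 (a 71<|a 135<|a 162<|b)))<|b)⟩<|
 a ⟨-248430, (a 110<|b), (a (e (a 110<|b) (.cube 2 0 (a 110<|a 123<|a 126<|b)))<|b)⟩<|a ⟨-181230, (a 9<|b), (a (e (a 9<|b) (.cube 52 0 (a 9<|a 135<|a 162<|b)))<|b)⟩<|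
 a ⟨-167510, (a 47<|b), (a (e (a 47<|b) (.cube 11 0 (a 47<|a 135<|a 162<|b)))<|b)⟩<|d);
 (a ⟨-270375, (a 36<|b), (a (e (a 36<|b) (.cube 28 0 (a 36<|a 123<|a 126<|b)))<|b)⟩<|a ⟨-269010, (a 46<|b), (a (e (a 46<|b) (.cube 12 0 (a 46<|a 135<|a 162<|b)))<|b)⟩<|
 a ⟨-254100, (a 12<|b), (a (e (a 12<|b) (.cube 46 0 (a 12<|a 135<|a 162<|b)))<|b)⟩<|a ⟨-252735, (a 28<|b), (a (e (a 28<|b) (.cube 36 0 (a 28<|a 123<|a 126<|b)))<|b)⟩<|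
 a ⟨-252630, (a 38<|b), (a (e (a 38<|b) (.cube 26 0 (a 38<|a 123<|a 126<|b)))<|b)⟩<|d));
 (let d:type_of% d:=(a ⟨-274680, (a 2<|b), (a (e (a 2<|b) (.cube 110 0 (a 2<|a 123<|a 126<|b)))<|b)⟩<|
 a ⟨-273315, (a 5<|b), (a (e (a 5<|b) (.cube 71 0 (a 5<|a 135<|a 162<|b)))<|b)⟩<|a ⟨-273210, (a 7<|b), (a (e (a 7<|b) (.cube 66 0 (a 7<|a 135<|a 162<|b)))<|b)⟩<|
 a ⟨-271845, (a 16<|b), (a (e (a 16<|b) (.cube 95 14 (a 16<|a 123<|a 126<|b)))<|b)⟩<|a ⟨-270480, (a 26<|b), (a (e (a 26<|b) (.cube 38 0 (a 26<|a 123<|a 126<|b)))<|b)⟩<|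
 d);
 (a ⟨-1046220, (a 0<|b), (a (e (a 0<|b) (.conj 1 1 b 306327034134055691892603255 10))<|b)⟩<|a ⟨-584850, (a 1<|b), (a (e (a 1<|b) (.conj 1 1 b 38290879266756961486575406 10))<|b)⟩<|
 a ⟨-543690, (a 21<|b), (a (e (a 21<|b) (.cube 121 24 (a 21<|a 123<|a 126<|b)))<|b)⟩<|a ⟨-502530, (a 79<|b), (a (e (a 79<|b) (.cube 29 14 (a 79<|a 123<|a 126<|b)))<|b)⟩<|
 a ⟨-461370, (a 119<|b), (a (e (a 119<|b) (.conj 7 1 b 15 10))<|b)⟩<|d))))) :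
 List Cfsg.Agent.E8A.C63.Nil.Ray)) _)

theorem ok9 : chkC D9 = true := by (rewrite [Cfsg.Agent.LsF.fa47430_37.2]; decide +kernel)

/-- the class 2A2+A1 -/
def D10 : Cls where
  j := 10
  y := ⟨2, 0, 2, -4, 2, 2, -3, 2⟩
  nu := ⟨0, 1, 0, 13, 0, 0, 169, 0⟩
  off := [1, 3, 6]
  kil := (beta% delta% lq26c06afe50 fun a b c _ _ _ =>
 (let d:=(let d:=(let d:=(let d:=(let d:=(let d:=(c 491<|c 492<|c 0<|c 494<|b);
 (c 487<|c 481<|c 489<|c 0<|d));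
 (c 0<|c 487127<|c 476<|c 0<|c 490202<|c 479<|c 480<|
 d));
 (let d:=(let d:=(c 0<|c 477<|c 474<|c 0<|d);
 (c 472<|c 751065<|c 0<|c 471<|d));
 (c 474830<|c 464<|c 465<|c 468<|c 0<|c 470<|c 0<|d)));
 (let d:=(let d:=(let d:=(c 461<|c 0<|c 462<|c 0<|d);
 (c 455<|c 458<|c 0<|c 0<|d));
 (c 0<|c 451<|c 0<|c 452<|c 0<|c 464580<|
 c 454<|d));
 (let d:=(let d:=(c 447904<|c 438<|c 439<|c 0<|d);
 (c 467532152478<|c 434<|c 0<|c 446880<|d));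
 (c 725253534<|c 724991646<|c 672<|c 673<|c 0<|c 441756<|c 0<|d))));
 (let d:=(let d:=(let d:=(let d:=(c 0<|c 432<|c 668<|c 0<|d);
 (c 678290<|c 663<|c 0<|
 c 430<|d));
 (c 665220<|c 650<|c 667270<|c 652<|c 0<|c 676240<|c 661<|d));
 (let d:=(let d:=(c 0<|c 0<|c 647<|c 0<|d);
 (c 0<|c 442779<|c 721843867<|c 725253790<|d));
 (c 0<|c 402<|c 0<|c 408<|c 0<|c 410<|c 440729<|d)));
 (let d:=(let d:=(let d:=(c 401<|c 0<|c 403<|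
 c 400<|d);
 (c 0<|c 398<|c 675215<|c 0<|d));
 (c 0<|c 0<|c 392<|c 644<|c 0<|c 646<|c 0<|d));
 (let d:=(let d:=(c 386<|c 401795<|c 0<|c 389<|d);
 (c 635<|c 651898<|c 637<|c 0<|d));
 (c 0<|c 0<|c 377<|c 0<|c 0<|c 634<|c 0<|d)))));
 (let d:=(let d:=(let d:=(let d:=(let d:=(c 0<|
 c 379247<|c 371<|c 0<|d);
 (c 0<|c 0<|c 0<|c 367<|d));
 (c 363848<|c 356<|c 0<|c 366923<|c 359<|c 0<|c 622<|d));
 (let d:=(let d:=(c 0<|c 613<|c 331<|c 0<|d);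
 (c 604<|c 0<|c 0<|c 328<|d));
 (c 0<|c 602<|c 326<|c 614979<|c 601<|c 0<|c 618054<|d)));
 (let d:=(let d:=(let d:=(c 328247<|c 321<|c 0<|c 323<|d);
 (c 324149<|c 0<|c 326197<|c 319<|
 d));
 (c 628298<|c 0<|c 0<|c 312<|c 0<|c 338558505266<|c 0<|d));
 (let d:=(let d:=(c 0<|c 583<|c 0<|c 585<|d);
 (c 578<|c 0<|c 580<|c 617029<|d));
 (c 330879282<|c 0<|c 330617394<|c 565<|c 573<|c 567<|c 0<|d))));
 (let d:=(let d:=(let d:=(let d:=(c 558<|c 0<|c 569<|c 0<|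
 d);
 (c 597214512<|c 599052594<|c 563<|c 325174<|d));
 (c 0<|c 0<|c 0<|c 559<|c 0<|c 321072<|c 0<|d));
 (let d:=(let d:=(c 0<|c 551<|c 566567<|c 554<|d);
 (c 548<|c 0<|c 550<|c 549<|d));
 (c 539<|c 0<|
 c 541<|c 556317<|c 544<|c 0<|c 0<|d)));
 (let d:=(let d:=(let d:=(c 0<|c 538<|c 0<|c 540<|d);
 (c 541963<|c 530<|c 544013<|c 532<|d));
 (c 520<|c 0<|c 528<|c 523<|c 0<|c 525<|c 0<|d));
 (let d:=(let d:=(c 279050<|c 0<|c 524<|c 518<|d);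
 (c 0<|c 519<|c 0<|c 521<|d));
 (a 0<|a 512<|a 0<|a 514<|a 515<|a 0<|a 517<|d)))))))
  rays := (beta% (fun (vq0 : List Cfsg.Agent.E8A.C63.Nil.Ray) => (beta% delta% lq26c06afe50 fun a b _ e _ _ =>
 (let d:type_of% vq0:=(let d:type_of% vq0:=(let d:type_of% vq0:=(let d:type_of% vq0:=(a ⟨41160, (a 221<|b), (a (e (a 221<|b) (.cube 6 96 (a 123<|a 162<|a 221<|b)))<|b)⟩<|a ⟨42525, (a 224<|b), (a (e (a 224<|b) (.cube 1 94 (a 135<|a 162<|a 224<|b)))<|b)⟩<|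
 a ⟨42630, (a 225<|b), (a (e (a 225<|b) (.cube 1 106 (a 135<|a 162<|a 225<|b)))<|b)⟩<|a ⟨43995, (a 235<|b), (a (e (a 235<|b) (.cube 1 118 (a 123<|a 126<|a 235<|b)))<|b)⟩<|
 a ⟨82320, (a 189<|a 228<|a 238<|b), (a (e (a 189<|b) (.cube 0 23 (a 120<|a 123<|a 189<|b)))<|a (e (a 228<|b) (.cube 1 85 (a 123<|a 126<|a 228<|b)))<|a (e (a 238<|b) (.conj 1 1 (a (e 158 (-1))<|a (e 159 1)<|a (e 177 1)<|a (e 179 1)<|a (e 186 (-1))<|a (e 217 1)<|a (e 221 (-1))<|b) 1 10))<|a (e (a 189<|a 228<|b) (.cube 21 163 (a 123<|a 126<|a 228<|b)))<|a (e (a 189<|a 238<|b) (.cube 19 87 (a 120<|a 123<|a 189<|b)))<|a (e (a 228<|a 238<|b) (.cube 29 168 (a 123<|a 126<|a 228<|b)))<|a (e (a 189<|a 228<|a 238<|b) (.cube 61 193 (a 123<|a 126<|a 228<|b)))<|b)⟩<|b);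
 (a ⟨31220, (a 219<|b), (a (e (a 219<|b) (.cube 0 78 (a 120<|a 162<|a 219<|b)))<|b)⟩<|a ⟨38325, (a 161<|b), (a (e (a 161<|b) (.cube 1 25 (a 135<|a 161<|a 162<|b)))<|b)⟩<|
 a ⟨39690, (a 199<|b), (a (e (a 199<|b) (.cube 1 34 (a 123<|a 126<|a 199<|b)))<|b)⟩<|a ⟨39795, (a 209<|b), (a (e (a 209<|b) (.cube 1 44 (a 123<|a 126<|a 209<|b)))<|b)⟩<|
 d));
 (let d:type_of% d:=(a ⟨25480, (a 139<|b), (a (e (a 139<|b) (.cube 0 14 (a 120<|a 139<|a 162<|b)))<|b)⟩<|a ⟨25620, (a 150<|b), (a (e (a 150<|b) (.cube 0 15 (a 120<|a 150<|a 162<|b)))<|b)⟩<|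
 a ⟨27440, (a 179<|a 186<|a 216<|b), (a (e (a 179<|b) (.cube 18 85 (a 120<|a 135<|a 179<|b)))<|a (e (a 186<|b) (.cube 0 22 (a 120<|a 126<|a 186<|b)))<|a (e (a 216<|b) (.cube 13 122 (a 135<|a 162<|a 216<|b)))<|a (e (a 179<|a 186<|b) (.cube 4 86 (a 120<|a 179<|a 186<|b)))<|a (e (a 179<|a 216<|b) (.cube 70 202 (a 135<|a 162<|a 216<|b)))<|a (e (a 186<|a 216<|b) (.cube 25 129 (a 123<|a 126<|a 216<|b)))<|a (e (a 179<|a 186<|a 216<|b) (.cube 83 183 (a 123<|a 126<|a 216<|b)))<|b)⟩<|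
 a ⟨29260, (a 197<|b), (a (e (a 197<|b) (.cube 0 30 (a 120<|a 126<|a 197<|b)))<|b)⟩<|a ⟨29400, (a 207<|b), (a (e (a 207<|b) (.cube 0 40 (a 120<|a 126<|a 207<|b)))<|b)⟩<|
 d);
 (a ⟨17556, (a 195<|b), (a (e (a 195<|b) (.cube 0 27 (a 120<|a 123<|a 195<|b)))<|b)⟩<|a ⟨17640, (a 205<|b), (a (e (a 205<|b) (.cube 0 37 (a 120<|a 123<|a 205<|b)))<|b)⟩<|
 a ⟨18732, (a 214<|b), (a (e (a 214<|b) (.cube 0 56 (a 120<|a 135<|a 214<|b)))<|b)⟩<|a ⟨23660, (a 124<|b), (a (e (a 124<|b) (.cube 0 4 (a 120<|a 124<|a 126<|b)))<|b)⟩<|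
 d)));
 (let d:type_of% d:=(let d:type_of% d:=(a ⟨11760, (a 154<|b), (a (e (a 154<|b) (.cube 2 12 (a 123<|a 126<|a 154<|b)))<|b)⟩<|
 a ⟨14196, (a 121<|b), (a (e (a 121<|b) (.cube 0 3 (a 120<|a 121<|a 123<|b)))<|b)⟩<|a ⟨15288, (a 133<|b), (a (e (a 133<|b) (.cube 0 6 (a 120<|a 133<|a 135<|b)))<|b)⟩<|
 a ⟨15372, (a 145<|b), (a (e (a 145<|b) (.cube 0 8 (a 120<|a 135<|a 145<|b)))<|b)⟩<|
 a ⟨16464, (a 157<|a 176<|b), (a (e (a 157<|b) (.cube 5 31 (a 135<|a 157<|a 162<|b)))<|a (e (a 176<|b) (.cube 2 19 (a 123<|a 126<|a 176<|b)))<|a (e (a 157<|a 176<|b) (.cube 86 129 (a 120<|a 123<|a 157<|b)))<|b)⟩<|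
 d);
 (a ⟨2940, (a 169<|b), (a (e (a 169<|b) (.cube 2 15 (a 123<|a 126<|a 169<|b)))<|b)⟩<|
 a ⟨5670, (a 184<|b), (a (e (a 184<|b) (.cube 29 94 (a 123<|a 126<|a 184<|b)))<|b)⟩<|a ⟨8400, (a 194<|b), (a (e (a 194<|b) (.conj 1 1 b 194328595 11))<|b)⟩<|
 a ⟨8610, (a 204<|b), (a (e (a 204<|b) (.conj 1 1 b 1554628761 11))<|b)⟩<|d));
 (let d:type_of% d:=(a ⟨1470, (a 147<|b), (a (e (a 147<|b) (.cube 2 8 (a 123<|a 126<|a 147<|b)))<|b)⟩<|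
 a ⟨1890, (a 152<|b), (a (e (a 152<|b) (.cube 5 26 (a 135<|a 152<|a 162<|b)))<|b)⟩<|a ⟨2730, (a 164<|b), (a (e (a 164<|b) (.cube 2 14 (a 123<|a 126<|a 164<|b)))<|b)⟩<|
 a ⟨2835, (a 174<|b), (a (e (a 174<|b) (.cube 20 82 (a 123<|a 135<|a 174<|b)))<|b)⟩<|d);
 (a ⟨210, (a 141<|b), (a (e (a 141<|b) (.conj 1 1 b 1 11))<|b)⟩<|
 a ⟨910, (a 130<|b), (a (e (a 130<|b) (.cube 2 5 (a 123<|a 126<|a 130<|b)))<|b)⟩<|a ⟨980, (a 142<|b), (a (e (a 142<|b) (.cube 2 7 (a 123<|a 126<|a 142<|b)))<|b)⟩<|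
 a ⟨1365, (a 136<|b), (a (e (a 136<|b) (.cube 2 6 (a 123<|a 126<|a 136<|b)))<|b)⟩<|d))));
 (let d:type_of% d:=(let d:type_of% d:=(let d:type_of% d:=(a ⟨-1470, (a 90<|b), (a (e (a 90<|b) (.cube 21 14 (a 90<|a 123<|a 126<|b)))<|b)⟩<|
 a ⟨-1365, (a 101<|b), (a (e (a 101<|b) (.cube 21 15 (a 101<|a 123<|a 126<|b)))<|b)⟩<|a ⟨-980, (a 68<|b), (a (e (a 68<|b) (.cube 7 2 (a 68<|a 135<|a 162<|b)))<|b)⟩<|
 a ⟨-910, (a 73<|b), (a (e (a 73<|b) (.cube 5 2 (a 73<|a 135<|a 162<|b)))<|b)⟩<|a ⟨-210, (a 98<|b), (a (e (a 98<|b) (.conj 1 1 b 9 11))<|b)⟩<|d);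
 (a ⟨-2940, (a 95<|b), (a (e (a 95<|b) (.cube 39 25 (a 95<|a 123<|a 126<|b)))<|b)⟩<|
 a ⟨-2835, (a 61<|b), (a (e (a 61<|b) (.cube 26 6 (a 61<|a 123<|a 126<|b)))<|b)⟩<|a ⟨-2730, (a 107<|b), (a (e (a 107<|b) (.cube 29 25 (a 107<|a 123<|a 126<|b)))<|b)⟩<|
 a ⟨-1890, (a 51<|b), (a (e (a 51<|b) (.cube 11 3 (a 51<|a 135<|a 162<|b)))<|b)⟩<|d));
 (let d:type_of% d:=(a ⟨-14196, (a 110<|b), (a (e (a 110<|b) (.cube 2 0 (a 110<|a 123<|a 126<|b)))<|b)⟩<|a ⟨-11760, (a 47<|b), (a (e (a 47<|b) (.cube 11 0 (a 47<|a 135<|a 162<|b)))<|b)⟩<|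
 a ⟨-8610, (a 35<|b), (a (e (a 35<|b) (.conj 1 1 b 10144563353 11))<|b)⟩<|a ⟨-8400, (a 45<|b), (a (e (a 45<|b) (.conj 1 1 b 1268070419 11))<|b)⟩<|
 a ⟨-5670, (a 83<|b), (a (e (a 83<|b) (.cube 26 14 (a 83<|a 123<|a 126<|b)))<|b)⟩<|d);
 (a ⟨-17556, (a 38<|b), (a (e (a 38<|b) (.cube 26 0 (a 38<|a 123<|a 126<|b)))<|b)⟩<|
 a ⟨-16464, (a 49<|a 57<|b), (a (e (a 49<|b) (.cube 13 3 (a 49<|a 135<|a 162<|b)))<|a (e (a 57<|b) (.cube 29 6 (a 57<|a 123<|a 126<|b)))<|a (e (a 49<|a 57<|b) (.cube 24 4 (a 49<|a 120<|a 126<|b)))<|b)⟩<|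
 a ⟨-15372, (a 66<|b), (a (e (a 66<|b) (.cube 7 0 (a 66<|a 135<|a 162<|b)))<|b)⟩<|a ⟨-15288, (a 71<|b), (a (e (a 71<|b) (.cube 5 0 (a 71<|a 135<|a 162<|b)))<|b)⟩<|
 d)));
 (let d:type_of% d:=(let d:type_of% d:=(a ⟨-25620, (a 88<|b), (a (e (a 88<|b) (.cube 43 23 (a 88<|a 120<|a 135<|b)))<|b)⟩<|a ⟨-25480, (a 99<|b), (a (e (a 99<|b) (.cube 33 23 (a 99<|a 120<|a 135<|b)))<|b)⟩<|
 a ⟨-23660, (a 114<|b), (a (e (a 114<|b) (.cube 24 23 (a 114<|a 120<|a 123<|b)))<|b)⟩<|a ⟨-18732, (a 12<|b), (a (e (a 12<|b) (.cube 46 0 (a 12<|a 135<|a 162<|b)))<|b)⟩<|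
 a ⟨-17640, (a 28<|b), (a (e (a 28<|b) (.cube 36 0 (a 28<|a 123<|a 126<|b)))<|b)⟩<|d);
 (a ⟨-31220, (a 19<|b), (a (e (a 19<|b) (.cube 117 23 (a 19<|a 120<|a 135<|b)))<|b)⟩<|
 a ⟨-29400, (a 31<|b), (a (e (a 31<|b) (.cube 105 23 (a 31<|a 120<|a 123<|b)))<|b)⟩<|a ⟨-29260, (a 41<|b), (a (e (a 41<|b) (.cube 93 23 (a 41<|a 120<|a 123<|b)))<|b)⟩<|
 a ⟨-27440, (a 9<|a 59<|a 79<|b), (a (e (a 9<|b) (.cube 53 1 (a 9<|a 135<|a 162<|b)))<|a (e (a 59<|b) (.cube 125 87 (a 59<|a 126<|a 162<|b)))<|a (e (a 79<|b) (.cube 29 14 (a 79<|a 123<|a 126<|b)))<|a (e (a 9<|a 59<|b) (.cube 55 3 (a 9<|a 135<|a 162<|b)))<|a (e (a 9<|a 79<|b) (.cube 29 14 (a 79<|a 123<|a 126<|b)))<|a (e (a 59<|a 79<|b) (.cube 127 23 (a 59<|a 79<|a 120<|b)))<|a (e (a 9<|a 59<|a 79<|b) (.cube 95 6 (a 9<|a 123<|a 126<|b)))<|b)⟩<|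
 d));
 (let d:type_of% d:=(a ⟨-41160, (a 16<|b), (a (e (a 16<|b) (.cube 95 14 (a 16<|a 123<|a 126<|b)))<|b)⟩<|
 a ⟨-39795, (a 26<|b), (a (e (a 26<|b) (.cube 39 1 (a 26<|a 123<|a 126<|b)))<|b)⟩<|a ⟨-39690, (a 36<|b), (a (e (a 36<|b) (.cube 29 1 (a 36<|a 123<|a 126<|b)))<|b)⟩<|
 a ⟨-38325, (a 46<|b), (a (e (a 46<|b) (.cube 13 1 (a 46<|a 135<|a 162<|b)))<|b)⟩<|d);
 (a ⟨-82320, (a 0<|a 21<|a 81<|b), (a (e (a 0<|b) (.conj 1 (-1) (a (e 50 (-1))<|a (e 52 1)<|a (e 58 (-1))<|a (e 59 (-1))<|a (e 79 (-1))<|a (e 10 1)<|a (e 16 (-1))<|b) 1 10))<|a (e (a 21<|b) (.cube 122 25 (a 21<|a 123<|a 126<|b)))<|a (e (a 81<|b) (.cube 238 230 (a 81<|a 120<|a 126<|b)))<|a (e (a 0<|a 21<|b) (.cube 90 14 (a 21<|a 123<|a 126<|b)))<|a (e (a 0<|a 81<|b) (.cube 12 4 (a 81<|a 120<|a 126<|b)))<|a (e (a 21<|a 81<|b) (.cube 228 163 (a 21<|a 123<|a 126<|b)))<|a (e (a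 0<|a 21<|a 81<|b) (.cube 90 14 (a 21<|a 123<|a 126<|b)))<|b)⟩<|
 a ⟨-43995, (a 2<|b), (a (e (a 2<|b) (.cube 111 1 (a 2<|a 123<|a 126<|b)))<|b)⟩<|a ⟨-42630, (a 5<|b), (a (e (a 5<|b) (.cube 72 1 (a 5<|a 135<|a 162<|b)))<|b)⟩<|
 a ⟨-42525, (a 7<|b), (a (e (a 7<|b) (.cube 67 1 (a 7<|a 135<|a 162<|b)))<|b)⟩<|d))))) :
 List Cfsg.Agent.E8A.C63.Nil.Ray)) _)

theorem ok10 : chkC D10 = true := by (rewrite [Cfsg.Agent.LsF.fa47430_37.2]; decide +kernel)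

/-- the class 2A2+2A1 -/
def D11 : Cls where
  j := 11
  y := ⟨2, 2, 2, -5, 2, 2, -3, 2⟩
  nu := ⟨0, 0, 0, 1, 0, 0, 13, 0⟩
  off := [3, 6]
  kil := (beta% delta% lq26c06afe50 fun a b c _ _ _ =>
 (let d:=(let d:=(let d:=(let d:=(let d:=(let d:=(c 491<|c 492<|c 0<|c 494<|b);
 (c 499425<|c 481<|
 c 488<|c 0<|d));
 (c 480<|c 487127<|c 476<|c 0<|c 490202<|c 479<|c 0<|d));
 (let d:=(let d:=(c 0<|c 477<|c 474<|c 0<|d);
 (c 472<|c 751065<|c 0<|c 471<|d));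
 (c 484909766<|c 457<|c 465<|c 459<|c 0<|c 470<|c 0<|d)));
 (let d:=(let d:=(let d:=(c 461<|c 0<|c 462<|c 0<|d);
 (c 455<|c 738762<|c 450<|
 c 0<|d));
 (c 0<|c 451<|c 0<|c 734660<|c 0<|c 483858116<|c 735686<|d));
 (let d:=(let d:=(c 447904<|c 438<|c 439<|c 0<|d);
 (c 467532152478<|c 434<|c 0<|c 446880<|d));
 (c 725253534<|
 c 724991646<|c 672<|c 673<|c 0<|c 441756<|c 0<|d))));
 (let d:=(let d:=(let d:=(let d:=(c 0<|c 432<|c 668<|c 0<|d);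
 (c 678290<|c 663<|c 0<|c 430<|d));
 (c 708283344516<|c 410250<|c 0<|c 412300<|c 0<|c 676240<|c 661<|d));
 (let d:=(let d:=(c 0<|c 0<|c 647<|c 0<|d);
 (c 0<|c 442779<|c 721843867<|c 725253790<|d));
 (c 689581702<|c 402<|c 0<|c 408<|c 0<|c 410<|c 440729<|
 d)));
 (let d:=(let d:=(let d:=(c 689319302<|c 0<|c 403<|c 400<|d);
 (c 0<|c 398<|c 675215<|c 0<|d));
 (c 0<|c 0<|c 392<|c 423247492<|c 0<|c 421145990<|c 0<|d));
 (let d:=(let d:=(c 386<|c 417735043<|c 0<|c 389<|d);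
 (c 635<|c 651898<|c 637<|c 0<|
 d));
 (c 0<|c 0<|c 377<|c 0<|c 0<|c 634<|c 0<|d)))));
 (let d:=(let d:=(let d:=(let d:=(let d:=(c 0<|c 379247<|c 371<|c 0<|d);
 (c 0<|c 0<|c 0<|c 367<|d));
 (c 366569032<|c 350<|c 0<|c 369717835<|c 353<|c 0<|c 622<|d));
 (let d:=(let d:=(c 0<|
 c 652125743430<|c 331<|c 0<|d);
 (c 619083<|c 0<|c 0<|c 328<|d));
 (c 0<|c 602<|c 652125481542<|c 629481027<|c 616008<|c 0<|c 607<|d)));
 (let d:=(let d:=(let d:=(c 328247<|c 321<|c 0<|c 597315<|d);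
 (c 324149<|c 0<|c 326197<|c 319<|d));
 (c 652125481286<|c 0<|c 0<|c 312<|c 0<|
 c 338558505266<|c 0<|d));
 (let d:=(let d:=(c 0<|c 583<|c 0<|c 585<|d);
 (c 578<|c 0<|c 580<|c 631580229<|d));
 (c 330879282<|c 0<|c 330617394<|c 565<|c 573<|c 567<|c 0<|d))));
 (let d:=(let d:=(let d:=(let d:=(c 558<|c 0<|c 569<|c 0<|d);
 (c 597214512<|c 599052594<|c 563<|
 c 325174<|d));
 (c 547<|c 0<|c 0<|c 559<|c 0<|c 321072<|c 0<|d));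
 (let d:=(let d:=(c 0<|c 551<|c 578323744<|c 546<|d);
 (c 548<|c 0<|c 550<|c 542<|d));
 (c 299547<|c 0<|c 301597<|c 577273117<|c 302624<|c 0<|c 0<|d)));
 (let d:=(let d:=(let d:=(c 0<|c 538<|c 0<|c 540<|
 d);
 (c 541963<|c 530<|c 544013<|c 532<|d));
 (c 520<|c 0<|c 528<|c 523<|c 0<|c 525<|c 0<|d));
 (let d:=(let d:=(c 279050<|c 0<|c 524<|c 269830<|d);
 (c 0<|c 519<|c 0<|c 521<|d));
 (a 0<|a 512<|a 0<|a 514<|a 515<|a 0<|a 517<|d)))))))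
  rays := (beta% (fun (vq0 : List Cfsg.Agent.E8A.C63.Nil.Ray) => (beta% delta% lq26c06afe50 fun a b _ e _ _ =>
 (let d:type_of% vq0:=(let d:type_of% vq0:=(let d:type_of% vq0:=(a ⟨2940, (a 161<|a 167<|b), (a (e (a 161<|b) (.cube 1 25 (a 135<|a 161<|a 162<|b)))<|a (e (a 167<|b) (.cube 0 15 (a 120<|a 141<|a 167<|b)))<|a (e (a 161<|a 167<|b) (.cube 18 87 (a 135<|a 161<|a 162<|b)))<|b)⟩<|
 a ⟨3150, (a 221<|b), (a (e (a 221<|b) (.cube 8 108 (a 123<|a 162<|a 221<|b)))<|b)⟩<|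
 a ⟨3360, (a 207<|a 235<|b), (a (e (a 207<|b) (.cube 0 40 (a 120<|a 126<|a 207<|b)))<|a (e (a 235<|b) (.cube 1 118 (a 123<|a 126<|a 235<|b)))<|a (e (a 207<|a 235<|b) (.cube 15 171 (a 123<|a 126<|a 235<|b)))<|b)⟩<|
 a ⟨4060, (a 209<|b), (a (e (a 209<|b) (.cube 1 44 (a 123<|a 126<|a 209<|b)))<|b)⟩<|a ⟨4340, (a 231<|b), (a (e (a 231<|b) (.cube 14 163 (a 135<|a 141<|a 231<|b)))<|b)⟩<|
 a ⟨6300, (a 189<|a 228<|a 238<|b), (a (e (a 189<|b) (.cube 0 23 (a 120<|a 123<|a 189<|b)))<|a (e (a 228<|b) (.cube 1 85 (a 123<|a 126<|a 228<|b)))<|a (e (a 238<|b) (.conj 3 1 (a (e 158 (-1))<|a (e 159 1)<|a (e 177 1)<|a (e 179 1)<|a (e 186 (-1))<|a (e 217 1)<|a (e 221 (-1))<|b) 1 11))<|a (e (a 189<|a 228<|b) (.cube 21 163 (a 123<|a 126<|a 228<|b)))<|a (e (a 189<|a 238<|b) (.cube 19 87 (a 120<|a 123<|a 189<|b)))<|a (e (a 228<|a 238<|b) (.cube 39 173 (a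 123<|a 126<|a 228<|b)))<|a (e (a 189<|a 228<|a 238<|b) (.cube 61 193 (a 123<|a 126<|a 228<|b)))<|b)⟩<|b);
 (a ⟨1680, (a 197<|a 205<|b), (a (e (a 197<|b) (.cube 30 118 (a 120<|a 141<|a 197<|b)))<|a (e (a 205<|b) (.cube 0 37 (a 120<|a 123<|a 205<|b)))<|a (e (a 197<|a 205<|b) (.cube 23 185 (a 120<|a 197<|a 205<|b)))<|b)⟩<|
 a ⟨1820, (a 124<|b), (a (e (a 124<|b) (.cube 0 4 (a 120<|a 124<|a 126<|b)))<|b)⟩<|
 a ⟨2100, (a 179<|a 186<|a 216<|b), (a (e (a 179<|b) (.cube 18 85 (a 120<|a 135<|a 179<|b)))<|a (e (a 186<|b) (.cube 0 22 (a 120<|a 126<|a 186<|b)))<|a (e (a 216<|b) (.cube 13 122 (a 135<|a 162<|a 216<|b)))<|a (e (a 179<|a 186<|b) (.cube 4 86 (a 120<|a 179<|a 186<|b)))<|a (e (a 179<|a 216<|b) (.cube 75 212 (a 135<|a 162<|a 216<|b)))<|a (e (a 186<|a 216<|b) (.cube 25 129 (a 123<|a 126<|a 216<|b)))<|a (e (a 179<|a 186<|a 216<|b) (.cube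 83 183 (a 123<|a 126<|a 216<|b)))<|b)⟩<|
 a ⟨2380, (a 219<|b), (a (e (a 219<|b) (.cube 0 78 (a 120<|a 162<|a 219<|b)))<|b)⟩<|a ⟨2436, (a 199<|b), (a (e (a 199<|b) (.cube 2 35 (a 123<|a 126<|a 199<|b)))<|b)⟩<|
 a ⟨2604, (a 224<|b), (a (e (a 224<|b) (.cube 30 178 (a 141<|a 162<|a 224<|b)))<|b)⟩<|
 d));
 (let d:type_of% d:=(a ⟨980, (a 133<|b), (a (e (a 133<|b) (.cube 11 33 (a 133<|a 135<|a 162<|b)))<|b)⟩<|
 a ⟨1092, (a 121<|b), (a (e (a 121<|b) (.cube 0 3 (a 120<|a 121<|a 123<|b)))<|b)⟩<|a ⟨1120, (a 195<|b), (a (e (a 195<|b) (.cube 21 93 (a 123<|a 126<|a 195<|b)))<|b)⟩<|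
 a ⟨1260, (a 157<|a 176<|b), (a (e (a 157<|b) (.cube 7 41 (a 135<|a 157<|a 162<|b)))<|a (e (a 176<|b) (.cube 2 19 (a 123<|a 126<|a 176<|b)))<|a (e (a 157<|a 176<|b) (.cube 86 129 (a 120<|a 123<|a 157<|b)))<|b)⟩<|
 a ⟨1428, (a 214<|b), (a (e (a 214<|b) (.cube 0 56 (a 120<|a 135<|a 214<|b)))<|b)⟩<|
 a ⟨1470, (a 139<|a 145<|b), (a (e (a 139<|b) (.cube 8 25 (a 120<|a 139<|a 162<|b)))<|a (e (a 145<|b) (.cube 0 8 (a 120<|a 135<|a 145<|b)))<|a (e (a 139<|a 145<|b) (.cube 8 25 (a 120<|a 139<|a 162<|b)))<|b)⟩<|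
 d);
 (a ⟨60, (a 130<|b), (a (e (a 130<|b) (.cube 2 5 (a 123<|a 126<|a 130<|b)))<|b)⟩<|
 a ⟨84, (a 136<|a 142<|b), (a (e (a 136<|b) (.cube 2 6 (a 123<|a 126<|a 136<|b)))<|a (e (a 142<|b) (.cube 2 7 (a 123<|a 126<|a 142<|b)))<|a (e (a 136<|a 142<|b) (.cube 8 22 (a 126<|a 136<|a 162<|b)))<|b)⟩<|
 a ⟨140, (a 147<|a 152<|a 164<|b), (a (e (a 147<|b) (.cube 2 8 (a 123<|a 126<|a 147<|b)))<|a (e (a 152<|b) (.cube 7 36 (a 135<|a 152<|a 162<|b)))<|a (e (a 164<|b) (.cube 2 14 (a 123<|a 126<|a 164<|b)))<|a (e (a 147<|a 152<|b) (.cube 7 36 (a 135<|a 152<|a 162<|b)))<|a (e (a 147<|a 164<|b) (.cube 36 78 (a 123<|a 126<|a 164<|b)))<|a (e (a 152<|a 164<|b) (.cube 15 40 (a 123<|a 126<|a 152<|b)))<|a (e (a 147<|a 152<|a 164<|b) (.cube 15 40 (a 123<|a 126<|a 152<|b)))<|b)⟩<|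
 a ⟨210, (a 174<|b), (a (e (a 174<|b) (.cube 20 82 (a 123<|a 135<|a 174<|b)))<|b)⟩<|
 a ⟨420, (a 169<|a 184<|a 194<|b), (a (e (a 169<|b) (.cube 2 15 (a 123<|a 126<|a 169<|b)))<|a (e (a 184<|b) (.cube 39 106 (a 123<|a 126<|a 184<|b)))<|a (e (a 194<|b) (.conj 3 (-1) (a (e 132 (-1))<|a (e 137 (-1))<|a (e 143 (-1))<|a (e 147 (-1))<|a (e 164 (-1))<|a (e 153 (-1))<|a (e 174 (-1))<|b) 1 11))<|a (e (a 169<|a 184<|b) (.cube 39 106 (a 123<|a 126<|a 184<|b)))<|a (e (a 169<|a 194<|b) (.cube 26 78 (a 123<|a 126<|a 169<|b)))<|a (e (a 184<|a 194<|b) (.cube 16 78 (a 123<|a 126<|a 184<|b)))<|a (e (a 169<|a 184<|a 194<|b) (.cube 16 78 (a 123<|a 126<|a 184<|b)))<|b)⟩<|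
 a ⟨900, (a 154<|b), (a (e (a 154<|b) (.cube 2 12 (a 123<|a 126<|a 154<|b)))<|b)⟩<|d)));
 (let d:type_of% d:=(let d:type_of% d:=(a ⟨-900, (a 47<|b), (a (e (a 47<|b) (.cube 11 0 (a 47<|a 135<|a 162<|b)))<|b)⟩<|
 a ⟨-420, (a 35<|a 83<|a 107<|b), (a (e (a 35<|b) (.conj 3 (-1) (a (e 70 (-1))<|a (e 74 1)<|a (e 91 (-1))<|a (e 95 1)<|a (e 101 (-1))<|a (e 54 1)<|a (e 61 (-1))<|b) 1 11))<|a (e (a 83<|b) (.cube 36 15 (a 83<|a 123<|a 126<|b)))<|a (e (a 107<|b) (.cube 111 106 (a 107<|a 123<|a 126<|b)))<|a (e (a 35<|a 83<|b) (.cube 36 15 (a 83<|a 123<|a 126<|b)))<|a (e (a 35<|a 107<|b) (.cube 16 15 (a 107<|a 123<|a 126<|b)))<|a (e (a 83<|a 107<|b) (.cube 36 15 (a 83<|a 123<|a 126<|b)))<|a (e (a 35<|a 83<|a 107<|b) (.cube 16 15 (a 107<|a 123<|a 126<|b)))<|b)⟩<|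
 a ⟨-210, (a 61<|b), (a (e (a 61<|b) (.cube 36 8 (a 61<|a 123<|a 126<|b)))<|b)⟩<|
 a ⟨-140, (a 51<|a 95<|a 101<|b), (a (e (a 51<|b) (.cube 11 3 (a 51<|a 135<|a 162<|b)))<|a (e (a 95<|b) (.cube 30 23 (a 95<|a 123<|a 141<|b)))<|a (e (a 101<|b) (.cube 21 15 (a 101<|a 123<|a 126<|b)))<|a (e (a 51<|a 95<|b) (.cube 39 25 (a 95<|a 123<|a 126<|b)))<|a (e (a 51<|a 101<|b) (.cube 36 7 (a 51<|a 123<|a 126<|b)))<|a (e (a 95<|a 101<|b) (.cube 21 15 (a 101<|a 123<|a 126<|b)))<|a (e (a 51<|a 95<|a 101<|b) (.cube 39 25 (a 95<|a 123<|a 126<|b)))<|b)⟩<|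
 a ⟨-84, (a 73<|a 90<|b), (a (e (a 73<|b) (.cube 21 8 (a 73<|a 123<|a 126<|b)))<|a (e (a 90<|b) (.cube 18 15 (a 90<|a 135<|a 141<|b)))<|a (e (a 73<|a 90<|b) (.cube 39 20 (a 90<|a 123<|a 126<|b)))<|b)⟩<|
 a ⟨-60, (a 68<|b), (a (e (a 68<|b) (.cube 7 2 (a 68<|a 135<|a 162<|b)))<|b)⟩<|d);
 (a ⟨-1470, (a 71<|a 88<|b), (a (e (a 71<|b) (.cube 24 15 (a 71<|a 120<|a 162<|b)))<|a (e (a 88<|b) (.cube 20 15 (a 88<|a 135<|a 141<|b)))<|a (e (a 71<|a 88<|b) (.cube 43 23 (a 88<|a 120<|a 135<|b)))<|b)⟩<|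
 a ⟨-1428, (a 12<|b), (a (e (a 12<|b) (.cube 46 0 (a 12<|a 135<|a 162<|b)))<|b)⟩<|
 a ⟨-1260, (a 49<|a 57<|b), (a (e (a 49<|b) (.cube 13 3 (a 49<|a 135<|a 162<|b)))<|a (e (a 57<|b) (.cube 39 8 (a 57<|a 123<|a 126<|b)))<|a (e (a 49<|a 57<|b) (.cube 24 4 (a 49<|a 120<|a 126<|b)))<|b)⟩<|
 a ⟨-1120, (a 28<|b), (a (e (a 28<|b) (.cube 30 1 (a 28<|a 120<|a 141<|b)))<|b)⟩<|a ⟨-1092, (a 110<|b), (a (e (a 110<|b) (.cube 2 0 (a 110<|a 123<|a 126<|b)))<|b)⟩<|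
 a ⟨-980, (a 66<|b), (a (e (a 66<|b) (.cube 7 0 (a 66<|a 135<|a 162<|b)))<|b)⟩<|d));
 (let d:type_of% d:=(a ⟨-2604, (a 5<|b), (a (e (a 5<|b) (.cube 72 1 (a 5<|a 135<|a 162<|b)))<|b)⟩<|a ⟨-2436, (a 26<|b), (a (e (a 26<|b) (.cube 35 3 (a 26<|a 123<|a 141<|b)))<|b)⟩<|
 a ⟨-2380, (a 19<|b), (a (e (a 19<|b) (.cube 117 23 (a 19<|a 120<|a 135<|b)))<|b)⟩<|
 a ⟨-2100, (a 9<|a 59<|a 79<|b), (a (e (a 9<|b) (.cube 53 1 (a 9<|a 135<|a 162<|b)))<|a (e (a 59<|b) (.cube 125 87 (a 59<|a 126<|a 162<|b)))<|a (e (a 79<|b) (.cube 39 15 (a 79<|a 123<|a 126<|b)))<|a (e (a 9<|a 59<|b) (.cube 55 3 (a 9<|a 135<|a 162<|b)))<|a (e (a 9<|a 79<|b) (.cube 39 15 (a 79<|a 123<|a 126<|b)))<|a (e (a 59<|a 79<|b) (.cube 127 23 (a 59<|a 79<|a 120<|b)))<|a (e (a 9<|a 59<|a 79<|b) (.cube 107 8 (a 9<|a 123<|a 126<|b)))<|b)⟩<|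
 a ⟨-1820, (a 114<|b), (a (e (a 114<|b) (.cube 24 23 (a 114<|a 120<|a 123<|b)))<|b)⟩<|
 a ⟨-1680, (a 31<|a 38<|b), (a (e (a 31<|b) (.cube 94 23 (a 31<|a 123<|a 141<|b)))<|a (e (a 38<|b) (.cube 80 15 (a 38<|a 123<|a 126<|b)))<|a (e (a 31<|a 38<|b) (.cube 105 23 (a 31<|a 120<|a 123<|b)))<|b)⟩<|
 d);
 (a ⟨-6300, (a 0<|a 21<|a 81<|b), (a (e (a 0<|b) (.conj 3 (-1) (a (e 50 (-1))<|a (e 52 1)<|a (e 58 (-1))<|a (e 59 (-1))<|a (e 79 (-1))<|a (e 10 1)<|a (e 16 (-1))<|b) 1 11))<|a (e (a 21<|b) (.cube 122 25 (a 21<|a 123<|a 126<|b)))<|a (e (a 81<|b) (.cube 238 230 (a 81<|a 120<|a 126<|b)))<|a (e (a 0<|a 21<|b) (.cube 101 15 (a 21<|a 123<|a 126<|b)))<|a (e (a 0<|a 81<|b) (.cube 12 4 (a 81<|a 120<|a 126<|b)))<|a (e (a 21<|a 81<|b) (.cube 228 163 (a 21<|a 123<|a 126<|b)))<|a (e (a 0<|a 21<|a 81<|b) (.cube 101 15 (a 21<|a 123<|a 126<|b)))<|b)⟩<|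
 a ⟨-4340, (a 7<|b), (a (e (a 7<|b) (.cube 156 40 (a 7<|a 135<|a 162<|b)))<|b)⟩<|a ⟨-4060, (a 36<|b), (a (e (a 36<|b) (.cube 83 15 (a 36<|a 123<|a 126<|b)))<|b)⟩<|
 a ⟨-3360, (a 2<|a 41<|b), (a (e (a 2<|b) (.cube 111 1 (a 2<|a 123<|a 126<|b)))<|a (e (a 41<|b) (.cube 226 171 (a 41<|a 120<|a 123<|b)))<|a (e (a 2<|a 41<|b) (.cube 169 15 (a 2<|a 123<|a 126<|b)))<|b)⟩<|
 a ⟨-3150, (a 16<|b), (a (e (a 16<|b) (.cube 107 15 (a 16<|a 123<|a 126<|b)))<|b)⟩<|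
 a ⟨-2940, (a 46<|a 99<|b), (a (e (a 46<|b) (.cube 13 1 (a 46<|a 135<|a 162<|b)))<|a (e (a 99<|b) (.cube 128 109 (a 99<|a 120<|a 135<|b)))<|a (e (a 46<|a 99<|b) (.cube 45 15 (a 46<|a 135<|a 162<|b)))<|b)⟩<|
 d)))) :
 List Cfsg.Agent.E8A.C63.Nil.Ray)) _)

theorem ok11 : chkC D11 = true := by (rewrite [Cfsg.Agent.LsF.fa47430_37.2]; decide +kernel)

end Cfsg.Agent.E8A.C63.Nil
end

-- part: E8A/C63/Nil
section
/-!
# `A₆` in characteristic 3: the box NIL3 (helper41)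
-/

set_option autoImplicit false
set_option maxRecDepth 100000

namespace Cfsg.Agent.E8A.C63

open Cfsg Cfsg.Lie Module Filter Topology
open Cfsg.Agent.H288.E8L (Q8 wt)
open Cfsg.Agent.E8A.Kem (Ge mem_Ge nrm)
open Cfsg.Agent.E8A.C63.Abc (sub_pr_Gt)

universe u

namespace Nil

theorem all_ok : ∀ j < 12, ∃ D : Cls, D.j = j ∧ chkC D = true := by
  intro j hj
  interval_cases j
  exacts [⟨D0, rfl, ok0⟩, ⟨D1, rfl, ok1⟩, ⟨D2, rfl, ok2⟩, ⟨D3, rfl, ok3⟩, ⟨D4, rfl, ok4⟩, ⟨D5, rfl, ok5⟩, ⟨D6, rfl, ok6⟩,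
    ⟨D7, rfl, ok7⟩, ⟨D8, rfl, ok8⟩, ⟨D9, rfl, ok9⟩, ⟨D10, rfl, ok10⟩, ⟨D11, rfl, ok11⟩]

variable {K : Type u} [Field K] [IsAlgClosed K] [CharP K 3]

theorem gl_of_st : ∀ (n m j : ℕ) (k : Q8 →+ ℝ) (x : L8 K), 12 - j = n → ms j k = m → j < 12 → x ≠ 0 → Cz x → St j k x →
    Gl k x := by
  intro n
  induction n using Nat.strong_induction_on with
  | _ n ihn =>
    intro m
    induction m using Nat.strong_induction_on with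
    | _ m ihm =>
      intro j k x hn hm hj h0 hx hs
      obtain ⟨D, rfl, hD⟩ := all_ok j hj
      rcases step hD h0 hx hs with h | ⟨g, k', j, h1, h2, h3⟩
      · exact h
      have h4 : act g x ≠ 0 := fun e => h0 (act_eq_zero e)
      obtain ⟨c, g', h5, h6⟩ : Gl k' (act g x) := by
        rcases h3 with h3 | ⟨rfl, h3⟩
        · exact ihn _ (by omega) _ j k' _ rfl rfl h3.2 h4 (hx.act g) h1
        · exact ihm _ (hm ▸ h3) _ k' _ hn rfl hj h4 (hx.act g) h1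
      exact ⟨c, g' * g, by rwa [act_mul], h6.trans h2⟩

theorem gl_of_Ge {k : Q8 →+ ℝ} {j t : ℝ} (ht : 0 < t) (h : 1 < t * j) {x : L8 K} (h0 : x ≠ 0) (hx : Cz x)
    (hk : x ∈ LS K (Ge k j)) : Gl (t • k) x :=
  gl_of_st _ _ 0 _ x rfl rfl (by norm_num) h0 hx ⟨0, ⟨zero_mem _, fun i hi => by
    rw [sub_zero] at hi
    exact h.trans_le (mul_le_mul_of_nonneg_left (mem_Ge.1 (hk i hi)) ht.le)⟩,
    fun _ => ⟨fun h => absurd rfl h, fun h => absurd h List.not_mem_nil⟩⟩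

omit [IsAlgClosed K] [CharP K 3] in
theorem pos_of_inB {x : L8 K} (hx : Cz x) (h : InB x) : x ∈ LS K {a | 0 < cl (fun _ => 1) a} := by
  have e : ∀ a : Q8, cl (fun _ => 1) a = ((∑ i, a i : ℤ) : ℝ) := fun a => by
    rw [cl_apply, Reg5.Cls.ex]
    simp only [mul_one]
  have h1 : x ∈ LS K (Ge (cl fun _ => 1) 0) := fun i hi => mem_Ge.2 (by
    rw [e]
    exact_mod_cast Finset.sum_nonneg fun l _ => inB_iff.1 h i hi l)
  have h2 : InT (pr (cl fun _ => 1) 0 x) := inT_iff.2 fun i hi => by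
    have h3 := mem_Eq.1 (pr_mem _ _ _ i hi)
    have h4 := pr_LS (inB_iff.1 h) _ _ i hi
    rw [e, Int.cast_eq_zero, Finset.sum_eq_zero_iff_of_nonneg fun l _ => h4 l] at h3
    exact funext fun l => h3 l (Finset.mem_univ l)
  have h3 := eq_zero_of_rl h2 fun r => by
    have h4 := (cz_pr hx h1).br3 (ee K (Sum.inr r))
    rw [br_T_ee h2, br_smul_right, br_T_ee h2, br_smul_right, br_smul_right, br_T_ee h2, smul_smul, smul_smul,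
      smul_eq_zero_iff_left (ee_ne_zero _)] at h4
    simpa using h4
  have h4 := sub_pr_Gt h1
  rwa [h3, sub_zero] at h4

theorem cdc_inj : Function.Injective cdc := by decide

end Nil

open Nil

theorem nil3 : NIL3.{u} := by
  intro K _ _ _ x h0 hx
  obtain ⟨g, hg⟩ := Bor.borel K x
  obtain ⟨j, hj, hj'⟩ := exists_Ge (pos_of_inB (hx.act g) hg)
  obtain ⟨c, g₁, h1, -⟩ := gl_of_Ge (t := 2 / j) (by positivity) (by rw [div_mul_cancel₀ _ hj.ne']; norm_num)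
    (fun e => h0 (act_eq_zero e)) (hx.act g) hj'
  refine ⟨c, g₁ * g, by rwa [act_mul], fun g' lam h => ?_⟩
  have h2 : Tendsto (fun t : ℝ => 4 * (t ^ 2 * nrm lam)) (𝓝[>] (1 / 2)) (𝓝 (nrm lam)) := by
    have h3 := (show Continuous fun t : ℝ => 4 * (t ^ 2 * nrm lam) by fun_prop).tendsto (1 / 2)
    rw [show 4 * ((1 / 2 : ℝ) ^ 2 * nrm lam) = nrm lam by ring] at h3
    exact h3.mono_left nhdsWithin_le_nhds
  refine ge_of_tendsto h2 ?_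
  filter_upwards [self_mem_nhdsWithin] with t ht
  have ht' : 1 / 2 < t := ht
  obtain ⟨c', g₂, h3, h4⟩ := gl_of_Ge (t := t) (by linarith) (by linarith) (fun e => h0 (act_eq_zero e)) (hx.act g') h
  have h5 : c' = c := cdc_inj (by
    rw [← (str K c).2.1, ← (str K c').2.1, ← h1, ← h3, cd_act, cd_act, cd_act, cd_act])
  rw [h5, hf, (eL_eq c).2, nrm_smul, nrm_smul] at h4
  linarith only [h4]

end Cfsg.Agent.E8A.C63
end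

private theorem dce_2508e71fb233 : _root_.True := by
  try have : _root_.True := by simp only [_root_.Cfsg.Agent.E8A.C63.Nil.subs.eq_def]
  try have : _root_.True := by simp only [_root_.Cfsg.Agent.E8A.C63.Nil.hf.eq_1]
  try have : _root_.True := by simp only [_root_.Cfsg.Agent.E8A.C63.Nil.sm.eq_2]
  try have : _root_.True := by simp only [_root_.Cfsg.Agent.E8A.C63.Nil.chkE.eq_1]
  try have : _root_.True := by simp only [_root_.Cfsg.Agent.E8A.C63.Nil.tv.eq_1]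
  try have : _root_.True := by simp only [_root_.Cfsg.Agent.E8A.C63.B2.eq_1]
  try have : _root_.True := by simp only [_root_.Cfsg.Agent.E8A.C63.Nil.sm.eq_1]
  try have : _root_.True := by simp only [_root_.Cfsg.Agent.E8A.C63.Nil.inc.eq_1]
  try have : _root_.True := by simp only [_root_.Cfsg.Agent.E8A.C63.Nil.chkS.eq_2]
  try have : _root_.True := by simp only [_root_.Cfsg.Agent.E8A.C63.Nil.chkQ.eq_1]
  try have : _root_.True := by simp only [_root_.Cfsg.Agent.E8A.C63.Nil.chkK.eq_1]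
  try have : _root_.True := by simp only [_root_.Cfsg.Agent.E8A.C63.Nil.msk.eq_1]
  try have : _root_.True := by simp only [_root_.Cfsg.Agent.E8A.C63.Nil.adT.eq_1]
  try have : _root_.True := by simp only [_root_.Cfsg.Agent.E8A.C63.Nil.chkC.eq_1]
  try have : _root_.True := by simp only [_root_.Cfsg.Agent.E8A.C63.Nil.xs.eq_1]
  try have : _root_.True := by simp only [_root_.Cfsg.Agent.E8A.C63.Nil.inc.eq_def]
  try have : _root_.True := by simp only [_root_.Cfsg.Agent.E8A.C63.Nil.chkR.eq_1]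
  try have : _root_.True := by simp only [_root_.Cfsg.Agent.E8A.C63.Nil.sm.eq_def]
  try have : _root_.True := by simp only [_root_.Cfsg.Agent.E8A.C63.Nil.subs.eq_2]
  try have : _root_.True := by simp only [_root_.Cfsg.Agent.E8A.C63.Nil.subs.eq_1]
  try have : _root_.True := by simp only [_root_.Cfsg.Agent.E8A.C63.Nil.chkS._sparseCasesOn_2.else_eq]
  try have : _root_.True := by simp only [_root_.Cfsg.Agent.E8A.C63.Nil.chkS.eq_1]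
  try have : _root_.True := by simp only [_root_.Cfsg.Agent.E8A.C63.Nil.inc.eq_2]
  try have : _root_.True := by simp only [_root_.Cfsg.Agent.E8A.C63.Nil.eL.eq_1]
  try have : _root_.True := by simp only [_root_.Cfsg.Agent.E8A.C63.Nil.msk.eq_def]
  try have : _root_.True := by simp only [_root_.Cfsg.Agent.E8A.C63.Nil.msk.eq_2]
  try have : _root_.True := by simp only [_root_.Cfsg.Agent.E8A.C63.Nil.chkS.eq_3]
  try have : _root_.True := by simp only [_root_.Cfsg.Agent.E8A.C63.Nil.chkS._sparseCasesOn_1.else_eq]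
  exact _root_.True.intro
end

-- part: E8A/C65/Main
section
prune_inst 0x1004008002000018050040001442c80000000008800080400a000680480020010021b430000800808c044008004000000010000200c000000400011800a0808042043200a10c640009000000410000000000000000000000000000000000000000000
set_option linter.all false
open scoped Cfsg.Agent.FastGrp

/-!
# The box C65: `A₆` in characteristic 5 (helper8)

* `syl` : `5 f(s) ≤ 5 f(⟨s, u⟩) + 2 · 248` for an involution `s` inverting an element `u` of order 5;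
* `c65 : CASE 6 (· = 5)`.
-/

set_option autoImplicit false
set_option maxRecDepth 100000

namespace Cfsg.Agent.E8A.C65

open Cfsg Cfsg.Lie Module
open Cfsg.Agent.R2.T1.Odd Cfsg.Agent.R2.T1.Art
open Cfsg.Agent.H952.F4 (MaxAlt ev)
open Cfsg.Agent.E8A.Inf (kf kf_act kf_act' kf_comm finrank_perp finrank_L8)

universe u

section lin

variable {K V : Type*} [Field K] [AddCommGroup V] [Module K V] [FiniteDimensional K V]

theorem rank_null (N : Module.End K V) (X : Submodule K V) :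
    finrank K ↥(X.map N) + finrank K ↥(X ⊓ LinearMap.ker N : Submodule K V) = finrank K ↥X := by
  have h1 := LinearMap.finrank_range_add_finrank_ker (N.domRestrict X)
  rw [LinearMap.range_domRestrict, LinearMap.ker_domRestrict, ← Submodule.finrank_map_subtype_eq X,
    Submodule.map_comap_subtype] at h1
  exact h1

theorem step (N : Module.End K V) {X Y : Submodule K V} (h : X ≤ Y) :
    finrank K ↥X ≤ finrank K ↥(X.map N) + finrank K ↥(Y ⊓ LinearMap.ker N : Submodule K V) := by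
  rw [← rank_null N X]
  exact Nat.add_le_add_left (Submodule.finrank_mono (inf_le_inf_right _ h)) _

theorem chain5 {N : Module.End K V} (h5 : N ^ 5 = 0) {A B : Submodule K V} (hA : A.map N ≤ B) (hB : B.map N ≤ A) :
    finrank K ↥A ≤ 3 * finrank K ↥(A ⊓ LinearMap.ker N : Submodule K V) +
      2 * finrank K ↥(B ⊓ LinearMap.ker N : Submodule K V) := by
  have h2 : (A.map N).map N ≤ A := (Submodule.map_mono hA).trans hB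
  have h3 : ((A.map N).map N).map N ≤ B := (Submodule.map_mono h2).trans hA
  have h4 : (((A.map N).map N).map N).map N ≤ A := (Submodule.map_mono h3).trans hB
  have h6 : ((((A.map N).map N).map N).map N).map N = ⊥ := by
    rw [eq_bot_iff]
    rintro _ ⟨_, ⟨_, ⟨_, ⟨_, ⟨x, -, rfl⟩, rfl⟩, rfl⟩, rfl⟩, rfl⟩
    have h7 : (N ^ 5) x = N (N (N (N (N x)))) := rfl
    rw [← h7, h5]
    exact Submodule.zero_mem _
  have k0 := step N (le_refl A)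
  have k1 := step N hA
  have k2 := step N h2
  have k3 := step N h3
  have k4 := step N h4
  rw [h6, finrank_bot] at k4
  omega

end lin

section syl

variable {F : Type u} [Field F]

/-- **(b)** -/
theorem syl [CharP F 5] {s u : G8 F} (hu : u ^ 5 = 1) (hsu : s * u = u⁻¹ * s) {D : Submodule F (L8 F)}
    (hD : ∀ v, act s v = v → act u v = v → v ∈ D) : 5 * ev (LK F s) 1 ≤ 5 * finrank F ↥D + 496 := by
  have : Fact (Nat.Prime 5) := ⟨Nat.prime_five⟩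
  have h2 : (2 : F) ≠ 0 := by
    intro h
    have h1 := (CharP.cast_eq_zero_iff F 5 2).1 (by exact_mod_cast h)
    omega
  obtain ⟨N, hN⟩ : ∃ N : Module.End F (L8 F), N = LK F u - LK F u⁻¹ := ⟨_, rfl⟩
  have hNa : ∀ v, N v = act u v - act u⁻¹ v := fun v => by rw [hN]; rfl
  have hsu' : s * u⁻¹ = u * s := by
    rw [mul_inv_eq_iff_eq_mul, mul_assoc, hsu, mul_inv_cancel_left]
  have hsN : ∀ v, act s (N v) = -N (act s v) := fun v => by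
    rw [hNa, hNa, act_sub, ← act_mul, ← act_mul, hsu, hsu', act_mul, act_mul, neg_sub]
  have h5 : N ^ 5 = 0 := by
    have : Nontrivial (Module.End F (L8 F)) := ⟨0, 1, fun h => ee_ne_zero (K := F) (Sum.inl (xi 0)) (by
      have h1 := congrArg (fun T : Module.End F (L8 F) => T (ee F (Sum.inl (xi 0)))) h
      exact h1.symm)⟩
    have : CharP (Module.End F (L8 F)) 5 := charP_of_injective_algebraMap (algebraMap F _).injective 5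
    have h1 : Commute (LK F u) (LK F u⁻¹) := (Commute.refl u).inv_right.map (LK F)
    rw [hN, sub_pow_char_of_commute 5 h1, ← map_pow, ← map_pow, inv_pow, hu, inv_one, sub_self]
  obtain ⟨A, hA⟩ : ∃ A, A = Module.End.eigenspace (LK F s) 1 := ⟨_, rfl⟩
  obtain ⟨B, hB⟩ : ∃ B, B = Module.End.eigenspace (LK F s) (-1) := ⟨_, rfl⟩
  have mA : ∀ v, v ∈ A ↔ act s v = v := fun v => by
    rw [hA, Module.End.mem_eigenspace_iff, one_smul, LK_apply]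
  have mB : ∀ v, v ∈ B ↔ act s v = -v := fun v => by
    rw [hB, Module.End.mem_eigenspace_iff, neg_one_smul, LK_apply]
  have hAB : A.map N ≤ B := by
    rintro _ ⟨x, hx, rfl⟩
    rw [mB, hsN, (mA x).1 hx]
  have hBA : B.map N ≤ A := by
    rintro _ ⟨x, hx, rfl⟩
    rw [mA, hsN, (mB x).1 hx, map_neg, neg_neg]
  have k1 := chain5 h5 hAB hBA
  have k2 := rank_null N A
  have k3 := finrank_perp (A.map N)
  have k4 : A ⊔ (B ⊓ LinearMap.ker N) ≤ LinearMap.BilinForm.orthogonal (kf F) (A.map N) := by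
    refine sup_le (fun y hy => ?_) fun y hy => ?_
    · intro x hx
      have h3 := kf_act s x y
      rw [(mB x).1 (hAB hx), (mA y).1 hy, map_neg, LinearMap.neg_apply, neg_eq_iff_add_eq_zero, ← two_mul] at h3
      exact (mul_eq_zero.1 h3).resolve_left h2
    · rintro _ ⟨x, -, rfl⟩
      have h3 : act u y - act u⁻¹ y = 0 := by rw [← hNa]; exact hy.2
      show kf F (N x) y = 0
      rw [hNa, map_sub, LinearMap.sub_apply, kf_act', kf_act', inv_inv, ← map_sub, ← neg_sub, h3, neg_zero, map_zero]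
  have k5 : A ⊓ (B ⊓ LinearMap.ker N) = ⊥ := by
    rw [eq_bot_iff]
    rintro y ⟨h3, h4, -⟩
    have h6 := (mB y).1 h4
    rw [(mA y).1 h3, eq_neg_iff_add_eq_zero, ← two_smul F] at h6
    exact (smul_eq_zero.1 h6).resolve_left h2
  have k6 := Submodule.finrank_sup_add_finrank_inf_eq A (B ⊓ LinearMap.ker N)
  rw [k5, finrank_bot] at k6
  have k7 := Submodule.finrank_mono k4
  have k8 : A ⊓ LinearMap.ker N ≤ D := by
    rintro y ⟨h3, h4⟩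
    refine hD y ((mA y).1 h3) ?_
    have h6 : act u y = act u⁻¹ y := by rw [← sub_eq_zero, ← hNa]; exact h4
    have h7 : act (u * u) y = y := by rw [act_mul, h6, act_inv']
    have h8 : u = u * u * (u * u) * (u * u) := by
      rw [← mul_one u, ← hu]
      simp only [pow_succ, pow_zero, one_mul, mul_assoc]
      have h9 : u * (u * (u * (u * u))) = 1 := by
        rw [← hu]
        simp only [pow_succ, pow_zero, one_mul, mul_assoc]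
      simp only [h9, mul_one]
    rw [h8, act_mul, act_mul, h7, h7, h7]
  have k9 := Submodule.finrank_mono k8
  have k10 : ev (LK F s) 1 = finrank F ↥A := by rw [hA]; rfl
  omega

end syl

section elts

variable {F : Type*} [Field F] {W : Type*} [AddCommGroup W] [Module F W]
  (ρ : Representation F ↥(alternatingGroup (Fin 6)) W)

theorem P_mul_eq {a b c d : List (ℕ × ℕ)} (h : (vl 6 a && vl 6 b && vl 6 c && vl 6 d && cd 6 (a ++ b) == cd 6 (c ++ d)) = true) :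
    P 6 a * P 6 b = P 6 c * P 6 d := by
  simp only [Bool.and_eq_true, beq_iff_eq] at h
  obtain ⟨⟨⟨⟨h1, h2⟩, h3⟩, h4⟩, h5⟩ := h
  rw [← P_append le_rfl h1 h2, ← P_append le_rfl h3 h4, P_eq_iff le_rfl (vl_append h1 h2) (vl_append h3 h4)]
  exact h5

theorem ev_of_cd {a b c : List (ℕ × ℕ)} (h : (vl 6 a && vl 6 c && vl 6 c && vl 6 b && cd 6 (a ++ c) == cd 6 (c ++ b)) = true) :
    ev (ρ (P 6 a)) 1 = ev (ρ (P 6 b)) 1 := by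
  rw [← H944.E6T.ev_conj ρ (P 6 c) (P 6 b), ← P_mul_eq h, mul_inv_cancel_right]

end elts

/-- **C65** -/
theorem c65 : CASE.{u} 6 fun p => p = 5 := by
  intro F _ _ p _ _ hp H φ hM hfx
  subst hp
  have hne : ∀ k : ℕ, ¬ 5 ∣ k → (k : F) ≠ 0 := fun k hk h => hk ((CharP.cast_eq_zero_iff F 5 k).1 h)
  let ρ : Representation F ↥(alternatingGroup (Fin 6)) (L8 F) := (LK F).comp φ
  have hρ : ∀ a, ρ a = LK F (φ a) := fun _ => rfl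
  have k1 := ineq_a (ρ := ρ) hfx
  have k2 := dim8 (ρ := ρ) (hne 8 (by norm_num))
  have k3 := dim36 (ρ := ρ) (hne 36 (by norm_num))
  have e42 : P 6 (rp.getD 2 []) ^ 2 = P 6 (rp.getD 1 []) := P_pow_eq le_rfl (by decide) (by decide) (by decide)
  rw [P_nil, om_one, finrank_L8, om_prime ρ Nat.prime_two (orderOf_P (m := 6) le_rfl (by decide +kernel)),
    om_four ρ (orderOf_P (m := 6) le_rfl (by decide +kernel)), e42, finrank_L8] at k2 k3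
  rw [om_prime ρ Nat.prime_three (orderOf_P (m := 6) le_rfl (by decide +kernel)),
    om_prime ρ Nat.prime_three (orderOf_P (m := 6) le_rfl (by decide +kernel)), finrank_L8] at k3
  -- the involution and the element of order 5
  have k4 : 5 * ev (ρ (P 6 (rp.getD 1 []))) 1 ≤ 5 * finrank F ↥(inv ρ (Tg 6 g10)) + 496 := by
    refine syl (s := φ (P 6 (rp.getD 1 []))) (u := φ (P 6 (g10.getD 0 []))) ?_ ?_ fun v h1 h2 => ?_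
    · rw [← map_pow, P_pow_one (m := 6) le_rfl (by decide) (by decide), map_one]
    · rw [eq_inv_mul_iff_mul_eq, ← map_mul, ← map_mul, ← P_append (m := 6) le_rfl (by decide) (by decide),
        P_mul_eq (c := rp.getD 1 []) (d := []) (by decide), P_nil, mul_one]
    · refine mem_inv_Tg fun g hg => ?_
      rcases List.mem_pair.1 hg with rfl | rfl
      · exact h2
      · exact h1
  -- the element of order 4
  have k5 := Inf.tab Inf.chk_T4 (hne 4 (by norm_num)) (x := φ (P 6 (rp.getD 2 []))) (by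
    rw [← map_pow, P_pow_one (m := 6) le_rfl (by decide) (by decide), map_one]) (by simp)
  have k6 : ev (ρ (P 6 (rp.getD 1 []))) 1 ≠ 248 := fun h => by
    have h1 := Inf.eq_one_of_ev h
    rw [← map_one φ, ← P_nil] at h1
    exact P_ne (m := 6) le_rfl (by decide) (by decide) (by decide) (hM.inj h1)
  simp only [Inf.T4, List.map, pow_one, ← map_pow, e42, ← hρ, List.mem_cons, List.cons.injEq, and_true,
    List.not_mem_nil, or_false] at k5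
  -- the elements of order 3
  have e33 : P 6 (rp.getD 3 []) * P 6 [(3, 4), (4, 5)] = P 6 (rp.getD 4 []) :=
    (P_append (m := 6) le_rfl (by decide) (by decide)).symm
  have e33' : P 6 (rp.getD 3 []) * (P 6 [(3, 4), (4, 5)])⁻¹ = P 6 [(0, 1), (1, 2), (4, 5), (3, 4)] := by
    rw [mul_inv_eq_iff_eq_mul, P_mul_eq (c := rp.getD 3 []) (d := []) (by decide), P_nil, mul_one]
  have k7 := Two.t33 (by exact_mod_cast hne 3 (by norm_num)) (x := φ (P 6 (rp.getD 3 []))) (y := φ (P 6 [(3, 4), (4, 5)]))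
    (by rw [← map_pow, P_pow_one (m := 6) le_rfl (by decide) (by decide), map_one])
    (by rw [← map_pow, P_pow_one (m := 6) le_rfl (by decide) (by decide), map_one])
    (Commute.map (P_mul_eq (by decide)) φ)
    (fun h => by
      rw [← map_one φ, ← P_nil] at h
      exact P_ne (m := 6) le_rfl (by decide) (by decide) (by decide) (hM.inj h))
    (fun h => by
      rw [← map_mul, e33, ← map_one φ, ← P_nil] at h
      exact P_ne (m := 6) le_rfl (by decide) (by decide) (by decide) (hM.inj h))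
    (ev_of_cd ρ (c := g36.getD 1 []) (by decide))
    (by
      rw [← map_inv, ← map_mul, ← map_mul, e33, e33']
      exact (ev_of_cd ρ (c := g36.getD 1 []) (by decide)).symm)
  rw [← map_mul, e33, ← hρ, ← hρ] at k7
  generalize ev (ρ (P 6 (rp.getD 1 []))) 1 = d2 at *
  generalize ev (ρ (P 6 (rp.getD 2 []))) 1 = d4 at *
  generalize ev (ρ (P 6 (rp.getD 3 []))) 1 = d3 at *
  generalize ev (ρ (P 6 (rp.getD 4 []))) 1 = d33 at *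
  generalize finrank F ↥(inv ρ (Tg 6 g8)) = f8 at *
  generalize finrank F ↥(inv ρ (Tg 6 g36)) = f36 at *
  generalize finrank F ↥(inv ρ (Tg 6 g10)) = f10 at *
  have k2' : 8 * f8 + 992 = 8 * d2 + 4 * d4 := by
    have h1 : (8 * f8 + 992 : ℚ) = 8 * d2 + 4 * d4 := by
      push_cast at k2
      linarith
    exact_mod_cast h1
  have k3' : 36 * f36 + 2976 = 36 * d4 + 6 * d3 + 6 * d33 := by
    have h1 : (36 * f36 + 2976 : ℚ) = 36 * d4 + 6 * d3 + 6 * d33 := by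
      push_cast at k3
      linarith
    exact_mod_cast h1
  omega

end Cfsg.Agent.E8A.C65

private theorem dce_e58eeb14bb88 : _root_.True := by
  try have : _root_.True := by simp only [_root_.Cfsg.Agent.E8A.Inf.T4.eq_1]
  exact _root_.True.intro
end
end
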